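import Mathlib
import Cfsg.Prelude.Def_OddOrderLocal
import Cfsg.Agent.Lib.helper86.BG1356Defs
import Cfsg.Agent.Lib.helper1.Coprime
import Cfsg.Agent.Lib.helper54.BGNAN1
import Cfsg.Agent.S1446

set_option autoImplicit false

namespace Cfsg.Agent.Lib.helper86.BG1356

open Cfsg Subgroup
open scoped commutatorElement Pointwise

/-- `⁅D, D⁆ ≤ D`. -/
theorem helper64_comm_self_le {X : Type*} [Group X] (D : Subgroup X) : ⁅D, D⁆ ≤ D := by
  rw [Subgroup.commutator_le]
  intro a ha b hb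
  rw [commutatorElement_def]
  exact D.mul_mem (D.mul_mem (D.mul_mem ha hb) (D.inv_mem ha)) (D.inv_mem hb)

/-- If `K` normalizes `F` and `D`, it normalizes `⁅F, D⁆`. -/
theorem helper64_le_normalizer_comm {X : Type*} [Group X] (F D K : Subgroup X)
    (hKF : K ≤ normalizer (F : Set X)) (hKD : K ≤ normalizer (D : Set X)) :
    K ≤ normalizer ((⁅F, D⁆ : Subgroup X) : Set X) := by
  intro b hb
  apply Cfsg.Agent.Lib.helper1.mem_normalizer_of_conj_smul_eq
  have h1 : MulAut.conj b • F = F := Cfsg.Agent.Lib.helper1.conj_smul_eq_of_mem_normalizer (hKF hb)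
  have h2 : MulAut.conj b • D = D := Cfsg.Agent.Lib.helper1.conj_smul_eq_of_mem_normalizer (hKD hb)
  have h3 := Subgroup.map_commutator F D (MulAut.conj b).toMonoidHom
  calc MulAut.conj b • ⁅F, D⁆ = ⁅MulAut.conj b • F, MulAut.conj b • D⁆ := h3
    _ = ⁅F, D⁆ := by rw [h1, h2]

/-- **A1a.** (abelian case of A1) A Frobenius group `D ⋊ K` (kernel `D`, `K ≠ 1` acting freely on
`D`), solvable of odd order, acts coprimely on an ABELIAN group `F`; every `k ∈ K#` has the same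
CYCLIC fixed-point group `C` on `F`.  Then `D'` centralizes `F`.
(`F = C_F(D) × [F,D]`; apply landed `Cfsg.Agent.S1446.result` with `M := ⁅F, D⁆`, `K := D`, `R := K`;
trivial if `D = ⊥` or `⁅F, D⁆ = ⊥`.) -/
theorem frob_derived_centralizes_abelian {X : Type*} [Group X] [Finite X] (F D K : Subgroup X)
    (hFab : ∀ a ∈ F, ∀ b ∈ F, a * b = b * a) (hDF : D ≤ normalizer (F : Set X))
    (hKF : K ≤ normalizer (F : Set X)) (hKD : K ≤ normalizer (D : Set X)) (hK1 : K ≠ ⊥)
    (hDK : D ⊓ K = ⊥)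
    (hfrob : ∀ k ∈ K, k ≠ 1 → D ⊓ centralizer ({k} : Set X) = ⊥)
    (hsolv : Group.IsSolvable ↥(D ⊔ K)) (hodd : Odd (Nat.card ↥(D ⊔ K)))
    (hcop : (Nat.card ↥(D ⊔ K)).Coprime (Nat.card F))
    (C : Subgroup X) (hC : IsCyclic C)
    (hpr : ∀ k ∈ K, k ≠ 1 → F ⊓ centralizer ({k} : Set X) = C) :
    ⁅D, D⁆ ≤ centralizer (F : Set X) := by
  by_cases hD1 : D = ⊥
  · subst hD1
    rw [Subgroup.commutator_bot_left]
    exact bot_le
  have hM0F : ⁅F, D⁆ ≤ F := Cfsg.Agent.Lib.helper1.commutator_le_of_le_normalizer hDF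
  have hD'D : ⁅D, D⁆ ≤ D := helper64_comm_self_le D
  have hDsolv : Group.IsSolvable ↥D := by
    have hle : D ≤ D ⊔ K := le_sup_left
    have : Group.IsSolvable ↥(D.subgroupOf (D ⊔ K)) := inferInstance
    exact Group.isSolvable_of_isSolvable_injective
      (f := (Subgroup.subgroupOfEquivOfLe hle).symm.toMonoidHom)
      (Subgroup.subgroupOfEquivOfLe hle).symm.injective
  have hcopD : (Nat.card ↥D).Coprime (Nat.card ↥F) :=
    Nat.Coprime.coprime_dvd_left (Subgroup.card_dvd_of_le le_sup_left) hcop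
  -- `F = ⁅F, D⁆ ⊔ C_F(D)`
  have hsplit : ⁅F, D⁆ ⊔ (F ⊓ centralizer (D : Set X)) = F :=
    Cfsg.Agent.Lib.helper1.commutator_sup_fixed D F hDF hcopD (Or.inl hDsolv)
  -- `D` centralizes `C_F(D)`
  have hDcent : ∀ x ∈ ⁅D, D⁆, ∀ f ∈ F ⊓ centralizer (D : Set X), f * x = x * f := by
    intro x hx f hf
    exact (Subgroup.mem_centralizer_iff.mp hf.2 x (hD'D hx)).symm
  -- reduction: it suffices that `⁅D, D⁆` centralizes `⁅F, D⁆`
  have key : ⁅D, D⁆ ≤ centralizer ((⁅F, D⁆ : Subgroup X) : Set X) → ⁅D, D⁆ ≤ centralizer (F : Set X) := by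
    intro h x hx
    rw [Subgroup.mem_centralizer_iff]
    have h1 : ⁅F, D⁆ ≤ centralizer ({x} : Set X) := by
      intro f hf
      rw [Subgroup.mem_centralizer_iff]
      intro y hy
      rw [Set.mem_singleton_iff] at hy
      subst hy
      exact (Subgroup.mem_centralizer_iff.mp (h hx) f hf).symm
    have h2 : F ⊓ centralizer (D : Set X) ≤ centralizer ({x} : Set X) := by
      intro f hf
      rw [Subgroup.mem_centralizer_iff]
      intro y hy
      rw [Set.mem_singleton_iff] at hy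
      subst hy
      exact (hDcent y hx f hf).symm
    have h3 : F ≤ centralizer ({x} : Set X) := by
      rw [← hsplit]
      exact sup_le h1 h2
    intro f hf
    exact (Subgroup.mem_centralizer_iff.mp (h3 hf) x (Set.mem_singleton x)).symm
  apply key
  by_cases hM1 : ⁅F, D⁆ = ⊥
  · rw [hM1]
    intro x _
    rw [Subgroup.mem_centralizer_iff]
    intro y hy
    have : y = 1 := by simpa using hy
    subst this
    simp
  -- apply S1446
  have hMab : ∀ a ∈ ⁅F, D⁆, ∀ b ∈ ⁅F, D⁆, a * b = b * a :=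
    fun a ha b hb => hFab a (hM0F ha) b (hM0F hb)
  have hMn : Group.IsNilpotent ↥⁅F, D⁆ := by
    let _ : CommGroup ↥⁅F, D⁆ :=
      { (inferInstance : Group ↥⁅F, D⁆) with
        mul_comm := fun a b => Subtype.ext (hMab a a.2 b b.2) }
    exact CommGroup.isNilpotent
  have hKM : D ≤ normalizer ((⁅F, D⁆ : Subgroup X) : Set X) :=
    Cfsg.Agent.Lib.helper1.right_le_normalizer_commutator hDF
  have hRM : K ≤ normalizer ((⁅F, D⁆ : Subgroup X) : Set X) :=
    helper64_le_normalizer_comm F D K hKF hKD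
  have hcopM : (Nat.card ↥(D ⊔ K)).Coprime (Nat.card ↥⁅F, D⁆) :=
    Nat.Coprime.coprime_dvd_right (Subgroup.card_dvd_of_le hM0F) hcop
  have hCK : ⁅F, D⁆ ⊓ centralizer (D : Set X) = ⊥ :=
    Cfsg.Agent.Lib.helper54.BGNA.abel_comm_inf_cent F D hFab hDF hcopD.symm
  -- `F ⊓ C(K) = C`
  obtain ⟨k₀, hk₀, hk₀1⟩ : ∃ k ∈ K, k ≠ 1 := by
    by_contra hcon
    push Not at hcon
    exact hK1 ((Subgroup.eq_bot_iff_forall K).mpr hcon)
  have hFK : F ⊓ centralizer (K : Set X) = C := by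
    apply le_antisymm
    · rw [← hpr k₀ hk₀ hk₀1]
      refine inf_le_inf_left F ?_
      exact Subgroup.centralizer_le (by simpa using hk₀)
    · intro c hc
      have hcF : c ∈ F := by
        have := hpr k₀ hk₀ hk₀1 ▸ hc
        exact this.1
      refine ⟨hcF, ?_⟩
      show c ∈ centralizer (K : Set X)
      rw [Subgroup.mem_centralizer_iff]
      intro k hk
      by_cases hk1 : k = 1
      · subst hk1; simp
      · have := hpr k hk hk1 ▸ hc
        exact Subgroup.mem_centralizer_iff.mp this.2 k (Set.mem_singleton k)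
  have hprM : ∀ x ∈ K, x ≠ 1 →
      ⁅F, D⁆ ⊓ centralizer ({x} : Set X) = ⁅F, D⁆ ⊓ centralizer (K : Set X) := by
    intro x hx hx1
    have e1 : ⁅F, D⁆ ⊓ centralizer ({x} : Set X) = ⁅F, D⁆ ⊓ (F ⊓ centralizer ({x} : Set X)) := by
      rw [← inf_assoc, inf_eq_left.mpr hM0F]
    have e2 : ⁅F, D⁆ ⊓ centralizer (K : Set X) = ⁅F, D⁆ ⊓ (F ⊓ centralizer (K : Set X)) := by
      rw [← inf_assoc, inf_eq_left.mpr hM0F]
    rw [e1, e2, hpr x hx hx1, hFK]
  have hres := Cfsg.Agent.S1446.result D K ⁅F, D⁆ hD1 hK1 hDK hKD hfrob hsolv hodd hM1 hMn hKM hRM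
    hcopM hCK hprM
  apply hres.2.2
  -- cyclic
  have hle : ⁅F, D⁆ ⊓ centralizer (K : Set X) ≤ C := by
    have e2 : ⁅F, D⁆ ⊓ centralizer (K : Set X) = ⁅F, D⁆ ⊓ (F ⊓ centralizer (K : Set X)) := by
      rw [← inf_assoc, inf_eq_left.mpr hM0F]
    rw [e2, hFK]
    exact inf_le_right
  have := hC
  exact isCyclic_of_injective (Subgroup.inclusion hle) (Subgroup.inclusion_injective hle)

end Cfsg.Agent.Lib.helper86.BG1356
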