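import Mathlib
import Cfsg.Agent.Lib.helper44.SL3Defs
import Cfsg.Agent.Lib.helper45.SLGen

/-!
# S2287 piece MAT4 `mat_four` (helper64) — exact statement of tools/S2287_Skel.lean.txt

The four extra relations of the case `q = 4` hold in `SL₃(F)` (`char F = 2`, `ω² = ω + 1`).
All words are transvections: `wz = X₀₂(1)`, `wZω = X₀₂(ω)`.
-/

set_option autoImplicit false

namespace Cfsg.Agent.Lib.helper44.SL3

open Matrix

theorem h64_mC_coe {F : Type*} [Field F] :
    ((mC F : Matrix.SpecialLinearGroup (Fin 3) F) : Matrix (Fin 3) (Fin 3) F) =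
      !![0, 0, 1; 1, 0, 0; 0, 1, 0] := rfl

theorem h64_mH3_coe {F : Type*} [Field F] (ω : Fˣ) :
    ((mH3 ω : Matrix.SpecialLinearGroup (Fin 3) F) : Matrix (Fin 3) (Fin 3) F) =
      !![(ω : F), 0, 0; 0, 1, 0; 0, 0, ((ω⁻¹ : Fˣ) : F)] := rfl

/-- Conjugation by the 3-cycle shifts the indices of a transvection. -/
theorem h64_mC_conj {F : Type*} [Field F] (i j : Fin 3) (hij : i ≠ j) (a : F) :
    mC F * Matrix.SpecialLinearGroup.transvection hij a * (mC F)⁻¹ =
      Matrix.SpecialLinearGroup.transvection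
        (show i + 1 ≠ j + 1 from fun h => hij (add_right_cancel h)) a := by
  rw [mul_inv_eq_iff_eq_mul]
  apply Subtype.ext
  simp only [Matrix.SpecialLinearGroup.coe_mul, Matrix.SpecialLinearGroup.transvection_coe]
  rw [h64_mC_coe]
  clear hij
  ext r s
  fin_cases i <;> fin_cases j <;> fin_cases r <;> fin_cases s <;>
    simp [Matrix.mul_apply, Fin.sum_univ_three, Matrix.single_apply, Matrix.one_apply]

theorem h64_mH3_conj01 {F : Type*} [Field F] (ω : Fˣ) (a : F) :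
    mH3 ω * mX01 F a * (mH3 ω)⁻¹ = mX01 F (ω * a) := by
  rw [mul_inv_eq_iff_eq_mul]
  apply Subtype.ext
  unfold mX01
  simp only [Matrix.SpecialLinearGroup.coe_mul, Matrix.SpecialLinearGroup.transvection_coe]
  rw [h64_mH3_coe]
  ext r s
  fin_cases r <;> fin_cases s <;>
    simp [Matrix.mul_apply, Fin.sum_univ_three, Matrix.single_apply, Matrix.one_apply]

theorem h64_mH3_conj02 {F : Type*} [Field F] (ω : Fˣ) (a : F) :
    mH3 ω * Matrix.SpecialLinearGroup.transvection (show (0 : Fin 3) ≠ 2 by decide) a *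
        (mH3 ω)⁻¹ =
      Matrix.SpecialLinearGroup.transvection (show (0 : Fin 3) ≠ 2 by decide) (ω * ω * a) := by
  have h0 : (ω : F) ≠ 0 := ω.ne_zero
  rw [mul_inv_eq_iff_eq_mul]
  apply Subtype.ext
  simp only [Matrix.SpecialLinearGroup.coe_mul, Matrix.SpecialLinearGroup.transvection_coe]
  rw [h64_mH3_coe]
  ext r s
  fin_cases r <;> fin_cases s <;>
    simp [Matrix.mul_apply, Fin.sum_univ_three, Matrix.single_apply, Matrix.one_apply]
  field_simp

-- MAT4
theorem mat_four {F : Type*} [Field F] [CharP F 2] (ω : Fˣ) (hω : (ω : F) ^ 2 = ω + 1) :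
    wZω (mX01 F 1) (mH3 ω) (mC F) =
      cm (mX01 F 1) (mC F * (mH3 ω * mX01 F 1 * (mH3 ω)⁻¹) * (mC F)⁻¹) ∧
    wZω (mX01 F 1) (mH3 ω) (mC F) * wZω (mX01 F 1) (mH3 ω) (mC F) = 1 ∧
    mH3 ω * wz (mX01 F 1) (mC F) * (mH3 ω)⁻¹ =
      wz (mX01 F 1) (mC F) * wZω (mX01 F 1) (mH3 ω) (mC F) ∧
    cm (wz (mX01 F 1) (mC F))
        (mC F * mC F * wZω (mX01 F 1) (mH3 ω) (mC F) * (mC F * mC F)⁻¹) =
      mH3 ω * mX01 F 1 * (mH3 ω)⁻¹ := by
  have h01 : (0 : Fin 3) ≠ 1 := by decide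
  have h12 : (1 : Fin 3) ≠ 2 := by decide
  have h02 : (0 : Fin 3) ≠ 2 := by decide
  have h10 : (1 : Fin 3) ≠ 0 := by decide
  have h21 : (2 : Fin 3) ≠ 1 := by decide
  -- `h u h⁻¹ = X₀₁(ω)`
  have hu : mH3 ω * mX01 F 1 * (mH3 ω)⁻¹ = mX01 F (ω : F) := by
    rw [h64_mH3_conj01, mul_one]
  -- `c X₀₁(a) c⁻¹ = X₁₂(a)`
  have cu : ∀ a : F, mC F * mX01 F a * (mC F)⁻¹ =
      Matrix.SpecialLinearGroup.transvection h12 a := fun a => h64_mC_conj 0 1 h01 a
  -- `c² X₀₂(a) c⁻² = X₂₁(a)`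
  have ccu : ∀ a : F, mC F * mC F * Matrix.SpecialLinearGroup.transvection h02 a *
      (mC F * mC F)⁻¹ = Matrix.SpecialLinearGroup.transvection h21 a := by
    intro a
    have e1 : mC F * Matrix.SpecialLinearGroup.transvection h02 a * (mC F)⁻¹ =
        Matrix.SpecialLinearGroup.transvection h10 a := h64_mC_conj 0 2 h02 a
    have e2 : mC F * Matrix.SpecialLinearGroup.transvection h10 a * (mC F)⁻¹ =
        Matrix.SpecialLinearGroup.transvection h21 a := h64_mC_conj 1 0 h10 a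
    rw [← e2, ← e1]
    group
  -- commutators
  have c1 : ∀ a b : F, cm (mX01 F a) (Matrix.SpecialLinearGroup.transvection h12 b) =
      Matrix.SpecialLinearGroup.transvection h02 (a * b) := fun a b =>
    Cfsg.Agent.Lib.helper45.transvection_comm h01 h12 h02 a b
  have c2 : ∀ a b : F, cm (Matrix.SpecialLinearGroup.transvection h02 a)
      (Matrix.SpecialLinearGroup.transvection h21 b) = mX01 F (a * b) := fun a b =>
    Cfsg.Agent.Lib.helper45.transvection_comm h02 h21 h01 a b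
  have hwz : wz (mX01 F 1) (mC F) = Matrix.SpecialLinearGroup.transvection h02 1 := by
    unfold wz
    rw [cu, c1, mul_one]
  have hwZ : wZω (mX01 F 1) (mH3 ω) (mC F) =
      Matrix.SpecialLinearGroup.transvection h02 (ω : F) := by
    unfold wZω
    rw [hu, cu, c1, mul_one]
  refine ⟨?_, ?_, ?_, ?_⟩
  · rw [hwZ, hu, cu, c1, one_mul]
  · rw [hwZ, ← Matrix.SpecialLinearGroup.transvection_add, CharTwo.add_self_eq_zero,
      Matrix.SpecialLinearGroup.transvection_coeff_zero]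
  · rw [hwz, hwZ, h64_mH3_conj02, ← Matrix.SpecialLinearGroup.transvection_add]
    congr 1
    linear_combination hω
  · rw [hwz, hwZ, ccu, c2, hu, one_mul]

end Cfsg.Agent.Lib.helper44.SL3
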