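import Mathlib
import Cfsg.Prelude.Def_Characters
import Cfsg.Prelude.Def_Blocks
import Cfsg.Agent.Lib.helper84.BrDefs
import Cfsg.Agent.S0910

/-! S0997 split project (helper19), piece T5 `exists_block`: a `q`-block missing `Y` and
meeting `X`. -/

set_option autoImplicit false

namespace Cfsg.Agent.Lib.helper64.BU

open Cfsg Cfsg.Agent.Lib.helper81 Cfsg.Agent.Lib.helper84.Br
open scoped ComplexConjugate

universe u

variable {G : Type u} [Group G] [Fintype G]

variable {p : ℕ} [Fact p.Prime] {P : Sylow p G} {e : ℕ}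

omit [Fintype G] in
/-- a simple non-cyclic group has two non-commuting elements. -/
theorem helper64_exists_not_comm [IsSimpleGroup G] (hG : ¬ IsCyclic G) :
    ∃ a b : G, a * b ≠ b * a := by
  by_contra hcon
  push Not at hcon
  apply hG
  let _i : CommGroup G := { (inferInstance : Group G) with mul_comm := hcon }
  exact IsSimpleGroup.isCyclic

/-- T5 : a `q`-block missing `Y` and meeting `X` (principal `q`-block, or the block of a
character of `q`-power degree, which is not in the principal `q`-block by S0910). -/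
theorem exists_block [IsSimpleGroup G] (hG : ¬ IsCyclic G) (D : Data G p P e) (q : ℕ)
    (M' : Ideal AlgInt) (hM' : IsPModular q M')
    (hYB : ∀ B' : Set (IrrCharacter G), IsPBlock M' B' →
      (∀ θ ∈ D.Y, θ ∈ B') ∨ (∀ θ ∈ D.Y, θ ∉ B'))
    (χ₁ : IrrCharacter G) (hχ₁ : χ₁ ∈ D.X) (hχ₁1 : χ₁ ≠ trivChar G) (k : ℕ)
    (hdeg : charDegree (χ₁ : G → ℂ) = q ^ k) :
    ∃ B' : Set (IrrCharacter G), IsPBlock M' B' ∧ (∀ θ ∈ D.Y, θ ∉ B') ∧ ∃ χ ∈ D.X, χ ∈ B' := by
  have hMp : M'.IsPrime := hM'.2.1.isPrime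
  have hqf : Fact q.Prime := ⟨hM'.1⟩
  rcases hYB (principalBlock M' G) isPBlock_principalBlock with hY | hY
  · -- `Y` lies in the principal block: use the block of `χ₁`
    have hYne : D.Y.Nonempty := by
      rw [Finset.nonempty_iff_ne_empty]
      intro h0
      have h1 := D.cardY
      rw [h0, Finset.card_empty, zero_mul] at h1
      have h2 := (Fact.out : p.Prime).two_le
      omega
    obtain ⟨θ₀, hθ₀⟩ := hYne
    have hnot : χ₁ ∉ principalBlock M' G := by
      intro hmem
      have hdeg' : (χ₁ : G → ℂ) 1 = (q : ℂ) ^ k := by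
        rw [irr_one_eq_charDegree, hdeg]
        push_cast
        rfl
      have h := Cfsg.Agent.S0910.result q M' hM' (helper64_exists_not_comm hG) χ₁ hmem k hdeg'
      apply hχ₁1
      apply Subtype.ext
      rw [h]
      rfl
    refine ⟨blockOf M' (χ₁ : G → ℂ), isPBlock_blockOf χ₁, ?_, χ₁, hχ₁, mem_blockOf_self hMp χ₁⟩
    rcases hYB (blockOf M' (χ₁ : G → ℂ)) (isPBlock_blockOf χ₁) with hY' | hY'
    · exfalso
      apply hnot
      have heq : principalBlock M' G = blockOf M' (χ₁ : G → ℂ) :=
        isPBlock_eq_of_mem hMp isPBlock_principalBlock (isPBlock_blockOf χ₁)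
          (hY θ₀ hθ₀) (hY' θ₀ hθ₀)
      rw [heq]
      exact mem_blockOf_self hMp χ₁
    · exact hY'
  · exact ⟨principalBlock M' G, isPBlock_principalBlock, hY, trivChar G, D.one_mem,
      trivChar_mem_principalBlock hMp⟩

end Cfsg.Agent.Lib.helper64.BU
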