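import Mathlib
import Cfsg.Prelude.Def_OddOrderLocal
import Cfsg.Agent.Lib.helper86.BG1356Defs

set_option autoImplicit false

namespace Cfsg.Agent.Lib.helper86.BG1356

open Cfsg Subgroup
open scoped commutatorElement

/-- **A2d.** (pure-ish) If `V = F D` (`F` normal nilpotent in `V`, complement `D` nilpotent) and
`D'` centralizes `F`, then `V'` is nilpotent. -/
theorem derived_nilpotent_of_compl {X : Type*} [Group X] [Finite X] (F D V : Subgroup X)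
    (hc : IsComplIn F D V) (hFV : V ≤ normalizer (F : Set X)) (hFn : Group.IsNilpotent ↥F)
    (hDn : Group.IsNilpotent ↥D) (hcent : ⁅D, D⁆ ≤ centralizer (F : Set X)) :
    Group.IsNilpotent ↥⁅V, V⁆ := by
  obtain ⟨hFle, hDle, -, hprod⟩ := hc
  have hD'n : Group.IsNilpotent ↥⁅D, D⁆ := by
    have hle : ⁅D, D⁆ ≤ D := by
      rw [Subgroup.commutator_le]
      intro a ha b hb
      rw [commutatorElement_def]
      exact D.mul_mem (D.mul_mem (D.mul_mem ha hb) (D.inv_mem ha)) (D.inv_mem hb)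
    have : Group.IsNilpotent ↥((⁅D, D⁆ : Subgroup X).subgroupOf D) := inferInstance
    exact Group.nilpotent_of_mulEquiv (Subgroup.subgroupOfEquivOfLe hle)
  -- the homomorphism `F × D' → X`
  have comm : ∀ (m : ↥F) (n : ↥⁅D, D⁆), Commute (F.subtype m) ((⁅D, D⁆ : Subgroup X).subtype n) := by
    intro m n
    have := hcent n.2
    rw [Subgroup.mem_centralizer_iff] at this
    exact this m.1 m.2
  let ψ : ↥F × ↥⁅D, D⁆ →* X := F.subtype.noncommCoprod (⁅D, D⁆ : Subgroup X).subtype comm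
  have hle : ⁅V, V⁆ ≤ ψ.range := by
    have hF : F ≤ ψ.range := by
      intro f hf
      exact ⟨(⟨f, hf⟩, 1), by simp [ψ]⟩
    have hD' : ⁅D, D⁆ ≤ ψ.range := by
      intro d hd
      exact ⟨(1, ⟨d, hd⟩), by simp [ψ]⟩
    rw [Subgroup.commutator_le]
    intro g₁ hg₁ g₂ hg₂
    obtain ⟨f₁, hf₁, d₁, hd₁, rfl⟩ := hprod g₁ hg₁
    obtain ⟨f₂, hf₂, d₂, hd₂, rfl⟩ := hprod g₂ hg₂
    have hn : ∀ v ∈ V, ∀ f ∈ F, v * f * v⁻¹ ∈ F := by
      intro v hv f hf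
      exact ((Subgroup.mem_normalizer_iff.mp (hFV hv)) f).mp hf
    have e : ⁅f₁ * d₁, f₂ * d₂⁆ = f₁ * (d₁ * f₂ * d₁⁻¹)
        * ((d₁ * d₂ * d₁⁻¹) * f₁⁻¹ * (d₁ * d₂ * d₁⁻¹)⁻¹) * ⁅d₁, d₂⁆ * f₂⁻¹ := by
      simp only [commutatorElement_def]
      group
    rw [e]
    have hd₁V := hDle hd₁
    have hd₂V := hDle hd₂
    refine ψ.range.mul_mem (ψ.range.mul_mem (ψ.range.mul_mem (ψ.range.mul_mem (hF hf₁)
      (hF (hn d₁ hd₁V f₂ hf₂))) (hF (hn _ (V.mul_mem (V.mul_mem hd₁V hd₂V) (V.inv_mem hd₁V)) _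
        (F.inv_mem hf₁)))) (hD' (Subgroup.commutator_mem_commutator hd₁ hd₂)))
      (hF (F.inv_mem hf₂))
  -- transfer nilpotency
  let P : Subgroup (↥F × ↥⁅D, D⁆) := (⁅V, V⁆ : Subgroup X).comap ψ
  let θ : ↥P →* ↥⁅V, V⁆ := (ψ.comp P.subtype).codRestrict ⁅V, V⁆ (fun x => x.2)
  have hθ : Function.Surjective θ := by
    rintro ⟨y, hy⟩
    obtain ⟨x, hx⟩ := hle hy
    exact ⟨⟨x, by show ψ x ∈ ⁅V, V⁆; rw [hx]; exact hy⟩, Subtype.ext hx⟩
  exact Group.nilpotent_of_surjective θ hθ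

end Cfsg.Agent.Lib.helper86.BG1356
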