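import Mathlib
import Cfsg.Prelude.Def_OddOrderLocal
import Cfsg.Agent.Lib.helper86.BG1356Defs
import Cfsg.Agent.Lib.helper86.BG1356L
import Cfsg.Agent.Lib.helper29.FittingHall
import Cfsg.Agent.Lib.helper69.NilpSym

set_option autoImplicit false

namespace Cfsg.Agent.Lib.helper86.BG1356

open Cfsg Subgroup

variable {G : Type*} [Group G]

/-- **B1.** (pure) `F(M) ≤ C_M(M_F) M_F`: `M_F` is a normal Hall subgroup of `M` inside the
nilpotent group `F(M)`; split `x ∈ F(M)` into its `π(M_F)`- and `π(M_F)'`-parts. -/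
theorem fittingOf_le [Finite G] (M : Subgroup G) :
    fittingOf M ≤ (M ⊓ centralizer (fittingHallOf M : Set G)) ⊔ fittingHallOf M := by
  intro x hx
  have hxM : x ∈ M := fittingOf_le_self M hx
  have hcop : (Nat.card (fittingHall ↥M)).Coprime (fittingHall ↥M).index :=
    Cfsg.Agent.Lib.helper29.fittingHall_coprime ↥M
  set n := Nat.card (fittingHall ↥M) with hn
  set m := (fittingHall ↥M).index with hm
  have hbez : (n : ℤ) * Nat.gcdA n m + (m : ℤ) * Nat.gcdB n m = 1 := by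
    have h := Nat.gcd_eq_gcd_ab n m
    have h1 : Nat.gcd n m = 1 := hcop
    rw [h1] at h
    simpa using h.symm
  -- `x ^ m ∈ M_F`
  have hxm : x ^ m ∈ fittingHallOf M := by
    rw [Cfsg.Agent.Lib.helper29.mem_fittingHallOf_iff M (M.pow_mem hxM m)]
    have h := Subgroup.pow_index_mem (fittingHall ↥M) (⟨x, hxM⟩ : ↥M)
    exact h
  -- `x ^ (n * m) = 1`
  have hxnm : x ^ (n * m) = 1 := by
    have h1 : n * m = Nat.card ↥M := Subgroup.card_mul_index (fittingHall ↥M)
    rw [h1]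
    have h2 : (⟨x, hxM⟩ : ↥M) ^ Nat.card ↥M = 1 := pow_card_eq_one'
    have h3 : ((⟨x, hxM⟩ : ↥M) ^ Nat.card ↥M : ↥M).1 = ((1 : ↥M) : G) := by rw [h2]
    exact h3
  set z : G := x ^ ((n : ℤ) * Nat.gcdA n m) with hz
  set y : G := x ^ ((m : ℤ) * Nat.gcdB n m) with hy
  have hxzy : x = z * y := by
    rw [hz, hy, ← zpow_add, hbez, zpow_one]
  have hyH : y ∈ fittingHallOf M := by
    rw [hy, zpow_mul, zpow_natCast]
    exact Subgroup.zpow_mem _ hxm _
  have hzF : z ∈ fittingOf M := Subgroup.zpow_mem _ hx _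
  have hzM : z ∈ M := Subgroup.zpow_mem _ hxM _
  have hzm : z ^ m = 1 := by
    rw [hz, ← zpow_natCast, ← zpow_mul, mul_comm ((n : ℤ) * Nat.gcdA n m) (m : ℤ), ← mul_assoc,
      mul_comm (m : ℤ) (n : ℤ), zpow_mul]
    have : x ^ ((n : ℤ) * (m : ℤ)) = 1 := by
      rw [← Nat.cast_mul, zpow_natCast, hxnm]
    rw [this, one_zpow]
  have hzo : orderOf z ∣ m := orderOf_dvd_of_pow_eq_one hzm
  have hnil : Group.IsNilpotent ↥(fittingOf M) := fittingOf_isNilpotent M
  have hzc : z ∈ centralizer (fittingHallOf M : Set G) := by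
    rw [Subgroup.mem_centralizer_iff]
    intro h hh
    have hhF : h ∈ fittingOf M := fittingHallOf_le_fittingOf M hh
    have hho : orderOf h ∣ n := by
      have h1 : orderOf (⟨h, hh⟩ : ↥(fittingHallOf M)) ∣ Nat.card ↥(fittingHallOf M) :=
        orderOf_dvd_natCard _
      rw [Cfsg.Agent.Lib.helper29.card_fittingHallOf] at h1
      rw [Subgroup.orderOf_mk] at h1
      exact h1
    have hco : (orderOf (⟨h, hhF⟩ : ↥(fittingOf M))).Coprime
        (orderOf (⟨z, hzF⟩ : ↥(fittingOf M))) := by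
      rw [Subgroup.orderOf_mk, Subgroup.orderOf_mk]
      exact Nat.Coprime.coprime_dvd_left hho (Nat.Coprime.coprime_dvd_right hzo hcop)
    have hcm := Cfsg.Agent.Lib.helper69.commute_of_coprime_orderOf ↥(fittingOf M) _ _ hco
    have := congrArg Subtype.val hcm.eq
    simpa using this
  rw [hxzy]
  exact Subgroup.mul_mem_sup ⟨hzM, hzc⟩ hyH

end Cfsg.Agent.Lib.helper86.BG1356
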