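import Mathlib
import Cfsg.Agent.Lib.helper44.SL3Defs
import Cfsg.Agent.Lib.helper56.PresADJ

/-!
# S2287 piece FLDb `adjoin_cube` (helper64) — exact statement of tools/S2287_Skel.lean.txt
-/

set_option autoImplicit false

namespace Cfsg.Agent.Lib.helper44.SL3

open Polynomial

-- FLDb
theorem adjoin_cube {F : Type*} [Field F] [Fintype F] {p : ℕ} [Fact p.Prime]
    [Algebra (ZMod p) F] (hq : 5 ≤ Fintype.card F) (ω : Fˣ)
    (hω : ∀ y : Fˣ, y ∈ Subgroup.zpowers ω) :
    Algebra.adjoin (ZMod p) {(ω : F) ^ 3} = ⊤ := by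
  classical
  have hp : p.Prime := Fact.out
  haveI : CharP F p := charP_of_injective_algebraMap (algebraMap (ZMod p) F).injective p
  obtain ⟨⟨e, he0⟩, -, he⟩ := FiniteField.card F p
  have he' : Fintype.card F = p ^ e := he
  have hord : orderOf ω = Fintype.card F - 1 := by
    have h1 := orderOf_eq_card_of_forall_mem_zpowers hω
    rw [h1, Nat.card_eq_fintype_card, Fintype.card_units]
  apply Pres.adjoin_eq_top_of_frob _ e he'
  intro d hd0 hde hfix
  have hfix' : ω ^ (3 * p ^ d) = ω ^ 3 := by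
    apply Units.ext
    rw [Units.val_pow_eq_pow_val, Units.val_pow_eq_pow_val, pow_mul]
    exact hfix
  have hmod := pow_eq_pow_iff_modEq.mp hfix'
  have hP2 : 2 ≤ p ^ d := by
    calc 2 ≤ p := hp.two_le
      _ = p ^ 1 := (pow_one p).symm
      _ ≤ p ^ d := Nat.pow_le_pow_right hp.pos hd0
  have hm2 : 2 ≤ p ^ (e - d) := by
    calc 2 ≤ p := hp.two_le
      _ = p ^ 1 := (pow_one p).symm
      _ ≤ p ^ (e - d) := Nat.pow_le_pow_right hp.pos (by omega)
  have hQ : p ^ e = p ^ d * p ^ (e - d) := by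
    rw [← pow_add]
    congr 1
    omega
  have hle : 3 ≤ 3 * p ^ d := by omega
  have hdvd : orderOf ω ∣ 3 * p ^ d - 3 := (Nat.modEq_iff_dvd' hle).mp hmod.symm
  rw [hord, he', hQ] at hdvd
  rw [he', hQ] at hq
  generalize p ^ d = P at hP2 hdvd hq
  generalize p ^ (e - d) = m at hm2 hdvd hq
  have hpos : 0 < 3 * P - 3 := by omega
  have hle2 := Nat.le_of_dvd hpos hdvd
  by_cases hm3 : 3 ≤ m
  · have : P * 3 ≤ P * m := Nat.mul_le_mul_left P hm3
    omega
  · have hm : m = 2 := by omega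
    subst hm
    obtain ⟨k, hk⟩ := hdvd
    rcases k with _ | _ | k
    · omega
    · omega
    · have : (P * 2 - 1) * 2 ≤ (P * 2 - 1) * (k + 1 + 1) := Nat.mul_le_mul_left _ (by omega)
      omega

end Cfsg.Agent.Lib.helper44.SL3
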