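import Mathlib
import Cfsg.Agent.Lib.helper44.SUWDefs
import Cfsg.Agent.Lib.helper94.SUWNC

set_option autoImplicit false

namespace Cfsg.Agent.Lib.helper44.SUW

open Matrix

/-- On a field with `q ^ 2` elements, `q ≠ 2`, some nonzero element has norm different from one. -/
theorem h64_exists_norm_ne_one {K : Type*} [Field K] [Fintype K] {q : ℕ}
    (hK : Fintype.card K = q ^ 2) (hq2 : q ≠ 2) : ∃ β : K, β ≠ 0 ∧ β ^ (q + 1) ≠ 1 := by
  classical
  by_contra h
  simp only [not_exists, not_and, not_not] at h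
  have hq : 1 < q := by
    have h1 : 1 < Fintype.card K := Fintype.one_lt_card
    rw [hK] at h1
    by_contra hq
    have : q = 0 ∨ q = 1 := by omega
    rcases this with rfl | rfl <;> simp at h1
  have hq' : 1 < q + 2 := by omega
  have hne := FiniteField.X_pow_card_sub_X_ne_zero K hq'
  have hdeg := FiniteField.X_pow_card_sub_X_natDegree_eq K hq'
  have hsub : (Finset.univ : Finset K) ⊆
      (Polynomial.X ^ (q + 2) - Polynomial.X : Polynomial K).roots.toFinset := by
    intro x _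
    rw [Multiset.mem_toFinset, Polynomial.mem_roots hne]
    by_cases hx : x = 0
    · subst hx
      simp
    · have hx1 := h x hx
      have : x ^ (q + 2) = x := by
        rw [show q + 2 = (q + 1) + 1 by omega, pow_succ, hx1, one_mul]
      simp [this]
  have h1 := Finset.card_le_card hsub
  have h2 := Multiset.toFinset_card_le
    (Polynomial.X ^ (q + 2) - Polynomial.X : Polynomial K).roots
  have h3 := Polynomial.card_roots' (Polynomial.X ^ (q + 2) - Polynomial.X : Polynomial K)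
  rw [Finset.card_univ, hK] at h1
  rw [hdeg] at h3
  have h4 : q ^ 2 ≤ q + 2 := by omega
  have h5 : 3 ≤ q := by omega
  nlinarith

/-- ONC (M) -/
theorem exists_moved_gl {K : Type*} [Field K] [Fintype K] {q m : ℕ}
    (hK : Fintype.card K = q ^ 2) (hm : 1 ≤ m) (h : ¬ (m = 1 ∧ q = 2)) (σ : K →+* K)
    (hσ : ∀ x, σ x = x ^ q) :
    ∃ C ∈ skewH σ m, ∃ B : Matrix (Fin m) (Fin m) K, B.det ≠ 0 ∧ B * C * (B.map σ)ᵀ ≠ C := by
  classical
  by_cases hm2 : 2 ≤ m
  · obtain ⟨C, hC, B, hB, hne⟩ := exists_moved hK hm2 σ hσ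
    exact ⟨C, hC, B, by rw [hB]; exact one_ne_zero, hne⟩
  · have hm1 : m = 1 := by omega
    subst hm1
    have hq2 : q ≠ 2 := fun hq => h ⟨rfl, hq⟩
    obtain ⟨θ, hθ⟩ := h94_exists_frob_ne hK
    have hσσ : ∀ x, σ (σ x) = x := by
      intro x
      rw [hσ, hσ, ← pow_mul, ← sq, ← hK]
      exact FiniteField.pow_card x
    obtain ⟨ε₀, hε₀def⟩ : ∃ ε₀ : K, ε₀ = θ - σ θ := ⟨_, rfl⟩
    have hε₀ : ε₀ ≠ 0 := by
      rw [hε₀def]
      exact sub_ne_zero.2 (by rw [hσ]; exact fun h => hθ h.symm)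
    have hσε : σ ε₀ = -ε₀ := by
      rw [hε₀def, map_sub, hσσ]; ring
    obtain ⟨β, hβ0, hβ⟩ := h64_exists_norm_ne_one hK hq2
    refine ⟨Matrix.of (fun _ _ => ε₀), ?_, Matrix.of (fun _ _ => β), ?_, ?_⟩
    · intro i j
      simp [hσε]
    · rw [Matrix.det_fin_one]
      simpa using hβ0
    · intro h2
      have h3 := congrFun (congrFun h2 0) 0
      simp [Matrix.mul_apply, hσ] at h3
      apply hβ
      have h4 : β ^ (q + 1) * ε₀ = ε₀ := by
        have h40 : β ^ (q + 1) * ε₀ = β * ε₀ * β ^ q := by ring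
        rw [h40, h3]
      have h5 : (β ^ (q + 1) - 1) * ε₀ = 0 := by
        rw [sub_mul, h4, one_mul, sub_self]
      rcases mul_eq_zero.mp h5 with h6 | h6
      · exact sub_eq_zero.mp h6
      · exact absurd h6 hε₀

end Cfsg.Agent.Lib.helper44.SUW
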