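import Mathlib
import Cfsg.Prelude.Def_Classical
import Cfsg.Agent.Lib.helper99.UGen1
import Cfsg.Agent.Lib.helper99.USimple
import Cfsg.Agent.Lib.helper4.CharTheory
import Cfsg.Agent.Lib.helper44.SUWDefs

set_option autoImplicit false

namespace Cfsg.Agent.Lib.helper44.SUW

open Matrix Cfsg Cfsg.Agent.Lib.helper99

/-- ONT (M): same proof as `rep_ne_one` (NT of S2335) -/
theorem rep_ne_one' {K : Type*} [Field K] [Fintype K] {q n : ℕ} (hK : Fintype.card K = q ^ 2)
    (hn : 3 ≤ n) (h32 : ¬ (n = 3 ∧ q = 2)) {k : ℕ} (hk : 2 ≤ k)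
    (ρ : Representation ℂ ↥(Cfsg.SU n K q) (Fin k → ℂ))
    (hρ : ρ.IsIrreducible) (g : ↥(Cfsg.SU n K q))
    (hg : g ∉ Subgroup.center ↥(Cfsg.SU n K q)) : ρ g ≠ 1 := by
  classical
  intro h1
  let _ : Fintype ↥(Cfsg.SU n K q) := Fintype.ofFinite _
  have hker : MonoidHom.ker ρ = ⊤ := by
    haveI : (MonoidHom.ker ρ).Normal := MonoidHom.normal_ker ρ
    apply su_normal hK n hn h32 (MonoidHom.ker ρ)
    intro hle
    apply hg
    apply hle
    rw [MonoidHom.mem_ker]
    exact h1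
  have hdeg : ρ.character 1 = (k : ℂ) := by
    rw [Representation.char_one]
    simp
  have hall : ∀ x : ↥(Cfsg.SU n K q), ρ.character x = (k : ℂ) := by
    intro x
    have hx : x ∈ MonoidHom.ker ρ := by
      rw [hker]
      trivial
    rw [MonoidHom.mem_ker] at hx
    show LinearMap.trace ℂ _ (ρ x) = (k : ℂ)
    rw [hx, ← map_one ρ]
    exact hdeg
  have hχirr : Cfsg.IsIrrCharacter ↥(Cfsg.SU n K q) ρ.character := ⟨k, ρ, hρ, rfl⟩
  have hinner := Cfsg.Agent.Lib.helper4.classInner_irr_self hχirr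
  unfold Cfsg.classInner at hinner
  simp only [hall] at hinner
  have hcard : (Nat.card ↥(Cfsg.SU n K q) : ℂ) ≠ 0 := by
    exact_mod_cast Nat.card_pos.ne'
  rw [Finset.sum_const, Finset.card_univ, ← Nat.card_eq_fintype_card, nsmul_eq_mul,
    ← mul_assoc, inv_mul_cancel₀ hcard, one_mul] at hinner
  simp only [map_natCast] at hinner
  have hk1 : k * k = 1 := by exact_mod_cast hinner
  nlinarith

end Cfsg.Agent.Lib.helper44.SUW
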