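import Mathlib
import Cfsg.Agent.Lib.helper64.PGBasic

set_option autoImplicit false
set_option linter.unusedSectionVars false

/-!
# Block constructions for spectra of `PSL_n(F)` (helper64)

Singer blocks (`exists_block`, `block_coprime`), the unipotent `2 × 2` block `1 + E12`, and the
criterion `mem_range_of_blocks` for a block diagonal matrix.
-/

namespace Cfsg.Agent.Lib.helper64.PGBlocks

open Polynomial Matrix Cfsg.Agent.Lib.helper64.UIso Cfsg.Agent.Lib.helper64.IsoPow
  Cfsg.Agent.Lib.helper64.PSLAttach Cfsg.Agent.Lib.helper64.PGBasic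

variable {F : Type*} [Field F]

theorem fromBlocks_eq_smul_one {ι κ : Type*} [Fintype ι] [Fintype κ] [DecidableEq ι]
    [DecidableEq κ] (X : Matrix ι ι F) (Y : Matrix κ κ F) (c : F) :
    Matrix.fromBlocks X 0 0 Y = c • (1 : Matrix (ι ⊕ κ) (ι ⊕ κ) F) ↔
      X = c • (1 : Matrix ι ι F) ∧ Y = c • (1 : Matrix κ κ F) := by
  rw [← Matrix.fromBlocks_one, Matrix.fromBlocks_smul, Matrix.fromBlocks_inj]
  simp

/-- a block diagonal matrix of determinant one gives an element of `PSL_n(F)` -/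
theorem mem_range_of_blocks {ι κ : Type*} [Fintype ι] [Fintype κ] [DecidableEq ι]
    [DecidableEq κ] {n : ℕ} (hcard : Fintype.card ι + Fintype.card κ = n)
    (X : Matrix ι ι F) (Y : Matrix κ κ F) (hX : X.det = 1) (hY : Y.det = 1) (m : ℕ)
    (h1 : ∃ c : F, X ^ m = c • (1 : Matrix ι ι F) ∧ Y ^ m = c • (1 : Matrix κ κ F))
    (h2 : ∀ (j : ℕ) (c : F), X ^ j = c • (1 : Matrix ι ι F) → Y ^ j = c • (1 : Matrix κ κ F) →
      m ∣ j) :
    m ∈ Set.range (orderOf : Matrix.ProjectiveSpecialLinearGroup (Fin n) F → ℕ) := by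
  have hpow : ∀ j : ℕ, (Matrix.fromBlocks X 0 0 Y) ^ j = Matrix.fromBlocks (X ^ j) 0 0 (Y ^ j) :=
    fun j => Matrix.fromBlocks_diagonal_pow _ _ j
  apply mem_range_psl' (ι := ι ⊕ κ) (by rw [Fintype.card_sum, hcard])
    (Matrix.fromBlocks X 0 0 Y) (by rw [Matrix.det_fromBlocks_zero₂₁, hX, hY, mul_one]) m
  · obtain ⟨c, hc1, hc2⟩ := h1
    exact ⟨c, by rw [hpow, fromBlocks_eq_smul_one]; exact ⟨hc1, hc2⟩⟩
  · rintro j ⟨c, hc⟩
    rw [hpow, fromBlocks_eq_smul_one] at hc
    exact h2 j c hc.1 hc.2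

/-- the same, assuming only that the product of the two determinants is one -/
theorem mem_range_of_blocks' {ι κ : Type*} [Fintype ι] [Fintype κ] [DecidableEq ι]
    [DecidableEq κ] {n : ℕ} (hcard : Fintype.card ι + Fintype.card κ = n)
    (X : Matrix ι ι F) (Y : Matrix κ κ F) (hXY : X.det * Y.det = 1) (m : ℕ)
    (h1 : ∃ c : F, X ^ m = c • (1 : Matrix ι ι F) ∧ Y ^ m = c • (1 : Matrix κ κ F))
    (h2 : ∀ (j : ℕ) (c : F), X ^ j = c • (1 : Matrix ι ι F) → Y ^ j = c • (1 : Matrix κ κ F) →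
      m ∣ j) :
    m ∈ Set.range (orderOf : Matrix.ProjectiveSpecialLinearGroup (Fin n) F → ℕ) := by
  have hpow : ∀ j : ℕ, (Matrix.fromBlocks X 0 0 Y) ^ j = Matrix.fromBlocks (X ^ j) 0 0 (Y ^ j) :=
    fun j => Matrix.fromBlocks_diagonal_pow _ _ j
  apply mem_range_psl' (ι := ι ⊕ κ) (by rw [Fintype.card_sum, hcard])
    (Matrix.fromBlocks X 0 0 Y) (by rw [Matrix.det_fromBlocks_zero₂₁, hXY]) m
  · obtain ⟨c, hc1, hc2⟩ := h1
    exact ⟨c, by rw [hpow, fromBlocks_eq_smul_one]; exact ⟨hc1, hc2⟩⟩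
  · rintro j ⟨c, hc⟩
    rw [hpow, fromBlocks_eq_smul_one] at hc
    exact h2 j c hc.1 hc.2

theorem one_add_nilp_pow {ι : Type*} [Fintype ι] [DecidableEq ι] (N : Matrix ι ι F)
    (hN : N * N = 0) (j : ℕ) : (1 + N) ^ j = 1 + (j : F) • N := by
  induction j with
  | zero => simp
  | succ j ih =>
    rw [pow_succ, ih, Nat.cast_succ, add_smul, one_smul, mul_add, mul_one, add_mul, one_mul,
      Matrix.smul_mul, hN, smul_zero, add_zero]
    abel

/-- the elementary matrix `E₁₂` -/
def E12 (F : Type*) [Field F] : Matrix (Fin 2) (Fin 2) F := Matrix.single 0 1 1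

theorem E12_sq : E12 F * E12 F = 0 :=
  Matrix.single_mul_single_of_ne (1 : F) (0 : Fin 2) (1 : Fin 2) (0 : Fin 2) (by decide) (1 : F)

theorem J2_pow (j : ℕ) : (1 + E12 F) ^ j = 1 + (j : F) • E12 F :=
  one_add_nilp_pow (E12 F) E12_sq j

theorem J2_det : (1 + E12 F).det = 1 := by
  rw [Matrix.det_fin_two]
  simp [E12]

/-- a scalar multiple of a power of the unipotent block: the exponent vanishes in `F` -/
theorem J2_scalar (a c : F) (ha : a ≠ 0) (j : ℕ)
    (h : (a • (1 + E12 F)) ^ j = c • (1 : Matrix (Fin 2) (Fin 2) F)) :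
    (j : F) = 0 ∧ a ^ j = c := by
  rw [_root_.smul_pow, J2_pow] at h
  have h01 := congrFun (congrFun h 0) 1
  have h00 := congrFun (congrFun h 0) 0
  simp [E12] at h01 h00
  refine ⟨?_, h00⟩
  rcases h01 with ⟨h, _⟩ | h
  · exact absurd h ha
  · exact h

theorem J2_smul_pow (a : F) (j : ℕ) (hj : (j : F) = 0) :
    (a • (1 + E12 F)) ^ j = a ^ j • (1 : Matrix (Fin 2) (Fin 2) F) := by
  rw [_root_.smul_pow, J2_pow, hj, zero_smul, add_zero]

section finite

variable [Fintype F]

/-- a Singer block: a matrix of size `d` of order exactly `m`, for `m ∣ q ^ d - 1` -/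
theorem exists_block (p : ℕ) [Fact p.Prime] [CharP F p] (d : ℕ) (hd : 0 < d) (m : ℕ)
    (hm : m ∣ Fintype.card F ^ d - 1) :
    ∃ A : Matrix (Fin d) (Fin d) F, A ^ m = 1 ∧ ∀ j : ℕ, A ^ j = 1 → m ∣ j := by
  classical
  have : NeZero d := ⟨by omega⟩
  let E := FiniteField.Extension F p d
  have : Fintype E := Fintype.ofFinite E
  have hfr : Module.finrank F E = d := FiniteField.finrank_extension F p d
  have hcardE : Nat.card E = Fintype.card F ^ d := by
    have := FiniteField.natCard_extension F p d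
    rw [Nat.card_eq_fintype_card (α := F)] at this
    exact this
  let b : Module.Basis (Fin d) F E := Module.finBasisOfFinrankEq F E hfr
  have hinj : Function.Injective (Algebra.leftMulMatrix b) := Algebra.leftMulMatrix_injective b
  obtain ⟨x, hx⟩ := exists_orderOf (K := E) m (by rw [hcardE]; exact hm)
  refine ⟨Algebra.leftMulMatrix b x, ?_, ?_⟩
  · rw [← map_pow, ← hx, pow_orderOf_eq_one, map_one]
  · intro j hj
    rw [← hx]
    apply orderOf_dvd_of_pow_eq_one
    apply hinj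
    rw [map_pow, map_one]
    exact hj

/-- a block of order `m` prime to `q - 1` has determinant one and projective order `m` -/
theorem block_coprime {d : ℕ} (A : Matrix (Fin d) (Fin d) F) (m : ℕ) (hm0 : 0 < m)
    (hAm : A ^ m = 1) (hmin : ∀ j : ℕ, A ^ j = 1 → m ∣ j)
    (hcop : Nat.Coprime m (Fintype.card F - 1)) :
    A.det = 1 ∧ ∀ (j : ℕ) (c : F), A ^ j = c • (1 : Matrix (Fin d) (Fin d) F) → m ∣ j := by
  have hdm : A.det ^ m = 1 := by rw [← Matrix.det_pow, hAm, Matrix.det_one]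
  have hd0 : A.det ≠ 0 := by
    intro h
    rw [h, zero_pow hm0.ne'] at hdm
    exact zero_ne_one hdm
  refine ⟨?_, ?_⟩
  · have h1 : orderOf A.det ∣ m := orderOf_dvd_of_pow_eq_one hdm
    have h2 : orderOf A.det ∣ Fintype.card F - 1 :=
      orderOf_dvd_of_pow_eq_one (FiniteField.pow_card_sub_one_eq_one _ hd0)
    have h3 : orderOf A.det ∣ 1 := by
      have := Nat.dvd_gcd h1 h2
      rwa [hcop] at this
    exact orderOf_eq_one_iff.1 (Nat.dvd_one.1 h3)
  · intro j c h
    rcases isEmpty_or_nonempty (Fin d) with he | hne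
    · exact hmin j (Subsingleton.elim _ _)
    · have hc0 : c ≠ 0 := by
        rintro rfl
        rw [zero_smul] at h
        have h1 : (A ^ j) ^ m = 1 := by rw [← pow_mul, mul_comm, pow_mul, hAm, one_pow]
        rw [h, zero_pow hm0.ne'] at h1
        exact zero_ne_one h1
      have h1 : A ^ (j * (Fintype.card F - 1)) = 1 := by
        rw [pow_mul, h, _root_.smul_pow, one_pow, FiniteField.pow_card_sub_one_eq_one c hc0,
          one_smul]
      exact hcop.dvd_of_dvd_mul_right (hmin _ h1)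

end finite

end Cfsg.Agent.Lib.helper64.PGBlocks
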