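import Mathlib
import Cfsg.Agent.Lib.helper64.SpPG

set_option autoImplicit false
set_option linter.unusedSectionVars false

/-!
# The torus of order `q ^ h + 1` of `Sp_{2h}(q)` (helper64)

`exists_torus`: for `m ∣ q ^ h + 1` there is an alternating non-degenerate Gram matrix of size
`2 h` with an isometry of order exactly `m` (all characteristics).  The form is
`(x, y) ↦ λ (x * y ^ (q ^ h))` on the field with `q ^ (2 h)` elements, where `λ` is a non-zero
linear form vanishing on the subfield with `q ^ h` elements.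
-/

namespace Cfsg.Agent.Lib.helper64.SpPGTorus

open Matrix Cfsg Cfsg.Agent.Lib.helper64.SpBasic Cfsg.Agent.Lib.helper64.SpPG
  Cfsg.Agent.Lib.helper64.UIso

variable {F : Type*} [Field F] [Fintype F]

theorem exists_torus (p : ℕ) [Fact p.Prime] [CharP F p] (h : ℕ) (hh : 0 < h) (m : ℕ)
    (hm : m ∣ Fintype.card F ^ h + 1) :
    ∃ (Ω Ω' T : Matrix (Fin (h + h)) (Fin (h + h)) F), IsSpDatum Ω Ω' T ∧ T ^ m = 1 ∧
      ∀ j : ℕ, T ^ j = 1 → m ∣ j := by
  classical
  have : NeZero (h + h) := ⟨by omega⟩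
  obtain ⟨q, hq⟩ : ∃ q : ℕ, q = Fintype.card F := ⟨_, rfl⟩
  rw [← hq] at hm
  have hq2 : 2 ≤ q := by rw [hq]; exact Fintype.one_lt_card
  let E := FiniteField.Extension F p (h + h)
  have : Fintype E := Fintype.ofFinite E
  have hfr : Module.finrank F E = h + h := FiniteField.finrank_extension F p (h + h)
  have hcardE : Fintype.card E = q ^ (h + h) := by
    have := FiniteField.natCard_extension F p (h + h)
    rw [Nat.card_eq_fintype_card, Nat.card_eq_fintype_card] at this
    rw [this, hq]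
  -- the involution
  let σ : E →ₐ[F] E := FiniteField.frobeniusAlgHom F E ^ h
  have hσ : ∀ x : E, σ x = x ^ (q ^ h) := by
    intro x
    show (FiniteField.frobeniusAlgHom F E ^ h) x = _
    rw [AlgHom.coe_pow, FiniteField.coe_frobeniusAlgHom, pow_iterate, hq]
  have hσσ : ∀ x : E, σ (σ x) = x := by
    intro x
    rw [hσ, hσ, ← pow_mul, ← pow_add, ← hcardE, FiniteField.pow_card]
  -- the fixed space
  let K : Submodule F E := LinearMap.ker (σ.toLinearMap - LinearMap.id)
  have hKmem : ∀ u : E, u ∈ K ↔ σ u = u := by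
    intro u
    rw [LinearMap.mem_ker, LinearMap.sub_apply, sub_eq_zero]
    rfl
  have h1qh : 1 < q ^ h := Nat.one_lt_pow (by omega) (by omega)
  have hfac : q ^ (h + h) - 1 = (q ^ h - 1) * (q ^ h + 1) := by
    have h1 : 1 ≤ q ^ h := by omega
    have h2 : q ^ (h + h) = q ^ h * q ^ h := by rw [pow_add]
    rw [h2]
    have h3 : 1 ≤ q ^ h * q ^ h := Nat.mul_pos h1 h1
    zify [h1, h3]
    ring
  have hK : K ≠ ⊤ := by
    intro htop
    obtain ⟨x, hx⟩ := exists_orderOf (K := E) (q ^ (h + h) - 1)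
      (by rw [Nat.card_eq_fintype_card, hcardE])
    have hpos : 0 < q ^ (h + h) - 1 := by
      have : 1 < q ^ (h + h) := Nat.one_lt_pow (by omega) (by omega)
      omega
    have hx0 : x ≠ 0 := by
      rintro rfl
      have := pow_orderOf_eq_one (0 : E)
      rw [hx, zero_pow hpos.ne'] at this
      exact zero_ne_one this
    have h1 : σ x = x := (hKmem x).1 (by rw [htop]; trivial)
    rw [hσ] at h1
    have h2 : x ^ (q ^ h - 1) = 1 := by
      have h3 : x ^ (q ^ h - 1) * x = 1 * x := by
        rw [← pow_succ, Nat.sub_add_cancel (by omega), h1, one_mul]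
      exact mul_right_cancel₀ hx0 h3
    have h4 : q ^ (h + h) - 1 ∣ q ^ h - 1 := by
      rw [← hx]
      exact orderOf_dvd_of_pow_eq_one h2
    have h6 := Nat.le_of_dvd (by omega) h4
    rw [hfac] at h6
    have h7 : (q ^ h - 1) * 2 ≤ (q ^ h - 1) * (q ^ h + 1) := Nat.mul_le_mul_left _ (by omega)
    omega
  obtain ⟨lam, hlam0, hKlam⟩ := K.exists_le_ker_of_lt_top (lt_top_iff_ne_top.2 hK)
  -- the form
  let B : LinearMap.BilinForm F E := LinearMap.mk₂ F (fun x y => lam (x * σ y))
    (fun x x' y => by rw [add_mul, map_add])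
    (fun c x y => by rw [smul_mul_assoc, map_smul])
    (fun x y y' => by rw [map_add, mul_add, map_add])
    (fun c x y => by rw [map_smul, mul_smul_comm, map_smul])
  have hB : ∀ x y : E, B x y = lam (x * σ y) := fun x y => rfl
  have hBalt : ∀ x : E, B x x = 0 := by
    intro x
    rw [hB]
    have h1 : x * σ x ∈ K := by
      rw [hKmem, map_mul, hσσ, mul_comm]
    exact LinearMap.mem_ker.1 (hKlam h1)
  have hBskew : ∀ x y : E, B y x = -B x y := by
    intro x y
    have h1 := hBalt (x + y)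
    simp only [map_add, LinearMap.add_apply, hBalt, zero_add, add_zero] at h1
    linear_combination h1
  have hBnd : ∀ x : E, (∀ y : E, B x y = 0) → x = 0 := by
    intro x hx
    by_contra hx0
    apply hlam0
    apply LinearMap.ext
    intro z
    have h1 := hx (σ (z * x⁻¹))
    rw [hB, hσσ, mul_comm z, ← mul_assoc, mul_inv_cancel₀ hx0, one_mul] at h1
    rw [h1, LinearMap.zero_apply]
  -- the torus element
  obtain ⟨t, ht⟩ := exists_orderOf (K := E) m
    (by rw [Nat.card_eq_fintype_card, hcardE, hfac]; exact dvd_mul_of_dvd_right hm _)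
  have htσ : t * σ t = 1 := by
    rw [hσ, ← pow_succ']
    obtain ⟨c, hc⟩ := hm
    rw [hc, ← ht, pow_mul, pow_orderOf_eq_one, one_pow]
  have hBt : ∀ x y : E, B (t * x) (t * y) = B x y := by
    intro x y
    have h1 : σ (t * y) = σ t * σ y := map_mul σ t y
    rw [hB, hB, h1]
    congr 1
    calc t * x * (σ t * σ y) = (t * σ t) * (x * σ y) := by ring
      _ = x * σ y := by rw [htσ, one_mul]
  -- matrices
  let b : Module.Basis (Fin (h + h)) F E := Module.finBasisOfFinrankEq F E hfr
  obtain ⟨Ω, hΩ⟩ : ∃ Ω : Matrix (Fin (h + h)) (Fin (h + h)) F,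
      Ω = LinearMap.BilinForm.toMatrix b B := ⟨_, rfl⟩
  obtain ⟨T, hT⟩ : ∃ T : Matrix (Fin (h + h)) (Fin (h + h)) F,
      T = Algebra.leftMulMatrix b t := ⟨_, rfl⟩
  have hdot : ∀ u v : Fin (h + h) → F,
      bf Ω u v = B (b.equivFun.symm u) (b.equivFun.symm v) := by
    intro u v
    rw [hΩ]
    exact LinearMap.BilinForm.dotProduct_toMatrix_mulVec b B u v
  have hdet : Ω.det ≠ 0 := by
    intro h0
    obtain ⟨v, hv0, hv⟩ := Matrix.exists_vecMul_eq_zero_iff.2 h0
    apply hv0
    have h1 : b.equivFun.symm v = 0 := by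
      apply hBnd
      intro y
      have h2 := hdot v (b.equivFun y)
      rw [LinearEquiv.symm_apply_apply] at h2
      rw [← h2]
      unfold bf
      rw [Matrix.dotProduct_mulVec, hv, zero_dotProduct]
    have := congrArg b.equivFun h1
    rwa [LinearEquiv.apply_symm_apply, map_zero] at this
  have hskew : Ωᵀ = -Ω := by
    ext i j
    rw [Matrix.transpose_apply, Matrix.neg_apply, hΩ, LinearMap.BilinForm.toMatrix_apply,
      LinearMap.BilinForm.toMatrix_apply]
    exact hBskew (b i) (b j)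
  have hisom : Tᵀ * Ω * T = Ω := by
    have h1 := LinearMap.BilinForm.toMatrix_comp b b B (Algebra.lmul F E t) (Algebra.lmul F E t)
    have h2 : B.comp (Algebra.lmul F E t) (Algebra.lmul F E t) = B := by
      apply LinearMap.ext₂
      intro x y
      exact hBt x y
    rw [h2] at h1
    rw [hT, Algebra.leftMulMatrix_apply, hΩ]
    exact h1.symm
  refine ⟨Ω, Ω⁻¹, T, ⟨⟨hskew, Matrix.mul_nonsing_inv Ω (isUnit_iff_ne_zero.2 hdet),
    Matrix.nonsing_inv_mul Ω (isUnit_iff_ne_zero.2 hdet)⟩, ?_, hisom⟩, ?_, ?_⟩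
  · intro v
    rw [hdot]
    exact hBalt _
  · rw [hT, ← map_pow, ← ht, pow_orderOf_eq_one, map_one]
  · intro j hj
    rw [← ht]
    apply orderOf_dvd_of_pow_eq_one
    apply Algebra.leftMulMatrix_injective b
    rw [map_pow, map_one, ← hT]
    exact hj

end Cfsg.Agent.Lib.helper64.SpPGTorus
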