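import Mathlib
import Cfsg.Agent.Lib.helper64.SpPG
import Cfsg.Agent.Lib.helper64.SpPGTorus
import Cfsg.Agent.Lib.helper64.PGBlocks

set_option autoImplicit false
set_option linter.unusedSectionVars false

/-!
# Semisimple blocks and weights for prime graphs of `PSp_{2n}(q)` (helper64)

* `exists_sp_block`: a symplectic datum of dimension `2 η` with an isometry of odd order `m`,
  for `m ∣ q ^ η - 1` or `m ∣ q ^ η + 1`.
* `exists_weight`: an irreducible factor `f ≠ X - 1` of the minimal polynomial of an isometry,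
  with roots of prime order `r`, produces a factor of degree at least `2 η(ord_r(q))`.
-/

namespace Cfsg.Agent.Lib.helper64.SpPGMain

open Polynomial Matrix Cfsg Cfsg.Agent.Lib.helper64.SpBasic Cfsg.Agent.Lib.helper64.SpPG
  Cfsg.Agent.Lib.helper64.SpPGTorus Cfsg.Agent.Lib.helper64.PGBasic
  Cfsg.Agent.Lib.helper64.PGBlocks

variable {F : Type*} [Field F]

theorem neg_one_eq_fromBlocks {ι κ : Type*} [Fintype ι] [DecidableEq ι] [Fintype κ]
    [DecidableEq κ] : (-1 : Matrix (ι ⊕ κ) (ι ⊕ κ) F) = Matrix.fromBlocks (-1) 0 0 (-1) := by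
  rw [← Matrix.fromBlocks_one, Matrix.fromBlocks_neg]
  simp

/-- powers of a block diagonal matrix equal to `± 1` -/
theorem sum_pow_pm {ι κ : Type*} [Fintype ι] [DecidableEq ι] [Fintype κ] [DecidableEq κ]
    (h₁ : Matrix ι ι F) (h₂ : Matrix κ κ F) (j : ℕ)
    (h : (Matrix.fromBlocks h₁ 0 0 h₂) ^ j = 1 ∨ (Matrix.fromBlocks h₁ 0 0 h₂) ^ j = -1) :
    (h₁ ^ j = 1 ∨ h₁ ^ j = -1) ∧ (h₂ ^ j = 1 ∨ h₂ ^ j = -1) := by
  rw [Matrix.fromBlocks_diagonal_pow] at h
  rcases h with h | h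
  · rw [← Matrix.fromBlocks_one, Matrix.fromBlocks_inj] at h
    exact ⟨Or.inl h.1, Or.inl h.2.2.2⟩
  · rw [neg_one_eq_fromBlocks, Matrix.fromBlocks_inj] at h
    exact ⟨Or.inr h.1, Or.inr h.2.2.2⟩

section finite

variable [Fintype F]

theorem ord_pos (p : ℕ) [hp : Fact p.Prime] [CharP F p] (r : ℕ) (hr : r.Prime) (hrp : r ≠ p) :
    0 < orderOf ((Fintype.card F : ℕ) : ZMod r) := by
  have : Fact r.Prime := ⟨hr⟩
  have hne : ((Fintype.card F : ℕ) : ZMod r) ≠ 0 := by
    rw [Ne, ZMod.natCast_eq_zero_iff]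
    intro h
    obtain ⟨m, -, hm⟩ := FiniteField.card F p
    rw [hm] at h
    exact hrp ((Nat.prime_dvd_prime_iff_eq hr hp.out).1 (hr.dvd_of_dvd_pow h))
  apply orderOf_pos_iff.2
  exact isOfFinOrder_iff_pow_eq_one.2
    ⟨r - 1, by have := hr.two_le; omega, ZMod.pow_card_sub_one_eq_one hne⟩

/-- `r` divides `q ^ η - 1` or `q ^ η + 1` -/
theorem dvd_pm (r : ℕ) (hr : r.Prime) (k η : ℕ)
    (hk : k = orderOf ((Fintype.card F : ℕ) : ZMod r))
    (hη : (Odd k ∧ η = k) ∨ (Even k ∧ 2 * η = k)) :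
    r ∣ Fintype.card F ^ η - 1 ∨ r ∣ Fintype.card F ^ η + 1 := by
  have hq1 : 1 ≤ Fintype.card F := Fintype.card_pos
  have h1 : r ∣ Fintype.card F ^ k - 1 := dvd_of_ord_dvd hq1 (by rw [← hk])
  rcases hη with ⟨-, hηk⟩ | ⟨-, hηk⟩
  · left
    rw [hηk]
    exact h1
  · have h2 : Fintype.card F ^ k - 1 = (Fintype.card F ^ η - 1) * (Fintype.card F ^ η + 1) := by
      have h3 : 1 ≤ Fintype.card F ^ η := Nat.one_le_pow _ _ hq1
      have h4 : Fintype.card F ^ k = Fintype.card F ^ η * Fintype.card F ^ η := by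
        rw [← pow_add, ← hηk, two_mul]
      rw [h4]
      have h5 : 1 ≤ Fintype.card F ^ η * Fintype.card F ^ η := Nat.mul_pos h3 h3
      zify [h3, h5]
      ring
    rw [h2] at h1
    exact (Nat.Prime.dvd_mul hr).1 h1

/-- a symplectic datum of dimension `2 η` with an isometry of odd order `m` -/
theorem exists_sp_block (p : ℕ) [Fact p.Prime] [CharP F p] (η : ℕ) (hη0 : 0 < η) (m : ℕ)
    (hm0 : 0 < m) (hmodd : Odd m)
    (hm : m ∣ Fintype.card F ^ η - 1 ∨ m ∣ Fintype.card F ^ η + 1) :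
    ∃ (ι : Type) (_ : Fintype ι) (_ : DecidableEq ι) (Ω Ω' h : Matrix ι ι F),
      Fintype.card ι = η + η ∧ IsSpDatum Ω Ω' h ∧
        ∀ j : ℕ, (h ^ j = 1 ∨ h ^ j = -1) → m ∣ j := by
  classical
  have hodd2 : ∀ j : ℕ, m ∣ 2 * j → m ∣ j := fun j h =>
    Nat.Coprime.dvd_of_dvd_mul_left (Nat.coprime_two_right.2 hmodd) h
  rcases hm with hm | hm
  · obtain ⟨A, hAm, hAmin⟩ := exists_block (F := F) p η hη0 m hm
    have hA' : A ^ (m - 1) * A = 1 := by rw [← pow_succ, Nat.sub_add_cancel hm0, hAm]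
    refine ⟨Fin η ⊕ Fin η, inferInstance, inferInstance, J (Fin η) F, -J (Fin η) F,
      Matrix.fromBlocks A 0 0 (A ^ (m - 1))ᵀ, by simp [Fintype.card_sum],
      isSpDatum_gl A (A ^ (m - 1)) hA', ?_⟩
    intro j hj
    obtain ⟨h1, -⟩ := sum_pow_pm _ _ j hj
    rcases h1 with h1 | h1
    · exact hAmin j h1
    · apply hodd2
      apply hAmin
      rw [mul_comm, pow_mul, h1]
      simp
  · obtain ⟨Ω, Ω', T, hD, hTm, hTmin⟩ := exists_torus (F := F) p η hη0 m hm
    refine ⟨Fin (η + η), inferInstance, inferInstance, Ω, Ω', T, by simp, hD, ?_⟩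
    intro j hj
    rcases hj with hj | hj
    · exact hTmin j hj
    · apply hodd2
      apply hTmin
      rw [mul_comm, pow_mul, hj]
      simp

/-- the weight of an irreducible factor with roots of prime order `r` -/
theorem exists_weight {ι : Type*} [Fintype ι] [DecidableEq ι] (Ω Ω' : Matrix ι ι F)
    (hΩ : SkewInv Ω Ω') (A : Matrix ι ι F) (hA : Aᵀ * Ω * A = Ω) (M : ℕ) (hM : 0 < M)
    (hAM : A ^ M = 1) (r : ℕ) (hr : r.Prime) (hr2 : r ≠ 2) (k η : ℕ)
    (hk : k = orderOf ((Fintype.card F : ℕ) : ZMod r))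
    (hη : (Odd k ∧ η = k) ∨ (Even k ∧ 2 * η = k))
    (f : F[X]) (hf : Irreducible f) (hfμ : f ∣ minpoly F A) (hfr : f ∣ X ^ r - 1)
    (hf1 : ¬ f ∣ X - 1) :
    ∃ W : F[X], W ∣ minpoly F A ∧ W ∣ X ^ r - 1 ∧ IsCoprime W (X - 1) ∧
      2 * η ≤ W.natDegree ∧ (f * f ∣ minpoly F A → W * W ∣ minpoly F A) := by
  have hkd : k ∣ f.natDegree := by
    have h1 := ord_dvd_of_factor f hf r hr r 1 hfr (by rwa [pow_one]) (by rw [one_mul])
    rwa [← hk] at h1
  have hdpos := hf.natDegree_pos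
  have hkle := Nat.le_of_dvd hdpos hkd
  have hcop1 : IsCoprime f (X - 1) := (hf.coprime_iff_not_dvd).2 hf1
  rcases hη with ⟨hodd, hηk⟩ | ⟨heven, hηk⟩
  swap
  · exact ⟨f, hfμ, hfr, hcop1, by omega, fun h => h⟩
  · have hrev_μ : f.reverse ∣ minpoly F A := reverse_dvd_minpoly Ω Ω' hΩ A hA M hM hAM f hfμ
    have hrev_r : f.reverse ∣ X ^ r - 1 := reverse_dvd_of_dvd f r hfr
    have hrev_deg : f.reverse.natDegree = f.natDegree :=
      natDegree_reverse_of_dvd f r hr.pos hfr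
    have hcop : IsCoprime f f.reverse := by
      rw [hf.coprime_iff_not_dvd]
      intro hrev
      obtain ⟨i, hi⟩ := exists_frob_inv f hf r hr.pos hfr hrev
      have : Fact (Irreducible f) := ⟨hf⟩
      have : Fact r.Prime := ⟨hr⟩
      have hρr : (AdjoinRoot.root f) ^ r = 1 := root_pow_eq_one_of_dvd f r hfr
      have hρ1 : AdjoinRoot.root f ≠ 1 := by
        intro h
        apply hf1
        have := dvd_of_root_pow_eq_one f 1 (by rw [pow_one]; exact h)
        rwa [pow_one] at this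
      have hord : orderOf (AdjoinRoot.root f) = r := orderOf_eq_prime hρr hρ1
      have hdvd : r ∣ Fintype.card F ^ i + 1 := by
        rw [← hord]
        exact orderOf_dvd_of_pow_eq_one hi
      obtain ⟨h1, h2⟩ := ord_of_dvd_add_one hr hr2 hdvd
      rw [← hk] at h1 h2
      exact h2 (Nat.Coprime.dvd_of_dvd_mul_left (Nat.coprime_two_right.2 hodd) h1)
    have hrev1 : IsCoprime f.reverse (X - 1) := by
      have hirr := irreducible_X_sub_C (1 : F)
      have h1 : IsCoprime (X - C (1 : F)) f.reverse := by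
        rw [hirr.coprime_iff_not_dvd]
        intro h
        have h2 : f.reverse.IsRoot 1 := Polynomial.dvd_iff_isRoot.1 h
        let _ : Invertible (1 : F) := invertibleOne
        have h3 : f.IsRoot 1 :=
          (Polynomial.eval₂_reverse_eq_zero_iff (RingHom.id F) (1 : F) f).1
            (by rw [invOf_one]; exact h2)
        apply hf1
        have h4 : X - C (1 : F) ∣ f := Polynomial.dvd_iff_isRoot.2 h3
        have h5 := hirr.dvd_symm hf h4
        rwa [map_one] at h5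
      rw [map_one] at h1
      exact h1.symm
    refine ⟨f * f.reverse, hcop.mul_dvd hfμ hrev_μ, hcop.mul_dvd hfr hrev_r,
      hcop1.mul_left hrev1, ?_, ?_⟩
    · rw [Polynomial.natDegree_mul hf.ne_zero
        (by rw [Ne, Polynomial.reverse_eq_zero]; exact hf.ne_zero), hrev_deg]
      omega
    · intro hff
      have h1 : (f * f).reverse ∣ minpoly F A :=
        reverse_dvd_minpoly Ω Ω' hΩ A hA M hM hAM (f * f) hff
      rw [Polynomial.reverse_mul_of_domain] at h1
      have h2 : IsCoprime (f * f) (f.reverse * f.reverse) :=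
        (hcop.mul_left hcop).mul_right (hcop.mul_left hcop)
      have h3 := h2.mul_dvd hff h1
      rwa [mul_mul_mul_comm] at h3

end finite

end Cfsg.Agent.Lib.helper64.SpPGMain
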