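import Mathlib
import Cfsg.Agent.Lib.helper64.SpPGMain

set_option autoImplicit false
set_option linter.unusedSectionVars false

/-!
# Weights of isometries with reciprocal-closed minimal polynomial (helper64)

Generalisation of the weight analysis of `SpPGMain` / `S2469` / `S2472` to any matrix whose
minimal polynomial has a set of factors closed under reciprocals (`RevClosed`), e.g. an isometry
of finite order of any non-degenerate bilinear form (`revClosed_of_gram`), and with the degree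
bound `2 n + 1`.
-/

namespace Cfsg.Agent.Lib.helper64.RsW

open Polynomial Matrix Cfsg Cfsg.Agent.Lib.helper64.SpBasic Cfsg.Agent.Lib.helper64.SpPG
  Cfsg.Agent.Lib.helper64.SpPGMain Cfsg.Agent.Lib.helper64.PGBasic

variable {F : Type*} [Field F] {ι : Type*} [Fintype ι] [DecidableEq ι]

/-- the set of factors of the minimal polynomial is closed under reciprocals -/
def RevClosed (A : Matrix ι ι F) : Prop :=
  ∀ f : F[X], f ∣ minpoly F A → f.reverse ∣ minpoly F A

theorem ad_one' {Ω Ω' : Matrix ι ι F} (h2 : Ω' * Ω = 1) : ad Ω Ω' (1 : Matrix ι ι F) = 1 := by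
  unfold ad
  rw [transpose_one, Matrix.mul_one, h2]

theorem ad_mul' {Ω Ω' : Matrix ι ι F} (h1 : Ω * Ω' = 1) (X Y : Matrix ι ι F) :
    ad Ω Ω' (X * Y) = ad Ω Ω' Y * ad Ω Ω' X := by
  unfold ad
  rw [transpose_mul]
  calc Ω' * (Yᵀ * Xᵀ) * Ω = Ω' * Yᵀ * (Ω * Ω') * Xᵀ * Ω := by
        rw [h1, Matrix.mul_one]
        simp only [Matrix.mul_assoc]
    _ = Ω' * Yᵀ * Ω * (Ω' * Xᵀ * Ω) := by simp only [Matrix.mul_assoc]

theorem ad_pow' {Ω Ω' : Matrix ι ι F} (h1 : Ω * Ω' = 1) (h2 : Ω' * Ω = 1) (X : Matrix ι ι F)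
    (k : ℕ) : ad Ω Ω' (X ^ k) = ad Ω Ω' X ^ k := by
  induction k with
  | zero => rw [pow_zero, pow_zero, ad_one' h2]
  | succ k ih => rw [pow_succ, ad_mul' h1, ih, pow_succ']

theorem ad_aeval' {Ω Ω' : Matrix ι ι F} (h1 : Ω * Ω' = 1) (h2 : Ω' * Ω = 1) (S : Matrix ι ι F)
    (g : F[X]) : ad Ω Ω' (aeval S g) = aeval (ad Ω Ω' S) g := by
  induction g using Polynomial.induction_on' with
  | add p q hp hq => rw [map_add, map_add, ad_add, hp, hq]
  | monomial k a =>
    rw [aeval_monomial, aeval_monomial, ← Algebra.smul_def, ← Algebra.smul_def, ad_smul,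
      ad_pow' h1 h2]

/-- the minimal polynomial of an isometry of finite order divides its reciprocal -/
theorem minpoly_dvd_reverse' (Ω Ω' : Matrix ι ι F)
    (h1Ω : Ω * Ω' = 1) (h2Ω : Ω' * Ω = 1) (A : Matrix ι ι F) (hA : Aᵀ * Ω * A = Ω) (M : ℕ)
    (hM : 0 < M) (hAM : A ^ M = 1) : minpoly F A ∣ (minpoly F A).reverse := by
  classical
  set μ := minpoly F A with hμ
  have hμA : aeval A μ = 0 := minpoly.aeval F A
  have hadA : ad Ω Ω' A * A = 1 := by
    unfold ad
    calc Ω' * Aᵀ * Ω * A = Ω' * (Aᵀ * Ω * A) := by simp only [Matrix.mul_assoc]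
      _ = 1 := by rw [hA, h2Ω]
  have hinv : ad Ω Ω' A = A ^ (M - 1) := by
    have h1 : A * A ^ (M - 1) = 1 := by
      rw [← pow_succ', Nat.sub_add_cancel hM, hAM]
    calc ad Ω Ω' A = ad Ω Ω' A * (A * A ^ (M - 1)) := by rw [h1, mul_one]
      _ = (ad Ω Ω' A * A) * A ^ (M - 1) := by rw [mul_assoc]
      _ = A ^ (M - 1) := by rw [hadA, one_mul]
  -- `μ` divides `μ (X ^ (M - 1))`
  have h1 : μ ∣ μ.comp (X ^ (M - 1)) := by
    apply minpoly.dvd
    rw [Polynomial.aeval_comp, map_pow, aeval_X, ← hinv, ← ad_aeval' h1Ω h2Ω, hμA, ad_zero]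
  have hμM : μ ∣ X ^ M - 1 := minpoly.dvd F A (by simp [hAM])
  -- in `F[X]/(μ)`
  set α := AdjoinRoot.root μ with hα
  have hαM : α ^ M = 1 := root_pow_eq_one_of_dvd μ M hμM
  have hαα : α ^ (M - 1) * α = 1 := by rw [← pow_succ, Nat.sub_add_cancel hM, hαM]
  let _ : Invertible (α ^ (M - 1)) := ⟨α, by rw [mul_comm]; exact hαα, hαα⟩
  have h3 := Polynomial.eval₂_reverse_mul_pow (algebraMap F (AdjoinRoot μ)) (α ^ (M - 1)) μ
  have h4 : eval₂ (algebraMap F (AdjoinRoot μ)) (α ^ (M - 1)) μ = 0 := by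
    have h5 : AdjoinRoot.mk μ (μ.comp (X ^ (M - 1))) = 0 := AdjoinRoot.mk_eq_zero.2 h1
    rw [← AdjoinRoot.aeval_eq, Polynomial.aeval_comp, map_pow, aeval_X] at h5
    exact h5
  rw [h4] at h3
  have h6 : eval₂ (algebraMap F (AdjoinRoot μ)) α μ.reverse = 0 := by
    have h7 : eval₂ (algebraMap F (AdjoinRoot μ)) α μ.reverse * (α ^ (M - 1)) ^ μ.natDegree *
        α ^ μ.natDegree = 0 := by
      have : (⅟(α ^ (M - 1))) = α := rfl
      rw [this] at h3
      rw [h3, zero_mul]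
    rw [mul_assoc, ← mul_pow, hαα, one_pow, mul_one] at h7
    exact h7
  apply AdjoinRoot.mk_eq_zero.1
  rw [← AdjoinRoot.aeval_eq]
  exact h6

/-- the factors of the minimal polynomial of an isometry of finite order are closed under
taking reciprocals -/
theorem revClosed_of_gram (Ω Ω' : Matrix ι ι F)
    (h1Ω : Ω * Ω' = 1) (h2Ω : Ω' * Ω = 1) (A : Matrix ι ι F) (hA : Aᵀ * Ω * A = Ω) (M : ℕ)
    (hM : 0 < M) (hAM : A ^ M = 1) : RevClosed A := by
  intro f hf
  have h1 := minpoly_dvd_reverse' Ω Ω' h1Ω h2Ω A hA M hM hAM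
  have hμ0 : minpoly F A ≠ 0 := (minpoly.monic (Matrix.isIntegral A)).ne_zero
  have h2 : Associated (minpoly F A) (minpoly F A).reverse :=
    associated_of_dvd_of_natDegree_le h1 (by rw [Ne, Polynomial.reverse_eq_zero]; exact hμ0)
      (Polynomial.reverse_natDegree_le _)
  obtain ⟨g, hg⟩ := hf
  have h3 : f.reverse ∣ (minpoly F A).reverse := by
    rw [hg, Polynomial.reverse_mul_of_domain]
    exact dvd_mul_right _ _
  exact h3.trans h2.symm.dvd

section finite

variable [Fintype F]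

/-- the weight of an irreducible factor with roots of prime order `r` -/
theorem exists_weight' (A : Matrix ι ι F) (hRC : RevClosed A) (r : ℕ) (hr : r.Prime)
    (hr2 : r ≠ 2) (k η : ℕ)
    (hk : k = orderOf ((Fintype.card F : ℕ) : ZMod r))
    (hη : (Odd k ∧ η = k) ∨ (Even k ∧ 2 * η = k))
    (f : F[X]) (hf : Irreducible f) (hfμ : f ∣ minpoly F A) (hfr : f ∣ X ^ r - 1)
    (hf1 : ¬ f ∣ X - 1) :
    ∃ W : F[X], W ∣ minpoly F A ∧ W ∣ X ^ r - 1 ∧ IsCoprime W (X - 1) ∧
      2 * η ≤ W.natDegree ∧ (f * f ∣ minpoly F A → W * W ∣ minpoly F A) := by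
  have hkd : k ∣ f.natDegree := by
    have h1 := ord_dvd_of_factor f hf r hr r 1 hfr (by rwa [pow_one]) (by rw [one_mul])
    rwa [← hk] at h1
  have hdpos := hf.natDegree_pos
  have hkle := Nat.le_of_dvd hdpos hkd
  have hcop1 : IsCoprime f (X - 1) := (hf.coprime_iff_not_dvd).2 hf1
  rcases hη with ⟨hodd, hηk⟩ | ⟨heven, hηk⟩
  swap
  · exact ⟨f, hfμ, hfr, hcop1, by omega, fun h => h⟩
  · have hrev_μ : f.reverse ∣ minpoly F A := hRC f hfμ
    have hrev_r : f.reverse ∣ X ^ r - 1 := reverse_dvd_of_dvd f r hfr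
    have hrev_deg : f.reverse.natDegree = f.natDegree :=
      natDegree_reverse_of_dvd f r hr.pos hfr
    have hcop : IsCoprime f f.reverse := by
      rw [hf.coprime_iff_not_dvd]
      intro hrev
      obtain ⟨i, hi⟩ := exists_frob_inv f hf r hr.pos hfr hrev
      have : Fact (Irreducible f) := ⟨hf⟩
      have : Fact r.Prime := ⟨hr⟩
      have hρr : (AdjoinRoot.root f) ^ r = 1 := root_pow_eq_one_of_dvd f r hfr
      have hρ1 : AdjoinRoot.root f ≠ 1 := by
        intro h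
        apply hf1
        have := dvd_of_root_pow_eq_one f 1 (by rw [pow_one]; exact h)
        rwa [pow_one] at this
      have hord : orderOf (AdjoinRoot.root f) = r := orderOf_eq_prime hρr hρ1
      have hdvd : r ∣ Fintype.card F ^ i + 1 := by
        rw [← hord]
        exact orderOf_dvd_of_pow_eq_one hi
      obtain ⟨h1, h2⟩ := ord_of_dvd_add_one hr hr2 hdvd
      rw [← hk] at h1 h2
      exact h2 (Nat.Coprime.dvd_of_dvd_mul_left (Nat.coprime_two_right.2 hodd) h1)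
    have hrev1 : IsCoprime f.reverse (X - 1) := by
      have hirr := irreducible_X_sub_C (1 : F)
      have h1 : IsCoprime (X - C (1 : F)) f.reverse := by
        rw [hirr.coprime_iff_not_dvd]
        intro h
        have h2 : f.reverse.IsRoot 1 := Polynomial.dvd_iff_isRoot.1 h
        let _ : Invertible (1 : F) := invertibleOne
        have h3 : f.IsRoot 1 :=
          (Polynomial.eval₂_reverse_eq_zero_iff (RingHom.id F) (1 : F) f).1
            (by rw [invOf_one]; exact h2)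
        apply hf1
        have h4 : X - C (1 : F) ∣ f := Polynomial.dvd_iff_isRoot.2 h3
        have h5 := hirr.dvd_symm hf h4
        rwa [map_one] at h5
      rw [map_one] at h1
      exact h1.symm
    refine ⟨f * f.reverse, hcop.mul_dvd hfμ hrev_μ, hcop.mul_dvd hfr hrev_r,
      hcop1.mul_left hrev1, ?_, ?_⟩
    · rw [Polynomial.natDegree_mul hf.ne_zero
        (by rw [Ne, Polynomial.reverse_eq_zero]; exact hf.ne_zero), hrev_deg]
      omega
    · intro hff
      have h1 : (f * f).reverse ∣ minpoly F A :=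
        hRC (f * f) hff
      rw [Polynomial.reverse_mul_of_domain] at h1
      have h2 : IsCoprime (f * f) (f.reverse * f.reverse) :=
        (hcop.mul_left hcop).mul_right (hcop.mul_left hcop)
      have h3 := h2.mul_dvd hff h1
      rwa [mul_mul_mul_comm] at h3

/-- an element of odd prime order `s` with reciprocal-closed minimal polynomial of degree at most
`2 N + 1` has a weight of degree at least `2 η`, so `η ≤ N` -/
theorem eta_le' (A : Matrix ι ι F) (hRC : RevClosed A) (N : ℕ)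
    (hdeg : (minpoly F A).natDegree ≤ 2 * N + 1) (s : ℕ) (hs : s.Prime) (hs2 : s ≠ 2)
    (hsF : ((s : ℕ) : F) ≠ 0) (hAs : A ^ s = 1) (hA1 : A ≠ 1) (l ηl : ℕ)
    (hl : l = orderOf ((Fintype.card F : ℕ) : ZMod s))
    (hηl : (Odd l ∧ ηl = l) ∨ (Even l ∧ 2 * ηl = l)) :
    ∃ W : F[X], W ∣ minpoly F A ∧ W ∣ X ^ s - 1 ∧ IsCoprime W (X - 1) ∧
      2 * ηl ≤ W.natDegree ∧ ηl ≤ N := by
  obtain ⟨f, hf, hfμ, hfs, hf1⟩ := exists_factor_of_order A s hsF hAs 1 (by rwa [pow_one])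
  rw [pow_one] at hf1
  obtain ⟨W, hWμ, hWs, hWc, hWd, -⟩ :=
    exists_weight' A hRC s hs hs2 l ηl hl hηl f hf hfμ hfs hf1
  refine ⟨W, hWμ, hWs, hWc, hWd, ?_⟩
  have hμ0 : minpoly F A ≠ 0 := (minpoly.monic (Matrix.isIntegral A)).ne_zero
  have h1 := Polynomial.natDegree_le_of_dvd hWμ hμ0
  omega

/-- a symplectic matrix of order `r s` forces `η(k) + η(l) ≤ n` or `l / k` odd -/
theorem analysis_rs (p : ℕ) [hp : Fact p.Prime] [CharP F p] (n : ℕ) (hn : 1 ≤ n) (r s : ℕ)
    (hr : r.Prime) (hs : s.Prime) (hr2 : r ≠ 2) (hs2 : s ≠ 2) (hrp : r ≠ p) (hsp : s ≠ p)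
    (hrs : r ≠ s) (k l ηk ηl : ℕ) (hk : k = orderOf ((Fintype.card F : ℕ) : ZMod r))
    (hl : l = orderOf ((Fintype.card F : ℕ) : ZMod s))
    (hηk : (Odd k ∧ ηk = k) ∨ (Even k ∧ 2 * ηk = k))
    (hηl : (Odd l ∧ ηl = l) ∨ (Even l ∧ 2 * ηl = l)) (hkl : ηk ≤ ηl) (hk0 : 0 < k)
    (hl0 : 0 < l) (A : Matrix ι ι F) (hRC : RevClosed A)
    (hdeg : (minpoly F A).natDegree ≤ 2 * n + 1) (hA : ∀ j : ℕ, A ^ j = 1 ↔ r * s ∣ j) :
    ηk + ηl ≤ n ∨ ∃ t : ℕ, Odd t ∧ l = k * t := by
  classical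
  have hpp : p.Prime := hp.out
  have hrF : ((r : ℕ) : F) ≠ 0 := by
    rw [Ne, CharP.cast_eq_zero_iff F p]
    intro h
    exact hrp ((Nat.prime_dvd_prime_iff_eq hpp hr).1 h).symm
  have hsF : ((s : ℕ) : F) ≠ 0 := by
    rw [Ne, CharP.cast_eq_zero_iff F p]
    intro h
    exact hsp ((Nat.prime_dvd_prime_iff_eq hpp hs).1 h).symm
  have hrsF : ((r * s : ℕ) : F) ≠ 0 := by rw [Nat.cast_mul]; exact mul_ne_zero hrF hsF
  have hArs : A ^ (r * s) = 1 := (hA _).2 (dvd_refl _)
  have hrs0 : 0 < r * s := Nat.mul_pos hr.pos hs.pos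
  have hAs : A ^ s ≠ 1 := by
    intro h
    have h1 : r * s ∣ 1 * s := by rw [one_mul]; exact (hA s).1 h
    exact hr.one_lt.ne' (Nat.dvd_one.1 (Nat.dvd_of_mul_dvd_mul_right hs.pos h1))
  have hAr : A ^ r ≠ 1 := by
    intro h
    have h1 : r * s ∣ r * 1 := by rw [mul_one]; exact (hA r).1 h
    exact hs.one_lt.ne' (Nat.dvd_one.1 (Nat.dvd_of_mul_dvd_mul_left hr.pos h1))
  have hμ0 : minpoly F A ≠ 0 := (minpoly.monic (Matrix.isIntegral A)).ne_zero
  have hμdeg : (minpoly F A).natDegree ≤ 2 * n + 1 := hdeg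
  have hηl_le : ηl ≤ l := by
    rcases hηl with ⟨-, h⟩ | ⟨-, h⟩ <;> omega
  have hηk_le : ηk ≤ k := by
    rcases hηk with ⟨-, h⟩ | ⟨-, h⟩ <;> omega
  obtain ⟨f₁, hf₁, hf₁μ, hf₁N, hf₁s⟩ := exists_factor_of_order A (r * s) hrsF hArs s hAs
  obtain ⟨f₂, hf₂, hf₂μ, hf₂N, hf₂r⟩ := exists_factor_of_order A (r * s) hrsF hArs r hAr
  -- a factor with roots of order `r s`
  have caseA : ∀ f : F[X], Irreducible f → f ∣ minpoly F A → f ∣ X ^ (r * s) - 1 →
      ¬ f ∣ X ^ s - 1 → ¬ f ∣ X ^ r - 1 → ηk + ηl ≤ n ∨ ∃ t : ℕ, Odd t ∧ l = k * t := by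
    intro f hf hfμ hfN hfs hfr
    have hkd : k ∣ f.natDegree := by
      have := ord_dvd_of_factor f hf r hr (r * s) s hfN hfs (by rw [mul_comm])
      rwa [← hk] at this
    have hld : l ∣ f.natDegree := by
      have := ord_dvd_of_factor f hf s hs (r * s) r hfN hfr (dvd_refl _)
      rwa [← hl] at this
    have hd0 := hf.natDegree_pos
    have hdμ : f.natDegree ≤ 2 * n + 1 := (Polynomial.natDegree_le_of_dvd hfμ hμ0).trans hμdeg
    have hdich : 2 * l ≤ f.natDegree ∨ k ∣ l := by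
      obtain ⟨c, hc⟩ := hld
      rcases Nat.lt_or_ge c 2 with h | h
      · right
        have hc1 : c = 1 := by
          rcases Nat.eq_zero_or_pos c with h0 | h0
          · rw [h0, mul_zero] at hc
            omega
          · omega
        rw [hc1, mul_one] at hc
        rw [← hc]
        exact hkd
      · left
        rw [hc, mul_comm]
        exact Nat.mul_le_mul_left l h
    by_cases hrev : f ∣ f.reverse
    · obtain ⟨i, hi⟩ := exists_frob_inv f hf (r * s) hrs0 hfN hrev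
      have hρN : (AdjoinRoot.root f) ^ (r * s) = 1 := root_pow_eq_one_of_dvd f (r * s) hfN
      have hoN : orderOf (AdjoinRoot.root f) ∣ r * s := orderOf_dvd_of_pow_eq_one hρN
      have hoi : orderOf (AdjoinRoot.root f) ∣ Fintype.card F ^ i + 1 :=
        orderOf_dvd_of_pow_eq_one hi
      have hos : ¬ orderOf (AdjoinRoot.root f) ∣ s := fun h =>
        hfs (dvd_of_root_pow_eq_one f s (orderOf_dvd_iff_pow_eq_one.1 h))
      have hor : ¬ orderOf (AdjoinRoot.root f) ∣ r := fun h =>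
        hfr (dvd_of_root_pow_eq_one f r (orderOf_dvd_iff_pow_eq_one.1 h))
      have hro : r ∣ orderOf (AdjoinRoot.root f) := by
        by_contra h
        have hc : Nat.Coprime (orderOf (AdjoinRoot.root f)) r :=
          ((Nat.Prime.coprime_iff_not_dvd hr).2 h).symm
        exact hos (hc.dvd_of_dvd_mul_left hoN)
      have hso : s ∣ orderOf (AdjoinRoot.root f) := by
        by_contra h
        have hc : Nat.Coprime (orderOf (AdjoinRoot.root f)) s :=
          ((Nat.Prime.coprime_iff_not_dvd hs).2 h).symm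
        exact hor (hc.dvd_of_dvd_mul_right hoN)
      obtain ⟨hk1, hk2⟩ := ord_of_dvd_add_one hr hr2 (hro.trans hoi)
      obtain ⟨hl1, hl2⟩ := ord_of_dvd_add_one hs hs2 (hso.trans hoi)
      rw [← hk] at hk1 hk2
      rw [← hl] at hl1 hl2
      rcases hdich with h2l | hkl'
      · left
        have hleven : Even l := by
          by_contra hodd
          rw [Nat.not_even_iff_odd] at hodd
          exact hl2 (Nat.Coprime.dvd_of_dvd_mul_left (Nat.coprime_two_right.2 hodd) hl1)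
        have h2η : 2 * ηl = l := by
          rcases hηl with ⟨ho, -⟩ | ⟨-, h⟩
          · exact absurd hleven (Nat.not_even_iff_odd.2 ho)
          · exact h
        omega
      · right
        obtain ⟨t, ht⟩ := hkl'
        refine ⟨t, ?_, ht⟩
        by_contra heven
        rw [Nat.not_odd_iff_even] at heven
        obtain ⟨u, hu⟩ := heven
        apply hk2
        have h3 : 2 * (k * u) ∣ 2 * i := by
          have h4 : 2 * (k * u) = l := by rw [ht, hu]; ring
          rw [h4]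
          exact hl1
        exact (dvd_mul_right k u).trans (Nat.dvd_of_mul_dvd_mul_left (by norm_num) h3)
    · have hcop : IsCoprime f f.reverse := (hf.coprime_iff_not_dvd).2 hrev
      have hrev_μ : f.reverse ∣ minpoly F A := hRC f hfμ
      have hrev_deg : f.reverse.natDegree = f.natDegree :=
        natDegree_reverse_of_dvd f (r * s) hrs0 hfN
      have hmul : f * f.reverse ∣ minpoly F A := hcop.mul_dvd hfμ hrev_μ
      have hdeg' : f.natDegree + f.natDegree ≤ 2 * n + 1 := by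
        have h1 := Polynomial.natDegree_le_of_dvd hmul hμ0
        rw [Polynomial.natDegree_mul hf.ne_zero
          (by rw [Ne, Polynomial.reverse_eq_zero]; exact hf.ne_zero), hrev_deg] at h1
        exact h1.trans hμdeg
      rcases hdich with h2l | hkl'
      · left
        omega
      · obtain ⟨t, ht⟩ := hkl'
        by_cases htodd : Odd t
        · exact Or.inr ⟨t, htodd, ht⟩
        · left
          rw [Nat.not_odd_iff_even] at htodd
          obtain ⟨u, hu⟩ := htodd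
          have hu0 : 0 < u := by
            rcases Nat.eq_zero_or_pos u with h0 | h0
            · rw [hu, h0] at ht
              simp at ht
              omega
            · exact h0
          have hleven : Even l := ⟨k * u, by rw [ht, hu]; ring⟩
          have h2η : 2 * ηl = l := by
            rcases hηl with ⟨ho, -⟩ | ⟨-, h⟩
            · exact absurd hleven (Nat.not_even_iff_odd.2 ho)
            · exact h
          have hkl2 : 2 * k ≤ l := by
            rw [ht, hu]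
            nlinarith
          have hld' : l ≤ f.natDegree := Nat.le_of_dvd hd0 hld
          omega
  by_cases h₁ : f₁ ∣ X ^ r - 1
  swap
  · exact caseA f₁ hf₁ hf₁μ hf₁N hf₁s h₁
  by_cases h₂ : f₂ ∣ X ^ s - 1
  swap
  · exact caseA f₂ hf₂ hf₂μ hf₂N h₂ hf₂r
  -- two factors with roots of orders `r` and `s`
  left
  have hX1s : (X - 1 : F[X]) ∣ X ^ s - 1 := by
    have := sub_dvd_pow_sub_pow (X : F[X]) 1 s
    rwa [one_pow] at this
  have hX1r : (X - 1 : F[X]) ∣ X ^ r - 1 := by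
    have := sub_dvd_pow_sub_pow (X : F[X]) 1 r
    rwa [one_pow] at this
  have hf₁1 : ¬ f₁ ∣ X - 1 := fun h => hf₁s (h.trans hX1s)
  have hf₂1 : ¬ f₂ ∣ X - 1 := fun h => hf₂r (h.trans hX1r)
  obtain ⟨W₁, hW₁μ, hW₁r, hW₁c, hW₁d, -⟩ := exists_weight' A hRC r hr hr2 k ηk hk hηk f₁ hf₁ hf₁μ h₁ hf₁1
  obtain ⟨W₂, hW₂μ, hW₂s, hW₂c, hW₂d, -⟩ := exists_weight' A hRC s hs hs2 l ηl hl hηl f₂ hf₂ hf₂μ h₂ hf₂1
  have hW₁0 : W₁ ≠ 0 := ne_zero_of_dvd_ne_zero hμ0 hW₁μ
  have hW₂0 : W₂ ≠ 0 := ne_zero_of_dvd_ne_zero hμ0 hW₂μ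
  have hcop : IsCoprime W₁ W₂ := by
    by_contra hnc
    obtain ⟨f, hf, hfW₁, hfW₂⟩ := exists_common_irr W₁ W₂ hW₁0 hnc
    have h1 := root_pow_eq_one_of_dvd f r (hfW₁.trans hW₁r)
    have h2 := root_pow_eq_one_of_dvd f s (hfW₂.trans hW₂s)
    have h3 : (AdjoinRoot.root f) ^ (Nat.gcd r s) = 1 := pow_gcd_eq_one.2 ⟨h1, h2⟩
    rw [Nat.Coprime.gcd_eq_one ((Nat.coprime_primes hr hs).2 hrs)] at h3
    have h4 := dvd_of_root_pow_eq_one f 1 h3
    rw [pow_one] at h4
    exact hf.not_isUnit (hW₁c.isUnit_of_dvd' hfW₁ h4)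
  have hmul := hcop.mul_dvd hW₁μ hW₂μ
  have h1 := (Polynomial.natDegree_le_of_dvd hmul hμ0).trans hμdeg
  rw [Polynomial.natDegree_mul hW₁0 hW₂0] at h1
  omega

/-- a symplectic matrix of order `r p` forces `η(k) + 1 ≤ n` -/
theorem analysis_p (p : ℕ) [hp : Fact p.Prime] [CharP F p] (n : ℕ) (hn : 1 ≤ n) (r : ℕ)
    (hr : r.Prime) (hr2 : r ≠ 2) (hrp : r ≠ p) (k ηk : ℕ)
    (hk : k = orderOf ((Fintype.card F : ℕ) : ZMod r))
    (hηk : (Odd k ∧ ηk = k) ∨ (Even k ∧ 2 * ηk = k)) (hη0 : 0 < ηk)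
    (A : Matrix ι ι F) (hRC : RevClosed A)
    (hdeg : (minpoly F A).natDegree ≤ 2 * n + 1)
    (hA : ∀ j : ℕ, A ^ j = 1 ↔ r * p ∣ j) : ηk + 1 ≤ n := by
  classical
  have hpp : p.Prime := hp.out
  have : Fact r.Prime := ⟨hr⟩
  have hrF : ((r : ℕ) : F) ≠ 0 := by
    rw [Ne, CharP.cast_eq_zero_iff F p]
    intro h
    exact hrp ((Nat.prime_dvd_prime_iff_eq hpp hr).1 h).symm
  have hArp : A ^ (r * p) = 1 := (hA (r * p)).2 (dvd_refl _)
  have hrp0 : 0 < r * p := Nat.mul_pos hr.pos hpp.pos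
  obtain ⟨g, hg⟩ : ∃ g : F[X], g = X ^ r - 1 := ⟨_, rfl⟩
  have hgp : g ^ p = X ^ (r * p) - 1 := by
    rw [hg, sub_pow_char, ← pow_mul, one_pow]
  have hsep : g.Separable := by
    have := separable_X_pow_sub_C (1 : F) hrF one_ne_zero
    rwa [map_one, ← hg] at this
  have hgsq : Squarefree g := hsep.squarefree
  obtain ⟨μ, hμ⟩ : ∃ μ : F[X], μ = minpoly F A := ⟨_, rfl⟩
  have hμmonic : μ.Monic := by rw [hμ]; exact minpoly.monic (Matrix.isIntegral A)
  have hμ0 : μ ≠ 0 := hμmonic.ne_zero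
  have hμA : aeval A μ = 0 := by rw [hμ]; exact minpoly.aeval F A
  have hμdeg : μ.natDegree ≤ 2 * n + 1 := by rw [hμ]; exact hdeg
  have hμg : μ ∣ g ^ p := by
    rw [hμ]
    apply minpoly.dvd
    rw [hgp, map_sub, map_pow, aeval_X, map_one, hArp, sub_self]
  have hμng : ¬ μ ∣ g := by
    intro h
    have h1 := Polynomial.aeval_eq_zero_of_dvd_aeval_eq_zero h hμA
    rw [hg, map_sub, map_pow, aeval_X, map_one, sub_eq_zero] at h1
    have h3 : r * p ∣ r * 1 := by rw [mul_one]; exact (hA r).1 h1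
    exact hpp.one_lt.ne' (Nat.dvd_one.1 (Nat.dvd_of_mul_dvd_mul_left hr.pos h3))
  have hμns : ¬ Squarefree μ := fun hsq => hμng ((hsq.dvd_pow_iff_dvd hpp.ne_zero).1 hμg)
  obtain ⟨f, hf, hff⟩ := exists_sq_factor μ hμ0 hμns
  have hfμ : f ∣ μ := dvd_of_mul_left_dvd hff
  have hfg : f ∣ g := hf.prime.dvd_of_dvd_pow (hfμ.trans hμg)
  have hnlin : ¬ μ ∣ (X - 1) ^ p := by
    intro h
    have h1 := Polynomial.aeval_eq_zero_of_dvd_aeval_eq_zero h hμA
    rw [sub_pow_char, one_pow, map_sub, map_pow, aeval_X, map_one, sub_eq_zero] at h1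
    have h3 : r * p ∣ 1 * p := by rw [one_mul]; exact (hA p).1 h1
    exact hr.one_lt.ne' (Nat.dvd_one.1 (Nat.dvd_of_mul_dvd_mul_right hpp.pos h3))
  have hX1 : (X - 1 : F[X]) = X - C 1 := by rw [map_one]
  have hX10 : (X - 1 : F[X]) ≠ 0 := by rw [hX1]; exact X_sub_C_ne_zero 1
  have hX1deg : (X - 1 : F[X]).natDegree = 1 := by rw [hX1]; exact natDegree_X_sub_C 1
  have hirrX : Irreducible (X - 1 : F[X]) := by rw [hX1]; exact irreducible_X_sub_C 1
  by_cases hf1 : f ∣ X - 1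
  · -- the repeated factor is `X - 1`
    have hXf : X - 1 ∣ f := by
      have := (linear_of_dvd f hf 1 (by rwa [← hX1])).2
      rwa [← hX1] at this
    have hXX : (X - 1) * (X - 1) ∣ μ := (mul_dvd_mul hXf hXf).trans hff
    obtain ⟨g₁, hg₁⟩ := hXf.trans hfg
    have hcop1 : IsCoprime (X - 1 : F[X]) g₁ := by
      rw [hirrX.coprime_iff_not_dvd]
      intro h
      have h1 : (X - 1) * (X - 1) ∣ g := by rw [hg₁]; exact mul_dvd_mul_left _ h
      exact hirrX.not_isUnit (hgsq _ h1)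
    have hncop : ¬ IsCoprime μ g₁ := by
      intro h
      apply hnlin
      have h1 : μ ∣ (X - 1) ^ p * g₁ ^ p := by rw [← mul_pow, ← hg₁]; exact hμg
      exact (h.pow_right).dvd_of_dvd_mul_right h1
    obtain ⟨f', hf', hf'μ, hf'g₁⟩ := exists_common_irr μ g₁ hμ0 hncop
    have hf'g : f' ∣ X ^ r - 1 := by rw [← hg, hg₁]; exact dvd_mul_of_dvd_right hf'g₁ _
    have hf'1 : ¬ f' ∣ X - 1 := by
      intro h
      have h1 : X - 1 ∣ f' := by
        have := (linear_of_dvd f' hf' 1 (by rwa [← hX1])).2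
        rwa [← hX1] at this
      exact hirrX.not_isUnit (hcop1.isUnit_of_dvd' (dvd_refl _) (h1.trans hf'g₁))
    obtain ⟨W, hWμ, -, hWcop, hWdeg, -⟩ := exists_weight' A hRC r hr hr2 k ηk hk hηk f' hf' (by rw [← hμ]; exact hf'μ)
      hf'g hf'1
    rw [← hμ] at hWμ
    have hW0 : W ≠ 0 := ne_zero_of_dvd_ne_zero hμ0 hWμ
    have hmul : (X - 1) * (X - 1) * W ∣ μ :=
      ((hWcop.symm.mul_left hWcop.symm)).mul_dvd hXX hWμ
    have h1 := Polynomial.natDegree_le_of_dvd hmul hμ0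
    rw [Polynomial.natDegree_mul (mul_ne_zero hX10 hX10) hW0,
      Polynomial.natDegree_mul hX10 hX10, hX1deg] at h1
    omega
  · obtain ⟨W, -, -, -, hWdeg, hWW⟩ := exists_weight' A hRC r hr hr2 k ηk hk hηk f hf (by rw [← hμ]; exact hfμ)
      (by rw [← hg]; exact hfg) hf1
    have hWW' : W * W ∣ μ := by rw [hμ]; exact hWW (by rw [← hμ]; exact hff)
    have hW0 : W ≠ 0 := ne_zero_of_dvd_ne_zero hμ0 (dvd_of_mul_left_dvd hWW')
    have h1 := Polynomial.natDegree_le_of_dvd hWW' hμ0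
    rw [Polynomial.natDegree_mul hW0 hW0] at h1
    omega

end finite

end Cfsg.Agent.Lib.helper64.RsW
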