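import Mathlib
import Cfsg.Agent.Lib.helper64.RsW
import Cfsg.Agent.S2469
import Cfsg.Agent.S2472

set_option autoImplicit false
set_option linter.unusedSectionVars false

/-!
# Products of two primes in the spectrum of `PSp_{2n}(q)`, `q` odd (helper64)

Arithmetic criteria for `r s ∈ ω(PSp_{2n}(q))`, `r ≠ s` primes:
* `psp_rs_iff`: both odd and prime to `q`;
* `psp_rp_iff`: one of them the characteristic;
* `psp_two_r_iff`: `2 r` with `r` odd prime to `q`;
* `psp_two_p`: `2 p`.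
-/

namespace Cfsg.Agent.Lib.helper64.RsSp

open Polynomial Matrix Cfsg Cfsg.Agent.Lib.helper64.SpBasic Cfsg.Agent.Lib.helper64.SpPG
  Cfsg.Agent.Lib.helper64.SpPGMain Cfsg.Agent.Lib.helper64.SpPGTorus
  Cfsg.Agent.Lib.helper64.PGBasic Cfsg.Agent.Lib.helper64.PGBlocks Cfsg.Agent.Lib.helper64.RsW
  Cfsg.Agent.Lib.helper64.PSLAttach Cfsg.Agent.Lib.helper64.UIso

/-! ### generalities -/

theorem four_dvd_orderOf {G : Type*} [Monoid G] (x : G) (r : ℕ) (h1 : x ^ (4 * r) = 1)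
    (h2 : x ^ (2 * r) ≠ 1) : 4 ∣ orderOf x := by
  have ho : orderOf x ∣ 4 * r := orderOf_dvd_of_pow_eq_one h1
  have hno : ¬ orderOf x ∣ 2 * r := fun h => h2 (orderOf_dvd_iff_pow_eq_one.1 h)
  obtain ⟨a, b, ha, hb, hab⟩ := (Nat.dvd_mul).1 ho
  have ha4 : a ≤ 4 := Nat.le_of_dvd (by norm_num) ha
  have h4 : a = 4 := by
    by_contra hne
    apply hno
    rw [← hab]
    have ha2 : a ∣ 2 := by
      interval_cases a
      · simp at ha
      · exact one_dvd 2
      · exact dvd_refl 2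
      · norm_num at ha
      · exact absurd rfl hne
    exact Nat.mul_dvd_mul ha2 hb
  rw [← hab, h4]
  exact dvd_mul_right 4 b

theorem four_dvd_add_one_of_pow (Q c : ℕ) (hQ : Odd Q) (h : 4 ∣ Q ^ c + 1) : 4 ∣ Q + 1 := by
  have h1 : Q % 4 = 1 ∨ Q % 4 = 3 := by
    obtain ⟨a, rfl⟩ := hQ
    omega
  rcases h1 with h1 | h1
  · exfalso
    have h3 : Q ^ c % 4 = 1 := by
      rw [Nat.pow_mod, h1, Nat.one_pow]
    omega
  · omega

section poly

variable {F : Type*} [Field F]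

theorem dvd_of_root_pow_eq_neg_one (f : F[X]) (N : ℕ) (h : (AdjoinRoot.root f) ^ N = -1) :
    f ∣ X ^ N + 1 := by
  apply AdjoinRoot.mk_eq_zero.1
  rw [map_add, map_pow, AdjoinRoot.mk_X, map_one, h, neg_add_cancel]

theorem reverse_X_pow_add_one (N : ℕ) : (X ^ N + 1 : F[X]).reverse = 1 + X ^ N := by
  have h1 : (X ^ N + 1 : F[X]).natDegree = N := by
    have := natDegree_X_pow_add_C (R := F) (n := N) (r := 1)
    rwa [map_one] at this
  rw [Polynomial.reverse, h1, reflect_add, reflect_monomial, reflect_one, revAt_le (le_refl N),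
    Nat.sub_self, pow_zero]

theorem reverse_dvd_of_dvd_add (f : F[X]) (N : ℕ) (h : f ∣ X ^ N + 1) :
    f.reverse ∣ X ^ N + 1 := by
  obtain ⟨g, hg⟩ := h
  have h1 := congrArg Polynomial.reverse hg
  rw [reverse_X_pow_add_one, Polynomial.reverse_mul_of_domain] at h1
  refine ⟨g.reverse, ?_⟩
  rw [← h1]
  ring

end poly

variable {F : Type*} [Field F] [Fintype F]

theorem two_ne (p : ℕ) [Fact p.Prime] [CharP F p] (hp2 : p ≠ 2) : (2 : F) ≠ 0 := by
  have hp : p.Prime := Fact.out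
  intro h
  have h1 : ((2 : ℕ) : F) = 0 := by exact_mod_cast h
  rw [CharP.cast_eq_zero_iff F p] at h1
  exact hp2 ((Nat.prime_dvd_prime_iff_eq hp Nat.prime_two).1 h1)

theorem cast_ne (p : ℕ) [Fact p.Prime] [CharP F p] (r : ℕ) (hr : r.Prime) (hrp : r ≠ p) :
    ((r : ℕ) : F) ≠ 0 := by
  have hp : p.Prime := Fact.out
  rw [Ne, CharP.cast_eq_zero_iff F p]
  intro h
  exact hrp ((Nat.prime_dvd_prime_iff_eq hp hr).1 h).symm

theorem odd_card (p : ℕ) [Fact p.Prime] [CharP F p] (hp2 : p ≠ 2) : Odd (Fintype.card F) := by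
  have hp : p.Prime := Fact.out
  obtain ⟨a, -, ha⟩ := FiniteField.card F p
  rw [ha]
  exact (hp.odd_of_ne_two hp2).pow

theorem root_pow_card_sub_one (f : F[X]) (hf : Irreducible f) (h0 : AdjoinRoot.root f ≠ 0) :
    (AdjoinRoot.root f) ^ (Fintype.card F ^ f.natDegree - 1) = 1 := by
  have : Fact (Irreducible f) := ⟨hf⟩
  have hf0 : f ≠ 0 := hf.ne_zero
  have : Finite (AdjoinRoot f) := finite_adjoinRoot f hf0
  have : Fintype (AdjoinRoot f) := Fintype.ofFinite _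
  have hcard : Fintype.card (AdjoinRoot f) = Fintype.card F ^ f.natDegree := by
    rw [← Nat.card_eq_fintype_card, card_adjoinRoot f hf0]
  rw [← hcard]
  exact FiniteField.pow_card_sub_one_eq_one _ h0

theorem revClosed_sp (n : ℕ) (A : Matrix (Fin n ⊕ Fin n) (Fin n ⊕ Fin n) F)
    (hAJ : Aᵀ * J (Fin n) F * A = J (Fin n) F) (M : ℕ) (hM : 0 < M) (hAM : A ^ M = 1) :
    RevClosed A :=
  fun f hf => reverse_dvd_minpoly (J (Fin n) F) (-J (Fin n) F) (skewInv_J n) A hAJ M hM hAM f hf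

theorem sp_pow (n : ℕ) (A : Matrix (Fin n ⊕ Fin n) (Fin n ⊕ Fin n) F)
    (hAJ : Aᵀ * J (Fin n) F * A = J (Fin n) F) (j : ℕ) :
    (A ^ j)ᵀ * J (Fin n) F * A ^ j = J (Fin n) F := by
  induction j with
  | zero => simp
  | succ j ih =>
    rw [pow_succ, Matrix.transpose_mul]
    calc Aᵀ * (A ^ j)ᵀ * J (Fin n) F * (A ^ j * A)
        = Aᵀ * ((A ^ j)ᵀ * J (Fin n) F * A ^ j) * A := by simp only [Matrix.mul_assoc]
      _ = J (Fin n) F := by rw [ih, hAJ]

theorem deg_sp (n : ℕ) (hn : 1 ≤ n) (A : Matrix (Fin n ⊕ Fin n) (Fin n ⊕ Fin n) F) :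
    (minpoly F A).natDegree ≤ 2 * n + 1 := by
  have : Nonempty (Fin n ⊕ Fin n) := ⟨Sum.inl ⟨0, by omega⟩⟩
  have := natDegree_minpoly_le_card A
  rw [Fintype.card_sum, Fintype.card_fin] at this
  omega

/-! ### two odd primes different from the characteristic -/

theorem psp_rs_iff (p : ℕ) [hp : Fact p.Prime] [CharP F p] (n : ℕ) (hn : 1 ≤ n) (r s : ℕ)
    (hr : r.Prime) (hs : s.Prime) (hr2 : r ≠ 2) (hs2 : s ≠ 2) (hrp : r ≠ p) (hsp : s ≠ p)
    (hrs : r ≠ s) (k l ηk ηl : ℕ) (hk : k = orderOf ((Fintype.card F : ℕ) : ZMod r))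
    (hl : l = orderOf ((Fintype.card F : ℕ) : ZMod s))
    (hηk : (Odd k ∧ ηk = k) ∨ (Even k ∧ 2 * ηk = k))
    (hηl : (Odd l ∧ ηl = l) ∨ (Even l ∧ 2 * ηl = l)) (hkl : ηk ≤ ηl) :
    r * s ∈ Set.range (orderOf : Cfsg.PSp n F → ℕ) ↔
      (ηk + ηl ≤ n ∨ (ηl ≤ n ∧ ∃ t : ℕ, Odd t ∧ l = k * t)) := by
  classical
  have hpp : p.Prime := hp.out
  have hk0 : 0 < k := by rw [hk]; exact ord_pos p r hr hrp
  have hl0 : 0 < l := by rw [hl]; exact ord_pos p s hs hsp
  have hηk0 : 0 < ηk := by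
    rcases hηk with ⟨-, h⟩ | ⟨-, h⟩ <;> omega
  have hηl0 : 0 < ηl := by omega
  have hrodd := hr.odd_of_ne_two hr2
  have hsodd := hs.odd_of_ne_two hs2
  have hcop : Nat.Coprime r s := (Nat.coprime_primes hr hs).2 hrs
  constructor
  · rintro ⟨x, hx⟩
    obtain ⟨A, hAJ, hA⟩ := exists_pure_sp n hn x (Or.inl (by rw [hx]; exact hrodd.mul hsodd))
    rw [hx] at hA
    have hArs : A ^ (r * s) = 1 := (hA _).2 (dvd_refl _)
    have hRC := revClosed_sp n A hAJ (r * s) (Nat.mul_pos hr.pos hs.pos) hArs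
    rcases analysis_rs p n hn r s hr hs hr2 hs2 hrp hsp hrs k l ηk ηl hk hl hηk hηl hkl hk0 hl0
      A hRC (deg_sp n hn A) hA with h | h
    · exact Or.inl h
    · right
      refine ⟨?_, h⟩
      have h1 : (A ^ r) ^ s = 1 := by rw [← pow_mul]; exact hArs
      have h2 : A ^ r ≠ 1 := by
        intro h0
        have h3 : r * s ∣ r * 1 := by rw [mul_one]; exact (hA r).1 h0
        exact hs.one_lt.ne' (Nat.dvd_one.1 (Nat.dvd_of_mul_dvd_mul_left hr.pos h3))
      obtain ⟨W, -, -, -, -, hle⟩ := eta_le' (A ^ r)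
        (revClosed_sp n (A ^ r) (sp_pow n A hAJ r) s hs.pos h1) n (deg_sp n hn _) s hs hs2
        (cast_ne p s hs hsp) h1 h2 l ηl hl hηl
      exact hle
  · rintro (hsum | ⟨hηln, t, ht, hlt⟩)
    · obtain ⟨ι₁, _, _, Ω₁, Ω₁', h₁, hcard₁, hD₁, hmin₁⟩ := exists_sp_block (F := F) p ηk hηk0 r
        hr.pos hrodd (dvd_pm r hr k ηk hk hηk)
      obtain ⟨ι₂, _, _, Ω₂, Ω₂', h₂, hcard₂, hD₂, hmin₂⟩ := exists_sp_block (F := F) p ηl hηl0 s
        hs.pos hsodd (dvd_pm s hs l ηl hl hηl)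
      refine Cfsg.Agent.S2469.mem_range_of_block n (by omega) (ηk + ηl) ?_ hsum (hD₁.sum hD₂)
        (r * s) ?_
      · simp only [Fintype.card_sum, hcard₁, hcard₂]
        omega
      · intro j hj
        obtain ⟨h1, h2⟩ := sum_pow_pm _ _ j hj
        exact Nat.Coprime.mul_dvd_of_dvd_of_dvd hcop (hmin₁ j h1) (hmin₂ j h2)
    · obtain ⟨ι, _, _, Ω, Ω', h, hcard, hD, hmin⟩ := exists_sp_block (F := F) p ηl hηl0 (r * s)
        (Nat.mul_pos hr.pos hs.pos) (hrodd.mul hsodd)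
        (Cfsg.Agent.S2469.dvd_pm_prod r s hr hs hrs k l ηk ηl hk hl hηk hηl hk0 hl0 t ht hlt)
      exact Cfsg.Agent.S2469.mem_range_of_block n (by omega) ηl hcard hηln hD (r * s) hmin

/-! ### an odd prime and the characteristic -/

theorem psp_rp_iff (p : ℕ) [hp : Fact p.Prime] [CharP F p] (hp2 : p ≠ 2) (n : ℕ) (hn : 1 ≤ n)
    (r : ℕ) (hr : r.Prime) (hr2 : r ≠ 2) (hrp : r ≠ p) (k ηk : ℕ)
    (hk : k = orderOf ((Fintype.card F : ℕ) : ZMod r))
    (hηk : (Odd k ∧ ηk = k) ∨ (Even k ∧ 2 * ηk = k)) :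
    r * p ∈ Set.range (orderOf : Cfsg.PSp n F → ℕ) ↔ ηk + 1 ≤ n := by
  classical
  have hpp : p.Prime := hp.out
  have hk0 : 0 < k := by rw [hk]; exact ord_pos p r hr hrp
  have hη0 : 0 < ηk := by
    rcases hηk with ⟨-, h⟩ | ⟨-, h⟩ <;> omega
  constructor
  · rintro ⟨x, hx⟩
    obtain ⟨A, hAJ, hA⟩ := exists_pure_sp n hn x
      (Or.inl (by rw [hx]; exact (hr.odd_of_ne_two hr2).mul (hpp.odd_of_ne_two hp2)))
    rw [hx] at hA
    exact Cfsg.Agent.S2472.analysis p n hn r hr hr2 hrp k ηk hk hηk hη0 A hAJ hA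
  · intro h
    exact Cfsg.Agent.S2472.exists_elem p n r hr hr2 hrp k ηk hk hηk hη0 h

/-! ### blocks of exact order -/

/-- a symplectic datum of dimension `2 η` with an isometry of exact order `m` -/
theorem exists_sp_block2 (p : ℕ) [Fact p.Prime] [CharP F p] (η : ℕ) (hη0 : 0 < η) (m : ℕ)
    (hm0 : 0 < m) (hm : m ∣ Fintype.card F ^ η - 1 ∨ m ∣ Fintype.card F ^ η + 1) :
    ∃ (ι : Type) (_ : Fintype ι) (_ : DecidableEq ι) (Ω Ω' h : Matrix ι ι F),
      Fintype.card ι = η + η ∧ IsSpDatum Ω Ω' h ∧ h ^ m = 1 ∧ ∀ j : ℕ, h ^ j = 1 → m ∣ j := by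
  classical
  rcases hm with hm | hm
  · obtain ⟨A, hAm, hAmin⟩ := exists_block (F := F) p η hη0 m hm
    have hA' : A ^ (m - 1) * A = 1 := by rw [← pow_succ, Nat.sub_add_cancel hm0, hAm]
    refine ⟨Fin η ⊕ Fin η, inferInstance, inferInstance, J (Fin η) F, -J (Fin η) F,
      Matrix.fromBlocks A 0 0 (A ^ (m - 1))ᵀ, by simp [Fintype.card_sum],
      isSpDatum_gl A (A ^ (m - 1)) hA', ?_, ?_⟩
    · rw [Matrix.fromBlocks_diagonal_pow, hAm, ← Matrix.transpose_pow, ← pow_mul, mul_comm,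
        pow_mul, hAm, one_pow, Matrix.transpose_one, Matrix.fromBlocks_one]
    · intro j hj
      rw [Matrix.fromBlocks_diagonal_pow, ← Matrix.fromBlocks_one, Matrix.fromBlocks_inj] at hj
      exact hAmin j hj.1
  · obtain ⟨Ω, Ω', T, hD, hTm, hTmin⟩ := exists_torus (F := F) p η hη0 m hm
    exact ⟨Fin (η + η), inferInstance, inferInstance, Ω, Ω', T, by simp, hD, hTm, hTmin⟩

theorem isSpDatum_neg_one (t : ℕ) :
    IsSpDatum (J (Fin t) F) (-J (Fin t) F) (-1 : Matrix (Fin t ⊕ Fin t) (Fin t ⊕ Fin t) F) := by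
  refine ⟨skewInv_J t, bf_J t, ?_⟩
  rw [Matrix.transpose_neg, Matrix.transpose_one]
  simp

/-- `-1` on a hyperbolic plane plus a datum whose `± 1` powers are trivial -/
theorem mem_range_two_mul (h2 : (2 : F) ≠ 0) (n : ℕ) {ι : Type*} [Fintype ι] [DecidableEq ι]
    [Nonempty ι] (η : ℕ) (hcard : Fintype.card ι = η + η) (hηn : η + 1 ≤ n)
    {Ω Ω' h : Matrix ι ι F} (D : IsSpDatum Ω Ω' h) (m : ℕ) (hmodd : Odd m)
    (hm : ∀ j : ℕ, (h ^ j = 1 ∨ h ^ j = -1) → m ∣ j ∧ h ^ j = 1) :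
    2 * m ∈ Set.range (orderOf : Cfsg.PSp n F → ℕ) := by
  classical
  have D' := (isSpDatum_neg_one (F := F) 1).sum D
  refine Cfsg.Agent.S2469.mem_range_of_block n (by omega) (1 + η) ?_ (by omega) D' (2 * m) ?_
  · simp only [Fintype.card_sum, Fintype.card_fin, hcard]
    omega
  · intro j hj
    have hj' := hj
    obtain ⟨-, h3⟩ := sum_pow_pm _ _ j hj
    obtain ⟨hmj, hj1⟩ := hm j h3
    rw [Matrix.fromBlocks_diagonal_pow, hj1] at hj'
    have hne : (1 : Matrix ι ι F) ≠ -1 := by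
      intro h0
      obtain ⟨i⟩ := ‹Nonempty ι›
      have h5 := congrFun (congrFun h0 i) i
      simp only [Matrix.one_apply_eq, Matrix.neg_apply] at h5
      apply h2
      linear_combination h5
    have e1 : (1 : Matrix ((Fin 1 ⊕ Fin 1) ⊕ ι) ((Fin 1 ⊕ Fin 1) ⊕ ι) F) =
        Matrix.fromBlocks 1 0 0 1 := Matrix.fromBlocks_one.symm
    have e2 : (-1 : Matrix ((Fin 1 ⊕ Fin 1) ⊕ ι) ((Fin 1 ⊕ Fin 1) ⊕ ι) F) =
        Matrix.fromBlocks (-1) 0 0 (-1) := neg_one_eq_fromBlocks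
    have h4 : ((-1 : Matrix (Fin 1 ⊕ Fin 1) (Fin 1 ⊕ Fin 1) F)) ^ j = 1 := by
      rcases hj' with hj' | hj'
      · rw [e1, Matrix.fromBlocks_inj] at hj'
        exact hj'.1
      · rw [e2, Matrix.fromBlocks_inj] at hj'
        exact absurd hj'.2.2.2 hne
    have hjeven : Even j := by
      by_contra hodd
      rw [Nat.not_even_iff_odd] at hodd
      rw [hodd.neg_one_pow] at h4
      have h5 := congrFun (congrFun h4 (Sum.inl 0)) (Sum.inl 0)
      simp only [Matrix.one_apply_eq, Matrix.neg_apply] at h5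
      apply h2
      linear_combination -h5
    exact Nat.Coprime.mul_dvd_of_dvd_of_dvd (Nat.coprime_two_left.2 hmodd) hjeven.two_dvd hmj

/-! ### `2 p` -/

theorem psp_two_p (p : ℕ) [hp : Fact p.Prime] [CharP F p] (hp2 : p ≠ 2) (n : ℕ) (hn : 2 ≤ n) :
    2 * p ∈ Set.range (orderOf : Cfsg.PSp n F → ℕ) := by
  classical
  have h2 : (2 : F) ≠ 0 := two_ne p hp2
  obtain ⟨t, ht⟩ : ∃ t : ℕ, n = (t + 1) + 1 := ⟨n - 2, by omega⟩
  obtain ⟨N, hN⟩ : ∃ N : Matrix (Fin (t + 1)) (Fin (t + 1)) F, N = Matrix.single 0 0 1 :=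
    ⟨_, rfl⟩
  have hNt : Nᵀ = N := by rw [hN, Matrix.transpose_single]
  have hN0 : N ≠ 0 := by
    intro h0
    have h1 := congrFun (congrFun h0 0) 0
    rw [hN] at h1
    simp at h1
  have D := isSpDatum_J (F := F) (t + 1) N hNt
  refine mem_range_two_mul h2 n (t + 1) (by simp) (by omega) D p (hp.out.odd_of_ne_two hp2) ?_
  intro j hj
  have h3 := unip_pm (t + 1) N hN0 j hj
  refine ⟨(CharP.cast_eq_zero_iff F p j).1 h3, ?_⟩
  rw [unip_pow, h3, zero_smul, Matrix.fromBlocks_one]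

/-! ### `2 r`: existence -/

theorem psp_two_r_exists (p : ℕ) [hp : Fact p.Prime] [CharP F p] (hp2 : p ≠ 2) (n : ℕ)
    (hn : 1 ≤ n) (r : ℕ) (hr : r.Prime) (hr2 : r ≠ 2) (hrp : r ≠ p) (k ηk : ℕ)
    (hk : k = orderOf ((Fintype.card F : ℕ) : ZMod r))
    (hηk : (Odd k ∧ ηk = k) ∨ (Even k ∧ 2 * ηk = k))
    (hC : ηk + 1 ≤ n ∨ (ηk = n ∧ Odd k ∧ 4 ∣ Fintype.card F ^ n - 1) ∨
      (ηk = n ∧ Even k ∧ 4 ∣ Fintype.card F ^ n + 1)) :
    2 * r ∈ Set.range (orderOf : Cfsg.PSp n F → ℕ) := by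
  classical
  have hpp : p.Prime := hp.out
  have h2 : (2 : F) ≠ 0 := two_ne p hp2
  have hrodd := hr.odd_of_ne_two hr2
  have hk0 : 0 < k := by rw [hk]; exact ord_pos p r hr hrp
  have hη0 : 0 < ηk := by
    rcases hηk with ⟨-, h⟩ | ⟨-, h⟩ <;> omega
  have hq1 : 1 ≤ Fintype.card F := Fintype.card_pos
  have hcop4 : Nat.Coprime 4 r := by
    have : Nat.Coprime (2 ^ 2) r := Nat.Coprime.pow_left 2 (Nat.coprime_two_left.2 hrodd)
    exact this
  have h4r0 : 0 < 4 * r := by have := hr.pos; omega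
  -- a block of order `4 r` gives `2 r`
  have big : ∀ (ι : Type) (_ : Fintype ι) (_ : DecidableEq ι) (Ω Ω' h : Matrix ι ι F),
      Fintype.card ι = n + n → IsSpDatum Ω Ω' h → (∀ j : ℕ, h ^ j = 1 → 4 * r ∣ j) →
      2 * r ∈ Set.range (orderOf : Cfsg.PSp n F → ℕ) := by
    intro ι _ _ Ω Ω' h hcard hD hmin
    refine Cfsg.Agent.S2469.mem_range_of_block n hn n hcard le_rfl hD (2 * r) ?_
    intro j hj
    have h1 : h ^ (j * 2) = 1 := by
      rw [pow_mul]
      rcases hj with hj | hj <;> rw [hj] <;> simp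
    have h3 := hmin _ h1
    have h4 : 2 * (2 * r) ∣ 2 * j := by
      have : 2 * (2 * r) = 4 * r := by ring
      rw [this, mul_comm 2 j]
      exact h3
    exact Nat.dvd_of_mul_dvd_mul_left (by norm_num) h4
  rcases hC with hlt | ⟨hηn, hkodd, h4⟩ | ⟨hηn, hkeven, h4⟩
  · obtain ⟨ι, _, _, Ω, Ω', h, hcard, hD, hhr, hmin⟩ := exists_sp_block2 (F := F) p ηk hη0 r
      hr.pos (dvd_pm r hr k ηk hk hηk)
    have : Nonempty ι := Fintype.card_pos_iff.1 (by omega)
    refine mem_range_two_mul h2 n ηk hcard hlt hD r hrodd ?_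
    intro j hj
    have h1 : h ^ (j * 2) = 1 := by
      rw [pow_mul]
      rcases hj with hj | hj <;> rw [hj] <;> simp
    have h3 : r ∣ j := (Nat.Coprime.dvd_of_dvd_mul_right (Nat.coprime_two_right.2 hrodd)
      (hmin _ h1))
    refine ⟨h3, ?_⟩
    obtain ⟨c, rfl⟩ := h3
    rw [pow_mul, hhr, one_pow]
  · have hkn : k = n := by
      rcases hηk with ⟨-, h⟩ | ⟨he, -⟩
      · omega
      · exact absurd he (Nat.not_even_iff_odd.2 hkodd)
    have hr1 : r ∣ Fintype.card F ^ n - 1 := dvd_of_ord_dvd hq1 (by rw [← hk, hkn])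
    obtain ⟨ι, _, _, Ω, Ω', h, hcard, hD, -, hmin⟩ := exists_sp_block2 (F := F) p n (by omega)
      (4 * r) h4r0 (Or.inl (hcop4.mul_dvd_of_dvd_of_dvd h4 hr1))
    exact big ι _ _ Ω Ω' h hcard hD hmin
  · have hkn : 2 * ηk = k := by
      rcases hηk with ⟨ho, -⟩ | ⟨-, h⟩
      · exact absurd hkeven (Nat.not_even_iff_odd.2 ho)
      · exact h
    have hr1 : r ∣ Fintype.card F ^ n + 1 := by
      rcases dvd_pm r hr k ηk hk hηk with h | h
      · exfalso
        have h3 := ord_dvd_of_dvd hq1 h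
        rw [← hk] at h3
        have := Nat.le_of_dvd (by omega) h3
        omega
      · rw [← hηn]
        exact h
    obtain ⟨ι, _, _, Ω, Ω', h, hcard, hD, -, hmin⟩ := exists_sp_block2 (F := F) p n (by omega)
      (4 * r) h4r0 (Or.inr (hcop4.mul_dvd_of_dvd_of_dvd h4 hr1))
    exact big ι _ _ Ω Ω' h hcard hD hmin

/-! ### `2 r`: necessity -/

theorem psp_two_r_nec (p : ℕ) [hp : Fact p.Prime] [CharP F p] (hp2 : p ≠ 2) (n : ℕ)
    (hn : 1 ≤ n) (r : ℕ) (hr : r.Prime) (hr2 : r ≠ 2) (hrp : r ≠ p) (k ηk : ℕ)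
    (hk : k = orderOf ((Fintype.card F : ℕ) : ZMod r))
    (hηk : (Odd k ∧ ηk = k) ∨ (Even k ∧ 2 * ηk = k))
    (A : Matrix (Fin n ⊕ Fin n) (Fin n ⊕ Fin n) F) (hAJ : Aᵀ * J (Fin n) F * A = J (Fin n) F)
    (hA : ∀ j : ℕ, (A ^ j = 1 ∨ A ^ j = -1) ↔ 2 * r ∣ j) :
    ηk + 1 ≤ n ∨ (ηk = n ∧ Odd k ∧ 4 ∣ Fintype.card F ^ n - 1) ∨
      (ηk = n ∧ Even k ∧ 4 ∣ Fintype.card F ^ n + 1) := by
  classical
  have hpp : p.Prime := hp.out
  have : Fact r.Prime := ⟨hr⟩
  have : Nonempty (Fin n ⊕ Fin n) := ⟨Sum.inl ⟨0, by omega⟩⟩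
  have h2 : (2 : F) ≠ 0 := two_ne p hp2
  have hrodd := hr.odd_of_ne_two hr2
  have hrF : ((r : ℕ) : F) ≠ 0 := cast_ne p r hr hrp
  have hqodd : Odd (Fintype.card F) := odd_card p hp2
  have hA2r : A ^ (2 * r) = 1 ∨ A ^ (2 * r) = -1 := (hA _).2 (dvd_refl _)
  have hA4r : A ^ (4 * r) = 1 := by
    have h1 : 4 * r = (2 * r) * 2 := by ring
    rw [h1, pow_mul]
    rcases hA2r with h | h <;> rw [h] <;> simp
  have h4r0 : 0 < 4 * r := by have := hr.pos; omega
  have hRCA : RevClosed A := revClosed_sp n A hAJ (4 * r) h4r0 hA4r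
  have hμ0 : minpoly F A ≠ 0 := (minpoly.monic (Matrix.isIntegral A)).ne_zero
  have hμdeg : (minpoly F A).natDegree ≤ n + n := by
    have := natDegree_minpoly_le_card A
    rwa [Fintype.card_sum, Fintype.card_fin] at this
  have hμ4r : minpoly F A ∣ X ^ (4 * r) - 1 := minpoly.dvd F A (by simp [hA4r])
  -- the element `B = ± A ^ 2` of order `r`
  obtain ⟨δ, hδ, hBr⟩ : ∃ δ : F, δ ^ 2 = 1 ∧ (δ • A ^ 2) ^ r = 1 := by
    rcases hA2r with h | h
    · exact ⟨1, one_pow 2, by rw [one_smul, ← pow_mul, h]⟩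
    · refine ⟨-1, by ring, ?_⟩
      rw [_root_.smul_pow, ← pow_mul, h, hrodd.neg_one_pow]
      simp
  obtain ⟨B, hB⟩ : ∃ B : Matrix (Fin n ⊕ Fin n) (Fin n ⊕ Fin n) F, B = δ • A ^ 2 := ⟨_, rfl⟩
  rw [← hB] at hBr
  have hδ' : δ = 1 ∨ δ = -1 := by
    have h1 : (δ - 1) * (δ + 1) = 0 := by linear_combination hδ
    rcases mul_eq_zero.1 h1 with h | h
    · left
      linear_combination h
    · right
      linear_combination h
  have hB1 : B ≠ 1 := by
    intro h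
    have h3 : A ^ 2 = 1 ∨ A ^ 2 = -1 := by
      rcases hδ' with rfl | rfl
      · left
        rw [hB, one_smul] at h
        exact h
      · right
        rw [hB, neg_smul, one_smul] at h
        rw [← h, neg_neg]
    have h4 : 2 * r ∣ 2 * 1 := (hA 2).1 h3
    exact hr.one_lt.ne' (Nat.dvd_one.1 (Nat.dvd_of_mul_dvd_mul_left (by norm_num) h4))
  have hBJ : Bᵀ * J (Fin n) F * B = J (Fin n) F := by
    rw [hB, Matrix.transpose_smul, Matrix.smul_mul, Matrix.smul_mul, Matrix.mul_smul, smul_smul,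
      ← pow_two, hδ, one_smul]
    exact sp_pow n A hAJ 2
  have hRCB : RevClosed B := revClosed_sp n B hBJ r hr.pos hBr
  obtain ⟨W, hWμ, hWr, hWc, hWd, hηn⟩ := eta_le' B hRCB n (deg_sp n hn B) r hr hr2 hrF hBr hB1
    k ηk hk hηk
  by_cases hlt : ηk + 1 ≤ n
  · exact Or.inl hlt
  right
  have hηeq : ηk = n := by omega
  have hμB0 : minpoly F B ≠ 0 := (minpoly.monic (Matrix.isIntegral B)).ne_zero
  have hμBdeg : (minpoly F B).natDegree ≤ n + n := by
    have := natDegree_minpoly_le_card B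
    rwa [Fintype.card_sum, Fintype.card_fin] at this
  have hBW : minpoly F B ∣ W :=
    (associated_of_dvd_of_natDegree_le hWμ hμB0 (by omega)).symm.dvd
  have hcomp : minpoly F A ∣ W.comp (C δ * X ^ 2) := by
    apply minpoly.dvd
    rw [Polynomial.aeval_comp]
    have h1 : aeval A (C δ * X ^ 2 : F[X]) = B := by
      rw [map_mul, aeval_C, map_pow, aeval_X, hB, Algebra.algebraMap_eq_smul_one, smul_mul_assoc,
        one_mul]
    rw [h1]
    exact Polynomial.aeval_eq_zero_of_dvd_aeval_eq_zero hBW (minpoly.aeval F B)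
  -- irreducible factors of the minimal polynomial of `A`
  have key : ∀ φ : F[X], Irreducible φ → φ ∣ minpoly F A →
      (AdjoinRoot.root φ) ^ (4 * r) = 1 ∧ (AdjoinRoot.root φ) ^ 4 ≠ 1 ∧ k ∣ φ.natDegree := by
    intro φ hφ hφμ
    have : Fact (Irreducible φ) := ⟨hφ⟩
    have h1 := root_pow_eq_one_of_dvd φ (4 * r) (hφμ.trans hμ4r)
    have h3 : (AdjoinRoot.root φ) ^ 4 ≠ 1 := by
      intro h4
      have h5 : aeval (AdjoinRoot.root φ) (W.comp (C δ * X ^ 2)) = 0 := by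
        have h6 : AdjoinRoot.mk φ (W.comp (C δ * X ^ 2)) = 0 :=
          AdjoinRoot.mk_eq_zero.2 (hφμ.trans hcomp)
        rwa [← AdjoinRoot.aeval_eq] at h6
      rw [Polynomial.aeval_comp, map_mul, aeval_C, map_pow, aeval_X] at h5
      obtain ⟨c, hc⟩ : ∃ c : AdjoinRoot φ,
          c = (algebraMap F (AdjoinRoot φ)) δ * AdjoinRoot.root φ ^ 2 := ⟨_, rfl⟩
      rw [← hc] at h5
      have hc2 : c ^ 2 = 1 := by
        rw [hc, mul_pow, ← map_pow, hδ, map_one, one_mul, ← pow_mul]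
        exact h4
      have hc' : c = 1 ∨ c = -1 := by
        have h6 : (c - 1) * (c + 1) = 0 := by linear_combination hc2
        rcases mul_eq_zero.1 h6 with h | h
        · left
          linear_combination h
        · right
          linear_combination h
      rcases hc' with hc1 | hc1
      · rw [hc1] at h5
        obtain ⟨a, b, hab⟩ := hWc
        have h6 := congrArg (aeval (1 : AdjoinRoot φ)) hab
        rw [map_add, map_mul, map_mul, h5, mul_zero, zero_add, map_sub, aeval_X, map_one,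
          sub_self, mul_zero] at h6
        exact zero_ne_one h6
      · rw [hc1] at h5
        obtain ⟨g, hg⟩ := hWr
        have h6 := congrArg (aeval (-1 : AdjoinRoot φ)) hg
        rw [map_mul, h5, zero_mul, map_sub, map_pow, aeval_X, map_one, hrodd.neg_one_pow] at h6
        have h7 : (algebraMap F (AdjoinRoot φ)) 2 = 0 := by
          rw [map_ofNat]
          linear_combination -h6
        exact h2 ((map_eq_zero _).1 h7)
    refine ⟨h1, h3, ?_⟩
    have h4 := ord_dvd_natDegree φ hφ r hr ((AdjoinRoot.root φ) ^ 4) h3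
      (by rw [← pow_mul]; exact h1)
    rwa [← hk] at h4
  have hno1 : ¬ minpoly F A ∣ X ^ r - 1 := by
    intro h6
    have h7 := Polynomial.aeval_eq_zero_of_dvd_aeval_eq_zero h6 (minpoly.aeval F A)
    rw [map_sub, map_pow, aeval_X, map_one, sub_eq_zero] at h7
    have h8 := (hA r).1 (Or.inl h7)
    have := Nat.le_of_dvd hr.pos h8
    omega
  have hno2 : ¬ minpoly F A ∣ X ^ r + 1 := by
    intro h6
    have h7 := Polynomial.aeval_eq_zero_of_dvd_aeval_eq_zero h6 (minpoly.aeval F A)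
    rw [map_add, map_pow, aeval_X, map_one] at h7
    have h8 := (hA r).1 (Or.inr (eq_neg_of_add_eq_zero_left h7))
    have := Nat.le_of_dvd hr.pos h8
    omega
  obtain ⟨φ, hφ, hφμ⟩ : ∃ φ : F[X], Irreducible φ ∧ φ ∣ minpoly F A :=
    WfDvdMonoid.exists_irreducible_factor (minpoly.not_isUnit F A) hμ0
  obtain ⟨hρ4r, hρ4, hkφ⟩ := key φ hφ hφμ
  have : Fact (Irreducible φ) := ⟨hφ⟩
  have hφ4r : φ ∣ X ^ (4 * r) - 1 := hφμ.trans hμ4r
  have hy : orderOf ((AdjoinRoot.root φ) ^ 4) = r :=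
    orderOf_eq_prime (by rw [← pow_mul]; exact hρ4r) hρ4
  have hφdeg0 := hφ.natDegree_pos
  have hφdegμ : φ.natDegree ≤ n + n := (natDegree_le_of_dvd hφμ hμ0).trans hμdeg
  have hrevdeg : φ.reverse.natDegree = φ.natDegree :=
    natDegree_reverse_of_dvd φ (4 * r) h4r0 hφ4r
  have hrev0 : φ.reverse ≠ 0 := by rw [Ne, Polynomial.reverse_eq_zero]; exact hφ.ne_zero
  have hsplit : (AdjoinRoot.root φ) ^ (2 * r) = 1 →
      (AdjoinRoot.root φ) ^ r = 1 ∨ (AdjoinRoot.root φ) ^ r = -1 := by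
    intro h
    have h1 : ((AdjoinRoot.root φ) ^ r - 1) * ((AdjoinRoot.root φ) ^ r + 1) = 0 := by
      have h3 : (AdjoinRoot.root φ) ^ (2 * r) = ((AdjoinRoot.root φ) ^ r) ^ 2 := by
        rw [← pow_mul, mul_comm]
      rw [h3] at h
      linear_combination h
    rcases mul_eq_zero.1 h1 with h3 | h3
    · left
      linear_combination h3
    · right
      linear_combination h3
  have hfrob : ∀ i : ℕ, (AdjoinRoot.root φ) ^ (Fintype.card F ^ i + 1) = 1 →
      r ∣ Fintype.card F ^ i + 1 := by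
    intro i hi
    rw [← hy]
    apply orderOf_dvd_of_pow_eq_one
    rw [← pow_mul, mul_comm, pow_mul, hi, one_pow]
  rcases hηk with ⟨hkodd, hηkk⟩ | ⟨hkeven, hηkk⟩
  · left
    refine ⟨hηeq, hkodd, ?_⟩
    have hnrev : ¬ φ ∣ φ.reverse := by
      intro hrev
      obtain ⟨i, hi⟩ := exists_frob_inv φ hφ (4 * r) h4r0 hφ4r hrev
      obtain ⟨h3, h4⟩ := ord_of_dvd_add_one hr hr2 (hfrob i hi)
      rw [← hk] at h3 h4
      exact h4 (Nat.Coprime.dvd_of_dvd_mul_left (Nat.coprime_two_right.2 hkodd) h3)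
    have hcop : IsCoprime φ φ.reverse := (hφ.coprime_iff_not_dvd).2 hnrev
    have hrevμ : φ.reverse ∣ minpoly F A := hRCA φ hφμ
    have hmul : φ * φ.reverse ∣ minpoly F A := hcop.mul_dvd hφμ hrevμ
    have hdegmul : (φ * φ.reverse).natDegree = φ.natDegree + φ.natDegree := by
      rw [Polynomial.natDegree_mul hφ.ne_zero hrev0, hrevdeg]
    have hφn : φ.natDegree = n := by
      have h1 := (natDegree_le_of_dvd hmul hμ0).trans hμdeg
      rw [hdegmul] at h1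
      have h3 := Nat.le_of_dvd hφdeg0 hkφ
      omega
    have hμassoc : minpoly F A ∣ φ * φ.reverse :=
      (associated_of_dvd_of_natDegree_le hmul hμ0 (by rw [hdegmul]; omega)).symm.dvd
    have hρ2r : (AdjoinRoot.root φ) ^ (2 * r) ≠ 1 := by
      intro h
      rcases hsplit h with h3 | h3
      · have h4 : φ ∣ X ^ r - 1 := dvd_of_root_pow_eq_one φ r h3
        have h5 : φ.reverse ∣ X ^ r - 1 := reverse_dvd_of_dvd φ r h4
        exact hno1 (hμassoc.trans (hcop.mul_dvd h4 h5))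
      · have h4 : φ ∣ X ^ r + 1 := dvd_of_root_pow_eq_neg_one φ r h3
        have h5 : φ.reverse ∣ X ^ r + 1 := reverse_dvd_of_dvd_add φ r h4
        exact hno2 (hμassoc.trans (hcop.mul_dvd h4 h5))
    have hρ0 : AdjoinRoot.root φ ≠ 0 := by
      intro h0
      rw [h0, zero_pow h4r0.ne'] at hρ4r
      exact zero_ne_one hρ4r
    have hρq := root_pow_card_sub_one φ hφ hρ0
    rw [hφn] at hρq
    exact (four_dvd_orderOf _ r hρ4r hρ2r).trans (orderOf_dvd_of_pow_eq_one hρq)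
  · right
    refine ⟨hηeq, hkeven, ?_⟩
    have hφ2n : φ.natDegree = n + n := by
      have h3 := Nat.le_of_dvd hφdeg0 hkφ
      omega
    have hμφ : minpoly F A ∣ φ :=
      (associated_of_dvd_of_natDegree_le hφμ hμ0 (by omega)).symm.dvd
    have hrev : φ ∣ φ.reverse := by
      have h1 : φ.reverse ∣ φ := (hRCA φ hφμ).trans hμφ
      exact (associated_of_dvd_of_natDegree_le h1 hφ.ne_zero (by omega)).symm.dvd
    obtain ⟨i, hi⟩ := exists_frob_inv φ hφ (4 * r) h4r0 hφ4r hrev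
    have hρ2r : (AdjoinRoot.root φ) ^ (2 * r) ≠ 1 := by
      intro h
      rcases hsplit h with h3 | h3
      · exact hno1 (hμφ.trans (dvd_of_root_pow_eq_one φ r h3))
      · exact hno2 (hμφ.trans (dvd_of_root_pow_eq_neg_one φ r h3))
    have h4i : 4 ∣ Fintype.card F ^ i + 1 :=
      (four_dvd_orderOf _ r hρ4r hρ2r).trans (orderOf_dvd_of_pow_eq_one hi)
    obtain ⟨h3, h4⟩ := ord_of_dvd_add_one hr hr2 (hfrob i hi)
    rw [← hk] at h3 h4
    have hni : n ∣ i := by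
      have h5 : 2 * n ∣ 2 * i := by
        have h6 : 2 * n = k := by omega
        rw [h6]
        exact h3
      exact Nat.dvd_of_mul_dvd_mul_left (by norm_num) h5
    obtain ⟨c, hc⟩ := hni
    rw [hc, pow_mul] at h4i
    exact four_dvd_add_one_of_pow (Fintype.card F ^ n) c hqodd.pow h4i

theorem psp_two_r_iff (p : ℕ) [hp : Fact p.Prime] [CharP F p] (hp2 : p ≠ 2) (n : ℕ)
    (hn : 1 ≤ n) (r : ℕ) (hr : r.Prime) (hr2 : r ≠ 2) (hrp : r ≠ p) (k ηk : ℕ)
    (hk : k = orderOf ((Fintype.card F : ℕ) : ZMod r))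
    (hηk : (Odd k ∧ ηk = k) ∨ (Even k ∧ 2 * ηk = k)) :
    2 * r ∈ Set.range (orderOf : Cfsg.PSp n F → ℕ) ↔
      (ηk + 1 ≤ n ∨ (ηk = n ∧ Odd k ∧ 4 ∣ Fintype.card F ^ n - 1) ∨
        (ηk = n ∧ Even k ∧ 4 ∣ Fintype.card F ^ n + 1)) := by
  constructor
  · rintro ⟨x, hx⟩
    obtain ⟨A, hAJ, hA⟩ := exists_lift_sp n hn x
    rw [hx] at hA
    exact psp_two_r_nec p hp2 n hn r hr hr2 hrp k ηk hk hηk A hAJ hA
  · exact psp_two_r_exists p hp2 n hn r hr hr2 hrp k ηk hk hηk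

end Cfsg.Agent.Lib.helper64.RsSp
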