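import Mathlib
import Cfsg.Prelude.Def_Classical
import Cfsg.Prelude.Def_GeometricClasses
import Cfsg.Agent.Lib.helper49.WittIso

set_option autoImplicit false

namespace Cfsg.Agent.Lib.helper59.Sfk

open Matrix Cfsg.Geo
open Cfsg.Agent.Lib.helper49 (detHom spinorSign)

/-- EVENNEG (M): determinant one => the eigenvalue `-1` occurs an even number of times. -/
theorem sfk_even_neg {F : Type*} [Field F] [DecidableEq F] {ι : Type} [Fintype ι] [DecidableEq ι]
    (h2 : (2 : F) ≠ 0) (x : GL ι F) (hdet : (x : Matrix ι ι F).det = 1)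
    (e : Fin (Fintype.card ι) → (ι → F)) (ε : Fin (Fintype.card ι) → F)
    (he : LinearIndependent F e) (hε : ∀ i, ε i = 1 ∨ ε i = -1)
    (hxe : ∀ i, (x : Matrix ι ι F) *ᵥ e i = ε i • e i) :
    Even (Finset.univ.filter (fun i => ε i = -1)).card := by
  classical
  rcases Nat.eq_zero_or_pos (Fintype.card ι) with h0 | hpos
  · have hle : (Finset.univ.filter (fun i => ε i = -1)).card ≤
        Fintype.card (Fin (Fintype.card ι)) := Finset.card_le_univ _
    rw [Fintype.card_fin] at hle
    have h00 : (Finset.univ.filter (fun i => ε i = -1)).card = 0 := by omega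
    rw [h00]
    exact ⟨0, rfl⟩
  haveI : Nonempty (Fin (Fintype.card ι)) := ⟨⟨0, hpos⟩⟩
  have hcard : Fintype.card (Fin (Fintype.card ι)) = Module.finrank F (ι → F) := by simp
  have hb : ∀ i, (basisOfLinearIndependentOfCardEqFinrank he hcard) i = e i := fun i => by simp
  have hM : LinearMap.toMatrix (basisOfLinearIndependentOfCardEqFinrank he hcard)
      (basisOfLinearIndependentOfCardEqFinrank he hcard) (Matrix.toLin' (x : Matrix ι ι F)) =
      Matrix.diagonal ε := by
    ext i j
    rw [LinearMap.toMatrix_apply, Matrix.toLin'_apply, hb, hxe, map_smul, ← hb,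
      Module.Basis.repr_self]
    by_cases hij : i = j
    · subst hij
      simp
    · simp [hij]
  have hdet2 : ∏ i, ε i = 1 := by
    rw [← Matrix.det_diagonal, ← hM, LinearMap.det_toMatrix, LinearMap.det_toLin', hdet]
  have hprod : ∏ i, ε i = (-1 : F) ^ (Finset.univ.filter (fun i => ε i = -1)).card := by
    have hite : ∀ i, ε i = if ε i = -1 then (-1 : F) else 1 := by
      intro i
      rcases hε i with h | h
      · rw [if_neg]
        · exact h
        · rw [h]
          intro h1
          exact h2 (by linear_combination h1)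
      · rw [if_pos h]
        exact h
    rw [Finset.prod_congr rfl (fun i _ => hite i), Finset.prod_ite]
    simp
  rw [hprod] at hdet2
  by_contra hodd
  rw [Nat.not_even_iff_odd] at hodd
  rw [hodd.neg_one_pow] at hdet2
  exact h2 (by linear_combination -hdet2)

end Cfsg.Agent.Lib.helper59.Sfk
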