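import Cfsg.Agent.Lib.helper95.B2Defs
import Cfsg.Agent.Lib.helper48.B2CH

set_option autoImplicit false

namespace Cfsg.Agent.Lib.helper95.B2

open Matrix Cfsg Cfsg.Lie
open scoped commutatorElement

variable {F : Type*} [Field F]

set_option maxHeartbeats 3200000 in
theorem helper64_dg_conj (ε c : F) (hε : ε * ε = 1) (hc : c ≠ 0) (r : Fin 8) (t : F) :
    ∃ s : F, dg ε 1 c * N5 r t = N5 r s * dg ε 1 c := by
  have hε' : ε ≠ 0 := by
    rintro rfl
    simp at hε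
  have hε2 : ε ^ 2 = 1 := by rw [pow_two, hε]
  have hε3 : ∀ z : F, z * ε ^ 2 = z := fun z => by rw [hε2, mul_one]
  have key : ∀ s : F, (∀ i j, (dg ε 1 c * N5 r t) i j = (N5 r s * dg ε 1 c) i j) →
      ∃ s : F, dg ε 1 c * N5 r t = N5 r s * dg ε 1 c := fun s h => ⟨s, Matrix.ext h⟩
  fin_cases r
  · apply key (t / c)
    intro i j
    fin_cases i <;> fin_cases j <;>
      simp [dg, N5, Matrix.mul_apply, Matrix.diagonal_apply] <;> field_simp
  · apply key (ε * t)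
    intro i j
    fin_cases i <;> fin_cases j <;>
      simp [dg, N5, Matrix.mul_apply, Matrix.diagonal_apply] <;> ring_nf <;> simp [hε2, hε3]
  · apply key (ε * t / c)
    intro i j
    fin_cases i <;> fin_cases j <;>
      simp [dg, N5, Matrix.mul_apply, Matrix.diagonal_apply] <;> field_simp <;> ring_nf <;> simp [hε2, hε3]
  · apply key (c * t)
    intro i j
    fin_cases i <;> fin_cases j <;>
      simp [dg, N5, Matrix.mul_apply, Matrix.diagonal_apply] <;> field_simp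
  · apply key (t / c)
    intro i j
    fin_cases i <;> fin_cases j <;>
      simp [dg, N5, Matrix.mul_apply, Matrix.diagonal_apply] <;> field_simp
  · apply key (ε * c * t)
    intro i j
    fin_cases i <;> fin_cases j <;>
      simp [dg, N5, Matrix.mul_apply, Matrix.diagonal_apply] <;> field_simp <;> ring_nf <;> simp [hε2, hε3]
  · apply key (ε * t)
    intro i j
    fin_cases i <;> fin_cases j <;>
      simp [dg, N5, Matrix.mul_apply, Matrix.diagonal_apply] <;> ring_nf <;> simp [hε2, hε3]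
  · apply key (c * t)
    intro i j
    fin_cases i <;> fin_cases j <;>
      simp [dg, N5, Matrix.mul_apply, Matrix.diagonal_apply] <;> field_simp

/-- the diagonal elements `dg ε 1 c` of `GL₅` -/
def helper64_IsD (d : GL (Fin 5) F) : Prop :=
  ∃ ε c : F, ε * ε = 1 ∧ c ≠ 0 ∧ (d : Matrix (Fin 5) (Fin 5) F) = dg ε 1 c

theorem helper64_D_comm (d₁ d₂ : GL (Fin 5) F) (h₁ : helper64_IsD d₁) (h₂ : helper64_IsD d₂) :
    d₁ * d₂ = d₂ * d₁ := by
  obtain ⟨ε₁, c₁, -, -, e₁⟩ := h₁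
  obtain ⟨ε₂, c₂, -, -, e₂⟩ := h₂
  apply Units.ext
  rw [Units.val_mul, Units.val_mul, e₁, e₂, dg, dg, Matrix.diagonal_mul_diagonal,
    Matrix.diagonal_mul_diagonal]
  congr 1
  funext i
  exact mul_comm _ _

theorem helper64_D_norm
    (hconj : ∀ ε c : F, ε * ε = 1 → c ≠ 0 → ∀ (r : Fin 8) (t : F),
      ∃ s : F, dg ε 1 c * N5 r t = N5 r s * dg ε 1 c)
    (d : GL (Fin 5) F) (hd : helper64_IsD d) (n : GL (Fin 5) F) (hn : n ∈ E5 F) :
    d * n * d⁻¹ ∈ E5 F := by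
  obtain ⟨ε, c, hε, hc, e⟩ := hd
  have hle : E5 F ≤ (E5 F).comap (MulAut.conj d).toMonoidHom := by
    unfold E5
    rw [Subgroup.closure_le]
    rintro g ⟨r, t, hg⟩
    rw [SetLike.mem_coe, Subgroup.mem_comap, MulEquiv.coe_toMonoidHom, MulAut.conj_apply]
    apply Subgroup.subset_closure
    obtain ⟨s, hs⟩ := hconj ε c hε hc r t
    refine ⟨r, s, ?_⟩
    rw [Units.val_mul, Units.val_mul, e, hg, hs, ← e, mul_assoc, ← Units.val_mul, mul_inv_cancel,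
      Units.val_one, mul_one]
  have := hle hn
  rw [Subgroup.mem_comap] at this
  exact this

theorem helper64_comm_le_E5_core
    (hdecomp : ∀ g : GL (Fin 5) F, g ∈ O5 F → ∃ e ∈ E5 F, ∃ ε c : F, ε * ε = 1 ∧ c ≠ 0 ∧
      ((e * g : GL (Fin 5) F) : Matrix (Fin 5) (Fin 5) F) = dg ε 1 c)
    (hconj : ∀ ε c : F, ε * ε = 1 → c ≠ 0 → ∀ (r : Fin 8) (t : F),
      ∃ s : F, dg ε 1 c * N5 r t = N5 r s * dg ε 1 c)
    (x : ↥(O5 F)) (hx : x ∈ commutator ↥(O5 F)) : (x : GL (Fin 5) F) ∈ E5 F := by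
  have hle : commutator ↥(O5 F) ≤ (E5 F).subgroupOf (O5 F) := by
    rw [commutator_def, Subgroup.commutator_le]
    intro g₁ _ g₂ _
    rw [Subgroup.mem_subgroupOf]
    obtain ⟨e₁, he₁, ε₁, c₁, hε₁, hc₁, hd₁⟩ := hdecomp g₁.1 g₁.2
    obtain ⟨e₂, he₂, ε₂, c₂, hε₂, hc₂, hd₂⟩ := hdecomp g₂.1 g₂.2
    have hD₁ : helper64_IsD (e₁ * g₁.1) := ⟨ε₁, c₁, hε₁, hc₁, hd₁⟩
    have hD₂ : helper64_IsD (e₂ * g₂.1) := ⟨ε₂, c₂, hε₂, hc₂, hd₂⟩
    set d₁ := e₁ * g₁.1 with hd₁'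
    set d₂ := e₂ * g₂.1 with hd₂'
    have hg₁ : g₁.1 = e₁⁻¹ * d₁ := by rw [hd₁', inv_mul_cancel_left]
    have hg₂ : g₂.1 = e₂⁻¹ * d₂ := by rw [hd₂', inv_mul_cancel_left]
    have hcomm := helper64_D_comm d₁ d₂ hD₁ hD₂
    have key : ((⁅g₁, g₂⁆ : ↥(O5 F)) : GL (Fin 5) F)
        = e₁⁻¹ * (d₁ * e₂⁻¹ * d₁⁻¹) * (d₂ * e₁ * d₂⁻¹) * e₂ := by
      rw [commutatorElement_def]
      push_cast
      rw [hg₁, hg₂]
      have h3 : d₂ * d₁⁻¹ = d₁⁻¹ * d₂ := by
        rw [eq_inv_mul_iff_mul_eq, ← mul_assoc, hcomm, mul_assoc, mul_inv_cancel, mul_one]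
      have h3' : ∀ z, d₂ * (d₁⁻¹ * z) = d₁⁻¹ * (d₂ * z) := fun z => by
        rw [← mul_assoc, h3, mul_assoc]
      simp only [_root_.mul_inv_rev, inv_inv, mul_assoc, h3']
    rw [key]
    exact (E5 F).mul_mem ((E5 F).mul_mem ((E5 F).mul_mem ((E5 F).inv_mem he₁)
      (helper64_D_norm hconj d₁ hD₁ _ ((E5 F).inv_mem he₂)))
      (helper64_D_norm hconj d₂ hD₂ _ he₁)) he₂
  exact Subgroup.mem_subgroupOf.mp (hle hx)

/-- PIECE FIN : the commutator subgroup of `O5` lies in `E5` -/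
theorem comm_le_E5 (x : ↥(O5 F)) (hx : x ∈ commutator ↥(O5 F)) : (x : GL (Fin 5) F) ∈ E5 F := by
  exact helper64_comm_le_E5_core (fun g hg => O5_decomp g hg)
    (fun ε c hε hc r t => helper64_dg_conj ε c hε hc r t) x hx

end Cfsg.Agent.Lib.helper95.B2
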