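import Mathlib
import Cfsg.Prelude.Def_OddOrderLocal
import Cfsg.Agent.Lib.helper86.BG1356Defs
import Cfsg.Agent.Lib.helper1.Coprime
import Cfsg.Agent.Lib.helper64.BG1356A1a

set_option autoImplicit false

namespace Cfsg.Agent.Lib.helper86.BG1356

open Cfsg Subgroup
open scoped commutatorElement Pointwise

/-- In a finite nilpotent group, a subgroup that together with the commutator subgroup generates
everything is everything. -/
theorem helper64_eq_top_of_sup_commutator_eq_top {S : Type*} [Group S] [Finite S]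
    [Group.IsNilpotent S] {K : Subgroup S} (h : K ⊔ commutator S = ⊤) : K = ⊤ := by
  by_contra hK
  obtain ⟨M, hM, hKM⟩ := (eq_top_or_exists_le_coatom K).resolve_left hK
  have hMn : M.Normal :=
    Subgroup.NormalizerCondition.normal_of_coatom M Group.normalizerCondition_of_isNilpotent hM
  have hcomm : commutator S ≤ M := by
    rw [← Subgroup.Normal.quotient_commutative_iff_commutator_le]
    have : Nontrivial (S ⧸ M) := QuotientGroup.nontrivial_iff.mpr hM.1
    have : Group.IsNilpotent (S ⧸ M) :=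
      Group.nilpotent_of_surjective (QuotientGroup.mk' M) (QuotientGroup.mk'_surjective M)
    have hc : ⊥ < Subgroup.center (S ⧸ M) :=
      bot_lt_iff_ne_bot.mpr (Group.IsNilpotent.center_ne_bot (S ⧸ M))
    rw [← Subgroup.center_eq_top_iff]
    have hsurj : Function.Surjective (QuotientGroup.mk' M) := QuotientGroup.mk'_surjective M
    have hlt : M < (Subgroup.center (S ⧸ M)).comap (QuotientGroup.mk' M) := by
      refine lt_of_le_of_ne ?_ ?_
      · intro x hx
        rw [Subgroup.mem_comap]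
        have : (QuotientGroup.mk' M) x = 1 := (QuotientGroup.eq_one_iff x).mpr hx
        rw [this]
        exact Subgroup.one_mem _
      · intro hEq
        have h1 : Subgroup.center (S ⧸ M) = ⊥ := by
          have h2 : Subgroup.map (QuotientGroup.mk' M) M = ⊥ := by
            rw [Subgroup.map_eq_bot_iff, QuotientGroup.ker_mk']
          rw [← Subgroup.map_comap_eq_self_of_surjective hsurj (Subgroup.center (S ⧸ M)), ← hEq, h2]
        exact (ne_of_gt hc) h1
    have htop := hM.2 _ hlt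
    rw [← Subgroup.map_comap_eq_self_of_surjective hsurj (Subgroup.center (S ⧸ M)), htop]
    exact Subgroup.map_top_of_surjective _ hsurj
  exact hM.1 (top_le_iff.mp (h ▸ sup_le hKM hcomm))

/-- Subgroup form: `F` nilpotent, `H ≤ F`, `F ≤ F' ⊔ H` implies `F ≤ H`. -/
theorem helper64_le_of_le_commutator_sup {X : Type*} [Group X] [Finite X] (F H : Subgroup X)
    (hFn : Group.IsNilpotent ↥F) (hHF : H ≤ F) (h : F ≤ ⁅F, F⁆ ⊔ H) : F ≤ H := by
  have hK : (H.subgroupOf F) ⊔ commutator ↥F = ⊤ := by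
    rw [eq_top_iff]
    intro x _
    have hx : (x : X) ∈ ⁅F, F⁆ ⊔ H := h x.2
    have h1 : x ∈ (⁅F, F⁆ ⊔ H).subgroupOf F := Subgroup.mem_subgroupOf.mpr hx
    rw [Subgroup.subgroupOf_sup (Subgroup.commutator_le_self F) hHF] at h1
    have h2 : (⁅F, F⁆).subgroupOf F = commutator ↥F := by
      rw [← Subgroup.map_subtype_commutator F]
      exact Subgroup.comap_map_eq_self_of_injective F.subtype_injective _
    rw [h2, sup_comm] at h1
    exact h1
  have htop := helper64_eq_top_of_sup_commutator_eq_top hK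
  intro x hx
  have h3 : (⟨x, hx⟩ : ↥F) ∈ H.subgroupOf F := by rw [htop]; trivial
  exact Subgroup.mem_subgroupOf.mp h3

section quot

variable {X : Type*} [Group X] (L : Subgroup X)

/-- The quotient `N_X(L)/L`. -/
abbrev helper64_Q : Type _ :=
  ↥(normalizer (L : Set X)) ⧸ L.subgroupOf (normalizer (L : Set X))

/-- The projection `N_X(L) → N_X(L)/L`. -/
def helper64_pi : ↥(normalizer (L : Set X)) →* helper64_Q L :=
  QuotientGroup.mk' (L.subgroupOf (normalizer (L : Set X)))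

/-- The image of (the part in `N_X(L)` of) a subgroup in `N_X(L)/L`. -/
def helper64_im (H : Subgroup X) : Subgroup (helper64_Q L) :=
  (H.subgroupOf (normalizer (L : Set X))).map (helper64_pi L)

theorem helper64_pi_eq_one_iff (a : ↥(normalizer (L : Set X))) :
    helper64_pi L a = 1 ↔ (a : X) ∈ L := by
  unfold helper64_pi
  rw [QuotientGroup.mk'_apply, QuotientGroup.eq_one_iff, Subgroup.mem_subgroupOf]

theorem helper64_mem_im (H : Subgroup X) (a : ↥(normalizer (L : Set X))) (ha : (a : X) ∈ H) :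
    helper64_pi L a ∈ helper64_im L H :=
  Subgroup.mem_map_of_mem _ (Subgroup.mem_subgroupOf.mpr ha)

theorem helper64_exists_of_mem_im (H : Subgroup X) (y : helper64_Q L)
    (hy : y ∈ helper64_im L H) :
    ∃ a : ↥(normalizer (L : Set X)), (a : X) ∈ H ∧ helper64_pi L a = y := by
  obtain ⟨a, ha, rfl⟩ := Subgroup.mem_map.mp hy
  exact ⟨a, Subgroup.mem_subgroupOf.mp ha, rfl⟩

theorem helper64_im_normalizer (H₁ H₂ : Subgroup X) (h : H₁ ≤ normalizer (H₂ : Set X)) :
    helper64_im L H₁ ≤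
      normalizer ((helper64_im L H₂ : Subgroup (helper64_Q L)) : Set (helper64_Q L)) := by
  have h1 : H₁.subgroupOf (normalizer (L : Set X)) ≤
      normalizer ((H₂.subgroupOf (normalizer (L : Set X)) : Subgroup _) : Set _) :=
    (Subgroup.comap_mono h).trans (Subgroup.le_normalizer_comap _)
  exact (Subgroup.map_mono h1).trans (Subgroup.le_normalizer_map _)

theorem helper64_im_sup (H₁ H₂ : Subgroup X) (h1 : H₁ ≤ normalizer (L : Set X))
    (h2 : H₂ ≤ normalizer (L : Set X)) :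
    helper64_im L H₁ ⊔ helper64_im L H₂ = helper64_im L (H₁ ⊔ H₂) := by
  unfold helper64_im
  rw [Subgroup.subgroupOf_sup h1 h2, Subgroup.map_sup]

theorem helper64_card_im_dvd (H : Subgroup X) (hH : H ≤ normalizer (L : Set X)) :
    Nat.card ↥(helper64_im L H) ∣ Nat.card ↥H := by
  have h1 : Nat.card ↥(helper64_im L H) ∣ Nat.card ↥(H.subgroupOf (normalizer (L : Set X))) :=
    Subgroup.card_map_dvd _ _
  rwa [Nat.card_congr (Subgroup.subgroupOfEquivOfLe hH).toEquiv] at h1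

theorem helper64_im_solvable (H : Subgroup X) (hH : H ≤ normalizer (L : Set X))
    (hs : Group.IsSolvable ↥H) : Group.IsSolvable ↥(helper64_im L H) := by
  have h1 : Group.IsSolvable ↥(H.subgroupOf (normalizer (L : Set X))) :=
    Group.isSolvable_of_isSolvable_injective
      (f := (Subgroup.subgroupOfEquivOfLe hH).toMonoidHom)
      (Subgroup.subgroupOfEquivOfLe hH).injective
  exact Group.isSolvable_of_surjective ((helper64_pi L).subgroupMap_surjective _)

theorem helper64_im_cyclic (H : Subgroup X) (hH : H ≤ normalizer (L : Set X))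
    (hs : IsCyclic ↥H) : IsCyclic ↥(helper64_im L H) := by
  have h1 : IsCyclic ↥(H.subgroupOf (normalizer (L : Set X))) :=
    isCyclic_of_injective (Subgroup.subgroupOfEquivOfLe hH).toMonoidHom
      (Subgroup.subgroupOfEquivOfLe hH).injective
  exact isCyclic_of_surjective _ ((helper64_pi L).subgroupMap_surjective _)

end quot

/-- **A1b (spare copy; the Skel-named theorem is in `helper43.BG1356A1b`).** (reduction to the abelian case) same statement for NILPOTENT `F`: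
apply A1a in `X̄ := N_X(F') / F'` to the images of `F, D, K, C`; then `[F, D'] ≤ F'`, so
`F = C_F(D') F'` (coprime action), hence `C_F(D') = F` (`F` nilpotent: `H ⊔ F' = F → H = F`). -/
theorem helper64_frob_derived_centralizes {X : Type*} [Group X] [Finite X] (F D K : Subgroup X)
    (hFn : Group.IsNilpotent F) (hDF : D ≤ normalizer (F : Set X))
    (hKF : K ≤ normalizer (F : Set X)) (hKD : K ≤ normalizer (D : Set X)) (hK1 : K ≠ ⊥)
    (hDK : D ⊓ K = ⊥)
    (hfrob : ∀ k ∈ K, k ≠ 1 → D ⊓ centralizer ({k} : Set X) = ⊥)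
    (hsolv : Group.IsSolvable ↥(D ⊔ K)) (hodd : Odd (Nat.card ↥(D ⊔ K)))
    (hcop : (Nat.card ↥(D ⊔ K)).Coprime (Nat.card F))
    (C : Subgroup X) (hC : IsCyclic C)
    (hpr : ∀ k ∈ K, k ≠ 1 → F ⊓ centralizer ({k} : Set X) = C) :
    ⁅D, D⁆ ≤ centralizer (F : Set X) := by
  classical
  have hLF : ⁅F, F⁆ ≤ F := Subgroup.commutator_le_self F
  have hFN : F ≤ normalizer ((⁅F, F⁆ : Subgroup X) : Set X) :=
    Cfsg.Agent.Lib.helper1.left_le_normalizer_commutator F F
  have hDN : D ≤ normalizer ((⁅F, F⁆ : Subgroup X) : Set X) :=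
    helper64_le_normalizer_comm F F D hDF hDF
  have hKN : K ≤ normalizer ((⁅F, F⁆ : Subgroup X) : Set X) :=
    helper64_le_normalizer_comm F F K hKF hKF
  have hDKN : D ⊔ K ≤ normalizer ((⁅F, F⁆ : Subgroup X) : Set X) := sup_le hDN hKN
  obtain ⟨k₀, hk₀, hk₀1⟩ : ∃ k ∈ K, k ≠ 1 := by
    by_contra hcon
    push Not at hcon
    exact hK1 ((Subgroup.eq_bot_iff_forall K).mpr hcon)
  have hCF : C ≤ F := by
    rw [← hpr k₀ hk₀ hk₀1]
    exact inf_le_left
  have hCN : C ≤ normalizer ((⁅F, F⁆ : Subgroup X) : Set X) := hCF.trans hFN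
  -- coprimality: `F' ⊓ (D ⊔ K) = ⊥`
  have hdisj : ∀ x, x ∈ ⁅F, F⁆ → x ∈ D ⊔ K → x = 1 := by
    have h1 : (Nat.card ↥(D ⊔ K)).Coprime (Nat.card ↥⁅F, F⁆) :=
      Nat.Coprime.coprime_dvd_right (Subgroup.card_dvd_of_le hLF) hcop
    have h2 : (D ⊔ K) ⊓ ⁅F, F⁆ = ⊥ :=
      disjoint_iff.mp (Subgroup.disjoint_of_coprime_natCard h1)
    intro x hx1 hx2
    have : x ∈ (D ⊔ K) ⊓ ⁅F, F⁆ := ⟨hx2, hx1⟩
    rw [h2] at this
    exact Subgroup.mem_bot.mp this
  -- injectivity of the projection on `D ⊔ K`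
  have hinj : ∀ a b : ↥(normalizer ((⁅F, F⁆ : Subgroup X) : Set X)), (a : X) ∈ D ⊔ K →
      (b : X) ∈ D ⊔ K → helper64_pi ⁅F, F⁆ a = helper64_pi ⁅F, F⁆ b → a = b := by
    intro a b ha hb hab
    have h1 : helper64_pi ⁅F, F⁆ (a⁻¹ * b) = 1 := by
      rw [map_mul, map_inv, hab, inv_mul_cancel]
    have h2 : ((a⁻¹ * b : ↥(normalizer ((⁅F, F⁆ : Subgroup X) : Set X))) : X) ∈ ⁅F, F⁆ :=
      (helper64_pi_eq_one_iff ⁅F, F⁆ _).mp h1
    have h3 : ((a⁻¹ * b : ↥(normalizer ((⁅F, F⁆ : Subgroup X) : Set X))) : X) = 1 :=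
      hdisj _ h2 ((D ⊔ K).mul_mem ((D ⊔ K).inv_mem ha) hb)
    have h4 : a⁻¹ * b = 1 := Subtype.ext h3
    exact inv_mul_eq_one.mp h4
  have hone : ∀ a : ↥(normalizer ((⁅F, F⁆ : Subgroup X) : Set X)), (a : X) = 1 →
      helper64_pi ⁅F, F⁆ a = 1 := by
    intro a ha
    rw [helper64_pi_eq_one_iff, ha]
    exact one_mem _
  -- hypotheses of A1a in the quotient
  have hFab' : ∀ a ∈ helper64_im ⁅F, F⁆ F, ∀ b ∈ helper64_im ⁅F, F⁆ F, a * b = b * a := by
    intro a ha b hb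
    obtain ⟨f, hf, rfl⟩ := helper64_exists_of_mem_im ⁅F, F⁆ F a ha
    obtain ⟨g, hg, rfl⟩ := helper64_exists_of_mem_im ⁅F, F⁆ F b hb
    have h1 : helper64_pi ⁅F, F⁆ ((g * f)⁻¹ * (f * g)) = 1 := by
      rw [helper64_pi_eq_one_iff]
      have h2 : ⁅(f : X)⁻¹, (g : X)⁻¹⁆ ∈ ⁅F, F⁆ :=
        Subgroup.commutator_mem_commutator (F.inv_mem hf) (F.inv_mem hg)
      rw [commutatorElement_def] at h2
      simpa [mul_assoc] using h2
    rw [map_mul, map_inv] at h1
    have h3 := inv_mul_eq_one.mp h1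
    rw [← map_mul, ← map_mul]
    exact h3.symm
  have hDF' := helper64_im_normalizer ⁅F, F⁆ D F hDF
  have hKF' := helper64_im_normalizer ⁅F, F⁆ K F hKF
  have hKD' := helper64_im_normalizer ⁅F, F⁆ K D hKD
  have hK1' : helper64_im ⁅F, F⁆ K ≠ ⊥ := by
    intro h
    have h1 : helper64_pi ⁅F, F⁆ ⟨k₀, hKN hk₀⟩ ∈ helper64_im ⁅F, F⁆ K :=
      helper64_mem_im ⁅F, F⁆ K _ hk₀
    rw [h, Subgroup.mem_bot] at h1
    exact hk₀1 (hdisj k₀ ((helper64_pi_eq_one_iff ⁅F, F⁆ _).mp h1)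
      ((le_sup_right : K ≤ D ⊔ K) hk₀))
  have hDK' : helper64_im ⁅F, F⁆ D ⊓ helper64_im ⁅F, F⁆ K = ⊥ := by
    rw [eq_bot_iff]
    rintro y ⟨hyD, hyK⟩
    obtain ⟨d, hd, rfl⟩ := helper64_exists_of_mem_im ⁅F, F⁆ D y hyD
    obtain ⟨k, hk, hkd⟩ := helper64_exists_of_mem_im ⁅F, F⁆ K _ hyK
    have hkd' : k = d := hinj k d ((le_sup_right : K ≤ D ⊔ K) hk)
      ((le_sup_left : D ≤ D ⊔ K) hd) hkd
    subst hkd'
    have h1 : (k : X) ∈ D ⊓ K := ⟨hd, hk⟩
    rw [hDK, Subgroup.mem_bot] at h1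
    rw [Subgroup.mem_bot]
    exact hone k h1
  have hfrob' : ∀ k ∈ helper64_im ⁅F, F⁆ K, k ≠ 1 →
      helper64_im ⁅F, F⁆ D ⊓ centralizer ({k} : Set (helper64_Q ⁅F, F⁆)) = ⊥ := by
    intro kb hkb hkb1
    obtain ⟨k, hk, rfl⟩ := helper64_exists_of_mem_im ⁅F, F⁆ K kb hkb
    have hk1 : (k : X) ≠ 1 := fun h => hkb1 (hone k h)
    rw [eq_bot_iff]
    rintro y ⟨hyD, hyc⟩
    obtain ⟨d, hd, rfl⟩ := helper64_exists_of_mem_im ⁅F, F⁆ D y hyD
    have hc : helper64_pi ⁅F, F⁆ k * helper64_pi ⁅F, F⁆ d =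
        helper64_pi ⁅F, F⁆ d * helper64_pi ⁅F, F⁆ k :=
      Subgroup.mem_centralizer_iff.mp hyc _ (Set.mem_singleton _)
    rw [← map_mul, ← map_mul] at hc
    have h1 : k * d = d * k := hinj (k * d) (d * k)
      ((D ⊔ K).mul_mem ((le_sup_right : K ≤ D ⊔ K) hk) ((le_sup_left : D ≤ D ⊔ K) hd))
      ((D ⊔ K).mul_mem ((le_sup_left : D ≤ D ⊔ K) hd) ((le_sup_right : K ≤ D ⊔ K) hk)) hc
    have h1' : (k : X) * (d : X) = (d : X) * (k : X) := congrArg Subtype.val h1
    have h2 : (d : X) ∈ D ⊓ centralizer ({(k : X)} : Set X) := by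
      refine ⟨hd, ?_⟩
      show (d : X) ∈ centralizer ({(k : X)} : Set X)
      rw [Subgroup.mem_centralizer_iff]
      intro z hz
      rw [Set.mem_singleton_iff] at hz
      subst hz
      exact h1'
    rw [hfrob k hk hk1, Subgroup.mem_bot] at h2
    rw [Subgroup.mem_bot]
    exact hone d h2
  have hsup := helper64_im_sup ⁅F, F⁆ D K hDN hKN
  have hsolv' : Group.IsSolvable ↥(helper64_im ⁅F, F⁆ D ⊔ helper64_im ⁅F, F⁆ K) := by
    rw [hsup]
    exact helper64_im_solvable ⁅F, F⁆ (D ⊔ K) hDKN hsolv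
  have hcardDK : Nat.card ↥(helper64_im ⁅F, F⁆ D ⊔ helper64_im ⁅F, F⁆ K) ∣ Nat.card ↥(D ⊔ K) := by
    rw [hsup]
    exact helper64_card_im_dvd ⁅F, F⁆ (D ⊔ K) hDKN
  have hodd' : Odd (Nat.card ↥(helper64_im ⁅F, F⁆ D ⊔ helper64_im ⁅F, F⁆ K)) :=
    Odd.of_dvd_nat hodd hcardDK
  have hcop' : (Nat.card ↥(helper64_im ⁅F, F⁆ D ⊔ helper64_im ⁅F, F⁆ K)).Coprime
      (Nat.card ↥(helper64_im ⁅F, F⁆ F)) :=
    Nat.Coprime.coprime_dvd_left hcardDK
      (Nat.Coprime.coprime_dvd_right (helper64_card_im_dvd ⁅F, F⁆ F hFN) hcop)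
  have hC' : IsCyclic ↥(helper64_im ⁅F, F⁆ C) := helper64_im_cyclic ⁅F, F⁆ C hCN hC
  have hpr' : ∀ k ∈ helper64_im ⁅F, F⁆ K, k ≠ 1 →
      helper64_im ⁅F, F⁆ F ⊓ centralizer ({k} : Set (helper64_Q ⁅F, F⁆)) =
        helper64_im ⁅F, F⁆ C := by
    intro kb hkb hkb1
    obtain ⟨k, hk, rfl⟩ := helper64_exists_of_mem_im ⁅F, F⁆ K kb hkb
    have hk1 : (k : X) ≠ 1 := fun h => hkb1 (hone k h)
    have hCk := hpr k hk hk1
    apply le_antisymm
    · rintro y ⟨hyF, hyc⟩
      obtain ⟨f, hf, rfl⟩ := helper64_exists_of_mem_im ⁅F, F⁆ F y hyF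
      have hA : zpowers (k : X) ≤ normalizer ((⁅F, F⁆ : Subgroup X) : Set X) :=
        (Subgroup.zpowers_le).mpr k.2
      have hkDK : zpowers (k : X) ≤ D ⊔ K :=
        (Subgroup.zpowers_le).mpr ((le_sup_right : K ≤ D ⊔ K) hk)
      have hg : ∀ a ∈ zpowers (k : X), a * (f : X) * a⁻¹ * (f : X)⁻¹ ∈ ⁅F, F⁆ := by
        intro a ha
        have hT : zpowers (k : X) ≤
            ((centralizer ({helper64_pi ⁅F, F⁆ f} : Set (helper64_Q ⁅F, F⁆))).comap
              (helper64_pi ⁅F, F⁆)).map (normalizer ((⁅F, F⁆ : Subgroup X) : Set X)).subtype := by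
          rw [Subgroup.zpowers_le]
          refine ⟨k, ?_, rfl⟩
          rw [SetLike.mem_coe, Subgroup.mem_comap, Subgroup.mem_centralizer_iff]
          intro z hz
          rw [Set.mem_singleton_iff] at hz
          subst hz
          exact (Subgroup.mem_centralizer_iff.mp hyc _ (Set.mem_singleton _)).symm
        obtain ⟨a', ha', rfl⟩ := hT ha
        have hc' : helper64_pi ⁅F, F⁆ f * helper64_pi ⁅F, F⁆ a' =
            helper64_pi ⁅F, F⁆ a' * helper64_pi ⁅F, F⁆ f :=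
          Subgroup.mem_centralizer_iff.mp (Subgroup.mem_comap.mp ha') _ (Set.mem_singleton _)
        have h1 : helper64_pi ⁅F, F⁆ (a' * f * a'⁻¹ * f⁻¹) = 1 := by
          rw [map_mul, map_mul, map_mul, map_inv, map_inv, ← hc', mul_assoc (helper64_pi ⁅F, F⁆ f),
            mul_inv_cancel, mul_one, mul_inv_cancel]
        have h2 := (helper64_pi_eq_one_iff ⁅F, F⁆ _).mp h1
        simpa using h2
      have hcopk : (Nat.card ↥(zpowers (k : X))).Coprime (Nat.card ↥⁅F, F⁆) :=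
        Nat.Coprime.coprime_dvd_left (Subgroup.card_dvd_of_le hkDK)
          (Nat.Coprime.coprime_dvd_right (Subgroup.card_dvd_of_le hLF) hcop)
      have hsolvk : Group.IsSolvable ↥(zpowers (k : X)) :=
        Cfsg.Agent.Lib.helper1.isSolvable_of_le hkDK hsolv
      obtain ⟨c, hc1, hc2⟩ := Cfsg.Agent.Lib.helper1.coset_fixed (zpowers (k : X)) ⁅F, F⁆ hA hcopk
        (Or.inl hsolvk) (f : X) hg
      have hcF : c ∈ F := by
        have := F.mul_mem (hLF hc2) hf
        simpa using this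
      have hcC : c ∈ C := by
        rw [← hCk]
        refine ⟨hcF, ?_⟩
        show c ∈ centralizer ({(k : X)} : Set X)
        rw [Subgroup.mem_centralizer_iff]
        intro z hz
        rw [Set.mem_singleton_iff] at hz
        subst hz
        exact Subgroup.mem_centralizer_iff.mp hc1 _ (Subgroup.mem_zpowers _)
      have hcN : c ∈ normalizer ((⁅F, F⁆ : Subgroup X) : Set X) := hFN hcF
      have hcfN : c * (f : X)⁻¹ ∈ normalizer ((⁅F, F⁆ : Subgroup X) : Set X) :=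
        Subgroup.mul_mem _ hcN (Subgroup.inv_mem _ f.2)
      have e : (⟨c, hcN⟩ : ↥(normalizer ((⁅F, F⁆ : Subgroup X) : Set X))) =
          ⟨c * (f : X)⁻¹, hcfN⟩ * f := Subtype.ext (by simp)
      have h3 : helper64_pi ⁅F, F⁆ ⟨c, hcN⟩ = helper64_pi ⁅F, F⁆ f := by
        rw [e, map_mul, (helper64_pi_eq_one_iff ⁅F, F⁆ _).mpr hc2, one_mul]
      rw [← h3]
      exact helper64_mem_im ⁅F, F⁆ C _ hcC
    · intro y hy
      obtain ⟨c, hc, rfl⟩ := helper64_exists_of_mem_im ⁅F, F⁆ C y hy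
      have hc' : (c : X) ∈ F ⊓ centralizer ({(k : X)} : Set X) := by rw [hCk]; exact hc
      refine ⟨helper64_mem_im ⁅F, F⁆ F c hc'.1, ?_⟩
      show helper64_pi ⁅F, F⁆ c ∈ centralizer ({helper64_pi ⁅F, F⁆ k} : Set (helper64_Q ⁅F, F⁆))
      rw [Subgroup.mem_centralizer_iff]
      intro z hz
      rw [Set.mem_singleton_iff] at hz
      subst hz
      have h1 : (k : X) * (c : X) = (c : X) * (k : X) :=
        Subgroup.mem_centralizer_iff.mp hc'.2 _ (Set.mem_singleton _)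
      have h2 : k * c = c * k := Subtype.ext h1
      rw [← map_mul, ← map_mul, h2]
  have hres := frob_derived_centralizes_abelian (helper64_im ⁅F, F⁆ F) (helper64_im ⁅F, F⁆ D)
    (helper64_im ⁅F, F⁆ K) hFab' hDF' hKF' hKD' hK1' hDK' hfrob' hsolv' hodd' hcop'
    (helper64_im ⁅F, F⁆ C) hC' hpr'
  -- pull back: `⁅F, ⁅D, D⁆⁆ ≤ ⁅F, F⁆`
  have hcomm : ⁅F, ⁅D, D⁆⁆ ≤ ⁅F, F⁆ := by
    have hT : ⁅D, D⁆ ≤
        ((centralizer ((helper64_im ⁅F, F⁆ F : Subgroup (helper64_Q ⁅F, F⁆)) :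
            Set (helper64_Q ⁅F, F⁆))).comap
          (helper64_pi ⁅F, F⁆)).map (normalizer ((⁅F, F⁆ : Subgroup X) : Set X)).subtype := by
      rw [Subgroup.commutator_le]
      intro a ha b hb
      refine ⟨⁅(⟨a, hDN ha⟩ : ↥(normalizer ((⁅F, F⁆ : Subgroup X) : Set X))), ⟨b, hDN hb⟩⁆,
        ?_, ?_⟩
      · rw [SetLike.mem_coe, Subgroup.mem_comap, map_commutatorElement]
        exact hres (Subgroup.commutator_mem_commutator (helper64_mem_im ⁅F, F⁆ D _ ha)
          (helper64_mem_im ⁅F, F⁆ D _ hb))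
      · simp [commutatorElement_def]
    rw [Subgroup.commutator_le]
    intro f hf x hx
    obtain ⟨x', hx', rfl⟩ := hT hx
    have hxc := Subgroup.mem_centralizer_iff.mp (Subgroup.mem_comap.mp hx') _
      (helper64_mem_im ⁅F, F⁆ F ⟨f, hFN hf⟩ hf)
    have h1 : helper64_pi ⁅F, F⁆
        ⁅(⟨f, hFN hf⟩ : ↥(normalizer ((⁅F, F⁆ : Subgroup X) : Set X))), x'⁆ = 1 := by
      rw [map_commutatorElement, commutatorElement_eq_one_iff_mul_comm]
      exact hxc
    have h2 := (helper64_pi_eq_one_iff ⁅F, F⁆ _).mp h1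
    simpa [commutatorElement_def] using h2
  -- conclusion
  have hD'D : ⁅D, D⁆ ≤ D := Subgroup.commutator_le_self D
  have hD'F : ⁅D, D⁆ ≤ normalizer (F : Set X) := hD'D.trans hDF
  have hD'DK : ⁅D, D⁆ ≤ D ⊔ K := hD'D.trans le_sup_left
  have hcopD' : (Nat.card ↥⁅D, D⁆).Coprime (Nat.card ↥F) :=
    Nat.Coprime.coprime_dvd_left (Subgroup.card_dvd_of_le hD'DK) hcop
  have hsolvD' : Group.IsSolvable ↥⁅D, D⁆ :=
    Cfsg.Agent.Lib.helper1.isSolvable_of_le hD'DK hsolv
  have hsplit := Cfsg.Agent.Lib.helper1.commutator_sup_fixed ⁅D, D⁆ F hD'F hcopD' (Or.inl hsolvD')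
  have hle : F ≤ ⁅F, F⁆ ⊔ (F ⊓ centralizer ((⁅D, D⁆ : Subgroup X) : Set X)) := by
    conv_lhs => rw [← hsplit]
    exact sup_le_sup_right hcomm _
  have hFH := helper64_le_of_le_commutator_sup F _ hFn inf_le_left hle
  intro x hx
  rw [Subgroup.mem_centralizer_iff]
  intro f hf
  exact (Subgroup.mem_centralizer_iff.mp (hFH hf).2 x hx).symm

end Cfsg.Agent.Lib.helper86.BG1356
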