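import Mathlib
import Cfsg.Agent.Lib.helper64.RsSp

set_option autoImplicit false
set_option linter.unusedSectionVars false

/-!
# Element orders of `Sp_8(q)`, `q` even: the analysis (helper64)

Self-reciprocal polynomials over a finite field of characteristic two: blocks (`exists_block`,
`exists_step`), the covering lemmas `cov1` ... `cov4` and the reduction `p1` of a matrix with
self-reciprocal minimal polynomial of degree at most `8`; the final `sp8_orders`.
-/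

namespace Cfsg.Agent.Lib.helper64.EvA

open Polynomial Matrix Cfsg Cfsg.Agent.Lib.helper64.SpBasic Cfsg.Agent.Lib.helper64.SpPG
  Cfsg.Agent.Lib.helper64.PGBasic Cfsg.Agent.Lib.helper64.UIso Cfsg.Agent.Lib.helper64.RsSp

section poly

variable {F : Type*} [Field F]

theorem X_pow_sub_one_dvd {a b : ℕ} (h : a ∣ b) : (X ^ a - 1 : F[X]) ∣ X ^ b - 1 := by
  obtain ⟨c, rfl⟩ := h
  have h1 := sub_dvd_pow_sub_pow (X ^ a : F[X]) 1 c
  rwa [one_pow, ← pow_mul] at h1

theorem coeff_zero_ne (f : F[X]) (N : ℕ) (hN : 0 < N) (h : f ∣ X ^ N - 1) : f.coeff 0 ≠ 0 := by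
  obtain ⟨g, hg⟩ := h
  have h1 := congrArg (fun p => Polynomial.coeff p 0) hg
  simp only [Polynomial.mul_coeff_zero, coeff_sub, coeff_X_pow, coeff_one_zero] at h1
  intro h0
  rw [h0, zero_mul, if_neg hN.ne] at h1
  simp at h1

theorem natDegree_reverse' (f : F[X]) (h0 : f.coeff 0 ≠ 0) :
    f.reverse.natDegree = f.natDegree := by
  rw [Polynomial.reverse_natDegree, Polynomial.natTrailingDegree_eq_zero.2 (Or.inr h0),
    Nat.sub_zero]

theorem reverse_reverse' (f : F[X]) (h0 : f.coeff 0 ≠ 0) : f.reverse.reverse = f := by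
  have h1 : f.reverse.reverse = reflect f.reverse.natDegree (reflect f.natDegree f) := rfl
  rw [h1, natDegree_reverse' f h0]
  exact reflect_reflect

theorem reverse_dvd_reverse {f g : F[X]} (h : f ∣ g) : f.reverse ∣ g.reverse := by
  obtain ⟨k, rfl⟩ := h
  rw [Polynomial.reverse_mul_of_domain]
  exact dvd_mul_right _ _

theorem reverse_pow' (f : F[X]) (e : ℕ) : (f ^ e).reverse = f.reverse ^ e := by
  induction e with
  | zero =>
    rw [pow_zero, pow_zero]
    have h1 : (1 : F[X]) = C 1 := by simp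
    rw [h1, Polynomial.reverse_C]
  | succ e ih => rw [pow_succ, Polynomial.reverse_mul_of_domain, ih, pow_succ]

theorem pow_two_pow_sub_one [CharP F 2] (T c : ℕ) :
    ((X : F[X]) ^ T - 1) ^ 2 ^ c = X ^ (2 ^ c * T) - 1 := by
  have : Fact (Nat.Prime 2) := ⟨Nat.prime_two⟩
  rw [sub_pow_char_pow, one_pow, ← pow_mul, mul_comm]

theorem dvd_mul_gcd (μ x b g u v : F[X]) (hg : g = μ * u + b * v) (h : μ ∣ x * b) :
    μ ∣ x * g := by
  rw [hg, mul_add]
  apply dvd_add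
  · exact Dvd.intro (x * u) (by ring)
  · rw [← mul_assoc]
    exact Dvd.dvd.mul_right h _

theorem dvd_mul_gcd_pow (μ b g u v : F[X]) (hg : g = μ * u + b * v) (n : ℕ) :
    ∀ a : F[X], μ ∣ a * b ^ n → μ ∣ a * g ^ n := by
  induction n with
  | zero =>
    intro a h
    simpa using h
  | succ n ih =>
    intro a h
    have h1 : μ ∣ (a * b) * b ^ n := by
      have h2 : a * b * b ^ n = a * b ^ (n + 1) := by ring
      rw [h2]
      exact h
    have h3 := ih (a * b) h1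
    have h4 : μ ∣ (a * g ^ n) * b := by
      have h2 : a * g ^ n * b = a * b * g ^ n := by ring
      rw [h2]
      exact h3
    have h5 := dvd_mul_gcd μ _ b g u v hg h4
    have h6 : a * g ^ (n + 1) = a * g ^ n * g := by ring
    rw [h6]
    exact h5

/-- `S` divides `X ^ m - 1`, is prime to `X - 1` and is self-reciprocal -/
def Good (m : ℕ) (S : F[X]) : Prop :=
  S ∣ X ^ m - 1 ∧ IsCoprime S (X - 1) ∧ S.reverse ∣ S

theorem X_pow_sub_one_ne (m : ℕ) (hm : 0 < m) : (X ^ m - 1 : F[X]) ≠ 0 := by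
  have h1 := Polynomial.X_pow_sub_C_ne_zero (R := F) hm 1
  rwa [map_one] at h1

theorem Good.ne_zero {m : ℕ} (hm : 0 < m) {S : F[X]} (hS : Good m S) : S ≠ 0 := by
  intro h
  have h1 := hS.1
  rw [h, zero_dvd_iff] at h1
  exact X_pow_sub_one_ne m hm h1

theorem Good.separable {m : ℕ} (hmF : ((m : ℕ) : F) ≠ 0) {S : F[X]} (hS : Good m S) :
    S.Separable := by
  have h1 := Polynomial.separable_X_pow_sub_C (1 : F) hmF one_ne_zero
  rw [map_one] at h1
  exact h1.of_dvd hS.1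

theorem assoc_reverse {m : ℕ} (hm : 0 < m) {g : F[X]} (hg : g ∣ X ^ m - 1)
    (hrev : g.reverse ∣ g) : Associated g.reverse g := by
  have hg0 : g ≠ 0 := by
    intro h
    rw [h, zero_dvd_iff] at hg
    exact X_pow_sub_one_ne m hm hg
  exact associated_of_dvd_of_natDegree_le hrev hg0
    (le_of_eq (natDegree_reverse' g (coeff_zero_ne g m hm hg)).symm)

theorem Good.of_mul {m : ℕ} (hm : 0 < m) {g S₁ : F[X]} (hS : Good m (g * S₁))
    (hrev : g.reverse ∣ g) : Good m S₁ := by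
  obtain ⟨h1, h2, h3⟩ := hS
  have hg : g ∣ X ^ m - 1 := (dvd_mul_right g S₁).trans h1
  have hg0 : g ≠ 0 := by
    intro h
    rw [h, zero_dvd_iff] at hg
    exact X_pow_sub_one_ne m hm hg
  refine ⟨(dvd_mul_left S₁ g).trans h1, h2.of_mul_left_right, ?_⟩
  rw [Polynomial.reverse_mul_of_domain] at h3
  have h4 : g * S₁.reverse ∣ g * S₁ :=
    (mul_dvd_mul_right (assoc_reverse hm hg hrev).symm.dvd _).trans h3
  exact (mul_dvd_mul_iff_left hg0).1 h4

end poly

section finite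

variable {F : Type*} [Field F] [Fintype F] [CharP F 2]

/-- a self-reciprocal irreducible factor of `X ^ N - 1` other than `X - 1` has even degree `2 η`
and divides `X ^ (q ^ η + 1) - 1` -/
theorem sr_structure (f : F[X]) (hf : Irreducible f) (N : ℕ) (hN : 0 < N)
    (hfN : f ∣ X ^ N - 1) (hrev : f ∣ f.reverse) (h1 : ¬ f ∣ X - 1) :
    ∃ η : ℕ, 0 < η ∧ f.natDegree = 2 * η ∧ f ∣ X ^ (Fintype.card F ^ η + 1) - 1 := by
  classical
  have : Fact (Irreducible f) := ⟨hf⟩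
  have hf0 : f ≠ 0 := hf.ne_zero
  have : Finite (AdjoinRoot f) := finite_adjoinRoot f hf0
  set ρ := AdjoinRoot.root f with hρ
  have hρN : ρ ^ N = 1 := root_pow_eq_one_of_dvd f N hfN
  have hρ0 : ρ ≠ 0 := by
    intro h
    rw [h, zero_pow hN.ne'] at hρN
    exact zero_ne_one hρN
  let _ : Invertible (ρ⁻¹) := ⟨ρ, mul_inv_cancel₀ hρ0, inv_mul_cancel₀ hρ0⟩
  have h1' : eval₂ (algebraMap F (AdjoinRoot f)) ρ f.reverse = 0 := by
    have h5 : AdjoinRoot.mk f f.reverse = 0 := AdjoinRoot.mk_eq_zero.2 hrev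
    rw [← AdjoinRoot.aeval_eq] at h5
    exact h5
  have h2 : eval₂ (algebraMap F (AdjoinRoot f)) (ρ⁻¹) f = 0 := by
    have h3 := Polynomial.eval₂_reverse_mul_pow (algebraMap F (AdjoinRoot f)) (ρ⁻¹) f
    have : (⅟(ρ⁻¹)) = ρ := rfl
    rw [this, h1', zero_mul] at h3
    exact h3.symm
  let τ : AdjoinRoot f →ₐ[F] AdjoinRoot f :=
    AdjoinRoot.liftAlgHom f (Algebra.ofId F (AdjoinRoot f)) (ρ⁻¹) h2
  have hτ : τ ρ = ρ⁻¹ :=
    AdjoinRoot.liftAlgHom_root f (Algebra.ofId F (AdjoinRoot f)) (ρ⁻¹) h2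
  obtain ⟨⟨i, hi⟩, hiτ⟩ := (FiniteField.bijective_frobeniusAlgHom_pow F (AdjoinRoot f)).2 τ
  have hfr : Module.finrank F (AdjoinRoot f) = f.natDegree := by
    rw [(AdjoinRoot.powerBasis hf0).finrank, AdjoinRoot.powerBasis_dim]
  have h4 : ∀ j : ℕ, (FiniteField.frobeniusAlgHom F (AdjoinRoot f) ^ j) ρ
      = ρ ^ (Fintype.card F ^ j) := by
    intro j
    rw [AlgHom.coe_pow, FiniteField.coe_frobeniusAlgHom, pow_iterate]
  have h5 : ρ ^ (Fintype.card F ^ i) = ρ⁻¹ := by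
    rw [← h4, ← hτ]
    exact congrArg (fun φ : AdjoinRoot f →ₐ[F] AdjoinRoot f => φ ρ) hiτ
  have h6 : ρ ^ (Fintype.card F ^ i + 1) = 1 := by rw [pow_succ, h5, inv_mul_cancel₀ hρ0]
  have h7 : FiniteField.frobeniusAlgHom F (AdjoinRoot f) ^ (2 * i) = 1 := by
    apply AdjoinRoot.algHom_ext
    rw [h4, two_mul, pow_add, pow_mul, h5, inv_pow, h5, inv_inv]
    rfl
  have h8 : f.natDegree ∣ 2 * i := by
    rw [← hfr, ← FiniteField.orderOf_frobeniusAlgHom F (AdjoinRoot f)]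
    exact orderOf_dvd_of_pow_eq_one h7
  rw [hfr] at hi
  have hi0 : i ≠ 0 := by
    intro h0
    rw [h0, pow_zero] at h6
    apply h1
    apply AdjoinRoot.mk_eq_zero.1
    rw [map_sub, AdjoinRoot.mk_X, map_one]
    have h9 : (ρ - 1) ^ 2 = 0 := by
      have h10 : (2 : AdjoinRoot f) = 0 := by
        have h11 : (2 : F) = 0 := CharTwo.two_eq_zero
        have h12 : algebraMap F (AdjoinRoot f) 2 = 0 := by rw [h11, map_zero]
        rwa [map_ofNat] at h12
      have h13 : ρ ^ 2 = 1 := h6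
      linear_combination h13 - ρ * h10 + h10
    exact pow_eq_zero_iff (two_ne_zero) |>.1 h9
  obtain ⟨c, hc⟩ := h8
  have hd0 : 0 < f.natDegree := hf.natDegree_pos
  have hc1 : c = 1 := by
    have h9 : c < 2 := by
      by_contra h10
      have h11 : 2 ≤ c := by omega
      have h12 : f.natDegree * 2 ≤ f.natDegree * c := Nat.mul_le_mul_left _ h11
      omega
    have h10 : c ≠ 0 := by
      intro h0
      rw [h0, mul_zero] at hc
      omega
    omega
  rw [hc1, mul_one] at hc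
  exact ⟨i, by omega, hc.symm, dvd_of_root_pow_eq_one f _ h6⟩

variable (m : ℕ) (hm : 0 < m) (hmF : ((m : ℕ) : F) ≠ 0)

include hm in
/-- the block of an irreducible factor of a good polynomial -/
theorem exists_block (S : F[X]) (hS : Good m S) (f : F[X]) (hf : Irreducible f) (hfS : f ∣ S) :
    ∃ (η : ℕ) (g : F[X]), 0 < η ∧ g ∣ S ∧ f ∣ g ∧ g.natDegree = 2 * η ∧ g.reverse ∣ g ∧
      (g ∣ X ^ (Fintype.card F ^ η - 1) - 1 ∨ g ∣ X ^ (Fintype.card F ^ η + 1) - 1) ∧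
      ∀ (e : ℕ) (P : F[X]), f ^ e ∣ P → P.reverse ∣ P → g ^ e ∣ P := by
  obtain ⟨hSm, hS1, hSrev⟩ := hS
  have hfm : f ∣ X ^ m - 1 := hfS.trans hSm
  have hf1 : ¬ f ∣ X - 1 := fun h => hf.not_isUnit (hS1.isUnit_of_dvd' hfS h)
  have hf0 : f.coeff 0 ≠ 0 := coeff_zero_ne f m hm hfm
  have hdr : f.reverse.natDegree = f.natDegree := natDegree_reverse' f hf0
  have hr0 : f.reverse ≠ 0 := by
    rw [Ne, Polynomial.reverse_eq_zero]
    exact hf.ne_zero
  by_cases hrev : f ∣ f.reverse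
  · obtain ⟨η, hη, hdeg, hdvd⟩ := sr_structure f hf m hm hfm hrev hf1
    have hass : Associated f f.reverse :=
      associated_of_dvd_of_natDegree_le hrev hr0 (le_of_eq hdr)
    exact ⟨η, f, hη, hfS, dvd_refl f, hdeg, hass.symm.dvd, Or.inr hdvd, fun e P h _ => h⟩
  · have hcop : IsCoprime f f.reverse := (hf.coprime_iff_not_dvd).2 hrev
    have hrS : f.reverse ∣ S := (reverse_dvd_reverse hfS).trans hSrev
    have hd0 : 0 < f.natDegree := hf.natDegree_pos
    refine ⟨f.natDegree, f * f.reverse, hd0, hcop.mul_dvd hfS hrS, dvd_mul_right _ _, ?_, ?_,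
      Or.inl ?_, ?_⟩
    · rw [Polynomial.natDegree_mul hf.ne_zero hr0, hdr]
      ring
    · rw [Polynomial.reverse_mul_of_domain, reverse_reverse' f hf0, mul_comm]
    · have hρ0 : AdjoinRoot.root f ≠ 0 := by
        intro h
        have h3 := root_pow_eq_one_of_dvd f m hfm
        rw [h, zero_pow hm.ne'] at h3
        have : Fact (Irreducible f) := ⟨hf⟩
        exact zero_ne_one h3
      have h3 : f ∣ X ^ (Fintype.card F ^ f.natDegree - 1) - 1 :=
        dvd_of_root_pow_eq_one f _ (root_pow_card_sub_one f hf hρ0)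
      exact hcop.mul_dvd h3 (reverse_dvd_of_dvd f _ h3)
    · intro e P hP hPrev
      have h4 : f.reverse ^ e ∣ P := by
        have h5 := reverse_dvd_reverse hP
        rw [reverse_pow'] at h5
        exact h5.trans hPrev
      have hc : IsCoprime (f ^ e) (f.reverse ^ e) := hcop.pow
      rw [mul_pow]
      exact hc.mul_dvd hP h4

theorem isUnit_of_natDegree_eq_zero {S : F[X]} (hS0 : S ≠ 0) (h : S.natDegree = 0) :
    IsUnit S := by
  obtain ⟨c, hc⟩ := Polynomial.natDegree_eq_zero.1 h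
  rw [← hc]
  apply Polynomial.isUnit_C.2
  rw [isUnit_iff_ne_zero]
  intro h0
  apply hS0
  rw [← hc, h0, map_zero]

include hm hmF in
theorem exists_step (S : F[X]) (hS : Good m S) (hdeg : 0 < S.natDegree) :
    ∃ (η : ℕ) (g S₁ : F[X]), 0 < η ∧ S = g * S₁ ∧ g.natDegree = 2 * η ∧
      (g ∣ X ^ (Fintype.card F ^ η - 1) - 1 ∨ g ∣ X ^ (Fintype.card F ^ η + 1) - 1) ∧
      Good m S₁ ∧ IsCoprime g S₁ ∧ S.natDegree = 2 * η + S₁.natDegree := by
  have hS0 : S ≠ 0 := hS.ne_zero hm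
  have hnu : ¬ IsUnit S := by
    intro h
    have := Polynomial.natDegree_eq_zero_of_isUnit h
    omega
  obtain ⟨f, hf, hfS⟩ := WfDvdMonoid.exists_irreducible_factor hnu hS0
  obtain ⟨η, g, hη, hgS, -, hgdeg, hgrev, hgdvd, -⟩ := exists_block m hm S hS f hf hfS
  obtain ⟨S₁, hS₁⟩ := hgS
  have hsep := hS.separable hmF
  rw [hS₁] at hsep hS
  have hg0 : g ≠ 0 := by
    intro h
    rw [h, zero_mul] at hS₁
    exact hS0 hS₁
  have hS₁0 : S₁ ≠ 0 := by
    intro h
    rw [h, mul_zero] at hS₁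
    exact hS0 hS₁
  refine ⟨η, g, S₁, hη, hS₁, hgdeg, hgdvd, hS.of_mul hm hgrev, hsep.isCoprime, ?_⟩
  rw [hS₁, Polynomial.natDegree_mul hg0 hS₁0, hgdeg]

include hm hmF in
theorem good_even : ∀ (n : ℕ) (S : F[X]), Good m S → S.natDegree ≤ n → Even S.natDegree := by
  intro n
  induction n with
  | zero =>
    intro S _ h
    have h0 : S.natDegree = 0 := by omega
    rw [h0]
    exact Even.zero
  | succ n ih =>
    intro S hS h
    by_cases h0 : S.natDegree = 0
    · rw [h0]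
      exact Even.zero
    · obtain ⟨η, g, S₁, hη, -, -, -, hS₁, -, hdeg⟩ := exists_step m hm hmF S hS (by omega)
      have h1 := ih S₁ hS₁ (by omega)
      rw [hdeg]
      exact (even_two_mul η).add h1

theorem A1 (q : ℕ) : q - 1 ∣ q ^ 2 - 1 := by
  exact Nat.sub_one_dvd_pow_sub_one q 2

theorem e2 (q : ℕ) : q ^ 2 - 1 = (q + 1) * (q - 1) := by
  simpa using Nat.sq_sub_sq q 1

theorem A2 (q : ℕ) : q + 1 ∣ q ^ 2 - 1 := by
  rw [e2]
  exact dvd_mul_right _ _

theorem e4 (q : ℕ) : q ^ 4 - 1 = (q ^ 2 + 1) * (q ^ 2 - 1) := by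
  have h := Nat.sq_sub_sq (q ^ 2) 1
  rw [← pow_mul] at h
  simpa using h

theorem A3 (q : ℕ) : q ^ 2 - 1 ∣ q ^ 4 - 1 := by
  rw [e4]
  exact dvd_mul_left _ _

theorem A4 (q : ℕ) : q ^ 2 + 1 ∣ q ^ 4 - 1 := by
  rw [e4]
  exact dvd_mul_right _ _

theorem A5 (q : ℕ) : q - 1 ∣ q ^ 3 - 1 := by
  exact Nat.sub_one_dvd_pow_sub_one q 3

theorem A6 (q : ℕ) : q + 1 ∣ q ^ 3 + 1 := by
  simpa using Odd.nat_add_dvd_pow_add_pow q 1 (by decide : Odd 3)

theorem B1 (q : ℕ) : (q ^ 2 + 1) * (q + 1) ∣ q ^ 4 - 1 := by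
  rw [e4]
  exact mul_dvd_mul_left _ (A2 q)

theorem B2 (q : ℕ) : (q ^ 2 + 1) * (q - 1) ∣ q ^ 4 - 1 := by
  rw [e4]
  exact mul_dvd_mul_left _ (A1 q)

theorem comb {S g S₁ : F[X]} (hS : S = g * S₁) (hc : IsCoprime g S₁) {a b T : ℕ}
    (hg : g ∣ X ^ a - 1) (h1 : S₁ ∣ X ^ b - 1) (ha : a ∣ T) (hb : b ∣ T) : S ∣ X ^ T - 1 := by
  rw [hS]
  exact hc.mul_dvd (hg.trans (X_pow_sub_one_dvd ha)) (h1.trans (X_pow_sub_one_dvd hb))

include hm hmF in
theorem cov1 (S : F[X]) (hS : Good m S) (hd : S.natDegree ≤ 2) :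
    S ∣ X ^ (Fintype.card F - 1) - 1 ∨ S ∣ X ^ (Fintype.card F + 1) - 1 := by
  by_cases h0 : S.natDegree = 0
  · exact Or.inl (isUnit_of_natDegree_eq_zero (hS.ne_zero hm) h0).dvd
  · obtain ⟨η, g, S₁, hη, hSg, -, hg, hS₁, hc, hdeg⟩ := exists_step m hm hmF S hS (by omega)
    have hη1 : η = 1 := by omega
    subst hη1
    rw [pow_one] at hg
    have hu : IsUnit S₁ := isUnit_of_natDegree_eq_zero (hS₁.ne_zero hm) (by omega)
    rcases hg with hg | hg
    · exact Or.inl (comb hSg hc hg hu.dvd (dvd_refl _) (dvd_refl _))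
    · exact Or.inr (comb hSg hc hg hu.dvd (dvd_refl _) (dvd_refl _))

include hm hmF in
theorem cov2 (S : F[X]) (hS : Good m S) (hd : S.natDegree ≤ 4) :
    S ∣ X ^ (Fintype.card F ^ 2 - 1) - 1 ∨ S ∣ X ^ (Fintype.card F ^ 2 + 1) - 1 := by
  by_cases h0 : S.natDegree = 0
  · exact Or.inl (isUnit_of_natDegree_eq_zero (hS.ne_zero hm) h0).dvd
  · obtain ⟨η, g, S₁, hη, hSg, -, hg, hS₁, hc, hdeg⟩ := exists_step m hm hmF S hS (by omega)
    have hη2 : η = 1 ∨ η = 2 := by omega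
    rcases hη2 with rfl | rfl
    · rw [pow_one] at hg
      have h1 := cov1 m hm hmF S₁ hS₁ (by omega)
      left
      rcases hg with hg | hg <;> rcases h1 with h1 | h1
      · exact comb hSg hc hg h1 (A1 _) (A1 _)
      · exact comb hSg hc hg h1 (A1 _) (A2 _)
      · exact comb hSg hc hg h1 (A2 _) (A1 _)
      · exact comb hSg hc hg h1 (A2 _) (A2 _)
    · have hu : IsUnit S₁ := isUnit_of_natDegree_eq_zero (hS₁.ne_zero hm) (by omega)
      rcases hg with hg | hg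
      · exact Or.inl (comb hSg hc hg hu.dvd (dvd_refl _) (dvd_refl _))
      · exact Or.inr (comb hSg hc hg hu.dvd (dvd_refl _) (dvd_refl _))

include hm hmF in
theorem cov3 (S : F[X]) (hS : Good m S) (hd : S.natDegree ≤ 6) :
    S ∣ X ^ (Fintype.card F ^ 3 - 1) - 1 ∨ S ∣ X ^ (Fintype.card F ^ 3 + 1) - 1 ∨
      S ∣ X ^ ((Fintype.card F ^ 2 + 1) * (Fintype.card F + 1)) - 1 ∨
      S ∣ X ^ ((Fintype.card F ^ 2 + 1) * (Fintype.card F - 1)) - 1 ∨
      S ∣ X ^ (Fintype.card F ^ 2 - 1) - 1 := by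
  by_cases h0 : S.natDegree = 0
  · exact Or.inl (isUnit_of_natDegree_eq_zero (hS.ne_zero hm) h0).dvd
  · obtain ⟨η, g, S₁, hη, hSg, -, hg, hS₁, hc, hdeg⟩ := exists_step m hm hmF S hS (by omega)
    have hη2 : η = 1 ∨ η = 2 ∨ η = 3 := by omega
    rcases hη2 with rfl | rfl | rfl
    · rw [pow_one] at hg
      have h1 := cov2 m hm hmF S₁ hS₁ (by omega)
      rcases hg with hg | hg <;> rcases h1 with h1 | h1
      · exact Or.inr (Or.inr (Or.inr (Or.inr (comb hSg hc hg h1 (A1 _) (dvd_refl _)))))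
      · exact Or.inr (Or.inr (Or.inr (Or.inl
          (comb hSg hc hg h1 (dvd_mul_left _ _) (dvd_mul_right _ _)))))
      · exact Or.inr (Or.inr (Or.inr (Or.inr (comb hSg hc hg h1 (A2 _) (dvd_refl _)))))
      · exact Or.inr (Or.inr (Or.inl
          (comb hSg hc hg h1 (dvd_mul_left _ _) (dvd_mul_right _ _))))
    · have h1 := cov1 m hm hmF S₁ hS₁ (by omega)
      rcases hg with hg | hg <;> rcases h1 with h1 | h1
      · exact Or.inr (Or.inr (Or.inr (Or.inr (comb hSg hc hg h1 (dvd_refl _) (A1 _)))))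
      · exact Or.inr (Or.inr (Or.inr (Or.inr (comb hSg hc hg h1 (dvd_refl _) (A2 _)))))
      · exact Or.inr (Or.inr (Or.inr (Or.inl
          (comb hSg hc hg h1 (dvd_mul_right _ _) (dvd_mul_left _ _)))))
      · exact Or.inr (Or.inr (Or.inl
          (comb hSg hc hg h1 (dvd_mul_right _ _) (dvd_mul_left _ _))))
    · have hu : IsUnit S₁ := isUnit_of_natDegree_eq_zero (hS₁.ne_zero hm) (by omega)
      rcases hg with hg | hg
      · exact Or.inl (comb hSg hc hg hu.dvd (dvd_refl _) (dvd_refl _))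
      · exact Or.inr (Or.inl (comb hSg hc hg hu.dvd (dvd_refl _) (dvd_refl _)))

include hm hmF in
theorem cov4 (S : F[X]) (hS : Good m S) (hd : S.natDegree ≤ 8) :
    S ∣ X ^ (Fintype.card F ^ 4 + 1) - 1 ∨ S ∣ X ^ (Fintype.card F ^ 4 - 1) - 1 ∨
      S ∣ X ^ ((Fintype.card F ^ 3 - 1) * (Fintype.card F + 1)) - 1 ∨
      S ∣ X ^ ((Fintype.card F ^ 3 + 1) * (Fintype.card F - 1)) - 1 := by
  by_cases h0 : S.natDegree = 0
  · exact Or.inl (isUnit_of_natDegree_eq_zero (hS.ne_zero hm) h0).dvd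
  · obtain ⟨η, g, S₁, hη, hSg, -, hg, hS₁, hc, hdeg⟩ := exists_step m hm hmF S hS (by omega)
    have hη2 : η = 1 ∨ η = 2 ∨ η = 3 ∨ η = 4 := by omega
    rcases hη2 with rfl | rfl | rfl | rfl
    · rw [pow_one] at hg
      have h1 := cov3 m hm hmF S₁ hS₁ (by omega)
      rcases hg with hg | hg <;> rcases h1 with h1 | h1 | h1 | h1 | h1
      · exact Or.inr (Or.inr (Or.inl
          (comb hSg hc hg h1 ((A5 _).trans (dvd_mul_right _ _)) (dvd_mul_right _ _))))
      · exact Or.inr (Or.inr (Or.inr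
          (comb hSg hc hg h1 (dvd_mul_left _ _) (dvd_mul_right _ _))))
      · exact Or.inr (Or.inl (comb hSg hc hg h1 ((A1 _).trans (A3 _)) (B1 _)))
      · exact Or.inr (Or.inl (comb hSg hc hg h1 ((A1 _).trans (A3 _)) (B2 _)))
      · exact Or.inr (Or.inl (comb hSg hc hg h1 ((A1 _).trans (A3 _)) (A3 _)))
      · exact Or.inr (Or.inr (Or.inl
          (comb hSg hc hg h1 (dvd_mul_left _ _) (dvd_mul_right _ _))))
      · exact Or.inr (Or.inr (Or.inr
          (comb hSg hc hg h1 ((A6 _).trans (dvd_mul_right _ _)) (dvd_mul_right _ _))))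
      · exact Or.inr (Or.inl (comb hSg hc hg h1 ((A2 _).trans (A3 _)) (B1 _)))
      · exact Or.inr (Or.inl (comb hSg hc hg h1 ((A2 _).trans (A3 _)) (B2 _)))
      · exact Or.inr (Or.inl (comb hSg hc hg h1 ((A2 _).trans (A3 _)) (A3 _)))
    · have h1 := cov2 m hm hmF S₁ hS₁ (by omega)
      right
      left
      rcases hg with hg | hg <;> rcases h1 with h1 | h1
      · exact comb hSg hc hg h1 (A3 _) (A3 _)
      · exact comb hSg hc hg h1 (A3 _) (A4 _)
      · exact comb hSg hc hg h1 (A4 _) (A3 _)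
      · exact comb hSg hc hg h1 (A4 _) (A4 _)
    · have h1 := cov1 m hm hmF S₁ hS₁ (by omega)
      rcases hg with hg | hg <;> rcases h1 with h1 | h1
      · exact Or.inr (Or.inr (Or.inl
          (comb hSg hc hg h1 (dvd_mul_right _ _) ((A5 _).trans (dvd_mul_right _ _)))))
      · exact Or.inr (Or.inr (Or.inl
          (comb hSg hc hg h1 (dvd_mul_right _ _) (dvd_mul_left _ _))))
      · exact Or.inr (Or.inr (Or.inr
          (comb hSg hc hg h1 (dvd_mul_right _ _) (dvd_mul_left _ _))))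
      · exact Or.inr (Or.inr (Or.inr
          (comb hSg hc hg h1 (dvd_mul_right _ _) ((A6 _).trans (dvd_mul_right _ _)))))
    · have hu : IsUnit S₁ := isUnit_of_natDegree_eq_zero (hS₁.ne_zero hm) (by omega)
      rcases hg with hg | hg
      · exact Or.inr (Or.inl (comb hSg hc hg hu.dvd (dvd_refl _) (dvd_refl _)))
      · exact Or.inl (comb hSg hc hg hu.dvd (dvd_refl _) (dvd_refl _))

omit [Fintype F] in
theorem natDegree_X_sub_one : (X - 1 : F[X]).natDegree = 1 := by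
  have h := Polynomial.natDegree_X_sub_C (1 : F)
  rwa [map_one] at h

/-- reduction of a matrix of finite order with self-reciprocal minimal polynomial -/
theorem p1 {ι : Type*} [Fintype ι] [DecidableEq ι] [Nonempty ι] (hcard : Fintype.card ι = 8)
    (A : Matrix ι ι F) (hrev : ∀ f : F[X], f ∣ minpoly F A → f.reverse ∣ minpoly F A)
    (N : ℕ) (hN : 0 < N) (hAN : A ^ N = 1) :
    ∃ (m c : ℕ) (S : F[X]), 0 < m ∧ ((m : ℕ) : F) ≠ 0 ∧ Good m S ∧ S.natDegree + 2 * c ≤ 8 ∧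
      c ≤ 3 ∧ ∀ T : ℕ, S ∣ X ^ T - 1 → A ^ (2 ^ c * T) = 1 := by
  classical
  obtain ⟨μ, hμ⟩ : ∃ μ : F[X], μ = minpoly F A := ⟨_, rfl⟩
  rw [← hμ] at hrev
  have hμ0 : μ ≠ 0 := by
    rw [hμ]
    exact (minpoly.monic (Matrix.isIntegral A)).ne_zero
  have hμdeg : μ.natDegree ≤ 8 := by
    rw [hμ, ← hcard]
    exact natDegree_minpoly_le_card A
  have hμN : μ ∣ X ^ N - 1 := by
    rw [hμ]
    exact minpoly.dvd F A (by simp [hAN])
  have hμnu : ¬ IsUnit μ := by
    rw [hμ]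
    exact minpoly.not_isUnit F A
  obtain ⟨k, m, hmodd, hNkm⟩ := Nat.exists_eq_two_pow_mul_odd hN.ne'
  have hm : 0 < m := hmodd.pos
  have hmF : ((m : ℕ) : F) ≠ 0 := by
    rw [Ne, CharP.cast_eq_zero_iff F 2]
    exact hmodd.not_two_dvd_nat
  obtain ⟨R₀, hR₀⟩ : ∃ R₀ : F[X], X ^ m - 1 = (X - 1) * R₀ := by
    have h1 := sub_dvd_pow_sub_pow (X : F[X]) 1 m
    rw [one_pow] at h1
    exact h1
  have hsep : (X ^ m - 1 : F[X]).Separable := by
    have h1 := Polynomial.separable_X_pow_sub_C (1 : F) hmF one_ne_zero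
    rwa [map_one] at h1
  have hcop0 : IsCoprime (X - 1 : F[X]) R₀ := by
    rw [hR₀] at hsep
    exact hsep.isCoprime
  have hX1 : (X - 1 : F[X]) ≠ 0 := by
    have h1 := Polynomial.X_sub_C_ne_zero (1 : F)
    rwa [map_one] at h1
  have hR₀rev : R₀.reverse = R₀ := by
    have h1 := congrArg Polynomial.reverse hR₀
    rw [reverse_X_pow_sub_one, Polynomial.reverse_mul_of_domain] at h1
    have h2 : (X - 1 : F[X]).reverse = 1 - X := by
      have h3 := reverse_X_pow_sub_one (F := F) 1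
      rwa [pow_one] at h3
    rw [h2] at h1
    have h4 : (X - 1 : F[X]) * R₀.reverse = (X - 1) * R₀ := by
      rw [← hR₀]
      linear_combination h1
    exact mul_left_cancel₀ hX1 h4
  obtain ⟨S, hSdef⟩ : ∃ S : F[X], S = EuclideanDomain.gcd μ R₀ := ⟨_, rfl⟩
  have hSμ : S ∣ μ := by
    rw [hSdef]
    exact EuclideanDomain.gcd_dvd_left μ R₀
  have hSR : S ∣ R₀ := by
    rw [hSdef]
    exact EuclideanDomain.gcd_dvd_right μ R₀
  have hbez : S = μ * EuclideanDomain.gcdA μ R₀ + R₀ * EuclideanDomain.gcdB μ R₀ := by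
    rw [hSdef]
    exact EuclideanDomain.gcd_eq_gcd_ab μ R₀
  have hSgood : Good m S := by
    refine ⟨hSR.trans (by rw [hR₀]; exact dvd_mul_left _ _),
      IsCoprime.of_isCoprime_of_dvd_left hcop0.symm hSR, ?_⟩
    have h1 : S.reverse ∣ EuclideanDomain.gcd μ R₀ := by
      apply EuclideanDomain.dvd_gcd
      · exact hrev S hSμ
      · rw [← hR₀rev]
        exact reverse_dvd_reverse hSR
    rw [← hSdef] at h1
    exact h1
  have hcopS : IsCoprime (X - 1 : F[X]) S := hSgood.2.1.symm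
  obtain ⟨P, hP⟩ : ∃ P : F[X], P = (X - 1) * S := ⟨_, rfl⟩
  have hμP : μ ∣ P ^ 2 ^ k := by
    have h1 : μ ∣ (X - 1) ^ 2 ^ k * R₀ ^ 2 ^ k := by
      rw [← mul_pow, ← hR₀, pow_two_pow_sub_one, ← hNkm]
      exact hμN
    have h2 := dvd_mul_gcd_pow μ R₀ S _ _ hbez (2 ^ k) _ h1
    rw [hP, mul_pow]
    exact h2
  have hex : ∃ j : ℕ, μ ∣ P ^ j := ⟨_, hμP⟩
  obtain ⟨e, he⟩ : ∃ e : ℕ, e = Nat.find hex := ⟨_, rfl⟩
  have heμ : μ ∣ P ^ e := by
    rw [he]
    exact Nat.find_spec hex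
  have hemin : ∀ j : ℕ, j < e → ¬ μ ∣ P ^ j := by
    intro j hj
    rw [he] at hj
    exact Nat.find_min hex hj
  have he1 : 1 ≤ e := by
    by_contra h
    have h0 : e = 0 := by omega
    rw [h0, pow_zero] at heμ
    exact hμnu (isUnit_of_dvd_one heμ)
  -- an irreducible factor of full multiplicity
  obtain ⟨f₀, hf₀, hf₀P, hf₀μ⟩ : ∃ f₀ : F[X], Irreducible f₀ ∧ f₀ ∣ P ∧ f₀ ^ e ∣ μ := by
    obtain ⟨D, hD⟩ : ∃ D : F[X], D = EuclideanDomain.gcd μ (P ^ (e - 1)) := ⟨_, rfl⟩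
    have hDμ : D ∣ μ := by
      rw [hD]
      exact EuclideanDomain.gcd_dvd_left _ _
    have hDP : D ∣ P ^ (e - 1) := by
      rw [hD]
      exact EuclideanDomain.gcd_dvd_right _ _
    obtain ⟨μ', hμ'⟩ := hDμ
    have hμ'0 : μ' ≠ 0 := by
      intro h
      rw [h, mul_zero] at hμ'
      exact hμ0 hμ'
    have hμ'nu : ¬ IsUnit μ' := by
      intro hu
      apply hemin (e - 1) (by omega)
      have h1 : μ ∣ D := by
        rw [hμ']
        exact (IsUnit.mul_right_dvd hu).2 (dvd_refl D)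
      exact h1.trans hDP
    obtain ⟨f₀, hf₀, hf₀μ'⟩ := WfDvdMonoid.exists_irreducible_factor hμ'nu hμ'0
    have hf₀μ : f₀ ∣ μ := hf₀μ'.trans (by rw [hμ']; exact dvd_mul_left _ _)
    have hf₀P : f₀ ∣ P := hf₀.prime.dvd_of_dvd_pow (hf₀μ.trans heμ)
    have hind : ∀ i : ℕ, i ≤ e - 1 → f₀ ^ i ∣ D := by
      intro i
      induction i with
      | zero =>
        intro _
        rw [pow_zero]
        exact one_dvd _
      | succ i ih =>
        intro hi
        have h1 := ih (by omega)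
        have h2 : f₀ ^ (i + 1) ∣ μ := by
          rw [hμ', pow_succ]
          exact mul_dvd_mul h1 hf₀μ'
        have h3 : f₀ ^ (i + 1) ∣ P ^ (e - 1) :=
          (pow_dvd_pow_of_dvd hf₀P (i + 1)).trans (pow_dvd_pow P hi)
        rw [hD]
        exact EuclideanDomain.dvd_gcd h2 h3
    refine ⟨f₀, hf₀, hf₀P, ?_⟩
    have h1 := hind (e - 1) (le_refl _)
    have h2 : f₀ ^ e = f₀ ^ (e - 1) * f₀ := by rw [← pow_succ, Nat.sub_add_cancel he1]
    rw [h2, hμ']
    exact mul_dvd_mul h1 hf₀μ'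
  have hμrev : μ.reverse ∣ μ := hrev μ (dvd_refl μ)
  have hfin : ∀ c : ℕ, e ≤ 2 ^ c → ∀ T : ℕ, S ∣ X ^ T - 1 → A ^ (2 ^ c * T) = 1 := by
    intro c hc T hT
    have h1 : P ∣ X ^ T - 1 := by
      rw [hP]
      refine hcopS.mul_dvd ?_ hT
      have h2 := sub_dvd_pow_sub_pow (X : F[X]) 1 T
      rwa [one_pow] at h2
    have h2 : μ ∣ X ^ (2 ^ c * T) - 1 := by
      rw [← pow_two_pow_sub_one]
      exact heμ.trans ((pow_dvd_pow P hc).trans (pow_dvd_pow_of_dvd h1 _))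
    have h3 : aeval A (X ^ (2 ^ c * T) - 1 : F[X]) = 0 := by
      obtain ⟨g, hg⟩ := h2
      rw [hg, map_mul, hμ, minpoly.aeval, zero_mul]
    simpa [sub_eq_zero] using h3
  have hS0 := hSgood.ne_zero hm
  rw [hP] at hf₀P
  rcases hf₀.prime.dvd_or_dvd hf₀P with h | h
  · -- the unipotent part carries the multiplicity
    have hirr : Irreducible (X - 1 : F[X]) := by
      have h1 := Polynomial.irreducible_X_sub_C (1 : F)
      rwa [map_one] at h1
    have hass : Associated f₀ (X - 1) := hf₀.associated_of_dvd hirr h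
    have h1 : (X - 1 : F[X]) ^ e ∣ μ := (pow_dvd_pow_of_dvd hass.symm.dvd e).trans hf₀μ
    have h2 : (X - 1 : F[X]) ^ e * S ∣ μ := (hcopS.pow_left).mul_dvd h1 hSμ
    have h3 := Polynomial.natDegree_le_of_dvd h2 hμ0
    rw [Polynomial.natDegree_mul (pow_ne_zero _ hX1) hS0, Polynomial.natDegree_pow,
      natDegree_X_sub_one] at h3
    obtain ⟨t, ht⟩ := good_even m hm hmF _ S hSgood (le_refl _)
    have h4 : e + (t + t) ≤ 8 := by omega
    rcases (by omega : e ≤ 1 ∨ e = 2 ∨ (3 ≤ e ∧ e ≤ 4) ∨ 5 ≤ e) with h5 | h5 | h5 | h5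
    · exact ⟨m, 0, S, hm, hmF, hSgood, by omega, by omega, hfin 0 (by simpa using h5)⟩
    · exact ⟨m, 1, S, hm, hmF, hSgood, by omega, by omega, hfin 1 (by omega)⟩
    · exact ⟨m, 2, S, hm, hmF, hSgood, by omega, by omega, hfin 2 (by norm_num; omega)⟩
    · exact ⟨m, 3, S, hm, hmF, hSgood, by omega, by omega, hfin 3 (by norm_num; omega)⟩
  · -- a block carries the multiplicity
    obtain ⟨η, g, hη, hgS, -, hgdeg, -, -, hpow⟩ := exists_block m hm S hSgood f₀ hf₀ h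
    have hge : g ^ e ∣ μ := hpow e μ hf₀μ hμrev
    obtain ⟨S₁, hS₁⟩ := hgS
    have hsep' := hSgood.separable hmF
    rw [hS₁] at hsep'
    have hcg : IsCoprime g S₁ := hsep'.isCoprime
    have hg0 : g ≠ 0 := by
      intro h0
      rw [h0, zero_mul] at hS₁
      exact hS0 hS₁
    have hS₁0 : S₁ ≠ 0 := by
      intro h0
      rw [h0, mul_zero] at hS₁
      exact hS0 hS₁
    have h2 : g ^ e * S₁ ∣ μ :=
      hcg.pow_left.mul_dvd hge ((dvd_mul_left S₁ g).trans (by rw [← hS₁]; exact hSμ))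
    have h3 := Polynomial.natDegree_le_of_dvd h2 hμ0
    rw [Polynomial.natDegree_mul (pow_ne_zero _ hg0) hS₁0, Polynomial.natDegree_pow, hgdeg] at h3
    have h4 : S.natDegree = 2 * η + S₁.natDegree := by
      rw [hS₁, Polynomial.natDegree_mul hg0 hS₁0, hgdeg]
    have h5 : S.natDegree + 2 * (e - 1) ≤ 8 := by
      obtain ⟨η', hη'⟩ : ∃ η' : ℕ, η = η' + 1 := ⟨η - 1, by omega⟩
      obtain ⟨e', he'⟩ : ∃ e' : ℕ, e = e' + 1 := ⟨e - 1, by omega⟩
      rw [hη', he'] at h3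
      have h6 : (e' + 1) * (2 * (η' + 1)) = 2 * (e' * η') + 2 * e' + 2 * η' + 2 := by ring
      rw [h6] at h3
      omega
    have he4 : e ≤ 4 := by omega
    refine ⟨m, e - 1, S, hm, hmF, hSgood, h5, by omega, hfin (e - 1) ?_⟩
    clear hfin hemin heμ he hpow hge h2 h3 h5 hf₀μ
    interval_cases e <;> norm_num

/-- the twelve maximal element orders of `Sp_8(q)`, `q` even -/
def IsTarget (q L : ℕ) : Prop :=
  L = q ^ 4 + 1 ∨ L = q ^ 4 - 1 ∨ L = (q ^ 3 - 1) * (q + 1) ∨ L = (q ^ 3 + 1) * (q - 1) ∨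
  L = 2 * (q ^ 3 - 1) ∨ L = 2 * (q ^ 3 + 1) ∨ L = 2 * ((q ^ 2 + 1) * (q + 1)) ∨
  L = 2 * ((q ^ 2 + 1) * (q - 1)) ∨ L = 4 * (q ^ 2 + 1) ∨ L = 4 * (q ^ 2 - 1) ∨
  L = 8 * (q - 1) ∨ L = 8 * (q + 1)

/-- the order of an element of `Sp_8(q)`, `q` even, divides one of the twelve numbers -/
theorem sp8_orders (A : Matrix (Fin 4 ⊕ Fin 4) (Fin 4 ⊕ Fin 4) F)
    (hAJ : Aᵀ * J (Fin 4) F * A = J (Fin 4) F) (N : ℕ) (hN : 0 < N)
    (hA : ∀ j : ℕ, A ^ j = 1 ↔ N ∣ j) : ∃ L : ℕ, IsTarget (Fintype.card F) L ∧ N ∣ L := by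
  have hAN : A ^ N = 1 := (hA N).2 (dvd_refl _)
  have hrev : ∀ f : F[X], f ∣ minpoly F A → f.reverse ∣ minpoly F A := fun f hf =>
    reverse_dvd_minpoly (J (Fin 4) F) (-J (Fin 4) F) (skewInv_J 4) A hAJ N hN hAN f hf
  obtain ⟨m, c, S, hm, hmF, hS, hdeg, hc, hfin⟩ :=
    p1 (by simp : Fintype.card (Fin 4 ⊕ Fin 4) = 8) A hrev N hN hAN
  have key : ∀ T : ℕ, S ∣ X ^ T - 1 → N ∣ 2 ^ c * T := fun T hT => (hA _).1 (hfin T hT)
  interval_cases c
  · rcases cov4 m hm hmF S hS (by omega) with h | h | h | h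
    · exact ⟨Fintype.card F ^ 4 + 1, by simp [IsTarget], by simpa using key _ h⟩
    · exact ⟨Fintype.card F ^ 4 - 1, by simp [IsTarget], by simpa using key _ h⟩
    · exact ⟨(Fintype.card F ^ 3 - 1) * (Fintype.card F + 1), by simp [IsTarget],
        by simpa using key _ h⟩
    · exact ⟨(Fintype.card F ^ 3 + 1) * (Fintype.card F - 1), by simp [IsTarget],
        by simpa using key _ h⟩
  · rcases cov3 m hm hmF S hS (by omega) with h | h | h | h | h
    · exact ⟨2 * (Fintype.card F ^ 3 - 1), by simp [IsTarget], by simpa using key _ h⟩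
    · exact ⟨2 * (Fintype.card F ^ 3 + 1), by simp [IsTarget], by simpa using key _ h⟩
    · exact ⟨2 * ((Fintype.card F ^ 2 + 1) * (Fintype.card F + 1)), by simp [IsTarget],
        by simpa using key _ h⟩
    · exact ⟨2 * ((Fintype.card F ^ 2 + 1) * (Fintype.card F - 1)), by simp [IsTarget],
        by simpa using key _ h⟩
    · exact ⟨4 * (Fintype.card F ^ 2 - 1), by simp [IsTarget],
        (key _ h).trans ⟨2, by ring⟩⟩
  · rcases cov2 m hm hmF S hS (by omega) with h | h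
    · exact ⟨4 * (Fintype.card F ^ 2 - 1), by simp [IsTarget],
        (key _ h).trans (dvd_of_eq (by norm_num))⟩
    · exact ⟨4 * (Fintype.card F ^ 2 + 1), by simp [IsTarget],
        (key _ h).trans (dvd_of_eq (by norm_num))⟩
  · rcases cov1 m hm hmF S hS (by omega) with h | h
    · exact ⟨8 * (Fintype.card F - 1), by simp [IsTarget],
        (key _ h).trans (dvd_of_eq (by norm_num))⟩
    · exact ⟨8 * (Fintype.card F + 1), by simp [IsTarget],
        (key _ h).trans (dvd_of_eq (by norm_num))⟩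

end finite

end Cfsg.Agent.Lib.helper64.EvA
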