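import Mathlib
import Cfsg.Agent.Lib.helper64.UIso
import Cfsg.Agent.Lib.helper64.PGBasic

set_option autoImplicit false
set_option linter.unusedSectionVars false

/-!
# Linear algebra tools for isometries of quadratic spaces over finite fields (helper64)

* `aeval_restrict_apply`: polynomials in a restricted endomorphism.
* `dvd_finrank_and_det`: an invariant subspace killed by an irreducible polynomial `f` has
  dimension divisible by `deg f`; determinant of the restriction.
* `eq_zero_of_not_dvd`: vectors killed by an irreducible polynomial and a non-multiple.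
* `polar_fix_range`: fixed vectors of an isometry are orthogonal to the range of `S - 1`.
* `exists_indep_of_sq_zero`: an isometry `v` with `(v - 1)^2 = 0`, `v ≠ 1`, has `rank (v - 1) ≥ 2`.
-/

namespace Cfsg.Agent.Lib.helper64.OmA

open Polynomial Module Cfsg.Agent.Lib.helper64.UIso Cfsg.Agent.Lib.helper64.PGBasic
  Cfsg.Agent.Lib.helper64.IsoPow

variable {F : Type*} [Field F] {V : Type*} [AddCommGroup V] [Module F V]

theorem aeval_restrict_apply (h : Module.End F V) (U : Submodule F V) (hU : ∀ x ∈ U, h x ∈ U)
    (P : F[X]) (x : U) : ((aeval (h.restrict hU) P) x : V) = (aeval h P) x.1 := by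
  induction P using Polynomial.induction_on' with
  | add p q hp hq =>
    rw [map_add, map_add, LinearMap.add_apply, LinearMap.add_apply, Submodule.coe_add, hp, hq]
  | monomial n a =>
    rw [aeval_monomial, aeval_monomial, Module.End.pow_restrict n hU, Module.End.mul_apply,
      Module.End.mul_apply, Module.algebraMap_end_apply, Module.algebraMap_end_apply,
      Submodule.coe_smul, LinearMap.coe_restrict_apply]

/-- an invariant subspace killed by an irreducible polynomial -/
theorem dvd_finrank_and_det [Fintype F] [FiniteDimensional F V] (h : Module.End F V) (f : F[X])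
    [Fact (Irreducible f)] (U : Submodule F V) (hU : ∀ x ∈ U, h x ∈ U)
    (hf : ∀ x ∈ U, (aeval h f) x = 0) :
    f.natDegree ∣ finrank F U ∧
      ∀ M : ℕ, f ∣ X ^ M - 1 → M ∣ Dn (Fintype.card F) (finrank F U) →
        LinearMap.det (h.restrict hU) = 1 := by
  classical
  obtain ⟨n, hn⟩ : ∃ n : ℕ, n = finrank F U := ⟨_, rfl⟩
  rw [← hn]
  let b : Basis (Fin n) F U := (Module.finBasis F U).reindex (finCongr hn.symm)
  obtain ⟨S, hS⟩ : ∃ S : Matrix (Fin n) (Fin n) F,
      S = LinearMap.toMatrixAlgEquiv b (h.restrict hU) := ⟨_, rfl⟩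
  have h0 : aeval (h.restrict hU) f = 0 := by
    apply LinearMap.ext
    intro x
    apply Subtype.ext
    rw [aeval_restrict_apply]
    exact hf x.1 x.2
  have hSf : aeval S f = 0 := by
    rw [hS, Polynomial.aeval_algEquiv, AlgHom.comp_apply, h0]
    simp
  obtain ⟨h1, h2⟩ := pow_Dn_eq_det f S hSf
  refine ⟨h1, fun M hM hMD => ?_⟩
  have h3 := h2 (AdjoinRoot.root f)
  rw [phi_root] at h3
  have h4 : (AdjoinRoot.root f) ^ Dn (Fintype.card F) n = 1 := by
    obtain ⟨t, ht⟩ := hMD
    rw [ht, pow_mul, root_pow_eq_one_of_dvd f M hM, one_pow]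
  rw [h4] at h3
  have h5 : S.det = 1 := by
    apply (algebraMap F (AdjoinRoot f)).injective
    rw [← h3, map_one]
  rw [← LinearMap.det_toMatrix b]
  rw [hS] at h5
  exact h5

/-- a vector killed by an irreducible polynomial and by a non-multiple of it is zero -/
theorem eq_zero_of_not_dvd (h : Module.End F V) (f R : F[X]) (hf : Irreducible f)
    (hfR : ¬ f ∣ R) (x : V) (h1 : (aeval h f) x = 0) (h2 : (aeval h R) x = 0) : x = 0 := by
  obtain ⟨a, b, hab⟩ := (hf.coprime_iff_not_dvd).2 hfR
  have h3 : (aeval h (a * f + b * R)) x = x := by rw [hab, map_one, Module.End.one_apply]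
  rw [map_add, map_mul, map_mul, LinearMap.add_apply, Module.End.mul_apply, Module.End.mul_apply,
    h1, h2, map_zero, map_zero, add_zero] at h3
  exact h3.symm

section quad

variable (Q : QuadraticForm F V)

theorem polar_map (S : Module.End F V) (hS : ∀ x, Q (S x) = Q x) (x y : V) :
    QuadraticMap.polar Q (S x) (S y) = QuadraticMap.polar Q x y := by
  unfold QuadraticMap.polar
  rw [← map_add, hS, hS, hS]

theorem iso_pow (T : Module.End F V) (hT : ∀ x, Q (T x) = Q x) (j : ℕ) (x : V) :
    Q ((T ^ j) x) = Q x := by
  induction j with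
  | zero => rw [pow_zero, Module.End.one_apply]
  | succ j ih => rw [pow_succ', Module.End.mul_apply, hT, ih]

/-- fixed vectors of an isometry are orthogonal to the range of `S - 1` -/
theorem polar_fix_range (S : Module.End F V) (hS : ∀ x, Q (S x) = Q x) (z : V) (hz : S z = z)
    (x : V) : QuadraticMap.polar Q z (S x - x) = 0 := by
  rw [QuadraticMap.polar_sub_right]
  have := polar_map Q S hS z x
  rw [hz] at this
  rw [this, sub_self]

/-- an isometry `v ≠ 1` with `(v - 1)^2 = 0`: the range of `v - 1` has dimension at least `2` -/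
theorem exists_indep_of_sq_zero (h2 : (2 : F) ≠ 0)
    (hnd : ∀ x, (∀ y, QuadraticMap.polar Q x y = 0) → x = 0)
    (v : Module.End F V) (hv : ∀ x, Q (v x) = Q x)
    (hNN : ∀ x, v (v x - x) = v x - x) (y : V) (hy : v y - y ≠ 0) :
    ∃ x : V, LinearIndependent F ![v x - x, v y - y] := by
  -- the range of `v - 1` is totally isotropic
  have h1 : ∀ a b : V, QuadraticMap.polar Q (v a - a) (v b - b) = 0 := fun a b =>
    polar_fix_range Q v hv (v a - a) (hNN a) b
  have h3 : ∀ a b : V, QuadraticMap.polar Q a (v b - b) + QuadraticMap.polar Q (v a - a) b = 0 := by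
    intro a b
    have h4 := polar_map Q v hv a b
    have h5 : v a = a + (v a - a) := by abel
    have h6 : v b = b + (v b - b) := by abel
    rw [h5, h6, QuadraticMap.polar_add_left, QuadraticMap.polar_add_right,
      QuadraticMap.polar_add_right, h1] at h4
    linear_combination h4
  have h7 : QuadraticMap.polar Q (v y - y) y = 0 := by
    have h8 := h3 y y
    rw [QuadraticMap.polar_comm Q y (v y - y)] at h8
    have h9 : (2 : F) * QuadraticMap.polar Q (v y - y) y = 0 := by linear_combination h8
    rcases mul_eq_zero.1 h9 with h | h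
    · exact absurd h h2
    · exact h
  obtain ⟨x, hx⟩ : ∃ x, QuadraticMap.polar Q (v y - y) x ≠ 0 := by
    by_contra hcon
    push Not at hcon
    exact hy (hnd _ hcon)
  have h10 : QuadraticMap.polar Q (v x - x) y ≠ 0 := by
    have h11 := h3 x y
    rw [QuadraticMap.polar_comm Q x (v y - y)] at h11
    intro h12
    rw [h12, add_zero] at h11
    exact hx h11
  refine ⟨x, ?_⟩
  rw [LinearIndependent.pair_iff]
  intro s t hst
  have h13 := congrArg (fun u => QuadraticMap.polar Q u y) hst
  simp only [QuadraticMap.polar_add_left, QuadraticMap.polar_smul_left, h7, smul_eq_mul,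
    mul_zero, add_zero, QuadraticMap.polar_zero_left] at h13
  have hs : s = 0 := by
    rcases mul_eq_zero.1 h13 with h | h
    · exact h
    · exact absurd h h10
  rw [hs, zero_smul, zero_add] at hst
  refine ⟨hs, ?_⟩
  rcases smul_eq_zero.1 hst with h | h
  · exact h
  · exact absurd h hy

end quad

end Cfsg.Agent.Lib.helper64.OmA
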