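import Mathlib
import Cfsg.Agent.Lib.helper64.EvA
import Cfsg.Agent.Lib.helper64.OmA

set_option autoImplicit false
set_option linter.unusedSectionVars false

/-!
# Element orders of affine extensions of `Ω_8^-(q)`, `q` even: the analysis (helper64)

* `natDegree_minpoly_le_rank_add_one`, `rank_sub_one_of_cyclic`: a matrix whose minimal polynomial
  has full degree and the root `1` has `rank (A - 1) = n - 1`.
* `orders_of_rev`: the order of a matrix of size `8` with self-reciprocal minimal polynomial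
  divides one of the twelve numbers.
* `p2`: if moreover `1 + A + ... + A ^ (N - 1) ≠ 0` and `rank (A - 1)` is even, then twice the
  order divides one of the twelve numbers.
-/

namespace Cfsg.Agent.Lib.helper64.EvB

open Polynomial Matrix Cfsg Cfsg.Agent.Lib.helper64.SpBasic Cfsg.Agent.Lib.helper64.SpPG
  Cfsg.Agent.Lib.helper64.PGBasic Cfsg.Agent.Lib.helper64.EvA

section lin

variable {F : Type*} [Field F] {ι : Type*} [Fintype ι] [DecidableEq ι]

theorem rank_sub_one_eq (A : Matrix ι ι F) :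
    (A - 1).rank = Module.finrank F (LinearMap.range (Matrix.toLin' A - 1)) := by
  have h1 : Matrix.toLin' A - 1 = (A - 1).mulVecLin := by
    apply LinearMap.ext
    intro x
    simp
  rw [h1]
  rfl

/-- the degree of the minimal polynomial is at most `rank (h - 1) + 1` -/
theorem natDegree_minpoly_le_finrank_range {V : Type*} [AddCommGroup V] [Module F V]
    [FiniteDimensional F V] (h : Module.End F V) :
    (minpoly F h).natDegree ≤ Module.finrank F (LinearMap.range (h - 1)) + 1 := by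
  obtain ⟨U, hU⟩ : ∃ U : Submodule F V, U = LinearMap.range (h - 1) := ⟨_, rfl⟩
  have hinv : ∀ x ∈ U, h x ∈ U := by
    intro x hx
    rw [hU] at hx ⊢
    obtain ⟨y, rfl⟩ := hx
    refine ⟨h y, ?_⟩
    simp only [LinearMap.sub_apply, Module.End.one_apply, map_sub]
  have hmem : ∀ x, (h - 1) x ∈ U := fun x => by
    rw [hU]
    exact ⟨x, rfl⟩
  have h2 : aeval h (minpoly F (h.restrict hinv) * (X - 1)) = 0 := by
    apply LinearMap.ext
    intro x
    rw [map_mul, Module.End.mul_apply, LinearMap.zero_apply]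
    have h3 := Cfsg.Agent.Lib.helper64.OmA.aeval_restrict_apply h U hinv
      (minpoly F (h.restrict hinv)) ⟨_, hmem x⟩
    rw [minpoly.aeval, LinearMap.zero_apply] at h3
    have h4 : (aeval h (X - 1 : F[X])) x = (h - 1) x := by simp
    rw [h4]
    exact h3.symm
  have h3 : minpoly F h ∣ minpoly F (h.restrict hinv) * (X - 1) := minpoly.dvd F h h2
  have hp0 : minpoly F (h.restrict hinv) ≠ 0 :=
    minpoly.ne_zero (Algebra.IsIntegral.isIntegral _)
  have hX1 : (X - 1 : F[X]) ≠ 0 := by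
    have h1 := Polynomial.X_sub_C_ne_zero (1 : F)
    rwa [map_one] at h1
  have h4 := natDegree_le_of_dvd h3 (mul_ne_zero hp0 hX1)
  have hd1 : (X - 1 : F[X]).natDegree = 1 := by
    have h := Polynomial.natDegree_X_sub_C (1 : F)
    rwa [map_one] at h
  rw [Polynomial.natDegree_mul hp0 hX1, hd1] at h4
  have h6 : (minpoly F (h.restrict hinv)).natDegree ≤ Module.finrank F U := by
    have h7 := natDegree_le_of_dvd (LinearMap.minpoly_dvd_charpoly (h.restrict hinv))
      (LinearMap.charpoly_monic (h.restrict hinv)).ne_zero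
    rwa [LinearMap.charpoly_natDegree] at h7
  rw [← hU]
  omega

/-- the degree of the minimal polynomial is at most `rank (A - 1) + 1` -/
theorem natDegree_minpoly_le_rank_add_one (A : Matrix ι ι F) :
    (minpoly F A).natDegree ≤ (A - 1).rank + 1 := by
  have h1 := natDegree_minpoly_le_finrank_range (Matrix.toLin' A)
  rw [Matrix.minpoly_toLin' A, ← rank_sub_one_eq] at h1
  exact h1

/-- a matrix whose minimal polynomial has full degree and the root `1` -/
theorem rank_sub_one_of_cyclic (A : Matrix ι ι F)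
    (hdeg : (minpoly F A).natDegree = Fintype.card ι) (hroot : (X - 1 : F[X]) ∣ minpoly F A) :
    (A - 1).rank + 1 = Fintype.card ι := by
  have h1 := natDegree_minpoly_le_rank_add_one A
  obtain ⟨h, hh⟩ : ∃ h : Module.End F (ι → F), h = Matrix.toLin' A := ⟨_, rfl⟩
  have hmin : minpoly F h = minpoly F A := by
    rw [hh]
    exact Matrix.minpoly_toLin' A
  have hr : (minpoly F h).IsRoot 1 := by
    rw [hmin]
    obtain ⟨g, hg⟩ := hroot
    rw [hg, Polynomial.IsRoot.def, Polynomial.eval_mul]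
    simp
  have heig := Module.End.hasEigenvalue_of_isRoot hr
  obtain ⟨v, hv⟩ := heig.exists_hasEigenvector
  have hv1 : h v = v := by
    have h4 := hv.apply_eq_smul
    rwa [one_smul] at h4
  have hker : 0 < Module.finrank F (LinearMap.ker (h - 1)) := by
    apply Module.finrank_pos_iff_exists_ne_zero.2
    refine ⟨⟨v, ?_⟩, ?_⟩
    · rw [LinearMap.mem_ker, LinearMap.sub_apply, hv1, Module.End.one_apply, sub_self]
    · intro h0
      exact hv.2 (congrArg Subtype.val h0)
  have h3 := LinearMap.finrank_range_add_finrank_ker (h - 1)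
  rw [Module.finrank_fintype_fun_eq_card] at h3
  have h8 : (A - 1).rank = Module.finrank F (LinearMap.range (h - 1)) := by
    rw [rank_sub_one_eq, hh]
  omega

end lin

section finite

variable {F : Type*} [Field F] [Fintype F] [CharP F 2]

/-- the order of a matrix of size `8` with self-reciprocal minimal polynomial divides one of the
twelve numbers -/
theorem orders_of_rev {ι : Type*} [Fintype ι] [DecidableEq ι] [Nonempty ι]
    (hcard : Fintype.card ι = 8) (A : Matrix ι ι F)
    (hrev : ∀ f : F[X], f ∣ minpoly F A → f.reverse ∣ minpoly F A) (N : ℕ) (hN : 0 < N)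
    (hA : ∀ j : ℕ, A ^ j = 1 ↔ N ∣ j) : ∃ L : ℕ, IsTarget (Fintype.card F) L ∧ N ∣ L := by
  have hAN : A ^ N = 1 := (hA N).2 (dvd_refl _)
  obtain ⟨m, c, S, hm, hmF, hS, hdeg, hc, hfin⟩ := p1 hcard A hrev N hN hAN
  have key : ∀ T : ℕ, S ∣ X ^ T - 1 → N ∣ 2 ^ c * T := fun T hT => (hA _).1 (hfin T hT)
  interval_cases c
  · rcases cov4 m hm hmF S hS (by omega) with h | h | h | h
    · exact ⟨Fintype.card F ^ 4 + 1, by simp [IsTarget], by simpa using key _ h⟩
    · exact ⟨Fintype.card F ^ 4 - 1, by simp [IsTarget], by simpa using key _ h⟩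
    · exact ⟨(Fintype.card F ^ 3 - 1) * (Fintype.card F + 1), by simp [IsTarget],
        by simpa using key _ h⟩
    · exact ⟨(Fintype.card F ^ 3 + 1) * (Fintype.card F - 1), by simp [IsTarget],
        by simpa using key _ h⟩
  · rcases cov3 m hm hmF S hS (by omega) with h | h | h | h | h
    · exact ⟨2 * (Fintype.card F ^ 3 - 1), by simp [IsTarget], by simpa using key _ h⟩
    · exact ⟨2 * (Fintype.card F ^ 3 + 1), by simp [IsTarget], by simpa using key _ h⟩
    · exact ⟨2 * ((Fintype.card F ^ 2 + 1) * (Fintype.card F + 1)), by simp [IsTarget],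
        by simpa using key _ h⟩
    · exact ⟨2 * ((Fintype.card F ^ 2 + 1) * (Fintype.card F - 1)), by simp [IsTarget],
        by simpa using key _ h⟩
    · exact ⟨4 * (Fintype.card F ^ 2 - 1), by simp [IsTarget],
        (key _ h).trans ⟨2, by ring⟩⟩
  · rcases cov2 m hm hmF S hS (by omega) with h | h
    · exact ⟨4 * (Fintype.card F ^ 2 - 1), by simp [IsTarget],
        (key _ h).trans (dvd_of_eq (by norm_num))⟩
    · exact ⟨4 * (Fintype.card F ^ 2 + 1), by simp [IsTarget],
        (key _ h).trans (dvd_of_eq (by norm_num))⟩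
  · rcases cov1 m hm hmF S hS (by omega) with h | h
    · exact ⟨8 * (Fintype.card F - 1), by simp [IsTarget],
        (key _ h).trans (dvd_of_eq (by norm_num))⟩
    · exact ⟨8 * (Fintype.card F + 1), by simp [IsTarget],
        (key _ h).trans (dvd_of_eq (by norm_num))⟩

/-- twice the order divides one of the twelve numbers, when the norm element does not vanish and
`rank (A - 1)` is even -/
theorem p2 {ι : Type*} [Fintype ι] [DecidableEq ι] [Nonempty ι] (hcard : Fintype.card ι = 8)
    (A : Matrix ι ι F) (hrev : ∀ f : F[X], f ∣ minpoly F A → f.reverse ∣ minpoly F A)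
    (N : ℕ) (hN : 0 < N) (hA : ∀ j : ℕ, A ^ j = 1 ↔ N ∣ j)
    (hsum : ∑ i ∈ Finset.range N, A ^ i ≠ 0) (hrank : Even (A - 1).rank) :
    ∃ L : ℕ, IsTarget (Fintype.card F) L ∧ 2 * N ∣ L := by
  classical
  have hAN : A ^ N = 1 := (hA N).2 (dvd_refl _)
  obtain ⟨μ, hμ⟩ : ∃ μ : F[X], μ = minpoly F A := ⟨_, rfl⟩
  rw [← hμ] at hrev
  have hμ0 : μ ≠ 0 := by
    rw [hμ]
    exact (minpoly.monic (Matrix.isIntegral A)).ne_zero
  have hμdeg : μ.natDegree ≤ 8 := by
    rw [hμ, ← hcard]
    exact natDegree_minpoly_le_card A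
  have hμN : μ ∣ X ^ N - 1 := by
    rw [hμ]
    exact minpoly.dvd F A (by simp [hAN])
  obtain ⟨k, m, hmodd, hNkm⟩ := Nat.exists_eq_two_pow_mul_odd hN.ne'
  have hm : 0 < m := hmodd.pos
  have hmF : ((m : ℕ) : F) ≠ 0 := by
    rw [Ne, CharP.cast_eq_zero_iff F 2]
    exact hmodd.not_two_dvd_nat
  obtain ⟨R₀, hR₀⟩ : ∃ R₀ : F[X], X ^ m - 1 = (X - 1) * R₀ := by
    have h1 := sub_dvd_pow_sub_pow (X : F[X]) 1 m
    rw [one_pow] at h1
    exact h1
  have hsep : (X ^ m - 1 : F[X]).Separable := by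
    have h1 := Polynomial.separable_X_pow_sub_C (1 : F) hmF one_ne_zero
    rwa [map_one] at h1
  have hcop0 : IsCoprime (X - 1 : F[X]) R₀ := by
    rw [hR₀] at hsep
    exact hsep.isCoprime
  have hX1 : (X - 1 : F[X]) ≠ 0 := by
    have h1 := Polynomial.X_sub_C_ne_zero (1 : F)
    rwa [map_one] at h1
  have hR₀rev : R₀.reverse = R₀ := by
    have h1 := congrArg Polynomial.reverse hR₀
    rw [reverse_X_pow_sub_one, Polynomial.reverse_mul_of_domain] at h1
    have h2 : (X - 1 : F[X]).reverse = 1 - X := by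
      have h3 := reverse_X_pow_sub_one (F := F) 1
      rwa [pow_one] at h3
    rw [h2] at h1
    have h4 : (X - 1 : F[X]) * R₀.reverse = (X - 1) * R₀ := by
      rw [← hR₀]
      linear_combination h1
    exact mul_left_cancel₀ hX1 h4
  obtain ⟨S, hSdef⟩ : ∃ S : F[X], S = EuclideanDomain.gcd μ R₀ := ⟨_, rfl⟩
  have hSμ : S ∣ μ := by
    rw [hSdef]
    exact EuclideanDomain.gcd_dvd_left μ R₀
  have hSR : S ∣ R₀ := by
    rw [hSdef]
    exact EuclideanDomain.gcd_dvd_right μ R₀
  have hbez : S = μ * EuclideanDomain.gcdA μ R₀ + R₀ * EuclideanDomain.gcdB μ R₀ := by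
    rw [hSdef]
    exact EuclideanDomain.gcd_eq_gcd_ab μ R₀
  have hSgood : Good m S := by
    refine ⟨hSR.trans (by rw [hR₀]; exact dvd_mul_left _ _),
      IsCoprime.of_isCoprime_of_dvd_left hcop0.symm hSR, ?_⟩
    have h1 : S.reverse ∣ EuclideanDomain.gcd μ R₀ := by
      apply EuclideanDomain.dvd_gcd
      · exact hrev S hSμ
      · rw [← hR₀rev]
        exact reverse_dvd_reverse hSR
    rw [← hSdef] at h1
    exact h1
  have hcopS : IsCoprime (X - 1 : F[X]) S := hSgood.2.1.symm
  have hS0 := hSgood.ne_zero hm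
  obtain ⟨P, hP⟩ : ∃ P : F[X], P = (X - 1) * S := ⟨_, rfl⟩
  have hfac : (X ^ N - 1 : F[X]) = (X - 1) ^ 2 ^ k * R₀ ^ 2 ^ k := by
    rw [← mul_pow, ← hR₀, pow_two_pow_sub_one, ← hNkm]
  have hμP : μ ∣ P ^ 2 ^ k := by
    have h1 : μ ∣ (X - 1) ^ 2 ^ k * R₀ ^ 2 ^ k := by
      rw [← hfac]
      exact hμN
    have h2 := dvd_mul_gcd_pow μ R₀ S _ _ hbez (2 ^ k) _ h1
    rw [hP, mul_pow]
    exact h2
  -- the norm polynomial
  obtain ⟨G, hG⟩ : ∃ G : F[X], G = ∑ i ∈ Finset.range N, X ^ i := ⟨_, rfl⟩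
  have hGmul : G * (X - 1) = X ^ N - 1 := by
    rw [hG]
    exact geom_sum_mul X N
  have hGA : aeval A G = ∑ i ∈ Finset.range N, A ^ i := by
    rw [hG, map_sum]
    refine Finset.sum_congr rfl (fun i _ => ?_)
    rw [map_pow, aeval_X]
  have hμG : ¬ μ ∣ G := by
    intro h
    apply hsum
    rw [← hGA]
    obtain ⟨g, hg⟩ := h
    rw [hg, map_mul, hμ, minpoly.aeval, zero_mul]
  have hpk : 1 ≤ 2 ^ k := Nat.one_le_two_pow
  have hGeq : G = (X - 1) ^ (2 ^ k - 1) * R₀ ^ 2 ^ k := by
    have h1 : G * (X - 1) = ((X - 1) ^ (2 ^ k - 1) * R₀ ^ 2 ^ k) * (X - 1) := by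
      rw [hGmul, hfac]
      have h2 : (X - 1 : F[X]) ^ 2 ^ k = (X - 1) ^ (2 ^ k - 1) * (X - 1) := by
        rw [← pow_succ, Nat.sub_add_cancel hpk]
      rw [h2]
      ring
    exact mul_right_cancel₀ hX1 h1
  -- the multiplicity of `X - 1`
  have hirr : Irreducible (X - 1 : F[X]) := by
    have h1 := Polynomial.irreducible_X_sub_C (1 : F)
    rwa [map_one] at h1
  have hpow : (X - 1 : F[X]) ^ 2 ^ k ∣ μ := by
    obtain ⟨μ', hμ', hnd⟩ := Polynomial.exists_eq_pow_rootMultiplicity_mul_and_not_dvd μ hμ0 1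
    rw [map_one] at hμ' hnd
    obtain ⟨r, hr⟩ : ∃ r : ℕ, r = Polynomial.rootMultiplicity 1 μ := ⟨_, rfl⟩
    rw [← hr] at hμ'
    have hcop' : IsCoprime (X - 1 : F[X]) μ' := (hirr.coprime_iff_not_dvd).2 hnd
    have h1 : μ' ∣ (X - 1) ^ 2 ^ k * R₀ ^ 2 ^ k := by
      rw [← hfac]
      exact (Dvd.intro_left _ hμ'.symm).trans hμN
    have h2 : μ' ∣ R₀ ^ 2 ^ k := (hcop'.symm.pow_right).dvd_of_dvd_mul_left h1
    by_contra hcon
    have hlt : r < 2 ^ k := by
      by_contra hge
      apply hcon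
      rw [hμ']
      exact (pow_dvd_pow _ (by omega)).trans (dvd_mul_right _ _)
    apply hμG
    rw [hμ', hGeq]
    exact mul_dvd_mul (pow_dvd_pow _ (by omega)) h2
  have hdvd : (X - 1 : F[X]) ^ 2 ^ k * S ∣ μ := (hcopS.pow_left).mul_dvd hpow hSμ
  have hdeg := Polynomial.natDegree_le_of_dvd hdvd hμ0
  rw [Polynomial.natDegree_mul (pow_ne_zero _ hX1) hS0, Polynomial.natDegree_pow,
    natDegree_X_sub_one, mul_one] at hdeg
  obtain ⟨t, ht⟩ := good_even m hm hmF _ S hSgood (le_refl _)
  have key : ∀ T : ℕ, S ∣ X ^ T - 1 → N ∣ 2 ^ k * T := by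
    intro T hT
    apply (hA _).1
    have h1 : P ∣ X ^ T - 1 := by
      rw [hP]
      refine hcopS.mul_dvd ?_ hT
      have h2 := sub_dvd_pow_sub_pow (X : F[X]) 1 T
      rwa [one_pow] at h2
    have h2 : μ ∣ X ^ (2 ^ k * T) - 1 := by
      rw [← pow_two_pow_sub_one]
      exact hμP.trans (pow_dvd_pow_of_dvd h1 _)
    have h3 : aeval A (X ^ (2 ^ k * T) - 1 : F[X]) = 0 := by
      obtain ⟨g, hg⟩ := h2
      rw [hg, map_mul, hμ, minpoly.aeval, zero_mul]
    simpa [sub_eq_zero] using h3
  -- the excluded configurations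
  have excl : 1 ≤ k → 8 ≤ 2 ^ k + S.natDegree → False := by
    intro hk1 h8
    have hdeg8 : (minpoly F A).natDegree = Fintype.card ι := by
      rw [← hμ, hcard]
      omega
    have hroot : (X - 1 : F[X]) ∣ minpoly F A := by
      rw [← hμ]
      exact (dvd_pow_self _ (by positivity)).trans hpow
    have h1 := rank_sub_one_of_cyclic A hdeg8 hroot
    rw [hcard] at h1
    have h2 : (A - 1).rank = 7 := by omega
    rw [h2] at hrank
    exact absurd hrank (by decide)
  have hk3 : k ≤ 3 := by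
    by_contra h
    have h1 : 2 ^ 4 ≤ 2 ^ k := Nat.pow_le_pow_right (by norm_num) (by omega)
    norm_num at h1
    omega
  interval_cases k
  · rcases cov3 m hm hmF S hSgood (by omega) with h | h | h | h | h
    · exact ⟨2 * (Fintype.card F ^ 3 - 1), by simp [IsTarget],
        Nat.mul_dvd_mul_left 2 (by simpa using key _ h)⟩
    · exact ⟨2 * (Fintype.card F ^ 3 + 1), by simp [IsTarget],
        Nat.mul_dvd_mul_left 2 (by simpa using key _ h)⟩
    · exact ⟨2 * ((Fintype.card F ^ 2 + 1) * (Fintype.card F + 1)), by simp [IsTarget],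
        Nat.mul_dvd_mul_left 2 (by simpa using key _ h)⟩
    · exact ⟨2 * ((Fintype.card F ^ 2 + 1) * (Fintype.card F - 1)), by simp [IsTarget],
        Nat.mul_dvd_mul_left 2 (by simpa using key _ h)⟩
    · refine ⟨4 * (Fintype.card F ^ 2 - 1), by simp [IsTarget], ?_⟩
      have h1 : N ∣ Fintype.card F ^ 2 - 1 := by simpa using key _ h
      exact (Nat.mul_dvd_mul_left 2 h1).trans ⟨2, by ring⟩
  · by_cases hd : S.natDegree ≤ 4
    · rcases cov2 m hm hmF S hSgood hd with h | h
      · refine ⟨4 * (Fintype.card F ^ 2 - 1), by simp [IsTarget], ?_⟩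
        exact (Nat.mul_dvd_mul_left 2 (key _ h)).trans (dvd_of_eq (by ring))
      · refine ⟨4 * (Fintype.card F ^ 2 + 1), by simp [IsTarget], ?_⟩
        exact (Nat.mul_dvd_mul_left 2 (key _ h)).trans (dvd_of_eq (by ring))
    · exact (excl (by norm_num) (by omega)).elim
  · by_cases hd : S.natDegree ≤ 2
    · rcases cov1 m hm hmF S hSgood hd with h | h
      · refine ⟨8 * (Fintype.card F - 1), by simp [IsTarget], ?_⟩
        exact (Nat.mul_dvd_mul_left 2 (key _ h)).trans (dvd_of_eq (by ring))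
      · refine ⟨8 * (Fintype.card F + 1), by simp [IsTarget], ?_⟩
        exact (Nat.mul_dvd_mul_left 2 (key _ h)).trans (dvd_of_eq (by ring))
    · exact (excl (by norm_num) (by omega)).elim
  · exact (excl (by norm_num) (by omega)).elim

end finite

end Cfsg.Agent.Lib.helper64.EvB
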