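import Mathlib
import Cfsg.Agent.Lib.helper45.OPrimeOrder
import Cfsg.Agent.Lib.helper48.OddBal
import Cfsg.Agent.Lib.helper64.PGBlocks
import Cfsg.Agent.S0292

set_option autoImplicit false
set_option linter.unusedSectionVars false

/-!
# Isometries of prescribed order of odd-dimensional quadratic spaces (helper64)

`HasIso F d m`: there is a non-degenerate quadratic space of dimension `d` over `F` with an
isometry of exact order `m`.  Blocks (`hasIso_filler`, `hasIso_rot`, `hasIso_unip`, `hasIso_hyp`,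
`hasIso_minus`), orthogonal sums (`HasIso.prod`) and the transfer to the standard form
`quadFormOdd` (`exists_iso_of_hasIso`), landing in `Ω` after squaring (`exists_omega_of_hasIso`).
-/

namespace Cfsg.Agent.Lib.helper64.RsIso

open Polynomial Matrix Cfsg Cfsg.Agent.Lib.helper48 Cfsg.Agent.Lib.helper49
  Cfsg.Agent.Lib.helper45 Cfsg.Agent.Lib.helper18 Cfsg.Agent.Lib.helper64.PGBlocks
  Cfsg.Agent.Lib.helper64.UIso

universe u

variable {F : Type u} [Field F]

/-- a non-degenerate quadratic space of dimension `d` with an isometry of exact order `m` -/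
def HasIso (F : Type u) [Field F] (d m : ℕ) : Prop :=
  ∃ (V : Type u) (_ : AddCommGroup V) (_ : Module F V) (_ : FiniteDimensional F V)
    (Q : QuadraticForm F V) (a : Module.End F V),
    Module.finrank F V = d ∧ (∀ v, (∀ w, QuadraticMap.polar Q v w = 0) → v = 0) ∧
      (∀ v, Q (a v) = Q v) ∧ ∀ j : ℕ, a ^ j = 1 ↔ m ∣ j

theorem HasIso.prod {d₁ d₂ m₁ m₂ : ℕ} (h₁ : HasIso F d₁ m₁) (h₂ : HasIso F d₂ m₂) :
    HasIso F (d₁ + d₂) (Nat.lcm m₁ m₂) := by
  obtain ⟨V₁, _, _, _, Q₁, a₁, hd₁, hnd₁, hi₁, ho₁⟩ := h₁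
  obtain ⟨V₂, _, _, _, Q₂, a₂, hd₂, hnd₂, hi₂, ho₂⟩ := h₂
  refine ⟨V₁ × V₂, inferInstance, inferInstance, inferInstance, Q₁.prod Q₂, a₁.prodMap a₂,
    ?_, ?_, ?_, ?_⟩
  · rw [Module.finrank_prod, hd₁, hd₂]
  · rintro ⟨v₁, v₂⟩ hv
    have h1 : v₁ = 0 := hnd₁ v₁ (fun w => by
      have h3 := hv (w, 0)
      rw [QuadraticMap.polar_prod] at h3
      simpa using h3)
    have h2 : v₂ = 0 := hnd₂ v₂ (fun w => by
      have h3 := hv (0, w)
      rw [QuadraticMap.polar_prod] at h3
      simpa using h3)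
    rw [h1, h2]
    rfl
  · rintro ⟨v₁, v₂⟩
    rw [QuadraticMap.prod_apply, QuadraticMap.prod_apply, LinearMap.prodMap_apply, hi₁, hi₂]
  · intro j
    have hpow : (a₁.prodMap a₂) ^ j = (a₁ ^ j).prodMap (a₂ ^ j) := by
      induction j with
      | zero => rw [pow_zero, pow_zero, pow_zero, LinearMap.prodMap_one]
      | succ j ih => rw [pow_succ, ih, pow_succ, pow_succ, LinearMap.prodMap_mul]
    rw [hpow, Nat.lcm_dvd_iff, ← ho₁, ← ho₂]
    constructor
    · intro h
      constructor
      · apply LinearMap.ext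
        intro v
        have h3 := congrArg (fun f : Module.End F (V₁ × V₂) => (f (v, 0)).1) h
        simpa using h3
      · apply LinearMap.ext
        intro v
        have h3 := congrArg (fun f : Module.End F (V₁ × V₂) => (f (0, v)).2) h
        simpa using h3
    · rintro ⟨h1, h2⟩
      rw [h1, h2, LinearMap.prodMap_one]

theorem hasIso_zero : HasIso F 0 1 := by
  refine ⟨PUnit.{u+1}, inferInstance, inferInstance, inferInstance, 0, 1, ?_, ?_, ?_, ?_⟩
  · exact Module.finrank_zero_of_subsingleton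
  · intro v _
    exact Subsingleton.elim _ _
  · intro v
    rfl
  · intro j
    simp

theorem hasIso_one (h2 : (2 : F) ≠ 0) : HasIso F 1 1 := by
  refine ⟨F, inferInstance, inferInstance, inferInstance, QuadraticMap.sq, 1,
    Module.finrank_self F, ?_, ?_, ?_⟩
  · intro v hv
    have h1 := hv 1
    unfold QuadraticMap.polar at h1
    simp only [QuadraticMap.sq_apply] at h1
    have h3 : 2 * v = 0 := by linear_combination h1
    exact (mul_eq_zero.1 h3).resolve_left h2
  · intro v
    rfl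
  · intro j
    simp

theorem hasIso_filler (h2 : (2 : F) ≠ 0) (k : ℕ) : HasIso F k 1 := by
  induction k with
  | zero => exact hasIso_zero
  | succ k ih =>
    have h := ih.prod (hasIso_one h2)
    rwa [Nat.lcm_self] at h

/-- the rotation of order `4` of the plane `x ^ 2 + y ^ 2` -/
theorem hasIso_rot (h2 : (2 : F) ≠ 0) : HasIso F 2 4 := by
  let a : Module.End F (F × F) := (-(LinearMap.snd F F F)).prod (LinearMap.fst F F F)
  have ha : ∀ v : F × F, a v = (-v.2, v.1) := fun v => rfl
  refine ⟨F × F, inferInstance, inferInstance, inferInstance,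
    (QuadraticMap.sq).prod QuadraticMap.sq, a, ?_, ?_, ?_, ?_⟩
  · rw [Module.finrank_prod, Module.finrank_self]
  · rintro ⟨v₁, v₂⟩ hv
    have h1 := hv (1, 0)
    have h3 := hv (0, 1)
    rw [QuadraticMap.polar_prod] at h1 h3
    unfold QuadraticMap.polar at h1 h3
    simp only [QuadraticMap.sq_apply] at h1 h3
    have e1 : 2 * v₁ = 0 := by linear_combination h1
    have e2 : 2 * v₂ = 0 := by linear_combination h3
    rw [(mul_eq_zero.1 e1).resolve_left h2, (mul_eq_zero.1 e2).resolve_left h2]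
    rfl
  · rintro ⟨v₁, v₂⟩
    rw [ha, QuadraticMap.prod_apply, QuadraticMap.prod_apply]
    simp only [QuadraticMap.sq_apply]
    ring
  · intro j
    have hsq : a ^ 2 = -1 := by
      apply LinearMap.ext
      rintro ⟨v₁, v₂⟩
      rw [pow_two, Module.End.mul_apply, ha, ha]
      simp
    have hnot : ¬ a ^ 2 ^ 1 = 1 := by
      rw [pow_one, hsq]
      intro h
      have h3 := congrArg (fun f : Module.End F (F × F) => (f (1, 0)).1) h
      simp only [LinearMap.neg_apply, Module.End.one_apply, Prod.fst_neg] at h3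
      apply h2
      linear_combination -h3
    have hfin : a ^ 2 ^ (1 + 1) = 1 := by
      have h3 : (2 : ℕ) ^ (1 + 1) = 2 * 2 := by norm_num
      rw [h3, pow_mul, hsq]
      apply LinearMap.ext
      intro v
      rw [pow_two, Module.End.mul_apply]
      simp
    have hord : orderOf a = 4 := by
      have h3 := orderOf_eq_prime_pow (p := 2) hnot hfin
      exact h3.trans (by norm_num)
    rw [← hord, orderOf_dvd_iff_pow_eq_one]

/-- data on a small type give `HasIso` -/
theorem hasIso_of_small {V : Type} [AddCommGroup V] [Module F V] [FiniteDimensional F V]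
    (Q : QuadraticForm F V) (a : Module.End F V) {d m : ℕ} (hd : Module.finrank F V = d)
    (hnd : ∀ v, (∀ w, QuadraticMap.polar Q v w = 0) → v = 0) (hi : ∀ v, Q (a v) = Q v)
    (ho : ∀ j : ℕ, a ^ j = 1 ↔ m ∣ j) : HasIso F d m := by
  let e : ULift.{u} V ≃ₗ[F] V := ULift.moduleEquiv
  have : FiniteDimensional F (ULift.{u} V) := Module.Finite.equiv e.symm
  refine ⟨ULift.{u} V, inferInstance, inferInstance, inferInstance, Q.comp e.toLinearMap,
    e.symm.conj a, ?_, ?_, ?_, ?_⟩
  · rw [← hd]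
    exact LinearEquiv.finrank_eq e
  · intro v hv
    have h1 : e v = 0 := hnd (e v) (fun w => by
      have h3 := hv (e.symm w)
      have h4 : QuadraticMap.polar (⇑(Q.comp e.toLinearMap)) v (e.symm w) =
          QuadraticMap.polar Q (e v) w := by
        unfold QuadraticMap.polar
        simp [QuadraticMap.comp_apply]
      rw [h4] at h3
      exact h3)
    exact e.injective (by rw [h1, map_zero])
  · intro v
    rw [QuadraticMap.comp_apply, QuadraticMap.comp_apply]
    show Q (e ((e.symm.conj a) v)) = Q (e v)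
    rw [LinearEquiv.conj_apply_apply, LinearEquiv.symm_symm, LinearEquiv.apply_symm_apply, hi]
  · intro j
    rw [← ho j, ← conj_pow']
    constructor
    · intro h
      apply e.symm.conj.injective
      rw [h, conj_one']
    · intro h
      rw [h, conj_one']

/-- a unipotent isometry of order `p` of the space `x₀ ^ 2 + x₁ y₁` -/
theorem hasIso_unip (p : ℕ) [Fact p.Prime] [CharP F p] (h2 : (2 : F) ≠ 0) : HasIso F 3 p := by
  let Q : QuadraticForm F (F × (F × F)) :=
    (QuadraticMap.sq).prod (QuadraticMap.linMulLin (LinearMap.fst F F F) (LinearMap.snd F F F))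
  have hQ : ∀ v : F × (F × F), Q v = v.1 * v.1 + v.2.1 * v.2.2 := fun v => rfl
  let a : Module.End F (F × (F × F)) :=
    { toFun := fun v => (v.1 + v.2.2, (v.2.1 - 2 * v.1 - v.2.2, v.2.2))
      map_add' := by
        intro v w
        simp only [Prod.fst_add, Prod.snd_add, Prod.mk_add_mk, Prod.mk.injEq]
        refine ⟨by ring, by ring, trivial⟩
      map_smul' := by
        intro c v
        simp only [Prod.smul_fst, Prod.smul_snd, smul_eq_mul, RingHom.id_apply, Prod.smul_mk,
          Prod.mk.injEq]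
        refine ⟨by ring, by ring, trivial⟩ }
  have ha : ∀ v : F × (F × F), a v = (v.1 + v.2.2, (v.2.1 - 2 * v.1 - v.2.2, v.2.2)) :=
    fun v => rfl
  have hpow : ∀ (j : ℕ) (v : F × (F × F)),
      (a ^ j) v = (v.1 + j * v.2.2, (v.2.1 - 2 * j * v.1 - j ^ 2 * v.2.2, v.2.2)) := by
    intro j
    induction j with
    | zero =>
      intro v
      simp
    | succ j ih =>
      intro v
      rw [pow_succ', Module.End.mul_apply, ih, ha]
      simp only [Nat.cast_succ, Prod.mk.injEq]
      refine ⟨by ring, by ring, trivial⟩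
  refine ⟨F × (F × F), inferInstance, inferInstance, inferInstance, Q, a, ?_, ?_, ?_, ?_⟩
  · rw [Module.finrank_prod, Module.finrank_prod, Module.finrank_self]
  · rintro ⟨v₀, v₁, v₂⟩ hv
    have e0 := hv (1, (0, 0))
    have e1 := hv (0, (1, 0))
    have e2 := hv (0, (0, 1))
    unfold QuadraticMap.polar at e0 e1 e2
    simp only [hQ, Prod.mk_add_mk, add_zero, mul_zero, mul_one] at e0 e1 e2
    have h0 : 2 * v₀ = 0 := by linear_combination e0
    have h1 : v₂ = 0 := by linear_combination e1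
    have h3 : v₁ = 0 := by linear_combination e2
    rw [(mul_eq_zero.1 h0).resolve_left h2, h1, h3]
    rfl
  · intro v
    rw [hQ, hQ, ha]
    ring
  · intro j
    constructor
    · intro h
      have h1 := congrArg (fun f : Module.End F (F × (F × F)) => (f (0, (0, 1))).1) h
      simp only [hpow, Module.End.one_apply, zero_add, mul_one] at h1
      exact (CharP.cast_eq_zero_iff F p j).1 h1
    · intro h
      have hj : (j : F) = 0 := (CharP.cast_eq_zero_iff F p j).2 h
      apply LinearMap.ext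
      intro v
      rw [hpow, hj]
      simp

/-- the hyperbolic space of a matrix of exact order `m` -/
theorem hasIso_hyp {d : ℕ} (A : Matrix (Fin d) (Fin d) F) (m : ℕ) (hm0 : 0 < m)
    (hAm : A ^ m = 1) (hmin : ∀ j : ℕ, A ^ j = 1 → m ∣ j) : HasIso F (d + d) m := by
  classical
  let B : LinearMap.BilinForm F ((Fin d → F) × (Fin d → F)) :=
    LinearMap.mk₂ F (fun v w => v.1 ⬝ᵥ w.2)
      (fun v v' w => by simp [add_dotProduct])
      (fun c v w => by simp [smul_dotProduct])
      (fun v w w' => by simp [dotProduct_add])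
      (fun c v w => by simp [dotProduct_smul])
  have hB : ∀ v w, B v w = v.1 ⬝ᵥ w.2 := fun v w => rfl
  let Q : QuadraticForm F ((Fin d → F) × (Fin d → F)) := LinearMap.BilinMap.toQuadraticMap B
  have hQ : ∀ v, Q v = v.1 ⬝ᵥ v.2 := fun v => by
    show (LinearMap.BilinMap.toQuadraticMap B) v = _
    rw [LinearMap.BilinMap.toQuadraticMap_apply, hB]
  have hpolar : ∀ v w, QuadraticMap.polar Q v w = v.1 ⬝ᵥ w.2 + w.1 ⬝ᵥ v.2 := fun v w => by
    show QuadraticMap.polar (⇑(LinearMap.BilinMap.toQuadraticMap B)) v w = _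
    rw [LinearMap.BilinMap.polar_toQuadraticMap, hB, hB]
  obtain ⟨A', hA'⟩ : ∃ A' : Matrix (Fin d) (Fin d) F, A' = (A ^ (m - 1))ᵀ := ⟨_, rfl⟩
  have hAA : A ^ (m - 1) * A = 1 := by rw [← pow_succ, Nat.sub_add_cancel hm0, hAm]
  let a : Module.End F ((Fin d → F) × (Fin d → F)) :=
    (Matrix.toLin' A).prodMap (Matrix.toLin' A')
  have hapow : ∀ (j : ℕ) (v : (Fin d → F) × (Fin d → F)),
      (a ^ j) v = ((A ^ j) *ᵥ v.1, (A' ^ j) *ᵥ v.2) := by
    intro j
    induction j with
    | zero =>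
      intro v
      simp
    | succ j ih =>
      intro v
      rw [pow_succ', Module.End.mul_apply, ih]
      show (Matrix.toLin' A (A ^ j *ᵥ v.1), Matrix.toLin' A' (A' ^ j *ᵥ v.2)) = _
      rw [Matrix.toLin'_apply, Matrix.toLin'_apply, Matrix.mulVec_mulVec, Matrix.mulVec_mulVec,
        ← pow_succ', ← pow_succ']
  refine ⟨(Fin d → F) × (Fin d → F), inferInstance, inferInstance, inferInstance, Q, a,
    ?_, ?_, ?_, ?_⟩
  · rw [Module.finrank_prod, Module.finrank_fin_fun]
  · rintro ⟨x, y⟩ hv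
    have hx : x = 0 := by
      funext i
      have h1 := hv (0, Pi.single i 1)
      rw [hpolar] at h1
      simpa using h1
    have hy : y = 0 := by
      funext i
      have h1 := hv (Pi.single i 1, 0)
      rw [hpolar] at h1
      simpa using h1
    rw [hx, hy]
    rfl
  · rintro ⟨x, y⟩
    rw [hQ, hQ]
    show (A *ᵥ x) ⬝ᵥ (A' *ᵥ y) = x ⬝ᵥ y
    rw [hA', Matrix.dotProduct_mulVec, Matrix.vecMul_transpose, Matrix.mulVec_mulVec, hAA,
      Matrix.one_mulVec]
  · intro j
    constructor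
    · intro h
      apply hmin
      ext i k
      have h1 := congrArg (fun f : Module.End F ((Fin d → F) × (Fin d → F)) =>
        (f (Pi.single k 1, 0)).1 i) h
      simp only [hapow, Module.End.one_apply] at h1
      rw [Matrix.mulVec_single_one] at h1
      have h5 : (A ^ j) i k = (Pi.single k (1 : F) : Fin d → F) i := h1
      rw [Matrix.one_apply, h5, Pi.single_apply]
    · rintro ⟨c, rfl⟩
      have h1 : A ^ (m * c) = 1 := by rw [pow_mul, hAm, one_pow]
      have h3 : A' ^ (m * c) = 1 := by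
        rw [hA', ← Matrix.transpose_pow, ← pow_mul, mul_comm (m - 1), pow_mul, h1, one_pow,
          Matrix.transpose_one]
      apply LinearMap.ext
      intro v
      rw [hapow, h1, h3, Matrix.one_mulVec, Matrix.one_mulVec]
      rfl

section finite

variable [Fintype F]

/-- the minus type space: the field with `q ^ (2 h)` elements with the form `x ↦ λ (x x^(q^h))` -/
theorem hasIso_minus (p : ℕ) [Fact p.Prime] [CharP F p] (h2 : (2 : F) ≠ 0) (h : ℕ) (hh : 0 < h)
    (m : ℕ) (hm : m ∣ Fintype.card F ^ h + 1) : HasIso F (h + h) m := by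
  classical
  have : NeZero (h + h) := ⟨by omega⟩
  obtain ⟨q, hq⟩ : ∃ q : ℕ, q = Fintype.card F := ⟨_, rfl⟩
  rw [← hq] at hm
  have hq2 : 2 ≤ q := by rw [hq]; exact Fintype.one_lt_card
  let E := FiniteField.Extension F p (h + h)
  have : Fintype E := Fintype.ofFinite E
  have hfr : Module.finrank F E = h + h := FiniteField.finrank_extension F p (h + h)
  have hcardE : Fintype.card E = q ^ (h + h) := by
    have := FiniteField.natCard_extension F p (h + h)
    rw [Nat.card_eq_fintype_card, Nat.card_eq_fintype_card] at this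
    rw [this, hq]
  let σ : E →ₐ[F] E := FiniteField.frobeniusAlgHom F E ^ h
  have hσ : ∀ x : E, σ x = x ^ (q ^ h) := by
    intro x
    show (FiniteField.frobeniusAlgHom F E ^ h) x = _
    rw [AlgHom.coe_pow, FiniteField.coe_frobeniusAlgHom, pow_iterate, hq]
  have hσσ : ∀ x : E, σ (σ x) = x := by
    intro x
    rw [hσ, hσ, ← pow_mul, ← pow_add, ← hcardE, FiniteField.pow_card]
  have h1qh : 1 < q ^ h := Nat.one_lt_pow (by omega) (by omega)
  have hfac : q ^ (h + h) - 1 = (q ^ h - 1) * (q ^ h + 1) := by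
    have h1 : 1 ≤ q ^ h := by omega
    have h3 : q ^ (h + h) = q ^ h * q ^ h := by rw [pow_add]
    rw [h3]
    have h4 : 1 ≤ q ^ h * q ^ h := Nat.mul_pos h1 h1
    zify [h1, h4]
    ring
  obtain ⟨lam, hlam⟩ := LinearMap.exists_leftInverse_of_injective (Algebra.linearMap F E)
    (LinearMap.ker_eq_bot.2 (algebraMap F E).injective)
  have hlam1 : lam 1 = 1 := by
    have h1 := congrArg (fun f : F →ₗ[F] F => f 1) hlam
    simpa using h1
  let B : LinearMap.BilinForm F E := LinearMap.mk₂ F (fun x y => lam (x * σ y))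
    (fun x x' y => by rw [add_mul, map_add])
    (fun c x y => by rw [smul_mul_assoc, map_smul])
    (fun x y y' => by rw [map_add, mul_add, map_add])
    (fun c x y => by rw [map_smul, mul_smul_comm, map_smul])
  have hB : ∀ x y : E, B x y = lam (x * σ y) := fun x y => rfl
  let Q : QuadraticForm F E := LinearMap.BilinMap.toQuadraticMap B
  have hQ : ∀ x : E, Q x = lam (x * σ x) := fun x => by
    show (LinearMap.BilinMap.toQuadraticMap B) x = _
    rw [LinearMap.BilinMap.toQuadraticMap_apply, hB]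
  have hpolar : ∀ x y : E, QuadraticMap.polar Q x y = lam (x * σ y) + lam (y * σ x) :=
    fun x y => by
      show QuadraticMap.polar (⇑(LinearMap.BilinMap.toQuadraticMap B)) x y = _
      rw [LinearMap.BilinMap.polar_toQuadraticMap, hB, hB]
  obtain ⟨t, ht⟩ := exists_orderOf (K := E) m
    (by rw [Nat.card_eq_fintype_card, hcardE, hfac]; exact dvd_mul_of_dvd_right hm _)
  have htσ : t * σ t = 1 := by
    rw [hσ, ← pow_succ']
    obtain ⟨c, hc⟩ := hm
    rw [hc, ← ht, pow_mul, pow_orderOf_eq_one, one_pow]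
  let a : Module.End F E := LinearMap.mulLeft F t
  have hapow : ∀ (j : ℕ) (x : E), (a ^ j) x = t ^ j * x := by
    intro j
    induction j with
    | zero =>
      intro x
      simp
    | succ j ih =>
      intro x
      rw [pow_succ', Module.End.mul_apply, ih]
      show t * (t ^ j * x) = _
      rw [← mul_assoc, ← pow_succ']
  refine hasIso_of_small (V := E) Q a hfr ?_ ?_ ?_
  · intro x hx
    by_contra hx0
    have h1 := hx (σ x⁻¹)
    rw [hpolar, hσσ, mul_inv_cancel₀ hx0, ← map_mul, inv_mul_cancel₀ hx0, map_one σ, hlam1] at h1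
    apply h2
    linear_combination h1
  · intro x
    rw [hQ, hQ]
    show lam (t * x * σ (t * x)) = _
    rw [map_mul σ]
    have h1 : t * x * (σ t * σ x) = (t * σ t) * (x * σ x) := by ring
    rw [h1, htσ, one_mul]
  · intro j
    constructor
    · intro hj
      rw [← ht]
      apply orderOf_dvd_of_pow_eq_one
      have h1 := congrArg (fun f : Module.End F E => f 1) hj
      simp only [hapow, Module.End.one_apply, mul_one] at h1
      exact h1
    · rintro ⟨c, rfl⟩
      apply LinearMap.ext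
      intro x
      rw [hapow, ← ht, pow_mul, pow_orderOf_eq_one, one_pow, one_mul]
      rfl

/-- a block of dimension `2 η` with an isometry of exact order `m`, for `m ∣ q ^ η ∓ 1` -/
theorem hasIso_block (p : ℕ) [Fact p.Prime] [CharP F p] (h2 : (2 : F) ≠ 0) (η : ℕ) (hη : 0 < η)
    (m : ℕ) (hm0 : 0 < m)
    (hm : m ∣ Fintype.card F ^ η - 1 ∨ m ∣ Fintype.card F ^ η + 1) : HasIso F (η + η) m := by
  rcases hm with hm | hm
  · obtain ⟨A, hAm, hAmin⟩ := exists_block (F := F) p η hη m hm
    exact hasIso_hyp A m hm0 hAm hAmin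
  · exact hasIso_minus p h2 η hη m hm

end finite

/-! ### transfer to the standard form -/

section transfer

variable [Fintype F]

theorem oddForm_nondeg (h2 : (2 : F) ≠ 0) (n : ℕ) :
    (QuadraticMap.polarBilin (oddForm n F)).Nondegenerate :=
  nondegenerate_of_gram (oddForm n F) (gramOdd n F) (gramOddInv n F) (gramOdd_mul_inv n h2)
    (polar_oddForm n)

/-- every non-degenerate quadratic space of dimension `2 m + 1` is similar to the standard one -/
theorem exists_similitude (h2 : (2 : F) ≠ 0) (m : ℕ) {V : Type*}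
    [AddCommGroup V] [Module F V] [FiniteDimensional F V] (Q : QuadraticForm F V)
    (hnd : ∀ v, (∀ w, QuadraticMap.polar Q v w = 0) → v = 0)
    (hfin : Module.finrank F V = 2 * m + 1) :
    ∃ (T : V ≃ₗ[F] (Unit ⊕ (Fin m ⊕ Fin m) → F)) (c : F),
      ∀ v, Cfsg.quadFormOdd m F (T v) = c * Q v := by
  classical
  have hQnd := nondegenerate_of_forall Q hnd
  obtain ⟨bs, hbs1, hbs2⟩ := exists_normal_basis h2 (2 * m) hfin Q hQnd
  have hQnd' := oddForm_nondeg (F := F) h2 m
  obtain ⟨bs', hbs1', hbs2'⟩ := exists_normal_basis h2 (2 * m) (finrank_odd m) (oddForm m F) hQnd'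
  obtain ⟨w₁, hw₁⟩ : ∃ w₁ : Fin (2 * m + 1) → F, w₁ = fun k => Q (bs k) := ⟨_, rfl⟩
  obtain ⟨w₂, hw₂⟩ : ∃ w₂ : Fin (2 * m + 1) → F, w₂ = fun k => oddForm m F (bs' k) := ⟨_, rfl⟩
  have hw₁0 : ∀ k, w₁ k ≠ 0 := by
    intro k
    rw [hw₁]
    exact ortho_basis_ne_zero Q hnd bs hbs1 k
  have hw₂0 : ∀ k, w₂ k ≠ 0 := by
    intro k
    rw [hw₂]
    exact ortho_basis_ne_zero (oddForm m F) (forall_of_nondegenerate _ hQnd') bs' hbs1' k
  obtain ⟨g₁, c, hc0, hg₁⟩ := diag_similar h2
    (by rw [Fintype.card_fin]; exact odd_two_mul_add_one m) w₁ w₂ hw₁0 hw₂0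
  obtain ⟨T, hT⟩ : ∃ T : V ≃ₗ[F] (Unit ⊕ (Fin m ⊕ Fin m) → F),
      T = bs.equivFun ≪≫ₗ g₁ ≪≫ₗ bs'.equivFun.symm := ⟨_, rfl⟩
  have hQexp : ∀ v : V, Q v = ∑ k, w₁ k * (bs.equivFun v k) ^ 2 := by
    intro v
    conv_lhs => rw [← bs.sum_equivFun v]
    rw [map_sum_ortho Q bs hbs1 (bs.equivFun v) Finset.univ, hw₁]
    apply Finset.sum_congr rfl
    intro k _
    ring
  have hQexp' : ∀ x : Fin (2 * m + 1) → F,
      oddForm m F (bs'.equivFun.symm x) = ∑ k, w₂ k * (x k) ^ 2 := by
    intro x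
    rw [Module.Basis.equivFun_symm_apply, map_sum_ortho (oddForm m F) bs' hbs1' x Finset.univ, hw₂]
    apply Finset.sum_congr rfl
    intro k _
    ring
  refine ⟨T, c, ?_⟩
  intro v
  rw [hT]
  show oddForm m F (bs'.equivFun.symm (g₁ (bs.equivFun v))) = _
  rw [hQexp', hg₁, hQexp]

/-- transfer of an isometry of exact order `M` to the standard form -/
theorem exists_iso_of_hasIso (h2 : (2 : F) ≠ 0) (n M : ℕ) (hM : 0 < M)
    (h : HasIso F (2 * n + 1) M) :
    ∃ g : ↥(Cfsg.isometryGroup F (Cfsg.quadFormOdd n F)), orderOf g = M := by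
  classical
  obtain ⟨V, _, _, _, Q, a, hd, hnd, hi, ho⟩ := h
  obtain ⟨T, c, hT⟩ := exists_similitude h2 n Q hnd hd
  have haM : a ^ M = 1 := (ho M).2 (dvd_refl _)
  obtain ⟨b, hb⟩ : ∃ b : Module.End F V, b = a ^ (M - 1) := ⟨_, rfl⟩
  have hab : a * b = 1 := by rw [hb, ← pow_succ', Nat.sub_add_cancel hM, haM]
  obtain ⟨A, hA⟩ : ∃ A : Matrix (Unit ⊕ (Fin n ⊕ Fin n)) (Unit ⊕ (Fin n ⊕ Fin n)) F,
      A = LinearMap.toMatrix' (T.conj a) := ⟨_, rfl⟩
  obtain ⟨B, hB⟩ : ∃ B : Matrix (Unit ⊕ (Fin n ⊕ Fin n)) (Unit ⊕ (Fin n ⊕ Fin n)) F,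
      B = LinearMap.toMatrix' (T.conj b) := ⟨_, rfl⟩
  have hAB : A * B = 1 := by
    rw [hA, hB, ← LinearMap.toMatrix'_mul, ← conj_mul', hab, conj_one', LinearMap.toMatrix'_one]
  have hBA : B * A = 1 := mul_eq_one_comm.mp hAB
  have hmul : ∀ x : Unit ⊕ (Fin n ⊕ Fin n) → F, A *ᵥ x = T (a (T.symm x)) := by
    intro x
    rw [hA, LinearMap.toMatrix'_mulVec, LinearEquiv.conj_apply_apply]
  have hpres : ∀ x : Unit ⊕ (Fin n ⊕ Fin n) → F,
      Cfsg.quadFormOdd n F (A *ᵥ x) = Cfsg.quadFormOdd n F x := by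
    intro x
    rw [hmul, hT, hi, ← hT, LinearEquiv.apply_symm_apply]
  obtain ⟨g, hg⟩ : ∃ g : ↥(Cfsg.isometryGroup F (Cfsg.quadFormOdd n F)),
      ((g : GL (Unit ⊕ (Fin n ⊕ Fin n)) F) : Matrix _ _ F) = A :=
    ⟨⟨⟨A, B, hAB, hBA⟩, (mem_isometryGroup_iff' _ _).mpr hpres⟩, rfl⟩
  refine ⟨g, ?_⟩
  have hpow : ∀ k : ℕ, g ^ k = 1 ↔ M ∣ k := by
    intro k
    rw [← ho k]
    have h1 : g ^ k = 1 ↔ A ^ k = 1 := by
      constructor
      · intro h
        have h3 := congrArg (fun x : ↥(Cfsg.isometryGroup F (Cfsg.quadFormOdd n F)) =>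
          ((x : GL (Unit ⊕ (Fin n ⊕ Fin n)) F) :
            Matrix (Unit ⊕ (Fin n ⊕ Fin n)) (Unit ⊕ (Fin n ⊕ Fin n)) F)) h
        simp only [Subgroup.coe_pow, Units.val_pow_eq_pow_val, hg, Subgroup.coe_one,
          Units.val_one] at h3
        exact h3
      · intro h
        apply Subtype.ext
        apply Units.ext
        rw [Subgroup.coe_pow, Units.val_pow_eq_pow_val, hg, h]
        rfl
    rw [h1, hA, ← toMatrix'_pow', ← conj_pow']
    constructor
    · intro h
      have h3 : T.conj (a ^ k) = 1 := by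
        apply LinearMap.toMatrix'.injective
        rw [h, LinearMap.toMatrix'_one]
      apply T.conj.injective
      rw [h3, conj_one']
    · intro h
      rw [h, conj_one', LinearMap.toMatrix'_one]
  exact Nat.dvd_antisymm (orderOf_dvd_of_pow_eq_one ((hpow M).2 (dvd_refl _)))
    ((hpow _).1 (pow_orderOf_eq_one g))

theorem mk_injective (h2 : (2 : F) ≠ 0) (n : ℕ) (hn : 1 ≤ n) :
    Function.Injective (QuotientGroup.mk' (Subgroup.center
      (Cfsg.Omega F (Cfsg.quadFormOdd n F)))) := by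
  rw [← MonoidHom.ker_eq_bot_iff, QuotientGroup.ker_mk', Cfsg.Agent.S0292.center_eq_bot h2 n hn]

/-- an isometry of order `M` of some space of dimension `2 n + 1` gives an element of order
`M / gcd(M, 2)` of `PΩ_{2n+1}(q)` -/
theorem exists_omega_of_hasIso (h2 : (2 : F) ≠ 0) (n M : ℕ) (hM : 0 < M) (hn : 1 ≤ n)
    (h : HasIso F (2 * n + 1) M) :
    M / Nat.gcd M 2 ∈ Set.range (orderOf : Cfsg.POmega F (Cfsg.quadFormOdd n F) → ℕ) := by
  obtain ⟨g, hg⟩ := exists_iso_of_hasIso h2 n M hM h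
  have hmem : g * g ∈ Cfsg.Omega F (Cfsg.quadFormOdd n F) :=
    Cfsg.Agent.Lib.helper48.OddBal.sq_mem_Omega h2 (oddForm n F) (oddForm_nondeg h2 n) g
  have hord : orderOf (g * g) = M / Nat.gcd M 2 := by
    rw [← pow_two, orderOf_pow' g (by norm_num), hg]
  refine ⟨QuotientGroup.mk' _ ⟨g * g, hmem⟩, ?_⟩
  rw [orderOf_injective _ (mk_injective h2 n hn), ← hord]
  exact Subgroup.orderOf_mk (g * g) hmem

/-- an element of `PΩ` of order `N` comes from an element of `Ω` of order `N` -/
theorem exists_of_mem_range (h2 : (2 : F) ≠ 0) (n : ℕ) (hn : 1 ≤ n) (N : ℕ)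
    (h : N ∈ Set.range (orderOf : Cfsg.POmega F (Cfsg.quadFormOdd n F) → ℕ)) :
    ∃ g : ↥(Cfsg.isometryGroup F (Cfsg.quadFormOdd n F)),
      g ∈ Cfsg.Omega F (Cfsg.quadFormOdd n F) ∧ orderOf g = N := by
  obtain ⟨x, hx⟩ := h
  obtain ⟨y, rfl⟩ := QuotientGroup.mk_surjective x
  refine ⟨y.1, y.2, ?_⟩
  rw [Subgroup.orderOf_coe, ← hx]
  exact (orderOf_injective _ (mk_injective h2 n hn) y).symm

end transfer

end Cfsg.Agent.Lib.helper64.RsIso
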