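import Mathlib
import Cfsg.Agent.Lib.helper45.OEven
import Cfsg.Agent.Lib.helper64.RsIso

set_option autoImplicit false
set_option linter.unusedSectionVars false
set_option linter.style.haveILetI false

/-!
# Isometries of prescribed order of quadratic spaces of given type, characteristic two (helper64)

`HasIsoU F d s m`: a quadratic space of dimension `d` over `F` with non-degenerate polar form and
value distribution of type `s` (`Unif s`), with an isometry of exact order `m`.  Blocks,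
orthogonal sums, the wreath construction, and the transfer to `quadFormMinus 3`.
-/

namespace Cfsg.Agent.Lib.helper64.EvIso

open Polynomial Matrix Cfsg Cfsg.Agent.Lib.helper48 Cfsg.Agent.Lib.helper49
  Cfsg.Agent.Lib.helper45 Cfsg.Agent.Lib.helper42 Cfsg.Agent.Lib.helper18
  Cfsg.Agent.Lib.helper64.PGBlocks Cfsg.Agent.Lib.helper64.UIso Cfsg.Agent.Lib.helper64.RsIso

universe u

variable {F : Type u} [Field F] [Fintype F]

/-- a quadratic space of dimension `d` with non-degenerate polar form and type `s` -/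
def QS {V : Type*} [AddCommGroup V] [Module F V] (Q : QuadraticForm F V) (d : ℕ) (s : ℤ) :
    Prop :=
  Module.finrank F V = d ∧ (∀ v, (∀ w, QuadraticMap.polar Q v w = 0) → v = 0) ∧
    Unif s (fun c => Nat.card {v : V // Q v = c})

theorem QS.prod {V₁ V₂ : Type*} [AddCommGroup V₁] [Module F V₁] [FiniteDimensional F V₁]
    [AddCommGroup V₂] [Module F V₂] [FiniteDimensional F V₂] {Q₁ : QuadraticForm F V₁}
    {Q₂ : QuadraticForm F V₂} {d₁ d₂ : ℕ} {s₁ s₂ : ℤ} (h₁ : QS Q₁ d₁ s₁) (h₂ : QS Q₂ d₂ s₂) :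
    QS (Q₁.prod Q₂) (d₁ + d₂) (s₁ * s₂) := by
  obtain ⟨hd₁, hnd₁, hu₁⟩ := h₁
  obtain ⟨hd₂, hnd₂, hu₂⟩ := h₂
  refine ⟨?_, ?_, ?_⟩
  · rw [Module.finrank_prod, hd₁, hd₂]
  · rintro ⟨v₁, v₂⟩ hv
    have h1 : v₁ = 0 := hnd₁ v₁ (fun w => by
      have h3 := hv (w, 0)
      rw [QuadraticMap.polar_prod] at h3
      simpa using h3)
    have h2 : v₂ = 0 := hnd₂ v₂ (fun w => by
      have h3 := hv (0, w)
      rw [QuadraticMap.polar_prod] at h3
      simpa using h3)
    rw [h1, h2]
    rfl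
  · haveI : Finite V₁ := Module.finite_of_finite F
    haveI : Finite V₂ := Module.finite_of_finite F
    have h1 : (fun c => Nat.card {v : V₁ × V₂ // (Q₁.prod Q₂) v = c})
        = vconv (fun c => Nat.card {v : V₁ // Q₁ v = c})
          (fun c => Nat.card {v : V₂ // Q₂ v = c}) := by
      funext c
      unfold vconv
      rw [← card_prod_fiber (fun v : V₁ => Q₁ v) (fun v : V₂ => Q₂ v) c]
      rfl
    rw [h1]
    exact hu₁.conv hu₂

/-- a quadratic space of dimension `d` and type `s` with an isometry of exact order `m` -/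
def HasIsoU (F : Type u) [Field F] [Fintype F] (d : ℕ) (s : ℤ) (m : ℕ) : Prop :=
  ∃ (V : Type u) (_ : AddCommGroup V) (_ : Module F V) (_ : FiniteDimensional F V)
    (Q : QuadraticForm F V) (a : Module.End F V),
    QS Q d s ∧ (∀ v, Q (a v) = Q v) ∧ ∀ j : ℕ, a ^ j = 1 ↔ m ∣ j

theorem HasIsoU.congr {d d' : ℕ} {s s' : ℤ} {m m' : ℕ} (h : HasIsoU F d s m) (hd : d = d')
    (hs : s = s') (hm : m = m') : HasIsoU F d' s' m' := by
  subst hd hs hm
  exact h

theorem HasIsoU.prod {d₁ d₂ m₁ m₂ : ℕ} {s₁ s₂ : ℤ} (h₁ : HasIsoU F d₁ s₁ m₁)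
    (h₂ : HasIsoU F d₂ s₂ m₂) : HasIsoU F (d₁ + d₂) (s₁ * s₂) (Nat.lcm m₁ m₂) := by
  obtain ⟨V₁, _, _, _, Q₁, a₁, hQ₁, hi₁, ho₁⟩ := h₁
  obtain ⟨V₂, _, _, _, Q₂, a₂, hQ₂, hi₂, ho₂⟩ := h₂
  refine ⟨V₁ × V₂, inferInstance, inferInstance, inferInstance, Q₁.prod Q₂, a₁.prodMap a₂,
    hQ₁.prod hQ₂, ?_, ?_⟩
  · rintro ⟨v₁, v₂⟩
    rw [QuadraticMap.prod_apply, QuadraticMap.prod_apply, LinearMap.prodMap_apply, hi₁, hi₂]
  · intro j
    have hpow : (a₁.prodMap a₂) ^ j = (a₁ ^ j).prodMap (a₂ ^ j) := by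
      induction j with
      | zero => rw [pow_zero, pow_zero, pow_zero, LinearMap.prodMap_one]
      | succ j ih => rw [pow_succ, ih, pow_succ, pow_succ, LinearMap.prodMap_mul]
    rw [hpow, Nat.lcm_dvd_iff, ← ho₁, ← ho₂]
    constructor
    · intro h
      constructor
      · apply LinearMap.ext
        intro v
        have h3 := congrArg (fun f : Module.End F (V₁ × V₂) => (f (v, 0)).1) h
        simpa using h3
      · apply LinearMap.ext
        intro v
        have h3 := congrArg (fun f : Module.End F (V₁ × V₂) => (f (0, v)).2) h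
        simpa using h3
    · rintro ⟨h1, h2⟩
      rw [h1, h2, LinearMap.prodMap_one]

/-- the wreath construction: `(x, y) ↦ (a y, x)` -/
theorem HasIsoU.wreath {d : ℕ} {s : ℤ} {m : ℕ} (hd : 0 < d) (h : HasIsoU F d s m) :
    HasIsoU F (d + d) (s * s) (2 * m) := by
  obtain ⟨V, _, _, _, Q, a, hQ, hi, ho⟩ := h
  let g : Module.End F (V × V) := (a.comp (LinearMap.snd F V V)).prod (LinearMap.fst F V V)
  have hg : ∀ v : V × V, g v = (a v.2, v.1) := fun v => rfl
  have hg2 : ∀ (j : ℕ) (v : V × V), (g ^ (2 * j)) v = ((a ^ j) v.1, (a ^ j) v.2) := by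
    intro j
    induction j with
    | zero =>
      intro v
      simp
    | succ j ih =>
      intro v
      have h1 : 2 * (j + 1) = 2 * j + 1 + 1 := by ring
      rw [h1, pow_succ' g (2 * j + 1), pow_succ' g (2 * j), Module.End.mul_apply,
        Module.End.mul_apply, ih, hg, hg, pow_succ' a j, Module.End.mul_apply,
        Module.End.mul_apply]
  obtain ⟨x₀, hx₀⟩ : ∃ x₀ : V, x₀ ≠ 0 := by
    have h1 : 0 < Module.finrank F V := by rw [hQ.1]; exact hd
    exact Module.finrank_pos_iff_exists_ne_zero.1 h1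
  refine ⟨V × V, inferInstance, inferInstance, inferInstance, Q.prod Q, g, hQ.prod hQ, ?_, ?_⟩
  · rintro ⟨v₁, v₂⟩
    rw [hg, QuadraticMap.prod_apply, QuadraticMap.prod_apply, hi]
    exact add_comm _ _
  · intro k
    constructor
    · intro hk
      rcases Nat.even_or_odd' k with ⟨j, rfl | rfl⟩
      · have h1 : a ^ j = 1 := by
          apply LinearMap.ext
          intro v
          have h3 := congrArg (fun f : Module.End F (V × V) => (f (v, 0)).1) hk
          simp only [hg2, Module.End.one_apply] at h3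
          exact h3
        exact Nat.mul_dvd_mul_left 2 ((ho j).1 h1)
      · exfalso
        have h3 := congrArg (fun f : Module.End F (V × V) => (f (x₀, 0)).1) hk
        simp only [Module.End.one_apply] at h3
        rw [pow_succ', Module.End.mul_apply, hg2, hg] at h3
        simp only [map_zero] at h3
        exact hx₀ h3.symm
    · rintro ⟨c, rfl⟩
      have h1 : 2 * m * c = 2 * (m * c) := by ring
      have h2 : a ^ (m * c) = 1 := (ho _).2 (dvd_mul_right _ _)
      apply LinearMap.ext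
      intro v
      rw [h1, hg2, h2]
      rfl

/-! ### hyperbolic blocks -/

/-- the pairing form on `F ^ d × F ^ d` -/
noncomputable def dotForm (F : Type u) [Field F] (d : ℕ) :
    QuadraticForm F ((Fin d → F) × (Fin d → F)) :=
  LinearMap.BilinMap.toQuadraticMap
    (LinearMap.mk₂ F (fun v w : (Fin d → F) × (Fin d → F) => v.1 ⬝ᵥ w.2)
      (fun v v' w => by simp [add_dotProduct])
      (fun c v w => by simp [smul_dotProduct])
      (fun v w w' => by simp [dotProduct_add])
      (fun c v w => by simp [dotProduct_smul]))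

omit [Fintype F] in
theorem dotForm_apply (d : ℕ) (v : (Fin d → F) × (Fin d → F)) :
    dotForm F d v = v.1 ⬝ᵥ v.2 := by
  unfold dotForm
  rw [LinearMap.BilinMap.toQuadraticMap_apply]
  rfl

omit [Fintype F] in
theorem polar_dotForm (d : ℕ) (v w : (Fin d → F) × (Fin d → F)) :
    QuadraticMap.polar (dotForm F d) v w = v.1 ⬝ᵥ w.2 + w.1 ⬝ᵥ v.2 := by
  unfold dotForm
  rw [LinearMap.BilinMap.polar_toQuadraticMap]
  rfl

theorem qs_dot (d : ℕ) : QS (dotForm F d) (d + d) ((Fintype.card F : ℤ) ^ d) := by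
  classical
  refine ⟨?_, ?_, ?_⟩
  · rw [Module.finrank_prod, Module.finrank_fin_fun]
  · rintro ⟨x, y⟩ hv
    have hx : x = 0 := by
      funext i
      have h1 := hv (0, Pi.single i 1)
      rw [polar_dotForm] at h1
      simpa using h1
    have hy : y = 0 := by
      funext i
      have h1 := hv (Pi.single i 1, 0)
      rw [polar_dotForm] at h1
      simpa using h1
    rw [hx, hy]
    rfl
  · have h1 : (fun c => Nat.card {v : (Fin d → F) × (Fin d → F) // dotForm F d v = c})
        = fun c => Nat.card {p : (Fin d → F) × (Fin d → F) // p.1 ⬝ᵥ p.2 = c} := by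
      funext c
      simp only [dotForm_apply]
    rw [h1]
    exact unif_dot d

/-- the hyperbolic space of a matrix of exact order `m` -/
theorem hasIsoU_hyp {d : ℕ} (A : Matrix (Fin d) (Fin d) F) (m : ℕ) (hm0 : 0 < m)
    (hAm : A ^ m = 1) (hmin : ∀ j : ℕ, A ^ j = 1 → m ∣ j) :
    HasIsoU F (d + d) ((Fintype.card F : ℤ) ^ d) m := by
  classical
  obtain ⟨A', hA'⟩ : ∃ A' : Matrix (Fin d) (Fin d) F, A' = (A ^ (m - 1))ᵀ := ⟨_, rfl⟩
  have hAA : A ^ (m - 1) * A = 1 := by rw [← pow_succ, Nat.sub_add_cancel hm0, hAm]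
  let a : Module.End F ((Fin d → F) × (Fin d → F)) :=
    (Matrix.toLin' A).prodMap (Matrix.toLin' A')
  have hapow : ∀ (j : ℕ) (v : (Fin d → F) × (Fin d → F)),
      (a ^ j) v = ((A ^ j) *ᵥ v.1, (A' ^ j) *ᵥ v.2) := by
    intro j
    induction j with
    | zero =>
      intro v
      simp
    | succ j ih =>
      intro v
      rw [pow_succ', Module.End.mul_apply, ih]
      show (Matrix.toLin' A (A ^ j *ᵥ v.1), Matrix.toLin' A' (A' ^ j *ᵥ v.2)) = _
      rw [Matrix.toLin'_apply, Matrix.toLin'_apply, Matrix.mulVec_mulVec, Matrix.mulVec_mulVec,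
        ← pow_succ', ← pow_succ']
  refine ⟨(Fin d → F) × (Fin d → F), inferInstance, inferInstance, inferInstance, dotForm F d, a,
    qs_dot d, ?_, ?_⟩
  · rintro ⟨x, y⟩
    rw [dotForm_apply, dotForm_apply]
    show (A *ᵥ x) ⬝ᵥ (A' *ᵥ y) = x ⬝ᵥ y
    rw [hA', Matrix.dotProduct_mulVec, Matrix.vecMul_transpose, Matrix.mulVec_mulVec, hAA,
      Matrix.one_mulVec]
  · intro j
    constructor
    · intro h
      apply hmin
      ext i k
      have h1 := congrArg (fun f : Module.End F ((Fin d → F) × (Fin d → F)) =>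
        (f (Pi.single k 1, 0)).1 i) h
      simp only [hapow, Module.End.one_apply] at h1
      rw [Matrix.mulVec_single_one] at h1
      have h5 : (A ^ j) i k = (Pi.single k (1 : F) : Fin d → F) i := h1
      rw [Matrix.one_apply, h5, Pi.single_apply]
    · rintro ⟨c, rfl⟩
      have h1 : A ^ (m * c) = 1 := by rw [pow_mul, hAm, one_pow]
      have h3 : A' ^ (m * c) = 1 := by
        rw [hA', ← Matrix.transpose_pow, ← pow_mul, mul_comm (m - 1), pow_mul, h1, one_pow,
          Matrix.transpose_one]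
      apply LinearMap.ext
      intro v
      rw [hapow, h1, h3, Matrix.one_mulVec, Matrix.one_mulVec]
      rfl

theorem hasIsoU_hyp' (p : ℕ) [Fact p.Prime] [CharP F p] (d : ℕ) (hd : 0 < d) (m : ℕ)
    (hm0 : 0 < m) (hm : m ∣ Fintype.card F ^ d - 1) :
    HasIsoU F (d + d) ((Fintype.card F : ℤ) ^ d) m := by
  obtain ⟨A, hAm, hAmin⟩ := exists_block (F := F) p d hd m hm
  exact hasIsoU_hyp A m hm0 hAm hAmin

/-! ### planes -/

/-- the hyperbolic plane `x y` -/
def hq (F : Type u) [Field F] : QuadraticForm F (F × F) :=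
  QuadraticMap.linMulLin (LinearMap.fst F F F) (LinearMap.snd F F F)

omit [Fintype F] in
theorem hq_apply (v : F × F) : hq F v = v.1 * v.2 := rfl

theorem qs_hq : QS (hq F) 2 (Fintype.card F : ℤ) := by
  refine ⟨?_, ?_, ?_⟩
  · rw [Module.finrank_prod, Module.finrank_self]
  · rintro ⟨x, y⟩ hv
    have e1 := hv (1, 0)
    have e2 := hv (0, 1)
    unfold QuadraticMap.polar at e1 e2
    simp only [hq_apply, Prod.mk_add_mk] at e1 e2
    have hy : y = 0 := by linear_combination e1
    have hx : x = 0 := by linear_combination e2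
    rw [hx, hy]
    rfl
  · have h0 := unif_pairing (F := F) (X := F) (Y := F) (LinearMap.mul F F) (by
        intro x hx h0
        apply hx
        have h2 := congrArg (fun φ : F →ₗ[F] F => φ 1) h0
        simpa using h2) rfl
    have h1 : (fun c => Nat.card {v : F × F // hq F v = c})
        = fun c => Nat.card {p : F × F // LinearMap.mul F F p.1 p.2 = c} := by
      funext c
      rfl
    rw [h1]
    have h3 : (Nat.card F : ℤ) = (Fintype.card F : ℤ) := by rw [Nat.card_eq_fintype_card]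
    rw [h3] at h0
    exact h0

/-- the binary form `y₁ ^ 2 + y₁ y₂ + c y₂ ^ 2` -/
def bq (c : F) : QuadraticForm F (F × F) :=
  QuadraticMap.linMulLin (LinearMap.fst F F F) (LinearMap.fst F F F)
    + QuadraticMap.linMulLin (LinearMap.fst F F F) (LinearMap.snd F F F)
    + c • QuadraticMap.linMulLin (LinearMap.snd F F F) (LinearMap.snd F F F)

omit [Fintype F] in
theorem bq_apply (c : F) (v : F × F) : bq c v = v.1 * v.1 + v.1 * v.2 + c * (v.2 * v.2) := rfl

omit [Fintype F] in
theorem bq_nondeg [CharP F 2] (c : F) (v : F × F)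
    (hv : ∀ w, QuadraticMap.polar (bq c) v w = 0) : v = 0 := by
  obtain ⟨x, y⟩ := v
  have h2 : (2 : F) = 0 := CharTwo.two_eq_zero
  have e1 := hv (1, 0)
  have e2 := hv (0, 1)
  unfold QuadraticMap.polar at e1 e2
  simp only [bq_apply, Prod.mk_add_mk] at e1 e2
  have hy : y = 0 := by linear_combination e1 - x * h2
  have hx : x = 0 := by linear_combination e2 - c * y * h2
  rw [hx, hy]
  rfl

theorem qs_bq [CharP F 2] (c : F) (s : ℤ)
    (hu : Unif s (fun x => Nat.card {y : F × F // bq c y = x})) : QS (bq c) 2 s :=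
  ⟨by rw [Module.finrank_prod, Module.finrank_self], bq_nondeg c, hu⟩

theorem unif_bq_zero [CharP F 2] :
    Unif (Fintype.card F : ℤ) (fun x => Nat.card {y : F × F // bq (0 : F) y = x}) := by
  have h2 : (2 : F) = 0 := CharTwo.two_eq_zero
  have h1 : (fun x => Nat.card {y : F × F // bq (0 : F) y = x})
      = fun x => Nat.card {p : F × F // hq F p = x} := by
    funext x
    apply Nat.card_congr
    refine Equiv.subtypeEquiv
      { toFun := fun y => (y.1, y.1 + y.2)
        invFun := fun y => (y.1, y.1 + y.2)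
        left_inv := ?_
        right_inv := ?_ } ?_
    · rintro ⟨y₁, y₂⟩
      simp only [Prod.mk.injEq, true_and]
      linear_combination y₁ * h2
    · rintro ⟨y₁, y₂⟩
      simp only [Prod.mk.injEq, true_and]
      linear_combination y₁ * h2
    · rintro ⟨y₁, y₂⟩
      simp only [bq_apply, hq_apply, Equiv.coe_fn_mk]
      constructor
      · intro h
        rw [← h]
        ring
      · intro h
        rw [← h]
        ring
  rw [h1]
  exact qs_hq.2.2

theorem unif_bq_aniso [CharP F 2] (c : F) (han : ∀ y : F × F, bq c y = 0 → y = 0) :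
    Unif (-(Fintype.card F : ℤ)) (fun x => Nat.card {y : F × F // bq c y = x}) :=
  unif_aniso_plane (bq c) (bq_nondeg c) han
    (by rw [Module.finrank_prod, Module.finrank_self])

/-! ### the minus type blocks -/

/-- a space of dimension `2 h` with a fixed point free isometry of odd prime order dividing
`q ^ h + 1` is of minus type -/
theorem unif_minus_of_free {V : Type u} [AddCommGroup V] [Module F V] [FiniteDimensional F V]
    (Q : QuadraticForm F V) (hnd : ∀ v, (∀ w, QuadraticMap.polar Q v w = 0) → v = 0) (h : ℕ)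
    (hdim : Module.finrank F V = 2 * h) (r : ℕ) (hr : r.Prime) (hr2 : r ≠ 2)
    (hrq : r ∣ Fintype.card F ^ h + 1) (a : Module.End F V) (hi : ∀ v, Q (a v) = Q v)
    (har : a ^ r = 1) (hfree : ∀ v, a v = v → v = 0) :
    Unif (-(Fintype.card F : ℤ) ^ h) (fun c => Nat.card {v : V // Q v = c}) := by
  haveI : Fact r.Prime := ⟨hr⟩
  rcases witt_class Q hnd h hdim with ⟨hu, -⟩ | ⟨hu, -⟩
  · exfalso
    have hreal : QRealP r a.charpoly (fun c => Nat.card {v : V // Q v = c}) :=
      ⟨V, inferInstance, inferInstance, inferInstance, Q, a, a ^ (r - 1), hnd, hi,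
        by rw [← pow_succ', Nat.sub_add_cancel hr.pos, har], har, rfl, fun c => rfl⟩
    have h1 : a.charpoly.eval 1 ≠ 0 := by
      intro h0
      have hroot : a.charpoly.IsRoot 1 := h0
      have heig := (Module.End.hasEigenvalue_iff_isRoot_charpoly a 1).mpr hroot
      obtain ⟨v, hv⟩ := heig.exists_hasEigenvector
      have h3 : a v = v := by
        have h4 := hv.apply_eq_smul
        rwa [one_smul] at h4
      exact hv.2 (hfree v h3)
    have hrqZ : (r : ℤ) ∣ (Fintype.card F : ℤ) ^ h + 1 := by exact_mod_cast hrq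
    have hs : ¬ (r : ℤ) ∣ (Fintype.card F : ℤ) ^ h := by
      intro h3
      have h4 : (r : ℤ) ∣ 1 := (dvd_add_right h3).1 hrqZ
      have h5 : r ∣ 1 := by exact_mod_cast h4
      exact hr.one_lt.ne' (Nat.dvd_one.1 h5)
    have h5 := unif_fixfree hreal hu h1 hs
    have h6 : (r : ℤ) ∣ 2 := by
      have h7 := dvd_sub hrqZ h5
      have e : ((Fintype.card F : ℤ) ^ h + 1) - ((Fintype.card F : ℤ) ^ h - 1) = 2 := by ring
      rwa [e] at h7
    have h7 : r ∣ 2 := by exact_mod_cast h6
    exact hr2 ((Nat.prime_dvd_prime_iff_eq hr Nat.prime_two).1 h7)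
  · exact hu

theorem even_card [CharP F 2] : Even (Fintype.card F) := by
  haveI : Fact (Nat.Prime 2) := ⟨Nat.prime_two⟩
  obtain ⟨n, -, hn⟩ := FiniteField.card F 2
  rw [hn]
  exact (Nat.even_pow' n.ne_zero).2 even_two

/-- the minus type space: the field with `q ^ (2 h)` elements with the form `x ↦ λ (x x^(q^h))` -/
theorem hasIsoU_minus [CharP F 2] (h : ℕ) (hh : 0 < h) (m : ℕ)
    (hm : m ∣ Fintype.card F ^ h + 1) :
    HasIsoU F (h + h) (-(Fintype.card F : ℤ) ^ h) m := by
  classical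
  haveI : Fact (Nat.Prime 2) := ⟨Nat.prime_two⟩
  have : NeZero (h + h) := ⟨by omega⟩
  have hqeven : Even (Fintype.card F) := even_card
  obtain ⟨q, hq⟩ : ∃ q : ℕ, q = Fintype.card F := ⟨_, rfl⟩
  rw [← hq] at hm hqeven
  have hq2 : 2 ≤ q := by rw [hq]; exact Fintype.one_lt_card
  let E := FiniteField.Extension F 2 (h + h)
  have : Fintype E := Fintype.ofFinite E
  have hfr : Module.finrank F E = h + h := FiniteField.finrank_extension F 2 (h + h)
  have hcardE : Fintype.card E = q ^ (h + h) := by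
    have := FiniteField.natCard_extension F 2 (h + h)
    rw [Nat.card_eq_fintype_card, Nat.card_eq_fintype_card] at this
    rw [this, hq]
  let σ : E →ₐ[F] E := FiniteField.frobeniusAlgHom F E ^ h
  have hσ : ∀ x : E, σ x = x ^ (q ^ h) := by
    intro x
    show (FiniteField.frobeniusAlgHom F E ^ h) x = _
    rw [AlgHom.coe_pow, FiniteField.coe_frobeniusAlgHom, pow_iterate, hq]
  have hσσ : ∀ x : E, σ (σ x) = x := by
    intro x
    rw [hσ, hσ, ← pow_mul, ← pow_add, ← hcardE, FiniteField.pow_card]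
  have h1qh : 1 < q ^ h := Nat.one_lt_pow (by omega) (by omega)
  have hfac : q ^ (h + h) - 1 = (q ^ h - 1) * (q ^ h + 1) := by
    have h1 : 1 ≤ q ^ h := by omega
    have h3 : q ^ (h + h) = q ^ h * q ^ h := by rw [pow_add]
    rw [h3]
    have h4 : 1 ≤ q ^ h * q ^ h := Nat.mul_pos h1 h1
    zify [h1, h4]
    ring
  obtain ⟨lam, hlam⟩ := LinearMap.exists_leftInverse_of_injective (Algebra.linearMap F E)
    (LinearMap.ker_eq_bot.2 (algebraMap F E).injective)
  have hlam1 : lam 1 = 1 := by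
    have h1 := congrArg (fun f : F →ₗ[F] F => f 1) hlam
    simpa using h1
  let B : LinearMap.BilinForm F E := LinearMap.mk₂ F (fun x y => lam (x * σ y))
    (fun x x' y => by rw [add_mul, map_add])
    (fun c x y => by rw [smul_mul_assoc, map_smul])
    (fun x y y' => by rw [map_add, mul_add, map_add])
    (fun c x y => by rw [map_smul, mul_smul_comm, map_smul])
  have hB : ∀ x y : E, B x y = lam (x * σ y) := fun x y => rfl
  let Q : QuadraticForm F E := LinearMap.BilinMap.toQuadraticMap B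
  have hQ : ∀ x : E, Q x = lam (x * σ x) := fun x => by
    show (LinearMap.BilinMap.toQuadraticMap B) x = _
    rw [LinearMap.BilinMap.toQuadraticMap_apply, hB]
  have hpolar : ∀ x y : E, QuadraticMap.polar Q x y = lam (x * σ y) + lam (y * σ x) :=
    fun x y => by
      show QuadraticMap.polar (⇑(LinearMap.BilinMap.toQuadraticMap B)) x y = _
      rw [LinearMap.BilinMap.polar_toQuadraticMap, hB, hB]
  -- the isometry of order `m`
  obtain ⟨t, ht⟩ := exists_orderOf (K := E) m
    (by rw [Nat.card_eq_fintype_card, hcardE, hfac]; exact dvd_mul_of_dvd_right hm _)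
  have htσ : t * σ t = 1 := by
    rw [hσ, ← pow_succ']
    obtain ⟨c, hc⟩ := hm
    rw [hc, ← ht, pow_mul, pow_orderOf_eq_one, one_pow]
  -- an auxiliary isometry of odd prime order
  obtain ⟨r, hr, hrq⟩ : ∃ r : ℕ, r.Prime ∧ r ∣ q ^ h + 1 :=
    ⟨Nat.minFac (q ^ h + 1), Nat.minFac_prime (by omega), Nat.minFac_dvd _⟩
  have hr2 : r ≠ 2 := by
    intro h2
    rw [h2] at hrq
    have h3 : Even (q ^ h) := (Nat.even_pow' hh.ne').2 hqeven
    have h4 : ¬ 2 ∣ q ^ h + 1 := by
      rw [← even_iff_two_dvd, Nat.even_add_one, not_not]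
      exact h3
    exact h4 hrq
  obtain ⟨t₂, ht₂⟩ := exists_orderOf (K := E) r
    (by rw [Nat.card_eq_fintype_card, hcardE, hfac]; exact dvd_mul_of_dvd_right hrq _)
  have ht₂σ : t₂ * σ t₂ = 1 := by
    rw [hσ, ← pow_succ']
    obtain ⟨c, hc⟩ := hrq
    rw [hc, ← ht₂, pow_mul, pow_orderOf_eq_one, one_pow]
  have ht₂1 : t₂ ≠ 1 := by
    intro h1
    rw [h1, orderOf_one] at ht₂
    exact hr.one_lt.ne' ht₂.symm
  have ht₂0 : t₂ ≠ 0 := by
    intro h0
    rw [h0, zero_mul] at ht₂σ
    exact zero_ne_one ht₂σ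
  have h2E : (2 : E) = 0 := by
    have h11 : (2 : F) = 0 := CharTwo.two_eq_zero
    have h12 : algebraMap F E 2 = 0 := by rw [h11, map_zero]
    rwa [map_ofNat] at h12
  -- non-degeneracy
  have hnd : ∀ x : E, (∀ y : E, QuadraticMap.polar Q x y = 0) → x = 0 := by
    intro x hx
    by_contra hx0
    obtain ⟨c₀, hc₀⟩ : ∃ c₀ : E, c₀ = t₂ + σ t₂ := ⟨_, rfl⟩
    have hc₀0 : c₀ ≠ 0 := by
      intro h0
      have h3 : σ t₂ = t₂ := by
        rw [hc₀] at h0
        linear_combination h0 - t₂ * h2E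
      rw [h3] at ht₂σ
      have h4 : orderOf t₂ ∣ 2 := orderOf_dvd_of_pow_eq_one (by rw [pow_two]; exact ht₂σ)
      rw [ht₂] at h4
      exact hr2 ((Nat.prime_dvd_prime_iff_eq hr Nat.prime_two).1 h4)
    have hσc₀ : σ c₀ = c₀ := by
      rw [hc₀, map_add, hσσ, add_comm]
    obtain ⟨w, hw⟩ : ∃ w : E, w = t₂ / c₀ := ⟨_, rfl⟩
    have hw1 : w + σ w = 1 := by
      rw [hw, map_div₀, hσc₀, ← add_div, ← hc₀, div_self hc₀0]
    have h1 := hx (σ (w * x⁻¹))
    rw [hpolar, hσσ] at h1
    have h3 : x * (w * x⁻¹) = w := by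
      rw [mul_comm w, ← mul_assoc, mul_inv_cancel₀ hx0, one_mul]
    have h4 : σ (w * x⁻¹) * σ x = σ w := by
      rw [← map_mul, mul_assoc, inv_mul_cancel₀ hx0, mul_one]
    rw [h3, h4, ← map_add, hw1, hlam1] at h1
    exact one_ne_zero h1
  -- the maps
  have hmulpow : ∀ (s : E) (j : ℕ) (x : E), ((LinearMap.mulLeft F s) ^ j) x = s ^ j * x := by
    intro s j
    induction j with
    | zero =>
      intro x
      simp
    | succ j ih =>
      intro x
      rw [pow_succ', Module.End.mul_apply, ih]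
      show s * (s ^ j * x) = _
      rw [← mul_assoc, ← pow_succ']
  have hiso : ∀ s : E, s * σ s = 1 → ∀ x : E, Q (LinearMap.mulLeft F s x) = Q x := by
    intro s hs x
    rw [hQ, hQ]
    show lam (s * x * σ (s * x)) = _
    rw [map_mul σ]
    have h1 : s * x * (σ s * σ x) = (s * σ s) * (x * σ x) := by ring
    rw [h1, hs, one_mul]
  -- transport to the universe of `F`
  let e : ULift.{u} E ≃ₗ[F] E := ULift.moduleEquiv
  have : FiniteDimensional F (ULift.{u} E) := Module.Finite.equiv e.symm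
  obtain ⟨Q', hQ'⟩ : ∃ Q' : QuadraticForm F (ULift.{u} E), Q' = Q.comp e.toLinearMap := ⟨_, rfl⟩
  have hQ'v : ∀ v : ULift.{u} E, Q' v = Q (e v) := by
    intro v
    rw [hQ']
    rfl
  have hconj : ∀ (b : Module.End F E) (v : ULift.{u} E), e ((e.symm.conj b) v) = b (e v) := by
    intro b v
    rw [LinearEquiv.conj_apply_apply, LinearEquiv.symm_symm, LinearEquiv.apply_symm_apply]
  have hnd' : ∀ v : ULift.{u} E, (∀ w, QuadraticMap.polar Q' v w = 0) → v = 0 := by
    intro v hv
    have h1 : e v = 0 := hnd (e v) (fun w => by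
      have h3 := hv (e.symm w)
      have h4 : QuadraticMap.polar (⇑Q') v (e.symm w) = QuadraticMap.polar Q (e v) w := by
        unfold QuadraticMap.polar
        simp [hQ'v]
      rw [h4] at h3
      exact h3)
    exact e.injective (by rw [h1, map_zero])
  have hdim' : Module.finrank F (ULift.{u} E) = h + h := (LinearEquiv.finrank_eq e).trans hfr
  have hiso' : ∀ s : E, s * σ s = 1 →
      ∀ v : ULift.{u} E, Q' ((e.symm.conj (LinearMap.mulLeft F s)) v) = Q' v := by
    intro s hs v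
    rw [hQ'v, hQ'v, hconj, hiso s hs]
  have hu' : Unif (-(Fintype.card F : ℤ) ^ h)
      (fun c => Nat.card {v : ULift.{u} E // Q' v = c}) := by
    refine unif_minus_of_free Q' hnd' h (by rw [hdim']; ring) r hr hr2 (by rw [← hq]; exact hrq)
      (e.symm.conj (LinearMap.mulLeft F t₂)) (hiso' t₂ ht₂σ) ?_ ?_
    · rw [← conj_pow']
      have h1 : (LinearMap.mulLeft F t₂) ^ r = 1 := by
        apply LinearMap.ext
        intro x
        rw [hmulpow, ← ht₂, pow_orderOf_eq_one, one_mul]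
        rfl
      rw [h1, conj_one']
    · intro v hv
      have h1 := congrArg e hv
      rw [hconj] at h1
      have h3 : (t₂ - 1) * e v = 0 := by
        have h4 : t₂ * e v = e v := h1
        linear_combination h4
      have h4 : e v = 0 := (mul_eq_zero.1 h3).resolve_left (sub_ne_zero.2 ht₂1)
      exact e.injective (by rw [h4, map_zero])
  refine ⟨ULift.{u} E, inferInstance, inferInstance, inferInstance, Q',
    e.symm.conj (LinearMap.mulLeft F t), ⟨hdim', hnd', hu'⟩, hiso' t htσ, ?_⟩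
  intro j
  rw [← conj_pow']
  constructor
  · intro hj
    have hj' : (LinearMap.mulLeft F t) ^ j = 1 := by
      apply e.symm.conj.injective
      rw [hj, conj_one']
    rw [← ht]
    apply orderOf_dvd_of_pow_eq_one
    have h1 := congrArg (fun f : Module.End F E => f 1) hj'
    simp only [hmulpow, Module.End.one_apply, mul_one] at h1
    exact h1
  · rintro ⟨c, rfl⟩
    have h1 : (LinearMap.mulLeft F t) ^ (m * c) = 1 := by
      apply LinearMap.ext
      intro x
      rw [hmulpow, ← ht, pow_mul, pow_orderOf_eq_one, one_pow, one_mul]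
      rfl
    rw [h1, conj_one']

/-! ### unipotent blocks -/

/-- the involution `(y₁, y₂) ↦ (y₁ + y₂, y₂)` of the binary form -/
theorem hasIsoU_u2 [CharP F 2] (c : F) (s : ℤ)
    (hu : Unif s (fun x => Nat.card {y : F × F // bq c y = x})) : HasIsoU F 2 s 2 := by
  have h2 : (2 : F) = 0 := CharTwo.two_eq_zero
  let a : Module.End F (F × F) :=
    (LinearMap.fst F F F + LinearMap.snd F F F).prod (LinearMap.snd F F F)
  have ha : ∀ v : F × F, a v = (v.1 + v.2, v.2) := fun v => rfl
  refine ⟨F × F, inferInstance, inferInstance, inferInstance, bq c, a, qs_bq c s hu, ?_, ?_⟩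
  · rintro ⟨y₁, y₂⟩
    rw [ha, bq_apply, bq_apply]
    linear_combination (y₁ * y₂ + y₂ * y₂) * h2
  · intro j
    have hsq : a ^ 2 = 1 := by
      apply LinearMap.ext
      rintro ⟨y₁, y₂⟩
      rw [pow_two, Module.End.mul_apply, ha, ha]
      simp only [Module.End.one_apply, Prod.mk.injEq, and_true]
      linear_combination y₂ * h2
    have hne : a ≠ 1 := by
      intro h
      have h3 := congrArg (fun f : Module.End F (F × F) => (f (0, 1)).1) h
      simp only [ha, Module.End.one_apply, zero_add] at h3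
      exact one_ne_zero h3
    have hord : orderOf a = 2 := orderOf_eq_prime hsq hne
    rw [← hord, orderOf_dvd_iff_pow_eq_one]

/-- an isometry of order `8` of the orthogonal sum of two hyperbolic planes and a binary form -/
theorem hasIsoU_u6 [CharP F 2] (c : F) (s : ℤ)
    (hu : Unif s (fun x => Nat.card {y : F × F // bq c y = x})) :
    HasIsoU F 6 ((Fintype.card F : ℤ) * (Fintype.card F : ℤ) * s) 8 := by
  have h2 : (2 : F) = 0 := CharTwo.two_eq_zero
  let a : Module.End F (((F × F) × (F × F)) × (F × F)) :=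
    { toFun := fun v => (((v.1.1.1 + v.1.2.1 + c * v.2.2 + c ^ 2 * v.1.1.2, v.1.1.2),
        (v.1.2.1 + v.2.1 + c * v.1.2.2, v.1.2.2 + v.1.1.2)),
        (v.2.1 + v.2.2 + v.1.2.2 + (c + 1) * v.1.1.2, v.2.2 + v.1.2.2 + v.1.1.2))
      map_add' := by
        intro v w
        simp only [Prod.fst_add, Prod.snd_add, Prod.mk_add_mk, Prod.mk.injEq]
        refine ⟨⟨⟨by ring, trivial⟩, by ring, by ring⟩, by ring, by ring⟩
      map_smul' := by
        intro k v
        simp only [Prod.smul_fst, Prod.smul_snd, smul_eq_mul, RingHom.id_apply, Prod.smul_mk,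
          Prod.mk.injEq]
        refine ⟨⟨⟨by ring, trivial⟩, by ring, by ring⟩, by ring, by ring⟩ }
  have ha : ∀ (X0 Z0 X1 Z1 Y0 Y1 : F), a (((X0, Z0), (X1, Z1)), (Y0, Y1)) =
      (((X0 + X1 + c * Y1 + c ^ 2 * Z0, Z0), (X1 + Y0 + c * Z1, Z1 + Z0)),
        (Y0 + Y1 + Z1 + (c + 1) * Z0, Y1 + Z1 + Z0)) := fun _ _ _ _ _ _ => rfl
  have hp2 : ∀ (X0 Z0 X1 Z1 Y0 Y1 : F), (a ^ 2) (((X0, Z0), (X1, Z1)), (Y0, Y1)) =
      (((X0 + Y0 + c * Z0, Z0), (X1 + Y1 + Z1 + Z0, Z1)), (Y0 + Z1, Y1 + Z0)) := by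
    intro X0 Z0 X1 Z1 Y0 Y1
    rw [pow_two, Module.End.mul_apply, ha, ha]
    simp only [Prod.mk.injEq]
    refine ⟨⟨⟨?_, trivial⟩, ?_, ?_⟩, ?_, ?_⟩
    · linear_combination (X1 + Y1 * c + Z0 * c ^ 2 + Z1 * c) * h2
    · linear_combination (Y0 + Z0 * c + Z1 * c) * h2
    · linear_combination (Z0) * h2
    · linear_combination (Y1 + 2 * Z0 + Z0 * c + Z1) * h2
    · linear_combination (Z0 + Z1) * h2
  have hp4 : ∀ (X0 Z0 X1 Z1 Y0 Y1 : F), (a ^ 4) (((X0, Z0), (X1, Z1)), (Y0, Y1)) =
      (((X0 + Z1, Z0), (X1 + Z0, Z1)), (Y0, Y1)) := by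
    intro X0 Z0 X1 Z1 Y0 Y1
    have h4 : a ^ 4 = a ^ 2 * a ^ 2 := by rw [← pow_add]
    rw [h4, Module.End.mul_apply, hp2, hp2]
    simp only [Prod.mk.injEq]
    refine ⟨⟨⟨?_, trivial⟩, ?_, trivial⟩, ?_, ?_⟩
    · linear_combination (Y0 + Z0 * c) * h2
    · linear_combination (Y1 + Z0 + Z1) * h2
    · linear_combination (Z1) * h2
    · linear_combination (Z0) * h2
  have hp8 : a ^ 8 = 1 := by
    apply LinearMap.ext
    rintro ⟨⟨⟨X0, Z0⟩, ⟨X1, Z1⟩⟩, ⟨Y0, Y1⟩⟩
    have h8 : a ^ 8 = a ^ 4 * a ^ 4 := by rw [← pow_add]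
    rw [h8, Module.End.mul_apply, hp4, hp4]
    simp only [Module.End.one_apply, Prod.mk.injEq]
    refine ⟨⟨⟨?_, trivial⟩, ?_, trivial⟩, trivial⟩
    · linear_combination (Z1) * h2
    · linear_combination (Z0) * h2
  have hQS : QS (((hq F).prod (hq F)).prod (bq c)) (2 + 2 + 2)
      ((Fintype.card F : ℤ) * (Fintype.card F : ℤ) * s) := (qs_hq.prod qs_hq).prod (qs_bq c s hu)
  refine ⟨((F × F) × (F × F)) × (F × F), inferInstance, inferInstance, inferInstance,
    ((hq F).prod (hq F)).prod (bq c), a, hQS, ?_, ?_⟩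
  · rintro ⟨⟨⟨X0, Z0⟩, ⟨X1, Z1⟩⟩, ⟨Y0, Y1⟩⟩
    rw [ha]
    simp only [QuadraticMap.prod_apply, hq_apply, bq_apply]
    linear_combination (X1 * Z0 + Y0 * Y1 + 2 * Y0 * Z0 + Y0 * Z0 * c + 2 * Y0 * Z1
      + 2 * Y1 * Z0 + 3 * Y1 * Z0 * c + 2 * Y1 * Z1 + Y1 * Z1 * c + Y1 ^ 2 + 2 * Z0 * Z1
      + 3 * Z0 * Z1 * c + Z0 ^ 2 + 2 * Z0 ^ 2 * c + Z0 ^ 2 * c ^ 2 + Z1 ^ 2 + Z1 ^ 2 * c) * h2
  · intro j
    have hnot : ¬ a ^ 2 ^ 2 = 1 := by
      intro h
      have h3 := congrArg (fun f : Module.End F (((F × F) × (F × F)) × (F × F)) =>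
        (f (((0, 0), (0, 1)), (0, 0))).1.1.1) h
      have h4 : (2 : ℕ) ^ 2 = 4 := by norm_num
      simp only [h4, hp4, Module.End.one_apply, zero_add] at h3
      exact one_ne_zero h3
    have hfin : a ^ 2 ^ (2 + 1) = 1 := by
      have h4 : (2 : ℕ) ^ (2 + 1) = 8 := by norm_num
      rw [h4]
      exact hp8
    have hord : orderOf a = 8 := by
      have h3 := orderOf_eq_prime_pow (p := 2) hnot hfin
      exact h3.trans (by norm_num)
    rw [← hord, orderOf_dvd_iff_pow_eq_one]

/-! ### transfer to the standard form -/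

/-- transfer of an isometry of exact order `M` of a minus type space of dimension `8` to the
standard form -/
theorem exists_iso_of_hasIsoU (a b : F)
    (han : ∀ z₁ z₂ : F, z₁ ^ 2 + a * z₁ * z₂ + b * z₂ ^ 2 = 0 → z₁ = 0 ∧ z₂ = 0) (M : ℕ)
    (hM : 0 < M) (h : HasIsoU F 8 (-(Fintype.card F : ℤ) ^ 4) M) :
    ∃ g : ↥(Cfsg.isometryGroup F (Cfsg.quadFormMinus 3 F a b)), orderOf g = M := by
  classical
  obtain ⟨V, _, _, _, Q, α, ⟨hd, hnd, hu⟩, hi, ho⟩ := h
  have hq0 : (0 : ℤ) < (Fintype.card F : ℤ) := by exact_mod_cast Fintype.card_pos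
  rcases witt_class Q hnd 4 (by rw [hd]) with ⟨hu', -⟩ | ⟨-, k, hk, hT⟩
  · exfalso
    have h1 := Unif.unique hu hu'
    have h3 : (0 : ℤ) < (Fintype.card F : ℤ) ^ 4 := by positivity
    linarith
  · obtain rfl : k = 3 := by omega
    obtain ⟨T, hT⟩ := hT a b han
    have haM : α ^ M = 1 := (ho M).2 (dvd_refl _)
    obtain ⟨β, hβ⟩ : ∃ β : Module.End F V, β = α ^ (M - 1) := ⟨_, rfl⟩
    have hab : α * β = 1 := by rw [hβ, ← pow_succ', Nat.sub_add_cancel hM, haM]
    obtain ⟨A, hA⟩ : ∃ A : Matrix ((Fin 3 ⊕ Fin 3) ⊕ Fin 2) ((Fin 3 ⊕ Fin 3) ⊕ Fin 2) F,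
        A = LinearMap.toMatrix' (T.conj α) := ⟨_, rfl⟩
    obtain ⟨B, hB⟩ : ∃ B : Matrix ((Fin 3 ⊕ Fin 3) ⊕ Fin 2) ((Fin 3 ⊕ Fin 3) ⊕ Fin 2) F,
        B = LinearMap.toMatrix' (T.conj β) := ⟨_, rfl⟩
    have hAB : A * B = 1 := by
      rw [hA, hB, ← LinearMap.toMatrix'_mul, ← conj_mul', hab, conj_one', LinearMap.toMatrix'_one]
    have hBA : B * A = 1 := mul_eq_one_comm.mp hAB
    have hmul : ∀ x : (Fin 3 ⊕ Fin 3) ⊕ Fin 2 → F, A *ᵥ x = T (α (T.symm x)) := by
      intro x
      rw [hA, LinearMap.toMatrix'_mulVec, LinearEquiv.conj_apply_apply]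
    have hpres : ∀ x : (Fin 3 ⊕ Fin 3) ⊕ Fin 2 → F,
        Cfsg.quadFormMinus 3 F a b (A *ᵥ x) = Cfsg.quadFormMinus 3 F a b x := by
      intro x
      rw [hmul, hT, hi, ← hT, LinearEquiv.apply_symm_apply]
    obtain ⟨g, hg⟩ : ∃ g : ↥(Cfsg.isometryGroup F (Cfsg.quadFormMinus 3 F a b)),
        ((g : GL ((Fin 3 ⊕ Fin 3) ⊕ Fin 2) F) : Matrix _ _ F) = A :=
      ⟨⟨⟨A, B, hAB, hBA⟩, (mem_isometryGroup_iff' _ _).mpr hpres⟩, rfl⟩
    refine ⟨g, ?_⟩
    have hpow : ∀ k : ℕ, g ^ k = 1 ↔ M ∣ k := by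
      intro k
      rw [← ho k]
      have h1 : g ^ k = 1 ↔ A ^ k = 1 := by
        constructor
        · intro h
          have h3 := congrArg (fun x : ↥(Cfsg.isometryGroup F (Cfsg.quadFormMinus 3 F a b)) =>
            ((x : GL ((Fin 3 ⊕ Fin 3) ⊕ Fin 2) F) :
              Matrix ((Fin 3 ⊕ Fin 3) ⊕ Fin 2) ((Fin 3 ⊕ Fin 3) ⊕ Fin 2) F)) h
          simp only [Subgroup.coe_pow, Units.val_pow_eq_pow_val, hg, Subgroup.coe_one,
            Units.val_one] at h3
          exact h3
        · intro h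
          apply Subtype.ext
          apply Units.ext
          rw [Subgroup.coe_pow, Units.val_pow_eq_pow_val, hg, h]
          rfl
      rw [h1, hA, ← toMatrix'_pow', ← conj_pow']
      constructor
      · intro h
        have h3 : T.conj (α ^ k) = 1 := by
          apply LinearMap.toMatrix'.injective
          rw [h, LinearMap.toMatrix'_one]
        apply T.conj.injective
        rw [h3, conj_one']
      · intro h
        rw [h, conj_one', LinearMap.toMatrix'_one]
    exact Nat.dvd_antisymm (orderOf_dvd_of_pow_eq_one ((hpow M).2 (dvd_refl _)))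
      ((hpow _).1 (pow_orderOf_eq_one g))

end Cfsg.Agent.Lib.helper64.EvIso
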