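import Mathlib
import Cfsg.Agent.Lib.helper64.EvA
import Cfsg.Agent.Lib.helper64.EvIso

set_option autoImplicit false
set_option linter.unusedSectionVars false
set_option linter.style.haveILetI false

/-!
# `Sp_8(q)` and `O_8^-(q)`, `q` even: realisation of the twelve orders and the embedding (helper64)
-/

namespace Cfsg.Agent.Lib.helper64.EvFin

open Polynomial Matrix Cfsg Cfsg.Agent.Lib.helper48 Cfsg.Agent.Lib.helper49
  Cfsg.Agent.Lib.helper45 Cfsg.Agent.Lib.helper42 Cfsg.Agent.Lib.helper64.SpBasic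
  Cfsg.Agent.Lib.helper64.SpPG Cfsg.Agent.Lib.helper64.EvA Cfsg.Agent.Lib.helper64.EvIso

universe u

/-! ### arithmetic -/

theorem odd_pm (x : ℕ) (hx : Even x) (hx1 : 1 ≤ x) : Odd (x + 1) ∧ Odd (x - 1) := by
  obtain ⟨w, hw⟩ := hx
  exact ⟨⟨w, by omega⟩, ⟨w - 1, by omega⟩⟩

theorem cop_of_add_two {x y z : ℕ} (hx : Odd x) (hyz : y ∣ z) (h : z = x + 2 ∨ x = z + 2) :
    Nat.Coprime x y := by
  apply Nat.Coprime.coprime_dvd_right hyz
  rcases h with h | h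
  · rw [h, add_comm]
    exact Nat.coprime_add_self_right.2 (Nat.coprime_two_right.2 hx)
  · have hz : Odd z := by
      rw [h] at hx
      obtain ⟨w, hw⟩ := hx
      exact ⟨w - 1, by omega⟩
    rw [h, add_comm]
    exact Nat.coprime_add_self_left.2 (Nat.coprime_two_left.2 hz)

theorem lcm_two_pow (x k : ℕ) (hx : Odd x) : Nat.lcm x (2 ^ k) = 2 ^ k * x := by
  rw [Nat.Coprime.lcm_eq_mul ((Nat.coprime_two_right.2 hx).pow_right k), mul_comm]

theorem lcm2 (x : ℕ) (hx : Odd x) : Nat.lcm x 2 = 2 * x := by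
  simpa using lcm_two_pow x 1 hx

theorem lcm4 (x : ℕ) (hx : Odd x) : Nat.lcm x 4 = 4 * x := by
  have h := lcm_two_pow x 2 hx
  norm_num at h
  exact h

theorem lcm8 (x : ℕ) (hx : Odd x) : Nat.lcm x 8 = 8 * x := by
  have h := lcm_two_pow x 3 hx
  norm_num at h
  exact h

variable {F : Type u} [Field F] [Fintype F] [CharP F 2]

/-- the twelve numbers are orders of isometries of minus type spaces of dimension `8` -/
theorem targets_hasIsoU (c : F) (hc : ∀ y : F × F, bq c y = 0 → y = 0) (L : ℕ)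
    (hL : IsTarget (Fintype.card F) L) :
    0 < L ∧ HasIsoU F 8 (-(Fintype.card F : ℤ) ^ 4) L := by
  haveI : Fact (Nat.Prime 2) := ⟨Nat.prime_two⟩
  have hqe : Even (Fintype.card F) := even_card
  have hq2 : 2 ≤ Fintype.card F := Fintype.one_lt_card
  have minus : ∀ (h m : ℕ), 0 < h → m ∣ Fintype.card F ^ h + 1 →
      HasIsoU F (h + h) (-(Fintype.card F : ℤ) ^ h) m :=
    fun h m hh hm => hasIsoU_minus h hh m hm
  have hyp : ∀ (d m : ℕ), 0 < d → 0 < m → m ∣ Fintype.card F ^ d - 1 →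
      HasIsoU F (d + d) ((Fintype.card F : ℤ) ^ d) m :=
    fun d m hd hm0 hm => hasIsoU_hyp' 2 d hd m hm0 hm
  have u2m : HasIsoU F 2 (-(Fintype.card F : ℤ)) 2 := hasIsoU_u2 c _ (unif_bq_aniso c hc)
  have u2p : HasIsoU F 2 (Fintype.card F : ℤ) 2 := hasIsoU_u2 0 _ unif_bq_zero
  have u4p : HasIsoU F 4 ((Fintype.card F : ℤ) ^ 2) 4 :=
    (u2p.wreath (by norm_num)).congr rfl (by ring) rfl
  have u6m : HasIsoU F 6 (-(Fintype.card F : ℤ) ^ 3) 8 :=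
    (hasIsoU_u6 c _ (unif_bq_aniso c hc)).congr rfl (by ring) rfl
  have u6p : HasIsoU F 6 ((Fintype.card F : ℤ) ^ 3) 8 :=
    (hasIsoU_u6 0 _ unif_bq_zero).congr rfl (by ring) rfl
  obtain ⟨q, hq⟩ : ∃ q : ℕ, q = Fintype.card F := ⟨_, rfl⟩
  rw [← hq] at hL hqe hq2 minus hyp u2m u2p u4p u6m u6p ⊢
  have hpw : ∀ k : ℕ, 0 < k → Even (q ^ k) ∧ 2 ≤ q ^ k := by
    intro k hk
    refine ⟨(Nat.even_pow' hk.ne').2 hqe, ?_⟩
    calc 2 ≤ q := hq2
      _ = q ^ 1 := (pow_one q).symm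
      _ ≤ q ^ k := Nat.pow_le_pow_right (by omega) hk
  have o1 := odd_pm q hqe (by omega)
  have o2 := odd_pm (q ^ 2) (hpw 2 (by norm_num)).1 (by have := (hpw 2 (by norm_num)).2; omega)
  have o3 := odd_pm (q ^ 3) (hpw 3 (by norm_num)).1 (by have := (hpw 3 (by norm_num)).2; omega)
  have o4 := odd_pm (q ^ 4) (hpw 4 (by norm_num)).1 (by have := (hpw 4 (by norm_num)).2; omega)
  have g2 := (hpw 2 (by norm_num)).2
  have g3 := (hpw 3 (by norm_num)).2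
  have g4 := (hpw 4 (by norm_num)).2
  have p1 : 0 < q - 1 := by omega
  have p2 : 0 < q ^ 2 - 1 := by omega
  have p3 : 0 < q ^ 3 - 1 := by omega
  have p4 : 0 < q ^ 4 - 1 := by omega
  have m1 : HasIsoU F (1 + 1) (-(q : ℤ) ^ 1) (q + 1) := minus 1 (q + 1) (by norm_num) (by simp)
  have h1 : HasIsoU F (1 + 1) ((q : ℤ) ^ 1) (q - 1) := hyp 1 (q - 1) (by norm_num) p1 (by simp)
  have m2 : HasIsoU F (2 + 2) (-(q : ℤ) ^ 2) (q ^ 2 + 1) :=
    minus 2 (q ^ 2 + 1) (by norm_num) (dvd_refl _)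
  have h2 : HasIsoU F (2 + 2) ((q : ℤ) ^ 2) (q ^ 2 - 1) :=
    hyp 2 (q ^ 2 - 1) (by norm_num) p2 (dvd_refl _)
  have m3 : HasIsoU F (3 + 3) (-(q : ℤ) ^ 3) (q ^ 3 + 1) :=
    minus 3 (q ^ 3 + 1) (by norm_num) (dvd_refl _)
  have h3 : HasIsoU F (3 + 3) ((q : ℤ) ^ 3) (q ^ 3 - 1) :=
    hyp 3 (q ^ 3 - 1) (by norm_num) p3 (dvd_refl _)
  have m4 : HasIsoU F (4 + 4) (-(q : ℤ) ^ 4) (q ^ 4 + 1) :=
    minus 4 (q ^ 4 + 1) (by norm_num) (dvd_refl _)
  rcases hL with rfl | rfl | rfl | rfl | rfl | rfl | rfl | rfl | rfl | rfl | rfl | rfl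
  · exact ⟨Nat.succ_pos _, m4⟩
  · refine ⟨p4, (m2.prod h2).congr rfl (by ring) ?_⟩
    rw [Nat.Coprime.lcm_eq_mul (cop_of_add_two o2.1 (dvd_refl _) (Or.inr (by omega))), e4]
  · refine ⟨Nat.mul_pos p3 (Nat.succ_pos _), (h3.prod m1).congr rfl (by ring) ?_⟩
    exact Nat.Coprime.lcm_eq_mul (cop_of_add_two o3.2 (A6 q) (Or.inl (by omega)))
  · refine ⟨Nat.mul_pos (Nat.succ_pos _) p1, (m3.prod h1).congr rfl (by ring) ?_⟩
    exact Nat.Coprime.lcm_eq_mul (cop_of_add_two o3.1 (A5 q) (Or.inr (by omega)))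
  · exact ⟨Nat.mul_pos (by norm_num) p3, (h3.prod u2m).congr rfl (by ring) (lcm2 _ o3.2)⟩
  · exact ⟨Nat.mul_pos (by norm_num) (Nat.succ_pos _),
      (m3.prod u2p).congr rfl (by ring) (lcm2 _ o3.1)⟩
  · have hc1 : Nat.Coprime (q ^ 2 + 1) (q + 1) :=
      cop_of_add_two o2.1 (A2 q) (Or.inr (by omega))
    refine ⟨Nat.mul_pos (by norm_num) (Nat.mul_pos (Nat.succ_pos _) (Nat.succ_pos _)),
      ((m2.prod m1).prod u2m).congr rfl (by ring) ?_⟩
    rw [Nat.Coprime.lcm_eq_mul hc1]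
    exact lcm2 _ (o2.1.mul o1.1)
  · have hc1 : Nat.Coprime (q ^ 2 + 1) (q - 1) :=
      cop_of_add_two o2.1 (A1 q) (Or.inr (by omega))
    refine ⟨Nat.mul_pos (by norm_num) (Nat.mul_pos (Nat.succ_pos _) p1),
      ((m2.prod h1).prod u2p).congr rfl (by ring) ?_⟩
    rw [Nat.Coprime.lcm_eq_mul hc1]
    exact lcm2 _ (o2.1.mul o1.2)
  · exact ⟨Nat.mul_pos (by norm_num) (Nat.succ_pos _),
      (m2.prod u4p).congr rfl (by ring) (lcm4 _ o2.1)⟩
  · have hc1 : Nat.Coprime (q - 1) (q + 1) :=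
      cop_of_add_two o1.2 (dvd_refl _) (Or.inl (by omega))
    refine ⟨Nat.mul_pos (by norm_num) p2, ((h1.prod m1).prod u4p).congr rfl (by ring) ?_⟩
    rw [Nat.Coprime.lcm_eq_mul hc1, mul_comm (q - 1), ← e2]
    exact lcm4 _ o2.2
  · exact ⟨Nat.mul_pos (by norm_num) p1, (h1.prod u6m).congr rfl (by ring) (lcm8 _ o1.2)⟩
  · exact ⟨Nat.mul_pos (by norm_num) (Nat.succ_pos _),
      (m1.prod u6p).congr rfl (by ring) (lcm8 _ o1.1)⟩

/-- the twelve numbers are element orders of the isometry group of the minus type form -/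
theorem targets_realised (a b : F)
    (han : ∀ z₁ z₂ : F, z₁ ^ 2 + a * z₁ * z₂ + b * z₂ ^ 2 = 0 → z₁ = 0 ∧ z₂ = 0) (L : ℕ)
    (hL : IsTarget (Fintype.card F) L) :
    ∃ g : ↥(Cfsg.isometryGroup F (Cfsg.quadFormMinus 3 F a b)), orderOf g = L := by
  have h2 : (2 : F) = 0 := CharTwo.two_eq_zero
  have ha : a ≠ 0 := by
    have hdisc := disc_ne_zero_of_aniso a b han
    intro h0
    apply hdisc
    rw [h0, h2]
    ring
  have hc : ∀ y : F × F, bq (b / a ^ 2) y = 0 → y = 0 := by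
    rintro ⟨y₁, y₂⟩ hy
    rw [bq_apply] at hy
    have h3 : y₁ ^ 2 + a * y₁ * (y₂ / a) + b * (y₂ / a) ^ 2 = 0 := by
      rw [← hy]
      field_simp
    obtain ⟨h4, h5⟩ := han y₁ (y₂ / a) h3
    have h6 : y₂ = 0 := by
      rcases div_eq_zero_iff.1 h5 with h | h
      · exact h
      · exact absurd h ha
    rw [h4, h6]
    rfl
  obtain ⟨hLpos, hiso⟩ := targets_hasIsoU (b / a ^ 2) hc L hL
  exact exists_iso_of_hasIsoU a b han L hLpos hiso

/-- the isometry group of the minus type form embeds into the symplectic group -/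
theorem mem_range_sp_of_iso (a b : F)
    (han : ∀ z₁ z₂ : F, z₁ ^ 2 + a * z₁ * z₂ + b * z₂ ^ 2 = 0 → z₁ = 0 ∧ z₂ = 0)
    (g : ↥(Cfsg.isometryGroup F (Cfsg.quadFormMinus 3 F a b))) :
    orderOf g ∈ Set.range (orderOf : Cfsg.PSp 4 F → ℕ) := by
  classical
  have h2 : (2 : F) = 0 := CharTwo.two_eq_zero
  obtain ⟨M, hM⟩ : ∃ M : Matrix ((Fin 3 ⊕ Fin 3) ⊕ Fin 2) ((Fin 3 ⊕ Fin 3) ⊕ Fin 2) F,
      M = ((g : GL ((Fin 3 ⊕ Fin 3) ⊕ Fin 2) F) :
        Matrix ((Fin 3 ⊕ Fin 3) ⊕ Fin 2) ((Fin 3 ⊕ Fin 3) ⊕ Fin 2) F) := ⟨_, rfl⟩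
  obtain ⟨Ω, hΩ⟩ : ∃ Ω : Matrix ((Fin 3 ⊕ Fin 3) ⊕ Fin 2) ((Fin 3 ⊕ Fin 3) ⊕ Fin 2) F,
      Ω = gramMinusL 3 F a b := ⟨_, rfl⟩
  have hpolar : ∀ u v, QuadraticMap.polar (minusForm 3 F a b) u v = u ⬝ᵥ Ω *ᵥ v := by
    intro u v
    rw [hΩ]
    exact polar_minusForm 3 a b u v
  have hpres : ∀ u, minusForm 3 F a b (M *ᵥ u) = minusForm 3 F a b u := by
    intro u
    rw [hM]
    exact (mem_isometryGroup_iff' _ _).mp g.2 u
  have hgram : Mᵀ * Ω * M = Ω := gram_of_isometry (minusForm 3 F a b) Ω hpolar M hpres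
  have hsymm : Ωᵀ = Ω := gram_symm (minusForm 3 F a b) Ω hpolar
  have hneg : -Ω = Ω := by
    ext i j
    exact CharTwo.neg_eq (Ω i j)
  have hinv : Ω * Ω⁻¹ = 1 := by
    rw [hΩ]
    exact gramMinusL_mul_inv 3 a b han
  have D : IsSpDatum Ω Ω⁻¹ M := by
    refine ⟨⟨by rw [hsymm, hneg], hinv, mul_eq_one_comm.mp hinv⟩, ?_, hgram⟩
    intro v
    show v ⬝ᵥ (Ω *ᵥ v) = 0
    rw [← hpolar, QuadraticMap.polar_self]
    rw [two_smul, ← two_mul, h2, zero_mul]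
  refine D.mem_range (n := 4) (by norm_num) (by simp) (orderOf g) ?_
  intro j hj
  have hj1 : M ^ j = 1 := by
    rcases hj with hj | hj
    · exact hj
    · rw [hj]
      ext i k
      exact CharTwo.neg_eq _
  apply orderOf_dvd_of_pow_eq_one
  apply Subtype.ext
  apply Units.ext
  rw [Subgroup.coe_pow, Units.val_pow_eq_pow_val, ← hM, hj1]
  rfl

end Cfsg.Agent.Lib.helper64.EvFin
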