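import Mathlib
import Cfsg.Agent.Lib.helper64.EvFin

set_option autoImplicit false
set_option linter.unusedSectionVars false
set_option linter.style.haveILetI false

/-!
# Affine witnesses for the twelve orders, characteristic two (helper64)

`HasAffU F d s L`: a quadratic space `V` of dimension `d` and type `s` with an isometry `a` and a
vector `v` such that the affine map `x ↦ a x + v` has exact order `L`, and such that
`rank (a ^ k - 1)` is even for some odd `k` (so that `a` lies in `Ω`).  `HasUni`: unipotent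
building blocks.  `targets_hasAffU`: the twelve numbers.
-/

namespace Cfsg.Agent.Lib.helper64.EvW

open Polynomial Matrix Cfsg Cfsg.Agent.Lib.helper48 Cfsg.Agent.Lib.helper49
  Cfsg.Agent.Lib.helper45 Cfsg.Agent.Lib.helper42 Cfsg.Agent.Lib.helper64.EvA
  Cfsg.Agent.Lib.helper64.EvIso Cfsg.Agent.Lib.helper64.EvFin

universe u

variable {F : Type u} [Field F] [Fintype F]

/-- a quadratic space with an affine isometry of exact order `L` whose linear part has even
Dickson invariant -/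
def HasAffU (F : Type u) [Field F] [Fintype F] (d : ℕ) (s : ℤ) (L : ℕ) : Prop :=
  ∃ (V : Type u) (_ : AddCommGroup V) (_ : Module F V) (_ : FiniteDimensional F V)
    (Q : QuadraticForm F V) (a : Module.End F V) (v : V) (k : ℕ),
    QS Q d s ∧ (∀ x, Q (a x) = Q x) ∧
    (∀ j : ℕ, (a ^ j = 1 ∧ (∑ i ∈ Finset.range j, a ^ i) v = 0) ↔ L ∣ j) ∧
    Odd k ∧ Even (Module.finrank F (LinearMap.range (a ^ k - 1)))

/-- a unipotent isometry of exact order `2 ^ e` dividing `4` with non-vanishing norm at `v` and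
even `rank (b - 1)` -/
def HasUni (F : Type u) [Field F] [Fintype F] (d : ℕ) (s : ℤ) (e : ℕ) : Prop :=
  ∃ (V : Type u) (_ : AddCommGroup V) (_ : Module F V) (_ : FiniteDimensional F V)
    (Q : QuadraticForm F V) (b : Module.End F V) (v : V),
    QS Q d s ∧ (∀ x, Q (b x) = Q x) ∧ b ^ 4 = 1 ∧ (∀ j : ℕ, b ^ j = 1 ↔ 2 ^ e ∣ j) ∧
    (∑ i ∈ Finset.range (2 ^ e), b ^ i) v ≠ 0 ∧
    Even (Module.finrank F (LinearMap.range (b - 1)))

theorem HasAffU.congr {d d' : ℕ} {s s' : ℤ} {L L' : ℕ} (h : HasAffU F d s L) (hd : d = d')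
    (hs : s = s') (hL : L = L') : HasAffU F d' s' L' := by
  subst hd hs hL
  exact h

/-- an isometry of odd order -/
theorem HasAffU.of_iso {d m : ℕ} {s : ℤ} (hm : Odd m) (h : HasIsoU F d s m) :
    HasAffU F d s m := by
  obtain ⟨V, _, _, _, Q, a, hQ, hi, ho⟩ := h
  refine ⟨V, inferInstance, inferInstance, inferInstance, Q, a, 0, m, hQ, hi, ?_, hm, ?_⟩
  · intro j
    rw [map_zero, ← ho j]
    exact ⟨fun h => h.1, fun h => ⟨h, rfl⟩⟩
  · rw [(ho m).2 (dvd_refl _), sub_self, LinearMap.range_zero, finrank_bot]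
    exact Even.zero

omit [Fintype F] in
theorem sum_pow_mul {V : Type*} [AddCommGroup V] [Module F V] (b : Module.End F V) (n : ℕ)
    (hb : b ^ n = 1) (c : ℕ) :
    ∑ i ∈ Finset.range (n * c), b ^ i = c • ∑ i ∈ Finset.range n, b ^ i := by
  induction c with
  | zero => simp
  | succ c ih =>
    rw [Nat.mul_succ, Finset.sum_range_add, ih, succ_nsmul]
    congr 1
    refine Finset.sum_congr rfl (fun i _ => ?_)
    rw [pow_add, pow_mul, hb, one_pow, one_mul]

omit [Fintype F] in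
/-- the order of the affine map of a unipotent block -/
theorem uni_order [CharP F 2] {V : Type*} [AddCommGroup V] [Module F V] (b : Module.End F V)
    (v : V) (e : ℕ) (ho : ∀ j : ℕ, b ^ j = 1 ↔ 2 ^ e ∣ j)
    (hne : (∑ i ∈ Finset.range (2 ^ e), b ^ i) v ≠ 0) (j : ℕ) :
    (b ^ j = 1 ∧ (∑ i ∈ Finset.range j, b ^ i) v = 0) ↔ 2 ^ (e + 1) ∣ j := by
  have hb : b ^ 2 ^ e = 1 := (ho _).2 (dvd_refl _)
  constructor
  · rintro ⟨h1, h2⟩
    obtain ⟨c, rfl⟩ := (ho j).1 h1
    rw [sum_pow_mul b _ hb c, LinearMap.smul_apply] at h2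
    have h3 : (c : F) = 0 := by
      by_contra hc
      apply hne
      have h4 : (c : F) • (∑ i ∈ Finset.range (2 ^ e), b ^ i) v = 0 := by
        rw [Nat.cast_smul_eq_nsmul]
        exact h2
      exact (smul_eq_zero.1 h4).resolve_left hc
    have h5 : 2 ∣ c := (CharP.cast_eq_zero_iff F 2 c).1 h3
    rw [pow_succ]
    exact Nat.mul_dvd_mul_left _ h5
  · rintro ⟨c, rfl⟩
    have h1 : 2 ^ (e + 1) * c = 2 ^ e * (2 * c) := by ring
    refine ⟨(ho _).2 ⟨2 * c, h1⟩, ?_⟩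
    rw [h1, sum_pow_mul b _ hb (2 * c), LinearMap.smul_apply, mul_comm 2 c, mul_nsmul,
      ← Nat.cast_smul_eq_nsmul F 2, Nat.cast_ofNat, CharTwo.two_eq_zero, zero_smul]

/-- an isometry of odd order together with a unipotent block -/
theorem HasAffU.of_iso_uni [CharP F 2] {d₁ d₂ m e : ℕ} {s₁ s₂ : ℤ} (hm : Odd m)
    (h₁ : HasIsoU F d₁ s₁ m) (h₂ : HasUni F d₂ s₂ e) :
    HasAffU F (d₁ + d₂) (s₁ * s₂) (2 ^ (e + 1) * m) := by
  obtain ⟨V₁, _, _, _, Q₁, a₁, hQ₁, hi₁, ho₁⟩ := h₁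
  obtain ⟨V₂, _, _, _, Q₂, b, v, hQ₂, hi₂, hb4, ho₂, hne, hev⟩ := h₂
  have hpow : ∀ j : ℕ, (a₁.prodMap b) ^ j = (a₁ ^ j).prodMap (b ^ j) := by
    intro j
    induction j with
    | zero => rw [pow_zero, pow_zero, pow_zero, LinearMap.prodMap_one]
    | succ j ih => rw [pow_succ, ih, pow_succ, pow_succ, LinearMap.prodMap_mul]
  have hone : ∀ j : ℕ, (a₁.prodMap b) ^ j = 1 ↔ a₁ ^ j = 1 ∧ b ^ j = 1 := by
    intro j
    rw [hpow]
    constructor
    · intro h
      constructor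
      · apply LinearMap.ext
        intro x
        have h3 := congrArg (fun f : Module.End F (V₁ × V₂) => (f (x, 0)).1) h
        simpa using h3
      · apply LinearMap.ext
        intro x
        have h3 := congrArg (fun f : Module.End F (V₁ × V₂) => (f (0, x)).2) h
        simpa using h3
    · rintro ⟨h1, h2⟩
      rw [h1, h2, LinearMap.prodMap_one]
  have hsum : ∀ j : ℕ, (∑ i ∈ Finset.range j, (a₁.prodMap b) ^ i) ((0 : V₁), v)
      = (0, (∑ i ∈ Finset.range j, b ^ i) v) := by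
    intro j
    induction j with
    | zero =>
      simp only [Finset.range_zero, Finset.sum_empty, LinearMap.zero_apply]
      rfl
    | succ j ih =>
      rw [Finset.sum_range_succ, LinearMap.add_apply, ih, Finset.sum_range_succ,
        LinearMap.add_apply, hpow, LinearMap.prodMap_apply, map_zero, Prod.mk_add_mk, add_zero]
  have hcop : Nat.Coprime (2 ^ (e + 1)) m := Nat.Coprime.pow_left _ (Nat.coprime_two_left.2 hm)
  obtain ⟨w, hw⟩ := hm
  have hmm : m * m = 4 * (w * w + w) + 1 := by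
    rw [hw]
    ring
  have hbk : b ^ (m * m) = b := by
    rw [hmm, pow_succ, pow_mul, hb4, one_pow, one_mul]
  have hak : a₁ ^ (m * m) = 1 := (ho₁ _).2 (dvd_mul_right _ _)
  refine ⟨V₁ × V₂, inferInstance, inferInstance, inferInstance, Q₁.prod Q₂, a₁.prodMap b,
    (0, v), m * m, hQ₁.prod hQ₂, ?_, ?_, ⟨2 * (w * w + w), by rw [hmm]; ring⟩, ?_⟩
  · rintro ⟨v₁, v₂⟩
    rw [QuadraticMap.prod_apply, QuadraticMap.prod_apply, LinearMap.prodMap_apply, hi₁, hi₂]
  · intro j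
    rw [hone, hsum, Prod.mk_eq_zero, and_assoc, ho₁ j]
    have h1 : (b ^ j = 1 ∧ (0 : V₁) = 0 ∧ (∑ i ∈ Finset.range j, b ^ i) v = 0)
        ↔ 2 ^ (e + 1) ∣ j := by
      rw [← uni_order b v e ho₂ hne j]
      exact ⟨fun h => ⟨h.1, h.2.2⟩, fun h => ⟨h.1, rfl, h.2⟩⟩
    rw [h1]
    exact ⟨fun h => hcop.mul_dvd_of_dvd_of_dvd h.2 h.1,
      fun h => ⟨(dvd_mul_left _ _).trans h, (dvd_mul_right _ _).trans h⟩⟩
  · rw [hpow, hak, hbk]
    have hr : LinearMap.range ((1 : Module.End F V₁).prodMap b - 1)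
        = (LinearMap.range (b - 1)).map (LinearMap.inr F V₁ V₂) := by
      ext y
      constructor
      · rintro ⟨x, rfl⟩
        refine ⟨(b - 1) x.2, ⟨x.2, rfl⟩, ?_⟩
        apply Prod.ext
        · simp
        · simp
      · rintro ⟨z, ⟨x, rfl⟩, rfl⟩
        refine ⟨(0, x), ?_⟩
        apply Prod.ext
        · simp
        · simp
    rw [hr, ← LinearEquiv.finrank_eq (Submodule.equivMapOfInjective (LinearMap.inr F V₁ V₂)
      LinearMap.inr_injective (LinearMap.range (b - 1)))]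
    exact hev

/-! ### unipotent blocks -/

/-- the identity of a binary form -/
theorem hasUni_one [CharP F 2] (c : F) (s : ℤ)
    (hu : Unif s (fun x => Nat.card {y : F × F // bq c y = x})) : HasUni F 2 s 0 := by
  refine ⟨F × F, inferInstance, inferInstance, inferInstance, bq c, 1, (1, 0), qs_bq c s hu,
    fun x => rfl, one_pow 4, fun j => ?_, ?_, ?_⟩
  · simp
  · simp
  · rw [sub_self, LinearMap.range_zero, finrank_bot]
    exact Even.zero

/-- the product of two commuting reflections of the orthogonal sum of two hyperbolic planes -/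
theorem hasUni_two [CharP F 2] :
    HasUni F 4 ((Fintype.card F : ℤ) * (Fintype.card F : ℤ)) 1 := by
  have h2 : (2 : F) = 0 := CharTwo.two_eq_zero
  let sw : Module.End F (F × F) := (LinearMap.snd F F F).prod (LinearMap.fst F F F)
  let b : Module.End F ((F × F) × (F × F)) := sw.prodMap sw
  have hb : ∀ (x₁ x₂ y₁ y₂ : F), b ((x₁, x₂), (y₁, y₂)) = ((x₂, x₁), (y₂, y₁)) :=
    fun _ _ _ _ => rfl
  have hsq : b ^ 2 = 1 := by
    apply LinearMap.ext
    rintro ⟨⟨x₁, x₂⟩, ⟨y₁, y₂⟩⟩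
    rw [pow_two, Module.End.mul_apply, hb, hb]
    rfl
  have hne : b ≠ 1 := by
    intro h
    have h3 := congrArg (fun f : Module.End F ((F × F) × (F × F)) => (f ((1, 0), (0, 0))).1.1) h
    simp only [hb, Module.End.one_apply] at h3
    exact zero_ne_one h3
  have hord : orderOf b = 2 := orderOf_eq_prime hsq hne
  refine ⟨(F × F) × (F × F), inferInstance, inferInstance, inferInstance, (hq F).prod (hq F), b,
    ((1, 0), (0, 0)), qs_hq.prod qs_hq, ?_, ?_, ?_, ?_, ?_⟩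
  · rintro ⟨⟨x₁, x₂⟩, ⟨y₁, y₂⟩⟩
    rw [hb]
    simp only [QuadraticMap.prod_apply, hq_apply]
    ring
  · have h4 : (4 : ℕ) = 2 * 2 := rfl
    rw [h4, pow_mul, hsq, one_pow]
  · intro j
    rw [pow_one, ← hord, orderOf_dvd_iff_pow_eq_one]
  · intro h0
    have h4 := congrArg (fun p : (F × F) × (F × F) => p.1.1) h0
    simp only [pow_one, Finset.sum_range_succ, Finset.sum_range_zero, zero_add, pow_zero,
      LinearMap.add_apply, Module.End.one_apply, hb] at h4
    simp at h4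
  · let φ : F × F →ₗ[F] (F × F) × (F × F) :=
      ((LinearMap.fst F F F).prod (LinearMap.fst F F F)).prod
        ((LinearMap.snd F F F).prod (LinearMap.snd F F F))
    have hφ : ∀ p r : F, φ (p, r) = ((p, p), (r, r)) := fun _ _ => rfl
    have hinj : Function.Injective φ := by
      rintro ⟨p, r⟩ ⟨p', r'⟩ h
      have e1 : p = p' := congrArg (fun z : (F × F) × (F × F) => z.1.1) h
      have e2 : r = r' := congrArg (fun z : (F × F) × (F × F) => z.2.1) h
      rw [e1, e2]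
    have hr : LinearMap.range (b - 1) = LinearMap.range φ := by
      ext y
      constructor
      · rintro ⟨⟨⟨x₁, x₂⟩, ⟨y₁, y₂⟩⟩, rfl⟩
        refine ⟨(x₂ - x₁, y₂ - y₁), ?_⟩
        refine Prod.ext (Prod.ext ?_ ?_) (Prod.ext ?_ ?_)
        · show x₂ - x₁ = x₂ - x₁
          rfl
        · show x₂ - x₁ = x₁ - x₂
          linear_combination (x₂ - x₁) * h2
        · show y₂ - y₁ = y₂ - y₁
          rfl
        · show y₂ - y₁ = y₁ - y₂
          linear_combination (y₂ - y₁) * h2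
      · rintro ⟨⟨p, r⟩, rfl⟩
        refine ⟨((0, p), (0, r)), ?_⟩
        refine Prod.ext (Prod.ext ?_ ?_) (Prod.ext ?_ ?_)
        · show p - 0 = p
          ring
        · show 0 - p = p
          linear_combination (-p) * h2
        · show r - 0 = r
          ring
        · show 0 - r = r
          linear_combination (-r) * h2
    rw [hr, LinearMap.finrank_range_of_inj hinj, Module.finrank_prod, Module.finrank_self]
    exact ⟨1, rfl⟩

/-- an isometry of order `4` with a Jordan block of size `4` and even Dickson invariant, on the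
orthogonal sum of two hyperbolic planes and a binary form -/
theorem hasUni_four [CharP F 2] (c : F) (s : ℤ)
    (hu : Unif s (fun x => Nat.card {y : F × F // bq c y = x})) :
    HasUni F 6 ((Fintype.card F : ℤ) * (Fintype.card F : ℤ) * s) 2 := by
  have h2 : (2 : F) = 0 := CharTwo.two_eq_zero
  let sw : Module.End F (F × F) := (LinearMap.snd F F F).prod (LinearMap.fst F F F)
  let w : Module.End F ((F × F) × (F × F)) :=
    (sw.comp (LinearMap.snd F (F × F) (F × F))).prod (LinearMap.fst F (F × F) (F × F))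
  let r : Module.End F (F × F) :=
    (LinearMap.fst F F F + LinearMap.snd F F F).prod (LinearMap.snd F F F)
  let b : Module.End F (((F × F) × (F × F)) × (F × F)) := w.prodMap r
  have hb : ∀ (x₁ x₂ y₁ y₂ z₁ z₂ : F), b (((x₁, x₂), (y₁, y₂)), (z₁, z₂))
      = (((y₂, y₁), (x₁, x₂)), (z₁ + z₂, z₂)) := fun _ _ _ _ _ _ => rfl
  have hb2 : ∀ (x₁ x₂ y₁ y₂ z₁ z₂ : F), (b ^ 2) (((x₁, x₂), (y₁, y₂)), (z₁, z₂))
      = (((x₂, x₁), (y₂, y₁)), (z₁, z₂)) := by
    intro x₁ x₂ y₁ y₂ z₁ z₂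
    rw [pow_two, Module.End.mul_apply, hb, hb]
    refine Prod.ext (Prod.ext (Prod.ext ?_ ?_) (Prod.ext ?_ ?_)) (Prod.ext ?_ ?_)
    · rfl
    · rfl
    · rfl
    · rfl
    · show z₁ + z₂ + z₂ = z₁
      linear_combination z₂ * h2
    · rfl
  have hb4 : b ^ 4 = 1 := by
    apply LinearMap.ext
    rintro ⟨⟨⟨x₁, x₂⟩, ⟨y₁, y₂⟩⟩, ⟨z₁, z₂⟩⟩
    have h4 : b ^ 4 = b ^ 2 * b ^ 2 := by rw [← pow_add]
    rw [h4, Module.End.mul_apply, hb2, hb2]
    rfl
  have hnot : ¬ b ^ 2 ^ 1 = 1 := by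
    intro h
    have h3 := congrArg (fun f : Module.End F (((F × F) × (F × F)) × (F × F)) =>
      (f (((1, 0), (0, 0)), (0, 0))).1.1.1) h
    simp only [pow_one, hb2, Module.End.one_apply] at h3
    exact zero_ne_one h3
  have hord : orderOf b = 2 ^ 2 := orderOf_eq_prime_pow (p := 2) (n := 1) hnot hb4
  refine ⟨((F × F) × (F × F)) × (F × F), inferInstance, inferInstance, inferInstance,
    ((hq F).prod (hq F)).prod (bq c), b, (((1, 0), (0, 0)), (0, 0)),
    (qs_hq.prod qs_hq).prod (qs_bq c s hu), ?_, hb4, ?_, ?_, ?_⟩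
  · rintro ⟨⟨⟨x₁, x₂⟩, ⟨y₁, y₂⟩⟩, ⟨z₁, z₂⟩⟩
    rw [hb]
    simp only [QuadraticMap.prod_apply, hq_apply, bq_apply]
    linear_combination (z₁ * z₂ + z₂ * z₂) * h2
  · intro j
    rw [← hord, orderOf_dvd_iff_pow_eq_one]
  · intro h0
    have h4 := congrArg (fun p : ((F × F) × (F × F)) × (F × F) => p.1.1.1) h0
    have e3 : b ^ 3 = b * b ^ 2 := by rw [← pow_succ']
    have e4 : (2 : ℕ) ^ 2 = 4 := by norm_num
    simp only [e4, Finset.sum_range_succ, Finset.sum_range_zero, zero_add, pow_zero, pow_one,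
      LinearMap.add_apply, Module.End.one_apply, e3, Module.End.mul_apply, hb2, hb] at h4
    simp at h4
  · let p11 : (F × F) × (F × F) →ₗ[F] F := (LinearMap.fst F F F).comp (LinearMap.fst F _ _)
    let p12 : (F × F) × (F × F) →ₗ[F] F := (LinearMap.snd F F F).comp (LinearMap.fst F _ _)
    let p21 : (F × F) × (F × F) →ₗ[F] F := (LinearMap.fst F F F).comp (LinearMap.snd F _ _)
    let p22 : (F × F) × (F × F) →ₗ[F] F := (LinearMap.snd F F F).comp (LinearMap.snd F _ _)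
    let φ : (F × F) × (F × F) →ₗ[F] ((F × F) × (F × F)) × (F × F) :=
      ((p11.prod p12).prod (p21.prod (p11 + p12 + p21))).prod (p22.prod 0)
    have hφ : ∀ α β γ t : F, φ ((α, β), (γ, t)) = (((α, β), (γ, α + β + γ)), (t, 0)) :=
      fun _ _ _ _ => rfl
    have hinj : Function.Injective φ := by
      rintro ⟨⟨α, β⟩, ⟨γ, t⟩⟩ ⟨⟨α', β'⟩, ⟨γ', t'⟩⟩ h
      have e1 : α = α' := congrArg (fun z : ((F × F) × (F × F)) × (F × F) => z.1.1.1) h
      have e2 : β = β' := congrArg (fun z : ((F × F) × (F × F)) × (F × F) => z.1.1.2) h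
      have e3 : γ = γ' := congrArg (fun z : ((F × F) × (F × F)) × (F × F) => z.1.2.1) h
      have e4 : t = t' := congrArg (fun z : ((F × F) × (F × F)) × (F × F) => z.2.1) h
      rw [e1, e2, e3, e4]
    have hr : LinearMap.range (b - 1) = LinearMap.range φ := by
      ext y
      constructor
      · rintro ⟨⟨⟨⟨x₁, x₂⟩, ⟨y₁, y₂⟩⟩, ⟨z₁, z₂⟩⟩, rfl⟩
        refine ⟨((y₂ - x₁, y₁ - x₂), (x₁ - y₁, z₂)), ?_⟩
        refine Prod.ext (Prod.ext (Prod.ext ?_ ?_) (Prod.ext ?_ ?_)) (Prod.ext ?_ ?_)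
        · show y₂ - x₁ = y₂ - x₁
          rfl
        · show y₁ - x₂ = y₁ - x₂
          rfl
        · show x₁ - y₁ = x₁ - y₁
          rfl
        · show (y₂ - x₁) + (y₁ - x₂) + (x₁ - y₁) = x₂ - y₂
          linear_combination (y₂ - x₂) * h2
        · show z₂ = z₁ + z₂ - z₁
          ring
        · show (0 : F) = z₂ - z₂
          ring
      · rintro ⟨⟨⟨α, β⟩, ⟨γ, t⟩⟩, rfl⟩
        refine ⟨(((0, -γ - β), (-γ, α)), (0, t)), ?_⟩
        refine Prod.ext (Prod.ext (Prod.ext ?_ ?_) (Prod.ext ?_ ?_)) (Prod.ext ?_ ?_)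
        · show α - 0 = α
          ring
        · show -γ - (-γ - β) = β
          ring
        · show 0 - (-γ) = γ
          ring
        · show (-γ - β) - α = α + β + γ
          linear_combination (-(α + β + γ)) * h2
        · show 0 + t - 0 = t
          ring
        · show t - t = 0
          ring
    rw [hr, LinearMap.finrank_range_of_inj hinj, Module.finrank_prod, Module.finrank_prod,
      Module.finrank_self]
    exact ⟨2, rfl⟩

/-! ### the twelve numbers -/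

/-- the twelve numbers are orders of affine isometries of minus type spaces of dimension `8`
with linear part of even Dickson invariant -/
theorem targets_hasAffU [CharP F 2] (c : F) (hc : ∀ y : F × F, bq c y = 0 → y = 0) (L : ℕ)
    (hL : IsTarget (Fintype.card F) L) :
    0 < L ∧ HasAffU F 8 (-(Fintype.card F : ℤ) ^ 4) L := by
  haveI : Fact (Nat.Prime 2) := ⟨Nat.prime_two⟩
  have hqe : Even (Fintype.card F) := even_card
  have hq2 : 2 ≤ Fintype.card F := Fintype.one_lt_card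
  have minus : ∀ (h m : ℕ), 0 < h → m ∣ Fintype.card F ^ h + 1 →
      HasIsoU F (h + h) (-(Fintype.card F : ℤ) ^ h) m :=
    fun h m hh hm => hasIsoU_minus h hh m hm
  have hyp : ∀ (d m : ℕ), 0 < d → 0 < m → m ∣ Fintype.card F ^ d - 1 →
      HasIsoU F (d + d) ((Fintype.card F : ℤ) ^ d) m :=
    fun d m hd hm0 hm => hasIsoU_hyp' 2 d hd m hm0 hm
  have u1m : HasUni F 2 (-(Fintype.card F : ℤ)) 0 := hasUni_one c _ (unif_bq_aniso c hc)
  have u1p : HasUni F 2 (Fintype.card F : ℤ) 0 := hasUni_one 0 _ unif_bq_zero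
  have u2 : HasUni F 4 ((Fintype.card F : ℤ) * (Fintype.card F : ℤ)) 1 := hasUni_two
  have u3m : HasUni F 6 ((Fintype.card F : ℤ) * (Fintype.card F : ℤ) * -(Fintype.card F : ℤ)) 2 :=
    hasUni_four c _ (unif_bq_aniso c hc)
  have u3p : HasUni F 6 ((Fintype.card F : ℤ) * (Fintype.card F : ℤ) * (Fintype.card F : ℤ)) 2 :=
    hasUni_four 0 _ unif_bq_zero
  obtain ⟨q, hq⟩ : ∃ q : ℕ, q = Fintype.card F := ⟨_, rfl⟩
  rw [← hq] at hL hqe hq2 minus hyp u1m u1p u2 u3m u3p ⊢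
  have hpw : ∀ k : ℕ, 0 < k → Even (q ^ k) ∧ 2 ≤ q ^ k := by
    intro k hk
    refine ⟨(Nat.even_pow' hk.ne').2 hqe, ?_⟩
    calc 2 ≤ q := hq2
      _ = q ^ 1 := (pow_one q).symm
      _ ≤ q ^ k := Nat.pow_le_pow_right (by omega) hk
  have o1 := odd_pm q hqe (by omega)
  have o2 := odd_pm (q ^ 2) (hpw 2 (by norm_num)).1 (by have := (hpw 2 (by norm_num)).2; omega)
  have o3 := odd_pm (q ^ 3) (hpw 3 (by norm_num)).1 (by have := (hpw 3 (by norm_num)).2; omega)
  have o4 := odd_pm (q ^ 4) (hpw 4 (by norm_num)).1 (by have := (hpw 4 (by norm_num)).2; omega)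
  have g2 := (hpw 2 (by norm_num)).2
  have g3 := (hpw 3 (by norm_num)).2
  have g4 := (hpw 4 (by norm_num)).2
  have p1 : 0 < q - 1 := by omega
  have p2 : 0 < q ^ 2 - 1 := by omega
  have p3 : 0 < q ^ 3 - 1 := by omega
  have p4 : 0 < q ^ 4 - 1 := by omega
  have m1 : HasIsoU F (1 + 1) (-(q : ℤ) ^ 1) (q + 1) := minus 1 (q + 1) (by norm_num) (by simp)
  have h1 : HasIsoU F (1 + 1) ((q : ℤ) ^ 1) (q - 1) := hyp 1 (q - 1) (by norm_num) p1 (by simp)
  have m2 : HasIsoU F (2 + 2) (-(q : ℤ) ^ 2) (q ^ 2 + 1) :=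
    minus 2 (q ^ 2 + 1) (by norm_num) (dvd_refl _)
  have h2 : HasIsoU F (2 + 2) ((q : ℤ) ^ 2) (q ^ 2 - 1) :=
    hyp 2 (q ^ 2 - 1) (by norm_num) p2 (dvd_refl _)
  have m3 : HasIsoU F (3 + 3) (-(q : ℤ) ^ 3) (q ^ 3 + 1) :=
    minus 3 (q ^ 3 + 1) (by norm_num) (dvd_refl _)
  have h3 : HasIsoU F (3 + 3) ((q : ℤ) ^ 3) (q ^ 3 - 1) :=
    hyp 3 (q ^ 3 - 1) (by norm_num) p3 (dvd_refl _)
  have m4 : HasIsoU F (4 + 4) (-(q : ℤ) ^ 4) (q ^ 4 + 1) :=
    minus 4 (q ^ 4 + 1) (by norm_num) (dvd_refl _)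
  rcases hL with rfl | rfl | rfl | rfl | rfl | rfl | rfl | rfl | rfl | rfl | rfl | rfl
  · exact ⟨Nat.succ_pos _, HasAffU.of_iso o4.1 m4⟩
  · refine ⟨p4, HasAffU.of_iso o4.2 ((m2.prod h2).congr rfl (by ring) ?_)⟩
    rw [Nat.Coprime.lcm_eq_mul (cop_of_add_two o2.1 (dvd_refl _) (Or.inr (by omega))), e4]
  · refine ⟨Nat.mul_pos p3 (Nat.succ_pos _),
      HasAffU.of_iso (o3.2.mul o1.1) ((h3.prod m1).congr rfl (by ring) ?_)⟩
    exact Nat.Coprime.lcm_eq_mul (cop_of_add_two o3.2 (A6 q) (Or.inl (by omega)))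
  · refine ⟨Nat.mul_pos (Nat.succ_pos _) p1,
      HasAffU.of_iso (o3.1.mul o1.2) ((m3.prod h1).congr rfl (by ring) ?_)⟩
    exact Nat.Coprime.lcm_eq_mul (cop_of_add_two o3.1 (A5 q) (Or.inr (by omega)))
  · exact ⟨Nat.mul_pos (by norm_num) p3,
      (HasAffU.of_iso_uni o3.2 h3 u1m).congr rfl (by ring) (by norm_num)⟩
  · exact ⟨Nat.mul_pos (by norm_num) (Nat.succ_pos _),
      (HasAffU.of_iso_uni o3.1 m3 u1p).congr rfl (by ring) (by norm_num)⟩
  · have hc1 : Nat.Coprime (q ^ 2 + 1) (q + 1) :=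
      cop_of_add_two o2.1 (A2 q) (Or.inr (by omega))
    have t : HasIsoU F (2 + 2 + (1 + 1)) (-(q : ℤ) ^ 2 * -(q : ℤ) ^ 1) ((q ^ 2 + 1) * (q + 1)) :=
      (m2.prod m1).congr rfl rfl (Nat.Coprime.lcm_eq_mul hc1)
    exact ⟨Nat.mul_pos (by norm_num) (Nat.mul_pos (Nat.succ_pos _) (Nat.succ_pos _)),
      (HasAffU.of_iso_uni (o2.1.mul o1.1) t u1m).congr rfl (by ring) (by norm_num)⟩
  · have hc1 : Nat.Coprime (q ^ 2 + 1) (q - 1) :=
      cop_of_add_two o2.1 (A1 q) (Or.inr (by omega))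
    have t : HasIsoU F (2 + 2 + (1 + 1)) (-(q : ℤ) ^ 2 * (q : ℤ) ^ 1) ((q ^ 2 + 1) * (q - 1)) :=
      (m2.prod h1).congr rfl rfl (Nat.Coprime.lcm_eq_mul hc1)
    exact ⟨Nat.mul_pos (by norm_num) (Nat.mul_pos (Nat.succ_pos _) p1),
      (HasAffU.of_iso_uni (o2.1.mul o1.2) t u1p).congr rfl (by ring) (by norm_num)⟩
  · exact ⟨Nat.mul_pos (by norm_num) (Nat.succ_pos _),
      (HasAffU.of_iso_uni o2.1 m2 u2).congr rfl (by ring) (by norm_num)⟩
  · have hc1 : Nat.Coprime (q - 1) (q + 1) :=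
      cop_of_add_two o1.2 (dvd_refl _) (Or.inl (by omega))
    have t : HasIsoU F (1 + 1 + (1 + 1)) ((q : ℤ) ^ 1 * -(q : ℤ) ^ 1) (q ^ 2 - 1) :=
      (h1.prod m1).congr rfl rfl (by rw [Nat.Coprime.lcm_eq_mul hc1, mul_comm (q - 1), ← e2])
    exact ⟨Nat.mul_pos (by norm_num) p2,
      (HasAffU.of_iso_uni o2.2 t u2).congr rfl (by ring) (by norm_num)⟩
  · exact ⟨Nat.mul_pos (by norm_num) p1,
      (HasAffU.of_iso_uni o1.2 h1 u3m).congr rfl (by ring) (by norm_num)⟩
  · exact ⟨Nat.mul_pos (by norm_num) (Nat.succ_pos _),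
      (HasAffU.of_iso_uni o1.1 m1 u3p).congr rfl (by ring) (by norm_num)⟩

end Cfsg.Agent.Lib.helper64.EvW
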