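import Mathlib
import Cfsg.Agent.Lib.helper64.EvB
import Cfsg.Agent.Lib.helper64.EvW
import Cfsg.Agent.Lib.helper42.Dickson2
import Cfsg.Agent.S0786

set_option autoImplicit false
set_option linter.unusedSectionVars false
set_option linter.style.haveILetI false

/-!
# The affine groups `V ^ k : Ω_8^-(q)`, `q` even (helper64)

* `Aff ρ k`: the semidirect product of `k` copies of the natural module with a linear group.
* `aff_order_dvd`: the element orders of `V ^ k : Ω_8^-(q)` divide one of the twelve numbers.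
* `exists_aff_of_hasAffU`: transfer of an affine witness to `V ^ k : Ω_8^-(q)`.
-/

namespace Cfsg.Agent.Lib.helper64.EvAff

open Polynomial Matrix

section aff

variable {F : Type*} [Field F] {ι : Type*} [Fintype ι] [DecidableEq ι] {G : Type*} [Group G]

/-- the semidirect product of `k` copies of the natural module with a linear group -/
@[ext]
structure Aff (ρ : G →* GL ι F) (k : ℕ) where
  /-- the linear part -/
  lin : G
  /-- the translation parts -/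
  tr : Fin k → ι → F

namespace Aff

variable {ρ : G →* GL ι F} {k : ℕ}

/-- the matrix of the linear part -/
def mat (x : Aff ρ k) : Matrix ι ι F := ((ρ x.lin : GL ι F) : Matrix ι ι F)

instance : Mul (Aff ρ k) := ⟨fun x y => ⟨x.lin * y.lin, fun i => x.tr i + x.mat *ᵥ y.tr i⟩⟩

instance : One (Aff ρ k) := ⟨⟨1, fun _ => 0⟩⟩

instance : Inv (Aff ρ k) :=
  ⟨fun x => ⟨x.lin⁻¹, fun i => -(((ρ x.lin⁻¹ : GL ι F) : Matrix ι ι F) *ᵥ x.tr i)⟩⟩

theorem mul_lin (x y : Aff ρ k) : (x * y).lin = x.lin * y.lin := rfl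

theorem mul_tr (x y : Aff ρ k) (i : Fin k) : (x * y).tr i = x.tr i + x.mat *ᵥ y.tr i := rfl

theorem one_lin : (1 : Aff ρ k).lin = 1 := rfl

theorem one_tr (i : Fin k) : (1 : Aff ρ k).tr i = 0 := rfl

theorem mul_mat (x y : Aff ρ k) : (x * y).mat = x.mat * y.mat := by
  unfold mat
  rw [mul_lin, map_mul, Units.val_mul]

theorem one_mat : (1 : Aff ρ k).mat = 1 := by
  unfold mat
  rw [one_lin, map_one, Units.val_one]

instance : Group (Aff ρ k) := Group.ofLeftAxioms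
  (by
    intro x y z
    apply Aff.ext
    · exact mul_assoc _ _ _
    · funext i
      rw [mul_tr, mul_tr, mul_tr, mul_tr, mul_mat, Matrix.mulVec_add, Matrix.mulVec_mulVec,
        add_assoc])
  (by
    intro x
    apply Aff.ext
    · exact one_mul _
    · funext i
      rw [mul_tr, one_tr, one_mat, Matrix.one_mulVec, zero_add])
  (by
    intro x
    apply Aff.ext
    · exact inv_mul_cancel _
    · funext i
      show -(((ρ x.lin⁻¹ : GL ι F) : Matrix ι ι F) *ᵥ x.tr i)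
        + ((ρ x.lin⁻¹ : GL ι F) : Matrix ι ι F) *ᵥ x.tr i = 0
      exact neg_add_cancel _)

theorem pow_lin (x : Aff ρ k) (n : ℕ) : (x ^ n).lin = x.lin ^ n := by
  induction n with
  | zero =>
    rw [pow_zero, pow_zero]
    rfl
  | succ n ih => rw [pow_succ, pow_succ, mul_lin, ih]

theorem pow_mat (x : Aff ρ k) (n : ℕ) : (x ^ n).mat = x.mat ^ n := by
  unfold mat
  rw [pow_lin, map_pow, Units.val_pow_eq_pow_val]

theorem pow_tr (x : Aff ρ k) (n : ℕ) (i : Fin k) :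
    (x ^ n).tr i = (∑ j ∈ Finset.range n, x.mat ^ j) *ᵥ x.tr i := by
  induction n with
  | zero =>
    rw [pow_zero, Finset.sum_range_zero, Matrix.zero_mulVec]
    rfl
  | succ n ih => rw [pow_succ, mul_tr, ih, pow_mat, Finset.sum_range_succ, Matrix.add_mulVec]

theorem pow_eq_one_iff (x : Aff ρ k) (n : ℕ) :
    x ^ n = 1 ↔ x.lin ^ n = 1 ∧ ∀ i, (∑ j ∈ Finset.range n, x.mat ^ j) *ᵥ x.tr i = 0 := by
  constructor
  · intro h
    refine ⟨?_, fun i => ?_⟩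
    · rw [← pow_lin, h]
      rfl
    · rw [← pow_tr, h]
      rfl
  · rintro ⟨h1, h2⟩
    apply Aff.ext
    · rw [pow_lin, h1]
      rfl
    · funext i
      rw [pow_tr, h2]
      rfl

theorem mat_pow_eq_one_iff (hρ : Function.Injective ρ) (x : Aff ρ k) (n : ℕ) :
    x.mat ^ n = 1 ↔ x.lin ^ n = 1 := by
  have h1 : x.mat ^ n = ((ρ (x.lin ^ n) : GL ι F) : Matrix ι ι F) := by
    unfold mat
    rw [map_pow, Units.val_pow_eq_pow_val]
  rw [h1]
  constructor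
  · intro h
    apply hρ
    rw [map_one]
    exact Units.ext h
  · intro h
    rw [h, map_one, Units.val_one]

instance [Finite G] [Finite F] : Finite (Aff ρ k) :=
  Finite.of_injective (fun x : Aff ρ k => (x.lin, x.tr)) (by
    intro x y h
    apply Aff.ext
    · exact congrArg Prod.fst h
    · exact congrArg Prod.snd h)

/-- the affine groups are arbitrarily large -/
theorem lt_card [Fintype F] [Nonempty ι] [Fintype (Aff ρ k)] : k < Fintype.card (Aff ρ k) := by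
  classical
  obtain ⟨i₀⟩ := ‹Nonempty ι›
  have hinj : Function.Injective
      (fun c : Fin k → F => (⟨1, fun j => Pi.single i₀ (c j)⟩ : Aff ρ k)) := by
    intro c c' h
    funext j
    have h1 := congrArg (fun x : Aff ρ k => x.tr j i₀) h
    simpa using h1
  have h1 := Fintype.card_le_of_injective _ hinj
  rw [Fintype.card_fun, Fintype.card_fin] at h1
  have h2 : 2 ≤ Fintype.card F := Fintype.one_lt_card
  have h3 : 2 ^ k ≤ Fintype.card F ^ k := Nat.pow_le_pow_left h2 k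
  have h4 : k < 2 ^ k := Nat.lt_two_pow_self
  omega

end Aff

end aff

section omega

open Cfsg Cfsg.Agent.Lib.helper48 Cfsg.Agent.Lib.helper49 Cfsg.Agent.Lib.helper45
  Cfsg.Agent.Lib.helper42 Cfsg.Agent.Lib.helper17 Cfsg.Agent.Lib.helper64.SpBasic
  Cfsg.Agent.Lib.helper64.SpPG Cfsg.Agent.Lib.helper64.EvA Cfsg.Agent.Lib.helper64.EvB
  Cfsg.Agent.Lib.helper64.EvIso Cfsg.Agent.Lib.helper64.EvW

universe u

variable {F : Type u} [Field F] [Fintype F] [CharP F 2]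

/-- the inclusion of `Ω` into the general linear group -/
def rho (a b : F) :
    ↥(Cfsg.Omega F (Cfsg.quadFormMinus 3 F a b)) →* GL ((Fin 3 ⊕ Fin 3) ⊕ Fin 2) F :=
  (Cfsg.isometryGroup F (Cfsg.quadFormMinus 3 F a b)).subtype.comp
    (Cfsg.Omega F (Cfsg.quadFormMinus 3 F a b)).subtype

omit [Fintype F] [CharP F 2] in
theorem rho_injective (a b : F) : Function.Injective (rho a b) :=
  (Subgroup.subtype_injective _).comp (Subgroup.subtype_injective _)

/-- the matrix of an isometry of the minus type form: self-reciprocal minimal polynomial, order -/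
theorem iso_data (a b : F)
    (han : ∀ z₁ z₂ : F, z₁ ^ 2 + a * z₁ * z₂ + b * z₂ ^ 2 = 0 → z₁ = 0 ∧ z₂ = 0)
    (g : ↥(Cfsg.isometryGroup F (Cfsg.quadFormMinus 3 F a b))) :
    (∀ f : F[X], f ∣ minpoly F ((g : GL ((Fin 3 ⊕ Fin 3) ⊕ Fin 2) F) :
        Matrix ((Fin 3 ⊕ Fin 3) ⊕ Fin 2) ((Fin 3 ⊕ Fin 3) ⊕ Fin 2) F) →
      f.reverse ∣ minpoly F ((g : GL ((Fin 3 ⊕ Fin 3) ⊕ Fin 2) F) :
        Matrix ((Fin 3 ⊕ Fin 3) ⊕ Fin 2) ((Fin 3 ⊕ Fin 3) ⊕ Fin 2) F)) ∧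
    (∀ j : ℕ, ((g : GL ((Fin 3 ⊕ Fin 3) ⊕ Fin 2) F) :
        Matrix ((Fin 3 ⊕ Fin 3) ⊕ Fin 2) ((Fin 3 ⊕ Fin 3) ⊕ Fin 2) F) ^ j = 1 ↔ orderOf g ∣ j) ∧
    0 < orderOf g := by
  classical
  have h2 : (2 : F) = 0 := CharTwo.two_eq_zero
  obtain ⟨M, hM⟩ : ∃ M : Matrix ((Fin 3 ⊕ Fin 3) ⊕ Fin 2) ((Fin 3 ⊕ Fin 3) ⊕ Fin 2) F,
      M = ((g : GL ((Fin 3 ⊕ Fin 3) ⊕ Fin 2) F) :
        Matrix ((Fin 3 ⊕ Fin 3) ⊕ Fin 2) ((Fin 3 ⊕ Fin 3) ⊕ Fin 2) F) := ⟨_, rfl⟩
  rw [← hM]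
  obtain ⟨Ω, hΩ⟩ : ∃ Ω : Matrix ((Fin 3 ⊕ Fin 3) ⊕ Fin 2) ((Fin 3 ⊕ Fin 3) ⊕ Fin 2) F,
      Ω = gramMinusL 3 F a b := ⟨_, rfl⟩
  have hpolar : ∀ u v, QuadraticMap.polar (minusForm 3 F a b) u v = u ⬝ᵥ Ω *ᵥ v := by
    intro u v
    rw [hΩ]
    exact polar_minusForm 3 a b u v
  have hpres : ∀ u, minusForm 3 F a b (M *ᵥ u) = minusForm 3 F a b u := by
    intro u
    rw [hM]
    exact (mem_isometryGroup_iff' _ _).mp g.2 u
  have hgram : Mᵀ * Ω * M = Ω := gram_of_isometry (minusForm 3 F a b) Ω hpolar M hpres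
  have hsymm : Ωᵀ = Ω := gram_symm (minusForm 3 F a b) Ω hpolar
  have hneg : -Ω = Ω := by
    ext i j
    exact CharTwo.neg_eq (Ω i j)
  have hinv : Ω * Ω⁻¹ = 1 := by
    rw [hΩ]
    exact gramMinusL_mul_inv 3 a b han
  have hskew : SkewInv Ω Ω⁻¹ := ⟨by rw [hsymm, hneg], hinv, mul_eq_one_comm.mp hinv⟩
  have hpow : ∀ j : ℕ, M ^ j = 1 ↔ orderOf g ∣ j := by
    intro j
    rw [orderOf_dvd_iff_pow_eq_one]
    constructor
    · intro h
      apply Subtype.ext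
      apply Units.ext
      rw [Subgroup.coe_pow, Units.val_pow_eq_pow_val, ← hM, h]
      rfl
    · intro h
      have h3 := congrArg (fun x : ↥(Cfsg.isometryGroup F (Cfsg.quadFormMinus 3 F a b)) =>
        ((x : GL ((Fin 3 ⊕ Fin 3) ⊕ Fin 2) F) :
          Matrix ((Fin 3 ⊕ Fin 3) ⊕ Fin 2) ((Fin 3 ⊕ Fin 3) ⊕ Fin 2) F)) h
      simp only [Subgroup.coe_pow, Units.val_pow_eq_pow_val, ← hM, Subgroup.coe_one,
        Units.val_one] at h3
      exact h3
  have hpos : 0 < orderOf g := orderOf_pos g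
  exact ⟨fun f hf => reverse_dvd_minpoly Ω Ω⁻¹ hskew M hgram (orderOf g) hpos
    ((hpow _).2 (dvd_refl _)) f hf, hpow, hpos⟩

/-- the element orders of `V ^ k : Ω_8^-(q)` divide one of the twelve numbers -/
theorem aff_order_dvd (a b : F)
    (han : ∀ z₁ z₂ : F, z₁ ^ 2 + a * z₁ * z₂ + b * z₂ ^ 2 = 0 → z₁ = 0 ∧ z₂ = 0) (k : ℕ)
    (x : Aff (rho a b) k) : ∃ L : ℕ, IsTarget (Fintype.card F) L ∧ orderOf x ∣ L := by
  classical
  have h2 : (2 : F) = 0 := CharTwo.two_eq_zero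
  obtain ⟨g, hg⟩ : ∃ g : ↥(Cfsg.isometryGroup F (Cfsg.quadFormMinus 3 F a b)), g = x.lin.1 :=
    ⟨_, rfl⟩
  obtain ⟨A, hA⟩ : ∃ A : Matrix ((Fin 3 ⊕ Fin 3) ⊕ Fin 2) ((Fin 3 ⊕ Fin 3) ⊕ Fin 2) F,
      A = x.mat := ⟨_, rfl⟩
  have hAg : A = ((g : GL ((Fin 3 ⊕ Fin 3) ⊕ Fin 2) F) :
      Matrix ((Fin 3 ⊕ Fin 3) ⊕ Fin 2) ((Fin 3 ⊕ Fin 3) ⊕ Fin 2) F) := by
    rw [hA, hg]
    rfl
  obtain ⟨hrev, hpow, hpos⟩ := iso_data a b han g
  rw [← hAg] at hrev hpow
  have hcard : Fintype.card ((Fin 3 ⊕ Fin 3) ⊕ Fin 2) = 8 := by simp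
  obtain ⟨m, hm⟩ : ∃ m : ℕ, m = orderOf g := ⟨_, rfl⟩
  rw [← hm] at hpow hpos
  have hlin : ∀ j : ℕ, x.lin ^ j = 1 ↔ m ∣ j := by
    intro j
    rw [← hpow j, hA, Aff.mat_pow_eq_one_iff (rho_injective a b)]
  have hQ := minusForm_nondegenerate (F := F) 3 a b han
  have hgen : reflSubgroup (minusForm 3 F a b) = ⊤ :=
    Cfsg.Agent.S0786.reflSubgroup_eq_top' (minusForm 3 F a b) hQ (Or.inr (by simp))
  have heven : Even (A - 1).rank := by
    have h := (mem_Omega_iff_even_rank h2 (minusForm 3 F a b) hQ hgen g).1 (by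
      rw [hg]
      exact x.lin.2)
    rw [hAg]
    exact h
  by_cases hz : ∀ i, (∑ j ∈ Finset.range m, A ^ j) *ᵥ x.tr i = 0
  · obtain ⟨L, hL, hdvd⟩ := orders_of_rev hcard A hrev m hpos hpow
    refine ⟨L, hL, (orderOf_dvd_of_pow_eq_one ?_).trans hdvd⟩
    rw [Aff.pow_eq_one_iff]
    refine ⟨(hlin m).2 (dvd_refl _), ?_⟩
    rw [← hA]
    exact hz
  · push Not at hz
    obtain ⟨i, hi⟩ := hz
    have hsum : ∑ j ∈ Finset.range m, A ^ j ≠ 0 := by
      intro h0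
      apply hi
      rw [h0, Matrix.zero_mulVec]
    obtain ⟨L, hL, hdvd⟩ := p2 hcard A hrev m hpos hpow hsum heven
    refine ⟨L, hL, (orderOf_dvd_of_pow_eq_one ?_).trans hdvd⟩
    rw [Aff.pow_eq_one_iff]
    refine ⟨(hlin _).2 (dvd_mul_left _ _), fun i' => ?_⟩
    have hs : ∑ j ∈ Finset.range (2 * m), A ^ j = 0 := by
      rw [two_mul, Finset.sum_range_add]
      have h5 : ∀ j : ℕ, A ^ (m + j) = A ^ j := fun j => by
        rw [pow_add, (hpow m).2 (dvd_refl _), one_mul]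
      simp only [h5]
      ext r c
      rw [Matrix.add_apply]
      exact CharTwo.add_self_eq_zero _
    rw [← hA, hs, Matrix.zero_mulVec]

/-- transfer of an affine witness to `V ^ k : Ω_8^-(q)` -/
theorem exists_aff_of_hasAffU (a b : F)
    (han : ∀ z₁ z₂ : F, z₁ ^ 2 + a * z₁ * z₂ + b * z₂ ^ 2 = 0 → z₁ = 0 ∧ z₂ = 0) (k : ℕ)
    (hk : 0 < k) (L : ℕ) (hL : 0 < L) (h : HasAffU F 8 (-(Fintype.card F : ℤ) ^ 4) L) :
    ∃ x : Aff (rho a b) k, orderOf x = L := by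
  classical
  have h2 : (2 : F) = 0 := CharTwo.two_eq_zero
  obtain ⟨V, _, _, _, Q, α, v, κ, ⟨hd, hnd, hu⟩, hi, ho, hκ, hev⟩ := h
  have hq0 : (0 : ℤ) < (Fintype.card F : ℤ) := by exact_mod_cast Fintype.card_pos
  rcases witt_class Q hnd 4 (by rw [hd]) with ⟨hu', -⟩ | ⟨-, k', hk', hT⟩
  · exfalso
    have h1 := Unif.unique hu hu'
    have h3 : (0 : ℤ) < (Fintype.card F : ℤ) ^ 4 := by positivity
    linarith
  · obtain rfl : k' = 3 := by omega
    obtain ⟨T, hT⟩ := hT a b han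
    have haL : α ^ L = 1 := ((ho L).2 (dvd_refl _)).1
    obtain ⟨β, hβ⟩ : ∃ β : Module.End F V, β = α ^ (L - 1) := ⟨_, rfl⟩
    have hab : α * β = 1 := by rw [hβ, ← pow_succ', Nat.sub_add_cancel hL, haL]
    obtain ⟨A, hA⟩ : ∃ A : Matrix ((Fin 3 ⊕ Fin 3) ⊕ Fin 2) ((Fin 3 ⊕ Fin 3) ⊕ Fin 2) F,
        A = LinearMap.toMatrix' (T.conj α) := ⟨_, rfl⟩
    obtain ⟨B, hB⟩ : ∃ B : Matrix ((Fin 3 ⊕ Fin 3) ⊕ Fin 2) ((Fin 3 ⊕ Fin 3) ⊕ Fin 2) F,
        B = LinearMap.toMatrix' (T.conj β) := ⟨_, rfl⟩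
    have hAB : A * B = 1 := by
      rw [hA, hB, ← LinearMap.toMatrix'_mul, ← conj_mul', hab, conj_one', LinearMap.toMatrix'_one]
    have hBA : B * A = 1 := mul_eq_one_comm.mp hAB
    have hmul : ∀ y : (Fin 3 ⊕ Fin 3) ⊕ Fin 2 → F, A *ᵥ y = T (α (T.symm y)) := by
      intro y
      rw [hA, LinearMap.toMatrix'_mulVec, LinearEquiv.conj_apply_apply]
    have hpres : ∀ y : (Fin 3 ⊕ Fin 3) ⊕ Fin 2 → F,
        Cfsg.quadFormMinus 3 F a b (A *ᵥ y) = Cfsg.quadFormMinus 3 F a b y := by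
      intro y
      rw [hmul, hT, hi, ← hT, LinearEquiv.apply_symm_apply]
    obtain ⟨g, hg⟩ : ∃ g : ↥(Cfsg.isometryGroup F (Cfsg.quadFormMinus 3 F a b)),
        ((g : GL ((Fin 3 ⊕ Fin 3) ⊕ Fin 2) F) : Matrix _ _ F) = A :=
      ⟨⟨⟨A, B, hAB, hBA⟩, (mem_isometryGroup_iff' _ _).mpr hpres⟩, rfl⟩
    have hApow : ∀ j : ℕ, A ^ j = LinearMap.toMatrix' (T.conj (α ^ j)) := fun j => by
      rw [hA, ← toMatrix'_pow', ← conj_pow']
    have hQ := minusForm_nondegenerate (F := F) 3 a b han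
    have hgen : reflSubgroup (minusForm 3 F a b) = ⊤ :=
      Cfsg.Agent.S0786.reflSubgroup_eq_top' (minusForm 3 F a b) hQ (Or.inr (by simp))
    have hmem : ∀ g' : ↥(Cfsg.isometryGroup F (Cfsg.quadFormMinus 3 F a b)),
        g' ∈ Cfsg.Omega F (Cfsg.quadFormMinus 3 F a b) ↔
          Even (((g' : GL ((Fin 3 ⊕ Fin 3) ⊕ Fin 2) F) :
            Matrix ((Fin 3 ⊕ Fin 3) ⊕ Fin 2) ((Fin 3 ⊕ Fin 3) ⊕ Fin 2) F) - 1).rank :=
      fun g' => mem_Omega_iff_even_rank h2 (minusForm 3 F a b) hQ hgen g'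
    have hidx : (Cfsg.Omega F (Cfsg.quadFormMinus 3 F a b)).index = 2 :=
      index_Omega_two h2 (minusForm 3 F a b) hQ hgen
    have hgk : g ^ κ ∈ Cfsg.Omega F (Cfsg.quadFormMinus 3 F a b) := by
      rw [hmem]
      have e1 : (((g ^ κ : ↥(Cfsg.isometryGroup F (Cfsg.quadFormMinus 3 F a b))) :
          GL ((Fin 3 ⊕ Fin 3) ⊕ Fin 2) F) :
          Matrix ((Fin 3 ⊕ Fin 3) ⊕ Fin 2) ((Fin 3 ⊕ Fin 3) ⊕ Fin 2) F) = A ^ κ := by
        rw [Subgroup.coe_pow, Units.val_pow_eq_pow_val, hg]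
      rw [e1, rank_sub_one_eq, hApow, Matrix.toLin'_toMatrix']
      have e2 : T.conj (α ^ κ) - 1 = T.conj (α ^ κ - 1) := by rw [map_sub, conj_one']
      rw [e2]
      have e3 : LinearMap.range (T.conj (α ^ κ - 1))
          = (LinearMap.range (α ^ κ - 1)).map T.toLinearMap := by
        ext y
        constructor
        · rintro ⟨z, rfl⟩
          refine ⟨(α ^ κ - 1) (T.symm z), ⟨_, rfl⟩, ?_⟩
          rw [LinearEquiv.conj_apply_apply]
          rfl
        · rintro ⟨z, ⟨w, rfl⟩, rfl⟩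
          refine ⟨T w, ?_⟩
          rw [LinearEquiv.conj_apply_apply, LinearEquiv.symm_apply_apply]
          rfl
      rw [e3, LinearEquiv.finrank_map_eq]
      exact hev
    have hgΩ : g ∈ Cfsg.Omega F (Cfsg.quadFormMinus 3 F a b) := by
      obtain ⟨w, hw⟩ := hκ
      have h5 : g ^ 2 ∈ Cfsg.Omega F (Cfsg.quadFormMinus 3 F a b) :=
        Subgroup.sq_mem_of_index_two hidx g
      have h7 : g ^ κ = (g ^ 2) ^ w * g := by rw [hw, pow_succ, pow_mul]
      have h6 : g = ((g ^ 2) ^ w)⁻¹ * g ^ κ := by rw [h7, inv_mul_cancel_left]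
      rw [h6]
      exact mul_mem (inv_mem (pow_mem h5 w)) hgk
    obtain ⟨x, hx⟩ : ∃ x : Aff (rho a b) k, x = ⟨⟨g, hgΩ⟩, fun _ => T v⟩ := ⟨_, rfl⟩
    have hxmat : x.mat = A := by
      rw [hx]
      exact hg
    have hxtr : ∀ i, x.tr i = T v := by
      intro i
      rw [hx]
    have hsumT : ∀ j : ℕ, (∑ i' ∈ Finset.range j, A ^ i') *ᵥ T v
        = T ((∑ i ∈ Finset.range j, α ^ i) v) := by
      intro j
      induction j with
      | zero => simp
      | succ j ih =>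
        rw [Finset.sum_range_succ, Matrix.add_mulVec, ih, Finset.sum_range_succ,
          LinearMap.add_apply, map_add, hApow, LinearMap.toMatrix'_mulVec,
          LinearEquiv.conj_apply_apply, LinearEquiv.symm_apply_apply]
    have hxpow : ∀ j : ℕ, x ^ j = 1 ↔ L ∣ j := by
      intro j
      rw [Aff.pow_eq_one_iff, ← ho j]
      have e1 : x.lin ^ j = 1 ↔ α ^ j = 1 := by
        rw [← Aff.mat_pow_eq_one_iff (rho_injective a b), hxmat, hApow]
        constructor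
        · intro h
          have h3 : T.conj (α ^ j) = 1 := by
            apply LinearMap.toMatrix'.injective
            rw [h, LinearMap.toMatrix'_one]
          apply T.conj.injective
          rw [h3, conj_one']
        · intro h
          rw [h, conj_one', LinearMap.toMatrix'_one]
      have e2 : (∀ i : Fin k, (∑ i' ∈ Finset.range j, x.mat ^ i') *ᵥ x.tr i = 0)
          ↔ (∑ i ∈ Finset.range j, α ^ i) v = 0 := by
        constructor
        · intro h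
          have h4 := h ⟨0, hk⟩
          rw [hxtr, hxmat, hsumT] at h4
          exact T.map_eq_zero_iff.1 h4
        · intro h i
          rw [hxtr, hxmat, hsumT, h, map_zero]
      rw [e1, e2]
    exact ⟨x, Nat.dvd_antisymm (orderOf_dvd_of_pow_eq_one ((hxpow L).2 (dvd_refl _)))
      ((hxpow _).1 (pow_orderOf_eq_one x))⟩

/-- the twelve numbers are element orders of `V ^ k : Ω_8^-(q)` -/
theorem aff_targets_realised (a b : F)
    (han : ∀ z₁ z₂ : F, z₁ ^ 2 + a * z₁ * z₂ + b * z₂ ^ 2 = 0 → z₁ = 0 ∧ z₂ = 0) (k : ℕ)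
    (hk : 0 < k) (L : ℕ) (hL : IsTarget (Fintype.card F) L) :
    ∃ x : Aff (rho a b) k, orderOf x = L := by
  have h2 : (2 : F) = 0 := CharTwo.two_eq_zero
  have ha : a ≠ 0 := by
    have hdisc := disc_ne_zero_of_aniso a b han
    intro h0
    apply hdisc
    rw [h0, h2]
    ring
  have hc : ∀ y : F × F, bq (b / a ^ 2) y = 0 → y = 0 := by
    rintro ⟨y₁, y₂⟩ hy
    rw [bq_apply] at hy
    have h3 : y₁ ^ 2 + a * y₁ * (y₂ / a) + b * (y₂ / a) ^ 2 = 0 := by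
      rw [← hy]
      field_simp
    obtain ⟨h4, h5⟩ := han y₁ (y₂ / a) h3
    have h6 : y₂ = 0 := by
      rcases div_eq_zero_iff.1 h5 with h | h
      · exact h
      · exact absurd h ha
    rw [h4, h6]
    rfl
  obtain ⟨hLpos, haff⟩ := targets_hasAffU (b / a ^ 2) hc L hL
  exact exists_aff_of_hasAffU a b han k hk L hLpos haff

/-- the set of element orders of `V ^ k : Ω_8^-(q)` -/
theorem aff_spectrum (a b : F)
    (han : ∀ z₁ z₂ : F, z₁ ^ 2 + a * z₁ * z₂ + b * z₂ ^ 2 = 0 → z₁ = 0 ∧ z₂ = 0) (k : ℕ)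
    (hk : 0 < k) :
    Set.range (orderOf : Aff (rho a b) k → ℕ)
      = {d | ∃ L : ℕ, IsTarget (Fintype.card F) L ∧ d ∣ L} := by
  ext d
  constructor
  · rintro ⟨x, rfl⟩
    exact aff_order_dvd a b han k x
  · rintro ⟨L, hL, hdvd⟩
    obtain ⟨x, hx⟩ := aff_targets_realised a b han k hk L hL
    exact Cfsg.Agent.Lib.helper64.SpecProd.mem_range_of_dvd ⟨x, hx⟩ hdvd

/-- the set of element orders of `Sp_8(q)`, `q` even -/
theorem psp_spectrum :
    Set.range (orderOf : Cfsg.PSp 4 F → ℕ)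
      = {d | ∃ L : ℕ, IsTarget (Fintype.card F) L ∧ d ∣ L} := by
  classical
  have h2 : (2 : F) = 0 := CharTwo.two_eq_zero
  obtain ⟨a, b, han⟩ := exists_aniso F
  ext d
  constructor
  · rintro ⟨x, rfl⟩
    obtain ⟨A, hAJ, hA⟩ := Cfsg.Agent.Lib.helper64.SpPG.exists_pure_sp 4 (by norm_num) x
      (Or.inr h2)
    exact sp8_orders A hAJ (orderOf x) (orderOf_pos x) hA
  · rintro ⟨L, hL, hdvd⟩
    obtain ⟨g, hg⟩ := Cfsg.Agent.Lib.helper64.EvFin.targets_realised a b han L hL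
    have h1 := Cfsg.Agent.Lib.helper64.EvFin.mem_range_sp_of_iso a b han g
    rw [hg] at h1
    exact Cfsg.Agent.Lib.helper64.SpecProd.mem_range_of_dvd h1 hdvd

end omega

end Cfsg.Agent.Lib.helper64.EvAff
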