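/-
The exponent of `GL(n,2)` and elements realizing it (used for S2513):
every invertible `n × n` matrix over the field with two elements is killed by
`2 ^ clog₂ n * lcm_{1 ≤ j ≤ n} (2 ^ j - 1)`, and `⌊(n+3)/2⌋` suitable matrices (block sums of
Singer cycles and one Jordan block) have orders with exactly this least common multiple.
-/
import Mathlib
import Cfsg.Agent.Lib.helper44.Unipotent

set_option autoImplicit false

namespace Cfsg.Agent.Lib.helper64.GL2Exp

open Polynomial

/-- abstract step: if `N` kills `L` and some `k₀`-tuple has order exactly `N`, then for every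
`k ≥ k₀` the orders of `k`-tuples are exactly the divisors of `N`. -/
theorem range_orderOf_pi {L : Type*} [Group L] (N : ℕ) (hN : 0 < N) (hexp : ∀ x : L, x ^ N = 1)
    (k₀ k : ℕ) (hk : k₀ ≤ k) (f : Fin k₀ → L) (hf : ∀ m : ℕ, (∀ i, f i ^ m = 1) → N ∣ m) :
    Set.range (orderOf : (Fin k → L) → ℕ) = {m | m ∣ N} := by
  ext m
  constructor
  · rintro ⟨g, rfl⟩
    apply orderOf_dvd_of_pow_eq_one
    funext i
    simp [hexp]
  · intro hm
    have hm : m ∣ N := hm
    let f' : Fin k → L := fun i => if h : i.val < k₀ then f ⟨i.val, h⟩ else 1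
    have hf' : orderOf f' = N := by
      apply Nat.dvd_antisymm
      · apply orderOf_dvd_of_pow_eq_one
        funext i
        simp [hexp]
      · apply hf
        intro i
        have h1 : f' ^ orderOf f' = 1 := pow_orderOf_eq_one f'
        have h2 := congrFun h1 ⟨i.val, lt_of_lt_of_le i.2 hk⟩
        simp only [Pi.pow_apply, Pi.one_apply, f'] at h2
        rw [dif_pos i.2] at h2
        exact h2
    refine ⟨f' ^ (N / m), ?_⟩
    have hne : N / m ≠ 0 := by
      have := Nat.div_pos (Nat.le_of_dvd hN hm) (Nat.pos_of_dvd_of_pos hm hN)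
      omega
    rw [orderOf_pow_of_dvd hne (by rw [hf']; exact Nat.div_dvd_of_dvd hm), hf']
    exact Nat.div_div_self hm hN.ne'

section field2

variable {F : Type*} [Field F] [Fintype F]

theorem eq_zero_or_one (hF : Fintype.card F = 2) (r : F) : r = 0 ∨ r = 1 := by
  classical
  have h : ({0, 1} : Finset F) = Finset.univ := by
    apply Finset.eq_univ_of_card
    rw [Finset.card_pair zero_ne_one, hF]
  have := Finset.mem_univ r
  rw [← h] at this
  simpa using this

theorem two_eq_zero (hF : Fintype.card F = 2) : (2 : F) = 0 := by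
  rcases eq_zero_or_one hF (2 : F) with h | h
  · exact h
  · exfalso
    have h2 : (1 : F) + 1 = 1 := by rw [one_add_one_eq_two]; exact h
    have : (1 : F) = 0 := by simp at h2
    exact one_ne_zero this

theorem charP_two (hF : Fintype.card F = 2) : CharP F 2 := by
  have h2 := two_eq_zero hF
  have hd : ringChar F ∣ 2 := ringChar.dvd (by exact_mod_cast h2)
  have h1 : ringChar F ≠ 1 := CharP.ringChar_ne_one
  have h3 : ringChar F = 2 := by
    rcases (Nat.dvd_prime Nat.prime_two).1 hd with h | h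
    · exact absurd h h1
    · exact h
  have hc := ringChar.charP F
  rw [h3] at hc
  exact hc

/-- the odd part of the exponent of `GL(n,2)` -/
def oddExp (n : ℕ) : ℕ := (Finset.Icc 1 n).lcm (fun j => 2 ^ j - 1)

/-- the exponent of `GL(n,2)` -/
def expo (n : ℕ) : ℕ := 2 ^ Nat.clog 2 n * oddExp n

theorem dvd_oddExp (n j : ℕ) (h1 : 1 ≤ j) (h2 : j ≤ n) : 2 ^ j - 1 ∣ oddExp n :=
  Finset.dvd_lcm (Finset.mem_Icc.2 ⟨h1, h2⟩)

theorem irreducible_dvd (hF : Fintype.card F = 2) (f : F[X]) (hf : Irreducible f) (hX : ¬ X ∣ f) :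
    f ∣ X ^ (2 ^ f.natDegree - 1) - 1 := by
  haveI : Fact (Irreducible f) := ⟨hf⟩
  have hf0 : f ≠ 0 := hf.ne_zero
  let pb := AdjoinRoot.powerBasis hf0
  haveI : Module.Finite F (AdjoinRoot f) := pb.finite
  haveI : Finite (AdjoinRoot f) := Module.finite_of_finite F
  haveI : Fintype (AdjoinRoot f) := Fintype.ofFinite _
  have hcard : Fintype.card (AdjoinRoot f) = 2 ^ f.natDegree := by
    rw [Module.card_eq_pow_finrank (K := F), hF, pb.finrank, AdjoinRoot.powerBasis_dim]
  have hroot : AdjoinRoot.root f ≠ 0 := by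
    intro h
    rw [← AdjoinRoot.mk_X, AdjoinRoot.mk_eq_zero] at h
    exact hX (hf.associated_of_dvd Polynomial.irreducible_X h).symm.dvd
  have h1 := FiniteField.pow_card_sub_one_eq_one (AdjoinRoot.root f) hroot
  rw [hcard] at h1
  rw [← AdjoinRoot.mk_eq_zero]
  simp [h1]

theorem dvd_pow_of_degree (hF : Fintype.card F = 2) (n : ℕ) :
    ∀ k : ℕ, k ≤ n → ∀ g : F[X], g ≠ 0 → g.natDegree ≤ k → ¬ X ∣ g →
      g ∣ (X ^ oddExp n - 1) ^ k := by
  intro k
  induction k with
  | zero =>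
    intro _ g hg hdeg _
    have h1 := Polynomial.eq_C_of_natDegree_le_zero hdeg
    have h2 : g.coeff 0 ≠ 0 := by
      intro h
      rw [h, map_zero] at h1
      exact hg h1
    have : IsUnit g := by
      rw [h1]
      exact Polynomial.isUnit_C.2 (isUnit_iff_ne_zero.2 h2)
    exact this.dvd
  | succ k ih =>
    intro hk g hg hdeg hX
    by_cases hu : IsUnit g
    · exact hu.dvd
    · obtain ⟨f, hfirr, h, rfl⟩ := WfDvdMonoid.exists_irreducible_factor hu hg
      have hf0 : f ≠ 0 := hfirr.ne_zero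
      have hh0 : h ≠ 0 := by
        rintro rfl
        simp at hg
      have hdeg' : (f * h).natDegree = f.natDegree + h.natDegree := Polynomial.natDegree_mul hf0 hh0
      have hfpos := hfirr.natDegree_pos
      have hXf : ¬ X ∣ f := fun hd => hX (hd.mul_right h)
      have hXh : ¬ X ∣ h := fun hd => hX (hd.mul_left f)
      have h1 : h ∣ (X ^ oddExp n - 1) ^ k := ih (by omega) h hh0 (by omega) hXh
      have h2 : f ∣ X ^ (2 ^ f.natDegree - 1) - 1 := irreducible_dvd hF f hfirr hXf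
      have h3 : (X : F[X]) ^ (2 ^ f.natDegree - 1) - 1 ∣ X ^ oddExp n - 1 := by
        obtain ⟨c, hc⟩ := dvd_oddExp n f.natDegree hfpos (by omega)
        rw [hc, pow_mul]
        have := sub_dvd_pow_sub_pow ((X : F[X]) ^ (2 ^ f.natDegree - 1)) 1 c
        rwa [one_pow] at this
      rw [pow_succ']
      exact mul_dvd_mul (h2.trans h3) h1

theorem matrix_pow_expo (hF : Fintype.card F = 2) (n : ℕ) (A : Matrix (Fin n) (Fin n) F)
    (hA : A.det ≠ 0) : A ^ expo n = 1 := by
  haveI := charP_two hF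
  haveI : Fact (Nat.Prime 2) := ⟨Nat.prime_two⟩
  have hχ0 : A.charpoly ≠ 0 := (Matrix.charpoly_monic A).ne_zero
  have hdeg : A.charpoly.natDegree ≤ n := by
    rw [Matrix.charpoly_natDegree_eq_dim]; simp
  have hX : ¬ X ∣ A.charpoly := by
    rw [Polynomial.X_dvd_iff]
    intro h
    apply hA
    rw [Matrix.det_eq_sign_charpoly_coeff, h, mul_zero]
  have h1 := dvd_pow_of_degree hF n n le_rfl _ hχ0 hdeg hX
  have h2 : ((X : F[X]) ^ oddExp n - 1) ^ n ∣ (X ^ oddExp n - 1) ^ (2 ^ Nat.clog 2 n) :=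
    pow_dvd_pow _ (Nat.le_pow_clog (by norm_num) n)
  have h3 : ((X : F[X]) ^ oddExp n - 1) ^ (2 ^ Nat.clog 2 n) = X ^ expo n - 1 := by
    rw [sub_pow_char_pow_of_commute 2 _ (Commute.all _ _), one_pow, ← pow_mul, expo, mul_comm]
  obtain ⟨q, hq⟩ := h1.trans h2
  rw [h3] at hq
  have h4 := congrArg (Polynomial.aeval A) hq
  rw [map_mul, Matrix.aeval_self_charpoly, zero_mul] at h4
  simpa [sub_eq_zero] using h4

theorem expo_pos (n : ℕ) : 0 < expo n := by
  have hprod : oddExp n ∣ ∏ j ∈ Finset.Icc 1 n, (2 ^ j - 1) :=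
    Finset.lcm_dvd fun j hj => Finset.dvd_prod_of_mem _ hj
  have hpos : 0 < ∏ j ∈ Finset.Icc 1 n, (2 ^ j - 1) := by
    apply Finset.prod_pos
    intro j hj
    rw [Finset.mem_Icc] at hj
    have : 2 ^ 1 ≤ 2 ^ j := Nat.pow_le_pow_right (by norm_num) hj.1
    omega
  have h1 : 0 < oddExp n := Nat.pos_of_dvd_of_pos hprod hpos
  unfold expo
  positivity

/-- a Singer cycle: a `d × d` matrix over the field with two elements of order `2 ^ d - 1` -/
theorem exists_singer (hF : Fintype.card F = 2) (d : ℕ) (hd : 1 ≤ d) :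
    ∃ A : Matrix (Fin d) (Fin d) F, A ^ (2 ^ d - 1) = 1 ∧ ∀ k : ℕ, A ^ k = 1 → 2 ^ d - 1 ∣ k := by
  classical
  haveI : Fact (Nat.Prime 2) := ⟨Nat.prime_two⟩
  let e : F ≃+* ZMod 2 := (ZMod.ringEquivOfPrime F Nat.prime_two hF).symm
  letI : Algebra F (GaloisField 2 d) :=
    ((algebraMap (ZMod 2) (GaloisField 2 d)).comp e.toRingHom).toAlgebra
  haveI : Fintype (GaloisField 2 d) := Fintype.ofFinite _
  haveI : Module.Finite F (GaloisField 2 d) := Module.Finite.of_finite
  have hcardK : Fintype.card (GaloisField 2 d) = 2 ^ d := by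
    rw [← Nat.card_eq_fintype_card]
    exact GaloisField.card 2 d (by omega)
  have hfr : Module.finrank F (GaloisField 2 d) = d := by
    have h := Module.card_eq_pow_finrank (K := F) (V := GaloisField 2 d)
    rw [hcardK, hF] at h
    exact (Nat.pow_right_injective (le_refl 2) h).symm
  let b : Module.Basis (Fin d) F (GaloisField 2 d) := Module.finBasisOfFinrankEq F _ hfr
  have hρ : Function.Injective (Algebra.leftMulMatrix b) := Algebra.leftMulMatrix_injective b
  obtain ⟨ζ, hζ⟩ := IsCyclic.exists_generator (α := (GaloisField 2 d)ˣ)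
  have hord : orderOf ζ = 2 ^ d - 1 := by
    rw [orderOf_eq_card_of_forall_mem_zpowers hζ, Nat.card_eq_fintype_card, Fintype.card_units,
      hcardK]
  refine ⟨Algebra.leftMulMatrix b (ζ : GaloisField 2 d), ?_, ?_⟩
  · rw [← map_pow, ← Units.val_pow_eq_pow_val, ← hord, pow_orderOf_eq_one, Units.val_one, map_one]
  · intro k hk
    rw [← map_pow, ← map_one (Algebra.leftMulMatrix b)] at hk
    have h1 := hρ hk
    rw [← Units.val_pow_eq_pow_val, ← Units.val_one, Units.val_inj] at h1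
    rw [← hord]
    exact orderOf_dvd_of_pow_eq_one h1

/-- block sum of two Singer cycles of sizes `d` and `n - d` -/
theorem exists_block (hF : Fintype.card F = 2) (n d : ℕ) (hd : d ≤ n) :
    ∃ C : Matrix (Fin n) (Fin n) F, C.det ≠ 0 ∧
      ∀ k : ℕ, C ^ k = 1 → ∀ j : ℕ, 1 ≤ j → (j = d ∨ j = n - d) → 2 ^ j - 1 ∣ k := by
  classical
  have hA : ∀ d : ℕ, ∃ A : Matrix (Fin d) (Fin d) F, A.det ≠ 0 ∧
      ∀ k : ℕ, A ^ k = 1 → 1 ≤ d → 2 ^ d - 1 ∣ k := by
    intro d
    rcases Nat.eq_zero_or_pos d with h | h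
    · refine ⟨1, by simp, fun k _ h' => by omega⟩
    · obtain ⟨A, hA1, hA2⟩ := exists_singer hF d h
      refine ⟨A, ?_, fun k hk _ => hA2 k hk⟩
      intro h0
      have h1 := congrArg Matrix.det hA1
      have hpos : 2 ^ d - 1 ≠ 0 := by
        have : 2 ^ 1 ≤ 2 ^ d := Nat.pow_le_pow_right (by norm_num) h
        omega
      rw [Matrix.det_pow, h0, Matrix.det_one, zero_pow hpos] at h1
      exact zero_ne_one h1
  obtain ⟨A₁, hu1, h1⟩ := hA d
  obtain ⟨A₂, hu2, h2⟩ := hA (n - d)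
  let e : Fin d ⊕ Fin (n - d) ≃ Fin n := finSumFinEquiv.trans (finCongr (by omega))
  let φ := Matrix.reindexAlgEquiv F F e
  let B : Matrix (Fin d ⊕ Fin (n - d)) (Fin d ⊕ Fin (n - d)) F := Matrix.fromBlocks A₁ 0 0 A₂
  have hB : ∀ k : ℕ, B ^ k = Matrix.fromBlocks (A₁ ^ k) 0 0 (A₂ ^ k) :=
    fun k => Matrix.fromBlocks_diagonal_pow _ _ k
  refine ⟨φ B, ?_, ?_⟩
  · rw [Matrix.det_reindexAlgEquiv, Matrix.det_fromBlocks_zero₁₂]
    exact mul_ne_zero hu1 hu2
  · intro k hk j hj hjd
    have hk' : B ^ k = 1 := by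
      have : φ (B ^ k) = φ 1 := by rw [map_pow, hk, map_one]
      exact φ.injective this
    rw [hB, ← Matrix.fromBlocks_one, Matrix.fromBlocks_inj] at hk'
    obtain ⟨ha, -, -, hb⟩ := hk'
    rcases hjd with rfl | rfl
    · exact h1 k ha hj
    · exact h2 k hb hj

/-- the Jordan block has order `2 ^ clog₂ n` -/
theorem exists_jordan (hF : Fintype.card F = 2) (n : ℕ) (hn : 2 ≤ n) :
    ∃ C : Matrix (Fin n) (Fin n) F, C.det ≠ 0 ∧ ∀ k : ℕ, C ^ k = 1 → 2 ^ Nat.clog 2 n ∣ k := by
  haveI := charP_two hF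
  haveI : Fact (Nat.Prime 2) := ⟨Nat.prime_two⟩
  haveI : Nonempty (Fin n) := ⟨⟨0, by omega⟩⟩
  haveI : CharP (Matrix (Fin n) (Fin n) F) 2 :=
    charP_of_injective_algebraMap (algebraMap F (Matrix (Fin n) (Fin n) F)).injective 2
  have hpow : ∀ s : ℕ, (1 + Cfsg.Agent.Lib.helper44.shiftMat F n) ^ (2 ^ s)
      = 1 + Cfsg.Agent.Lib.helper44.shiftMat F n ^ (2 ^ s) := by
    intro s
    rw [add_pow_char_pow_of_commute 2 _ (Commute.one_left _), one_pow]
  have htop : (1 + Cfsg.Agent.Lib.helper44.shiftMat F n) ^ (2 ^ Nat.clog 2 n) = 1 := by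
    rw [hpow, pow_eq_zero_of_le (Nat.le_pow_clog (by norm_num) n)
      (Cfsg.Agent.Lib.helper44.shiftMat_pow_self F n), add_zero]
  refine ⟨1 + Cfsg.Agent.Lib.helper44.shiftMat F n, ?_, ?_⟩
  · intro h
    have h1 := congrArg Matrix.det htop
    rw [Matrix.det_pow, h, Matrix.det_one, zero_pow (by positivity)] at h1
    exact zero_ne_one h1
  · intro k hk
    have hdvd : orderOf (1 + Cfsg.Agent.Lib.helper44.shiftMat F n) ∣ 2 ^ Nat.clog 2 n :=
      orderOf_dvd_of_pow_eq_one htop
    obtain ⟨s, hs, hs'⟩ := (Nat.dvd_prime_pow Nat.prime_two).1 hdvd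
    have hst : s = Nat.clog 2 n := by
      by_contra hne
      have hlt : s ≤ Nat.clog 2 n - 1 := by omega
      have h1 : (1 + Cfsg.Agent.Lib.helper44.shiftMat F n) ^ (2 ^ (Nat.clog 2 n - 1)) = 1 := by
        have : orderOf (1 + Cfsg.Agent.Lib.helper44.shiftMat F n) ∣ 2 ^ (Nat.clog 2 n - 1) := by
          rw [hs']; exact pow_dvd_pow 2 hlt
        exact orderOf_dvd_iff_pow_eq_one.1 this
      rw [hpow] at h1
      have h2 : Cfsg.Agent.Lib.helper44.shiftMat F n ^ (2 ^ (Nat.clog 2 n - 1)) = 0 := by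
        simpa using h1
      have h3 : 2 ^ (Nat.clog 2 n - 1) < n := by
        have := Nat.pow_pred_clog_lt_self (b := 2) (by norm_num) (x := n) (by omega)
        simpa [Nat.pred_eq_sub_one] using this
      exact Cfsg.Agent.Lib.helper44.shiftMat_pow_ne_zero F n _ h3 h2
    rw [← hst, ← hs']
    exact orderOf_dvd_of_pow_eq_one hk

/-- `⌊(n+3)/2⌋` elements of `SL(n,2)` whose orders have least common multiple `expo n` -/
theorem exists_tuple (hF : Fintype.card F = 2) (n : ℕ) (hn : 2 ≤ n) :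
    ∃ g : Fin ((n + 3) / 2) → Matrix.SpecialLinearGroup (Fin n) F,
      ∀ m : ℕ, (∀ i, g i ^ m = 1) → expo n ∣ m := by
  classical
  have lift : ∀ C : Matrix (Fin n) (Fin n) F, C.det ≠ 0 →
      ∃ x : Matrix.SpecialLinearGroup (Fin n) F, (x : Matrix (Fin n) (Fin n) F) = C := by
    intro C hC
    exact ⟨⟨C, (eq_zero_or_one hF _).resolve_left hC⟩, rfl⟩
  have hpow : ∀ (x : Matrix.SpecialLinearGroup (Fin n) F) (m : ℕ), x ^ m = 1 →
      (x : Matrix (Fin n) (Fin n) F) ^ m = 1 := by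
    intro x m h
    rw [← Matrix.SpecialLinearGroup.coe_pow, h, Matrix.SpecialLinearGroup.coe_one]
  obtain ⟨J, hJdet, hJ⟩ := exists_jordan hF n hn
  obtain ⟨xJ, hxJ⟩ := lift J hJdet
  have hblk : ∀ d : ℕ, ∃ x : Matrix.SpecialLinearGroup (Fin n) F, d ≤ n → ∀ k : ℕ, x ^ k = 1 →
      ∀ j : ℕ, 1 ≤ j → (j = d ∨ j = n - d) → 2 ^ j - 1 ∣ k := by
    intro d
    by_cases hd : d ≤ n
    · obtain ⟨C, hC, hC'⟩ := exists_block hF n d hd
      obtain ⟨x, hx⟩ := lift C hC
      exact ⟨x, fun _ k hk => hC' k (by rw [← hx]; exact hpow x k hk)⟩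
    · exact ⟨1, fun h => absurd h hd⟩
  choose X hX using hblk
  refine ⟨fun i => if i.val = 0 then xJ else X (i.val - 1), ?_⟩
  intro m hm
  have hk0 : 0 < (n + 3) / 2 := by omega
  have h2 : 2 ^ Nat.clog 2 n ∣ m := by
    have h := hm ⟨0, hk0⟩
    simp only [if_true] at h
    exact hJ m (by rw [← hxJ]; exact hpow xJ m h)
  have hblock : ∀ d : ℕ, 2 * d < n → ∀ j, 1 ≤ j → (j = d ∨ j = n - d) → 2 ^ j - 1 ∣ m := by
    intro d hd j hj hjd
    have hi : d + 1 < (n + 3) / 2 := by omega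
    have h := hm ⟨d + 1, hi⟩
    simp only [Nat.add_sub_cancel, Nat.succ_ne_zero, if_false] at h
    exact hX d (by omega) m h j hj hjd
  have hodd : oddExp n ∣ m := by
    apply Finset.lcm_dvd
    intro j hj
    rw [Finset.mem_Icc] at hj
    rcases lt_trichotomy (2 * j) n with h | h | h
    · exact hblock j h j hj.1 (Or.inl rfl)
    · have h1 : 2 ^ n - 1 ∣ m := hblock 0 (by omega) n (by omega) (Or.inr (by omega))
      have h3 : 2 ^ j - 1 ∣ 2 ^ n - 1 := by
        rw [← h, pow_mul']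
        have := Nat.sub_dvd_pow_sub_pow (2 ^ j) 1 2
        simpa using this
      exact h3.trans h1
    · exact hblock (n - j) (by omega) j hj.1 (Or.inr (by omega))
  have hcop : Nat.Coprime (2 ^ Nat.clog 2 n) (oddExp n) := by
    apply Nat.Coprime.pow_left
    have hprod : oddExp n ∣ ∏ j ∈ Finset.Icc 1 n, (2 ^ j - 1) :=
      Finset.lcm_dvd fun j hj => Finset.dvd_prod_of_mem _ hj
    apply Nat.Coprime.coprime_dvd_right hprod
    apply Nat.Coprime.prod_right
    intro j hj
    rw [Finset.mem_Icc] at hj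
    rw [Nat.coprime_two_left]
    have h1 : 2 ^ 1 ≤ 2 ^ j := Nat.pow_le_pow_right (by norm_num) hj.1
    have h2 : Even (2 ^ j) := (Nat.even_pow' (by omega)).2 even_two
    rcases h2 with ⟨c, hc⟩
    exact ⟨c - 1, by omega⟩
  exact hcop.mul_dvd_of_dvd_of_dvd h2 hodd

/-- the two facts about `PSL(n,2)` behind S2513 -/
theorem psl_facts (hF : Fintype.card F = 2) (n : ℕ) (hn : 2 ≤ n) :
    (∀ y : Matrix.ProjectiveSpecialLinearGroup (Fin n) F, y ^ expo n = 1) ∧
    ∃ g : Fin ((n + 3) / 2) → Matrix.ProjectiveSpecialLinearGroup (Fin n) F,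
      ∀ m : ℕ, (∀ i, g i ^ m = 1) → expo n ∣ m := by
  have hcenter : Subgroup.center (Matrix.SpecialLinearGroup (Fin n) F) = ⊥ := by
    rw [eq_bot_iff]
    intro x hx
    rw [Matrix.SpecialLinearGroup.mem_center_iff] at hx
    obtain ⟨r, hr, hx⟩ := hx
    rw [Subgroup.mem_bot]
    rcases eq_zero_or_one hF r with rfl | rfl
    · exfalso
      rw [zero_pow (by simp; omega)] at hr
      exact zero_ne_one hr
    · apply Subtype.ext
      rw [← hx]
      simp
  have hπinj : Function.Injective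
      (QuotientGroup.mk' (Subgroup.center (Matrix.SpecialLinearGroup (Fin n) F))) := by
    rw [← MonoidHom.ker_eq_bot_iff, QuotientGroup.ker_mk', hcenter]
  have hπsurj : Function.Surjective
      (QuotientGroup.mk' (Subgroup.center (Matrix.SpecialLinearGroup (Fin n) F))) :=
    QuotientGroup.mk'_surjective _
  constructor
  · intro y
    obtain ⟨x, rfl⟩ := hπsurj y
    rw [← map_pow]
    have hx : x ^ expo n = 1 := by
      apply Subtype.ext
      rw [Matrix.SpecialLinearGroup.coe_pow, Matrix.SpecialLinearGroup.coe_one]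
      exact matrix_pow_expo hF n _ (by rw [x.2]; exact one_ne_zero)
    rw [hx, map_one]
  · obtain ⟨g, hg⟩ := exists_tuple hF n hn
    refine ⟨fun i => QuotientGroup.mk' _ (g i), fun m hm => hg m fun i => ?_⟩
    have h := hm i
    rw [← map_pow, ← map_one (QuotientGroup.mk' _)] at h
    exact hπinj h

end field2

end Cfsg.Agent.Lib.helper64.GL2Exp
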