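import Mathlib

set_option autoImplicit false

namespace Cfsg.Agent.Lib.helper64.Ito

open Finset

/-- PIECE CN (the number of elements of order `p`). -/
theorem ito_count {G : Type*} [Group G] [Fintype G] {p : ℕ} [Fact p.Prime] (P : Sylow p G)
    (hP : Nat.card P = p) :
    (univ.filter (fun g : G => orderOf g = p)).card *
        Nat.card (Subgroup.normalizer ((P : Subgroup G) : Set G)) =
      (p - 1) * Fintype.card G := by
  classical
  have hpp : p.Prime := Fact.out
  have hQ : ∀ Q : Sylow p G, Nat.card Q = p := fun Q =>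
    ((Sylow.card_eq_multiplicity Q).trans (Sylow.card_eq_multiplicity P).symm).trans hP
  have hord : ∀ (Q : Sylow p G) (g : G), g ∈ (Q : Subgroup G) → g ≠ 1 → orderOf g = p := by
    intro Q g hg hg1
    have h1 : orderOf g ∣ p := by
      rw [← hQ Q]
      have := orderOf_dvd_natCard (⟨g, hg⟩ : (Q : Subgroup G))
      rwa [Subgroup.orderOf_mk] at this
    rcases (Nat.dvd_prime hpp).mp h1 with h | h
    · exact absurd (orderOf_eq_one_iff.mp h) hg1
    · exact h
  have key : ∀ (Q : Sylow p G) (g : G), g ∈ (Q : Subgroup G) → g ≠ 1 →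
      Subgroup.zpowers g = (Q : Subgroup G) := by
    intro Q g hg hg1
    apply Subgroup.eq_of_le_of_card_ge (Subgroup.zpowers_le.mpr hg)
    rw [hQ Q, Nat.card_zpowers, hord Q g hg hg1]
  have hfilter : univ.filter (fun g : G => orderOf g = p) =
      (univ : Finset (Sylow p G)).biUnion
        (fun Q => univ.filter (fun g : G => g ∈ (Q : Subgroup G) ∧ g ≠ 1)) := by
    ext g
    simp only [mem_filter, mem_univ, true_and, mem_biUnion]
    constructor
    · intro hg
      have hx1 : IsPGroup p (Subgroup.zpowers g) :=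
        IsPGroup.of_card (n := 1) (by rw [Nat.card_zpowers, hg, pow_one])
      obtain ⟨Q, hQ'⟩ := hx1.exists_le_sylow
      refine ⟨Q, hQ' (Subgroup.mem_zpowers g), ?_⟩
      rintro rfl
      rw [orderOf_one] at hg
      exact hpp.one_lt.ne hg
    · rintro ⟨Q, hgQ, hg1⟩
      exact hord Q g hgQ hg1
  have hfib : ∀ Q : Sylow p G,
      (univ.filter (fun g : G => g ∈ (Q : Subgroup G) ∧ g ≠ 1)).card = p - 1 := by
    intro Q
    have h1 : univ.filter (fun g : G => g ∈ (Q : Subgroup G) ∧ g ≠ 1)
        = (univ.filter (fun g : G => g ∈ (Q : Subgroup G))).erase 1 := by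
      ext g
      simp [and_comm]
    rw [h1, Finset.card_erase_of_mem (by simp [one_mem]), ← Fintype.card_subtype,
      ← Nat.card_eq_fintype_card]
    have := hQ Q
    exact congrArg (fun n => n - 1) this
  rw [hfilter, Finset.card_biUnion]
  · rw [Finset.sum_congr rfl (fun Q _ => hfib Q), Finset.sum_const, smul_eq_mul, Finset.card_univ]
    have h1 : Nat.card (Sylow p G) = (Subgroup.normalizer ((P : Subgroup G) : Set G)).index :=
      Sylow.card_eq_index_normalizer P
    have h2 := Subgroup.card_mul_index (Subgroup.normalizer ((P : Subgroup G) : Set G))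
    rw [← Nat.card_eq_fintype_card (α := Sylow p G), h1, ← Nat.card_eq_fintype_card (α := G),
      ← h2]
    ring
  · intro Q _ Q' _ hne
    show Disjoint (univ.filter (fun g : G => g ∈ (Q : Subgroup G) ∧ g ≠ 1))
      (univ.filter (fun g : G => g ∈ (Q' : Subgroup G) ∧ g ≠ 1))
    rw [Finset.disjoint_left]
    intro g hg hg'
    simp only [mem_filter, mem_univ, true_and] at hg hg'
    apply hne
    have e1 := key Q g hg.1 hg.2
    have e2 := key Q' g hg'.1 hg'.2
    exact Sylow.ext (e1.symm.trans e2)

end Cfsg.Agent.Lib.helper64.Ito
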