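import Mathlib

set_option autoImplicit false

namespace Cfsg.Agent.Lib.helper64.Ito

open Finset

/-- a subgroup of order `p` generated by an element of order `p` is a Sylow subgroup when
the Sylow subgroups have order `p` -/
theorem helper64_zpowers_eq_sylow {G : Type*} [Group G] [Finite G] {p : ℕ} [Fact p.Prime]
    (P : Sylow p G) (hP : Nat.card P = p) (x : G) (hx : orderOf x = p) :
    ∃ Q : Sylow p G, (Q : Subgroup G) = Subgroup.zpowers x := by
  have hx1 : IsPGroup p (Subgroup.zpowers x) :=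
    IsPGroup.of_card (n := 1) (by rw [Nat.card_zpowers, hx, pow_one])
  obtain ⟨Q, hQ⟩ := hx1.exists_le_sylow
  refine ⟨Q, (Subgroup.eq_of_le_of_card_ge hQ ?_).symm⟩
  have hQP : Nat.card Q = Nat.card P :=
    (Sylow.card_eq_multiplicity Q).trans (Sylow.card_eq_multiplicity P).symm
  rw [Nat.card_zpowers, hx, hQP, hP]

/-- PIECE FP (all elements of order `p` are fixed-point-free if one is and `|P| = p`). -/
theorem ito_fpf {G : Type*} [Group G] [Finite G] {α : Type*} [MulAction G α] {p : ℕ}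
    [Fact p.Prime] (P : Sylow p G) (hP : Nat.card P = p) (g : G) (hg : orderOf g = p)
    (hfpf : ∀ a : α, g • a ≠ a) (x : G) (hx : orderOf x = p) : ∀ a : α, x • a ≠ a := by
  intro a hxa
  obtain ⟨Qx, hQx⟩ := helper64_zpowers_eq_sylow P hP x hx
  obtain ⟨Qg, hQg⟩ := helper64_zpowers_eq_sylow P hP g hg
  obtain ⟨c, hc⟩ := MulAction.exists_smul_eq G Qx Qg
  have hgm : g ∈ ((c • Qx : Sylow p G) : Subgroup G) := by
    rw [hc, hQg]
    exact Subgroup.mem_zpowers g
  rw [Sylow.coe_subgroup_smul, hQx, Subgroup.mem_pointwise_smul_iff_inv_smul_mem] at hgm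
  -- `c⁻¹ g c ∈ zpowers x`
  have hst : Subgroup.zpowers x ≤ MulAction.stabilizer G a := by
    rw [Subgroup.zpowers_le]
    exact hxa
  have h1 := hst hgm
  rw [MulAction.mem_stabilizer_iff] at h1
  apply hfpf (c • a)
  have h2 : (MulAut.conj c)⁻¹ • g = c⁻¹ * g * c := by
    rw [← map_inv, MulAut.smul_def, MulAut.conj_apply, inv_inv]
  rw [h2, mul_smul, mul_smul] at h1
  have := congrArg (fun b => c • b) h1
  simpa [smul_smul] using this

end Cfsg.Agent.Lib.helper64.Ito
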