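import Mathlib

set_option autoImplicit false

namespace Cfsg.Agent.Lib.helper64.Ito

open Finset

/-- PIECE PC (`|P| = p`). -/
theorem ito_card_sylow {G : Type*} [Group G] [Finite G] {p : ℕ} [Fact p.Prime] (hp : 2 < p)
    (P : Sylow p G) (hN : Nat.card (Subgroup.normalizer ((P : Subgroup G) : Set G)) = 2 * p)
    (g : G) (hg : orderOf g = p) : Nat.card P = p := by
  have hpp : p.Prime := Fact.out
  have h1 : p ∣ Nat.card G := hg ▸ orderOf_dvd_natCard g
  have h2 : p ∣ Nat.card P := P.dvd_card_of_dvd_card h1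
  have h3 : Nat.card P ∣ 2 * p := hN ▸ Subgroup.card_dvd_of_le Subgroup.le_normalizer
  obtain ⟨k, hk⟩ := IsPGroup.iff_card.mp P.isPGroup'
  rw [hk] at h2 h3 ⊢
  have hk1 : k ≠ 0 := by
    rintro rfl
    rw [pow_zero] at h2
    exact hpp.one_lt.ne' (Nat.dvd_one.mp h2)
  have hk2 : k < 2 := by
    by_contra hcon
    have h4 : p ^ 2 ∣ 2 * p := (pow_dvd_pow p (by omega : 2 ≤ k)).trans h3
    rw [pow_two, mul_comm 2 p] at h4
    have h5 : p ∣ 2 := Nat.dvd_of_mul_dvd_mul_left hpp.pos h4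
    have := Nat.le_of_dvd (by norm_num) h5
    omega
  have : k = 1 := by omega
  rw [this, pow_one]

end Cfsg.Agent.Lib.helper64.Ito
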