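import Mathlib
import Cfsg.Prelude.Def_LieTypeChar
import Cfsg.Agent.Lib.helper44.LODefs
import Cfsg.Agent.S0245
import Cfsg.Agent.S0246

set_option autoImplicit false

namespace Cfsg.Agent.Lib.helper44.LO

open Cfsg

/-- Prefixed copy of ARITH. -/
theorem h64_lo_good {p : ℕ} (hp : p.Prime) (f : ℕ) (hf : 1 ≤ f) (c n N M e : ℕ)
    (hc : c * n = (p ^ f) ^ N * M) (hcp : ¬ p ∣ c) (hMp : ¬ p ∣ M) (hM : M < c * (p ^ f) ^ e)
    (h1 : e ≤ 2 * N) (h2 : 3 * e ≤ 5 * N) : LOGood p n := by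
  have hc0 : c ≠ 0 := fun h => hcp (h ▸ dvd_zero p)
  have hM0 : M ≠ 0 := fun h => hMp (h ▸ dvd_zero p)
  have hp2 : 2 ≤ p := hp.two_le
  have hp0 : p ≠ 0 := by omega
  have hq0 : (p ^ f) ^ N ≠ 0 := pow_ne_zero _ (pow_ne_zero _ hp0)
  have hn0 : n ≠ 0 := by
    rintro rfl
    rw [mul_zero] at hc
    exact (mul_ne_zero hq0 hM0) hc.symm
  have hk : n.factorization p = f * N := by
    have e1 : (c * n).factorization p = n.factorization p := by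
      rw [Nat.factorization_mul hc0 hn0, Finsupp.add_apply,
        Nat.factorization_eq_zero_of_not_dvd hcp, zero_add]
    have e2 : ((p ^ f) ^ N * M).factorization p = f * N := by
      rw [Nat.factorization_mul hq0 hM0, Finsupp.add_apply,
        Nat.factorization_eq_zero_of_not_dvd hMp, add_zero, ← pow_mul, hp.factorization_pow,
        Finsupp.single_eq_same]
    rw [← e1, hc, e2]
  have hlt : n < (p ^ f) ^ (N + e) := by
    have h4 : c * n < c * (p ^ f) ^ (N + e) := by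
      rw [hc, pow_add]
      calc (p ^ f) ^ N * M < (p ^ f) ^ N * (c * (p ^ f) ^ e) :=
            Nat.mul_lt_mul_of_pos_left hM (Nat.pos_of_ne_zero hq0)
        _ = c * ((p ^ f) ^ N * (p ^ f) ^ e) := by ring
    exact Nat.lt_of_mul_lt_mul_left h4
  refine ⟨?_, ?_⟩
  · rw [hk]
    calc n < (p ^ f) ^ (N + e) := hlt
      _ = p ^ (f * (N + e)) := by rw [← pow_mul]
      _ ≤ p ^ (3 * (f * N)) :=
          Nat.pow_le_pow_right (by omega) (by nlinarith [Nat.mul_le_mul_left f h1])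
  · rw [hk]
    calc n ^ 3 < ((p ^ f) ^ (N + e)) ^ 3 := Nat.pow_lt_pow_left hlt (by norm_num)
      _ = p ^ (f * (N + e) * 3) := by rw [← pow_mul, ← pow_mul, mul_assoc]
      _ ≤ p ^ (8 * (f * N)) :=
          Nat.pow_le_pow_right (by omega) (by nlinarith [Nat.mul_le_mul_left f h2])

/-- `∏_{i<m} (q^(2(i+1)) - 1) ≤ q^(m^2+m)`. -/
theorem h64_prod_le (q : ℕ) (m : ℕ) :
    ∏ i ∈ Finset.range m, (q ^ (2 * (i + 1)) - 1) ≤ q ^ (m ^ 2 + m) := by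
  induction m with
  | zero => simp
  | succ m ih =>
    rw [Finset.prod_range_succ]
    calc (∏ i ∈ Finset.range m, (q ^ (2 * (i + 1)) - 1)) * (q ^ (2 * (m + 1)) - 1)
        ≤ q ^ (m ^ 2 + m) * q ^ (2 * (m + 1)) := Nat.mul_le_mul ih (Nat.sub_le _ _)
      _ = q ^ ((m + 1) ^ 2 + (m + 1)) := by
          rw [← pow_add]
          congr 1
          ring

/-- `∏_{i<m} (q^(2(i+1)) - 1) < q^(m^2+m)` for `m ≥ 1`. -/
theorem h64_prod_lt (q : ℕ) (hq : 1 ≤ q) (m : ℕ) (hm : 1 ≤ m) :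
    ∏ i ∈ Finset.range m, (q ^ (2 * (i + 1)) - 1) < q ^ (m ^ 2 + m) := by
  obtain ⟨k, rfl⟩ : ∃ k, m = k + 1 := ⟨m - 1, by omega⟩
  rw [Finset.prod_range_succ]
  have hpos : 0 < q ^ (2 * (k + 1)) := Nat.pow_pos (by omega)
  have hpos2 : 0 < q ^ (k ^ 2 + k) := Nat.pow_pos (by omega)
  calc (∏ i ∈ Finset.range k, (q ^ (2 * (i + 1)) - 1)) * (q ^ (2 * (k + 1)) - 1)
      ≤ q ^ (k ^ 2 + k) * (q ^ (2 * (k + 1)) - 1) :=
        Nat.mul_le_mul_right _ (h64_prod_le q k)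
    _ < q ^ (k ^ 2 + k) * q ^ (2 * (k + 1)) :=
        Nat.mul_lt_mul_of_pos_left (Nat.sub_lt hpos Nat.one_pos) hpos2
    _ = q ^ ((k + 1) ^ 2 + (k + 1)) := by
        rw [← pow_add]
        congr 1
        ring

/-- `p ∣ q` does not divide `∏_{i<m} (q^(2(i+1)) - 1)`. -/
theorem h64_prod_not_dvd {p : ℕ} (hp : p.Prime) (q : ℕ) (hpq : p ∣ q) (hq : 1 ≤ q) (m : ℕ) :
    ¬ p ∣ ∏ i ∈ Finset.range m, (q ^ (2 * (i + 1)) - 1) := by
  intro h
  obtain ⟨i, _, hi⟩ := (Prime.dvd_finsetProd_iff hp.prime _).mp h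
  have h1 : p ∣ q ^ (2 * (i + 1)) := dvd_pow hpq (by omega)
  have hpos : 0 < q ^ (2 * (i + 1)) := Nat.pow_pos (by omega)
  have h2 : p ∣ 1 := by
    have h3 : q ^ (2 * (i + 1)) = (q ^ (2 * (i + 1)) - 1) + 1 := by omega
    rw [h3] at h1
    exact (Nat.dvd_add_right hi).mp h1
  exact hp.one_lt.ne' (Nat.dvd_one.mp h2)

/-- PSP. -/
theorem h64_lo_psp {F : Type} [Field F] [Fintype F] (p : ℕ) (hp : p.Prime) [CharP F p] (m : ℕ) (hm : 2 ≤ m) :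
    LOGood p (Nat.card (Cfsg.PSp m F)) := by
  obtain ⟨f, -, hcard⟩ := FiniteField.card F p
  have hf : 1 ≤ (f : ℕ) := f.pos
  have hp2 : 2 ≤ p := hp.two_le
  have hpq : p ∣ p ^ (f : ℕ) := dvd_pow_self p (by omega)
  have hq1 : 1 ≤ p ^ (f : ℕ) := Nat.one_le_pow _ _ (by omega)
  have hSp := Cfsg.Agent.S0245.result hcard m
  have hZ := Cfsg.Agent.S0246.result hcard m (by omega)
  have hquot := Subgroup.card_eq_card_quotient_mul_card_subgroup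
    (Subgroup.center (Matrix.symplecticGroup (Fin m) F))
  have hc : Nat.gcd 2 (p ^ (f : ℕ) - 1) * Nat.card (Cfsg.PSp m F) =
      (p ^ (f : ℕ)) ^ (m ^ 2) * ∏ i ∈ Finset.range m, ((p ^ (f : ℕ)) ^ (2 * (i + 1)) - 1) := by
    rw [← hSp, hquot, hZ, mul_comm]
  have hcp : ¬ p ∣ Nat.gcd 2 (p ^ (f : ℕ) - 1) := by
    intro h
    have h1 : p ∣ p ^ (f : ℕ) - 1 := h.trans (Nat.gcd_dvd_right _ _)
    have h2 : p ∣ 1 := by
      have h3 : p ^ (f : ℕ) = (p ^ (f : ℕ) - 1) + 1 := by omega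
      rw [h3] at hpq
      exact (Nat.dvd_add_right h1).mp hpq
    exact hp.one_lt.ne' (Nat.dvd_one.mp h2)
  have hcpos : 1 ≤ Nat.gcd 2 (p ^ (f : ℕ) - 1) := Nat.gcd_pos_of_pos_left _ (by norm_num)
  refine h64_lo_good hp f hf _ _ (m ^ 2) _ (m ^ 2 + m) hc hcp
    (h64_prod_not_dvd hp _ hpq hq1 m) ?_ (by nlinarith) (by nlinarith)
  calc ∏ i ∈ Finset.range m, ((p ^ (f : ℕ)) ^ (2 * (i + 1)) - 1)
      < (p ^ (f : ℕ)) ^ (m ^ 2 + m) := h64_prod_lt _ hq1 m (by omega)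
    _ ≤ Nat.gcd 2 (p ^ (f : ℕ) - 1) * (p ^ (f : ℕ)) ^ (m ^ 2 + m) :=
        Nat.le_mul_of_pos_left _ hcpos

end Cfsg.Agent.Lib.helper44.LO
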