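import Mathlib
import Cfsg.Prelude.Def_LieTypeChar
import Cfsg.Agent.Lib.helper44.LODefs
import Cfsg.Agent.Lib.helper64.LOPSP

set_option autoImplicit false

namespace Cfsg.Agent.Lib.helper44.LO

open Cfsg

/-- `p ∣ q` does not divide `q ^ k - 1`, `k ≥ 1`. -/
theorem h64_not_dvd_pow_sub_one {p : ℕ} (hp : p.Prime) (q : ℕ) (hpq : p ∣ q) (hq : 1 ≤ q)
    (k : ℕ) (hk : 1 ≤ k) : ¬ p ∣ q ^ k - 1 := by
  intro h
  have h1 : p ∣ q ^ k := dvd_pow hpq (by omega)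
  have hpos : 0 < q ^ k := Nat.pow_pos (by omega)
  have h2 : p ∣ 1 := by
    have h3 : q ^ k = (q ^ k - 1) + 1 := by omega
    rw [h3] at h1
    exact (Nat.dvd_add_right h).mp h1
  exact hp.one_lt.ne' (Nat.dvd_one.mp h2)

/-- `p ∣ q` does not divide `q ^ k + 1`, `k ≥ 1`. -/
theorem h64_not_dvd_pow_add_one {p : ℕ} (hp : p.Prime) (q : ℕ) (hpq : p ∣ q)
    (k : ℕ) (hk : 1 ≤ k) : ¬ p ∣ q ^ k + 1 := by
  intro h
  have h1 : p ∣ q ^ k := dvd_pow hpq (by omega)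
  have h2 : p ∣ 1 := (Nat.dvd_add_right h1).mp h
  exact hp.one_lt.ne' (Nat.dvd_one.mp h2)

/-- Core of G2: the statement for a number given by the order formula of `G_2(q)`. -/
theorem h64_lo_g2_core {p : ℕ} (hp : p.Prime) (f : ℕ) (hf : 1 ≤ f) (n : ℕ)
    (hn : n = (p ^ f) ^ 6 * ((p ^ f) ^ 2 - 1) * ((p ^ f) ^ 6 - 1)) : LOGood p n := by
  have hp2 : 2 ≤ p := hp.two_le
  have hpq : p ∣ p ^ f := dvd_pow_self p (by omega)
  have hq1 : 1 ≤ p ^ f := Nat.one_le_pow _ _ (by omega)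
  have hpos2 : 0 < (p ^ f) ^ 2 := Nat.pow_pos (by omega)
  have hpos6 : 0 < (p ^ f) ^ 6 := Nat.pow_pos (by omega)
  refine h64_lo_good hp f hf 1 n 6 (((p ^ f) ^ 2 - 1) * ((p ^ f) ^ 6 - 1)) 8
    (by rw [one_mul, hn, mul_assoc]) (by rw [Nat.dvd_one]; omega) ?_ ?_ (by norm_num) (by norm_num)
  · intro h
    rcases (Nat.Prime.dvd_mul hp).mp h with h1 | h1
    · exact h64_not_dvd_pow_sub_one hp _ hpq hq1 2 (by norm_num) h1
    · exact h64_not_dvd_pow_sub_one hp _ hpq hq1 6 (by norm_num) h1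
  · rw [one_mul, show (8 : ℕ) = 2 + 6 by norm_num, pow_add]
    exact Nat.mul_lt_mul'' (Nat.sub_lt hpos2 Nat.one_pos) (Nat.sub_lt hpos6 Nat.one_pos)

end Cfsg.Agent.Lib.helper44.LO
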