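import Mathlib
import Cfsg.Agent.Lib.helper7.QuadCount
import Cfsg.Prelude.Def_Classical

set_option autoImplicit false
set_option linter.unusedSectionVars false

/-!
# Counting tools for the spinor sign of a torus element (helper64)

* `card_triples`: points of `g(α, β) + α γ b = 1`.
* `sign_of_full_cycles`: sign of a permutation all of whose non-trivial cycles have even length `E`.
* `odd_cycles`: the arithmetic of the cycle count.
* `card_level_one`: the number of vectors of norm `1` for `quadFormOdd`.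
-/

namespace Cfsg.Agent.Lib.helper64.OmB

open Cfsg

theorem card_triples {F : Type*} [Field F] [Fintype F] (g : F → F → F) (b : F) (hb : b ≠ 0) :
    Nat.card {c : F × F × F // g c.1 c.2.1 + c.1 * c.2.2 * b = 1} =
      (Fintype.card F - 1) * Fintype.card F +
        Fintype.card F * Nat.card {β : F // g 0 β = 1} := by
  classical
  let ψ : ({α : F // α ≠ 0} × F) ⊕ ({β : F // g 0 β = 1} × F) →
      {c : F × F × F // g c.1 c.2.1 + c.1 * c.2.2 * b = 1} :=
    Sum.elim
      (fun s => ⟨(s.1.1, s.2, (1 - g s.1.1 s.2) / (s.1.1 * b)), by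
        have h1 : s.1.1 ≠ 0 := s.1.2
        show g s.1.1 s.2 + s.1.1 * ((1 - g s.1.1 s.2) / (s.1.1 * b)) * b = 1
        field_simp
        ring⟩)
      (fun s => ⟨(0, s.1.1, s.2), by
        show g 0 s.1.1 + 0 * s.2 * b = 1
        rw [zero_mul, zero_mul, add_zero]
        exact s.1.2⟩)
  have hψ : Function.Bijective ψ := by
    constructor
    · rintro (⟨⟨α, hα⟩, β⟩ | ⟨⟨β, hβ⟩, γ⟩) (⟨⟨α', hα'⟩, β'⟩ | ⟨⟨β', hβ'⟩, γ'⟩) h
      · have h1 := congrArg Subtype.val h
        simp only [ψ, Sum.elim_inl, Prod.mk.injEq] at h1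
        obtain ⟨h2, h3, -⟩ := h1
        subst h2
        subst h3
        rfl
      · have h1 := congrArg Subtype.val h
        simp only [ψ, Sum.elim_inl, Sum.elim_inr, Prod.mk.injEq] at h1
        exact absurd h1.1 hα
      · have h1 := congrArg Subtype.val h
        simp only [ψ, Sum.elim_inl, Sum.elim_inr, Prod.mk.injEq] at h1
        exact absurd h1.1.symm hα'
      · have h1 := congrArg Subtype.val h
        simp only [ψ, Sum.elim_inr, Prod.mk.injEq] at h1
        obtain ⟨-, h3, h4⟩ := h1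
        subst h3
        subst h4
        rfl
    · rintro ⟨⟨α, β, γ⟩, hc⟩
      by_cases hα : α = 0
      · subst hα
        refine ⟨Sum.inr (⟨β, ?_⟩, γ), rfl⟩
        have h1 : g 0 β + 0 * γ * b = 1 := hc
        rw [zero_mul, zero_mul, add_zero] at h1
        exact h1
      · refine ⟨Sum.inl (⟨α, hα⟩, β), ?_⟩
        apply Subtype.ext
        simp only [ψ, Sum.elim_inl, Prod.mk.injEq, true_and]
        have h1 : g α β + α * γ * b = 1 := hc
        field_simp
        linear_combination -h1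
  rw [← Nat.card_congr (Equiv.ofBijective ψ hψ), Nat.card_sum, Nat.card_prod, Nat.card_prod,
    Nat.card_eq_fintype_card (α := F)]
  congr 1
  · congr 1
    rw [Nat.card_eq_fintype_card, Fintype.card_subtype_compl, Fintype.card_subtype_eq]
  · rw [mul_comm]

theorem sign_of_full_cycles {L : Type*} [Fintype L] [DecidableEq L] (π : Equiv.Perm L) (E : ℕ)
    (hE0 : 0 < E) (hEe : Even E) (hπE : π ^ E = 1)
    (hfix : ∀ x : L, ∀ j : ℕ, 0 < j → j < E → (π ^ j) x = x → π x = x) :
    Equiv.Perm.sign π =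
        (-1) ^ ((Fintype.card L - Fintype.card (Function.fixedPoints π)) / E) ∧
      E ∣ Fintype.card L - Fintype.card (Function.fixedPoints π) := by
  have hct : π.cycleType = Multiset.replicate (Multiset.card π.cycleType) E := by
    rw [Multiset.eq_replicate_card]
    intro n hn
    have hnE : n ∣ E :=
      (Equiv.Perm.dvd_of_mem_cycleType hn).trans (orderOf_dvd_of_pow_eq_one hπE)
    obtain ⟨c, τ, hσ, hd, hc, hcn⟩ := Equiv.Perm.mem_cycleType_iff.1 hn
    have hn2 : 2 ≤ n := by rw [← hcn]; exact hc.two_le_card_support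
    by_contra hne
    have hlt : n < E := lt_of_le_of_ne (Nat.le_of_dvd hE0 hnE) hne
    obtain ⟨x, hx, -⟩ := id hc
    have hτx : τ x = x := by
      rcases hd x with h | h
      · exact absurd h hx
      · exact h
    have hcn' : c ^ n = 1 := by
      rw [← hcn, ← hc.orderOf]
      exact pow_orderOf_eq_one c
    have h1 : (π ^ n) x = x := by
      rw [hσ, hd.commute.mul_pow, Equiv.Perm.mul_apply,
        Equiv.Perm.pow_apply_eq_self_of_apply_eq_self hτx, hcn', Equiv.Perm.one_apply]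
    have h2 := hfix x n (by omega) hlt h1
    rw [hσ, Equiv.Perm.mul_apply, hτx] at h2
    exact hx h2
  have hsum : Fintype.card L - Fintype.card (Function.fixedPoints π) =
      Multiset.card π.cycleType * E := by
    rw [Equiv.Perm.card_fixedPoints, Nat.sub_sub_self π.sum_cycleType_le]
    conv_lhs => rw [hct]
    rw [Multiset.sum_replicate, smul_eq_mul]
  refine ⟨?_, ?_⟩
  · rw [Equiv.Perm.sign_of_cycleType_eq_replicate hE0 hct, if_neg (Nat.not_odd_iff_even.2 hEe)]
  · rw [hsum]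
    exact dvd_mul_left _ _

/-- arithmetic of the number of `E`-cycles -/
theorem odd_cycles (q k t : ℕ) (hq : Odd q) (hk : 1 ≤ k) (ht : t ≤ q)
    (hdvd : q ^ k + 1 ∣ (q ^ (2 * k + 2) + q ^ (k + 1)) - ((q - 1) * q + q * t)) :
    Odd (((q ^ (2 * k + 2) + q ^ (k + 1)) - ((q - 1) * q + q * t)) / (q ^ k + 1)) := by
  obtain ⟨u, hu⟩ : ∃ u, q = u + 1 := ⟨q - 1, by have := hq.pos; omega⟩
  obtain ⟨s, hs⟩ : ∃ s, q ^ k = s + 1 :=
    ⟨q ^ k - 1, by have := Nat.one_le_pow k q (by omega); omega⟩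
  have hM : q ^ (2 * k + 2) + q ^ (k + 1) = (s + 2) * (q ^ 2 * s + q) + u * q := by
    have h1 : q ^ (2 * k + 2) = q ^ 2 * (q ^ k) ^ 2 := by ring
    have h2 : q ^ (k + 1) = q * q ^ k := by ring
    rw [h1, h2, hs, hu]
    ring
  have hE : q ^ k + 1 = s + 2 := by rw [hs]
  have hu' : q - 1 = u := by omega
  rw [hE, hM, hu'] at hdvd ⊢
  have h3 : (s + 2) * (q ^ 2 * s + q) + u * q - (u * q + q * t) =
      (s + 2) * (q ^ 2 * s + q) - q * t := by omega
  rw [h3] at hdvd ⊢
  have hqt : q * t ≤ (s + 2) * (q ^ 2 * s + q) := by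
    have h4 : q * t ≤ q * q := Nat.mul_le_mul_left q ht
    have h5 : q ≤ s + 1 := by rw [← hs]; exact Nat.le_self_pow (by omega) q
    have h6 : q * q ≤ (s + 2) * q := Nat.mul_le_mul_right q (by omega)
    have h7 : (s + 2) * q ≤ (s + 2) * (q ^ 2 * s + q) :=
      Nat.mul_le_mul_left (s + 2) (Nat.le_add_left _ _)
    omega
  have h4 : s + 2 ∣ q * t := by
    have h5 : s + 2 ∣ (s + 2) * (q ^ 2 * s + q) := dvd_mul_right _ _
    have h6 := Nat.dvd_sub h5 hdvd
    rwa [Nat.sub_sub_self hqt] at h6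
  have hcop : Nat.Coprime (s + 2) q := by
    have h6 : Nat.gcd (s + 2) q ∣ 1 := by
      have ha : Nat.gcd (s + 2) q ∣ q ^ k :=
        (Nat.gcd_dvd_right _ _).trans (dvd_pow_self q (by omega))
      have hb : Nat.gcd (s + 2) q ∣ q ^ k + 1 := by rw [hE]; exact Nat.gcd_dvd_left _ _
      exact (Nat.dvd_add_right ha).1 hb
    exact Nat.dvd_one.1 h6
  have h5 : s + 2 ∣ t := hcop.dvd_of_dvd_mul_left h4
  have ht0 : t = 0 := by
    by_contra h
    have h6 := Nat.le_of_dvd (Nat.pos_of_ne_zero h) h5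
    have h7 : q ≤ s + 1 := by rw [← hs]; exact Nat.le_self_pow (by omega) q
    omega
  subst ht0
  rw [mul_zero, Nat.sub_zero, Nat.mul_div_cancel_left _ (by omega : 0 < s + 2)]
  have hs_even : Even s := by
    have h6 : Odd (q ^ k) := hq.pow
    rw [hs] at h6
    rcases Nat.even_or_odd s with h | h
    · exact h
    · exact absurd h6 (Nat.not_odd_iff_even.2 (Odd.add_one h))
  exact Even.add_odd (hs_even.mul_left _) hq

/-- the number of vectors of norm `1` for the form `x₀² + Σ xᵢ yᵢ` -/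
theorem card_level_one {F : Type*} [Field F] [Fintype F] (h2 : (2 : F) ≠ 0) (n : ℕ) (hn : 1 ≤ n) :
    Nat.card {v : Unit ⊕ (Fin n ⊕ Fin n) → F // Cfsg.quadFormOdd n F v = 1} =
      Fintype.card F ^ (2 * n) + Fintype.card F ^ n := by
  classical
  obtain ⟨q, hq⟩ : ∃ q : ℕ, q = Fintype.card F := ⟨_, rfl⟩
  rw [← hq]
  let e1 : (Unit ⊕ (Fin n ⊕ Fin n) → F) ≃ F × ((Fin n → F) × (Fin n → F)) :=
    (Equiv.sumArrowEquivProdArrow Unit (Fin n ⊕ Fin n) F).trans
      ((Equiv.funUnique Unit F).prodCongr (Equiv.sumArrowEquivProdArrow (Fin n) (Fin n) F))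
  have e : {v : Unit ⊕ (Fin n ⊕ Fin n) → F // Cfsg.quadFormOdd n F v = 1}
      ≃ {p : F × ((Fin n → F) × (Fin n → F)) // p.2.1 ⬝ᵥ p.2.2 = 1 - p.1 ^ 2} :=
    Equiv.subtypeEquiv e1 (fun v => by
      simp only [Cfsg.quadFormOdd, dotProduct, e1, Equiv.sumArrowEquivProdArrow, Equiv.trans_apply,
        Equiv.coe_fn_mk, Equiv.prodCongr_apply, Prod.map_fst, Prod.map_snd, Equiv.funUnique_apply,
        Function.comp_apply]
      constructor <;> intro h <;> linear_combination h)
  rw [Nat.card_congr e, Nat.card_congr (Equiv.subtypeProdEquivSigmaSubtype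
    (fun (t : F) (p : (Fin n → F) × (Fin n → F)) => p.1 ⬝ᵥ p.2 = 1 - t ^ 2)), Nat.card_sigma]
  simp_rw [Cfsg.Agent.Lib.helper7.card_hyperbolic_eq]
  rw [Finset.sum_add_distrib, Finset.sum_const, Finset.card_univ, ← hq, Fintype.card_fin,
    smul_eq_mul]
  have h0 : ∀ t : F, (1 - t ^ 2 = 0) ↔ (t = 1 ∨ t = -1) := by
    intro t
    constructor
    · intro h
      have h3 : (t - 1) * (t + 1) = 0 := by linear_combination -h
      rcases mul_eq_zero.1 h3 with h | h
      · left; exact sub_eq_zero.1 h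
      · right; exact eq_neg_of_add_eq_zero_left h
    · rintro (rfl | rfl) <;> ring
  have h1 : (∑ t : F, if 1 - t ^ 2 = 0 then q ^ n else 0) = 2 * q ^ n := by
    rw [← Finset.sum_filter, Finset.sum_const, smul_eq_mul]
    congr 1
    have h3 : Finset.filter (fun t : F => 1 - t ^ 2 = 0) Finset.univ = {1, -1} := by
      ext t
      simp [h0]
    rw [h3, Finset.card_pair]
    intro h
    apply h2
    linear_combination h
  rw [h1]
  obtain ⟨m, rfl⟩ : ∃ m, n = m + 1 := ⟨n - 1, by omega⟩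
  obtain ⟨w, hw⟩ : ∃ w, q ^ (m + 1) = w + 1 :=
    ⟨q ^ (m + 1) - 1, by
      have : 1 ≤ q ^ (m + 1) := Nat.one_le_pow _ _ (by rw [hq]; exact Fintype.card_pos)
      omega⟩
  have h4 : q ^ (2 * (m + 1)) = q ^ (m + 1) * q ^ (m + 1) := by ring
  have h5 : q * ((q ^ (m + 1) - 1) * q ^ (m + 1 - 1)) = (q ^ (m + 1) - 1) * q ^ (m + 1) := by
    rw [Nat.add_sub_cancel, pow_succ q m]
    ring
  rw [h4, h5, hw, Nat.add_sub_cancel]
  ring

end Cfsg.Agent.Lib.helper64.OmB
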