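import Mathlib
import Cfsg.Agent.Lib.helper64.OmA
import Cfsg.Agent.Lib.helper64.OmB

set_option autoImplicit false
set_option linter.unusedSectionVars false

/-!
# Structure of an isometry of order `p (q^k + 1)` in dimension `2k + 3` (helper64)

`structure_thm`: for an isometry `T` of determinant `1` and order `p (q^k + 1)` of a
non-degenerate quadratic space of dimension `2k + 3` over `F_q` (`q` odd), whose `p`-th power has
an irreducible factor of degree `2k` in its minimal polynomial: `T ^ p` fixes a `3`-dimensional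
subspace `W'` pointwise, acts semiregularly (orbits of length `q^k + 1`) outside it, and `W'`
contains `q² - q + q t` vectors of norm `1`.
-/

namespace Cfsg.Agent.Lib.helper64.OmC

open Polynomial Module Cfsg.Agent.Lib.helper64.OmA Cfsg.Agent.Lib.helper64.OmB
  Cfsg.Agent.Lib.helper64.IsoPow

variable {F : Type*} [Field F] [Fintype F] {V : Type*} [AddCommGroup V] [Module F V]
  [FiniteDimensional F V]

theorem decomp (p : ℕ) [Fact p.Prime] [CharP F p] (T : Module.End F V) (k : ℕ) (hk : 2 ≤ k)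
    (hdim : finrank F V = 2 * k + 3) (E : ℕ) (hE : E = Fintype.card F ^ k + 1)
    (hord : orderOf T = p * E)
    (f : F[X]) (hf : Irreducible f) (hfμ : f ∣ minpoly F (T ^ p)) (hfE : f ∣ X ^ E - 1)
    (hfd : f.natDegree = 2 * k) :
    ∃ W' : Submodule F V, IsCompl (LinearMap.ker (aeval (T ^ p) f)) W' ∧
      (∀ x ∈ LinearMap.ker (aeval (T ^ p) f), T x ∈ LinearMap.ker (aeval (T ^ p) f)) ∧
      (∀ x ∈ W', T x ∈ W') ∧ finrank F W' = 3 ∧
      (∀ x ∈ LinearMap.ker (aeval (T ^ p) f), (T ^ E) x = x) ∧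
      (∀ hW : ∀ x ∈ LinearMap.ker (aeval (T ^ p) f),
          (T ^ p) x ∈ LinearMap.ker (aeval (T ^ p) f),
        LinearMap.det ((T ^ p).restrict hW) = 1) := by
  classical
  have : Fact (Irreducible f) := ⟨hf⟩
  obtain ⟨q, hq⟩ : ∃ q : ℕ, q = Fintype.card F := ⟨_, rfl⟩
  rw [← hq] at hE
  have hp : p.Prime := Fact.out
  have hq1 : 1 ≤ q := by rw [hq]; exact Fintype.card_pos
  have hE0 : 0 < E := by rw [hE]; omega
  obtain ⟨h, hh⟩ : ∃ h : Module.End F V, h = T ^ p := ⟨_, rfl⟩
  rw [← hh] at hfμ ⊢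
  have hTpE : T ^ (p * E) = 1 := by rw [← hord]; exact pow_orderOf_eq_one T
  have hhE : h ^ E = 1 := by rw [hh, ← pow_mul]; exact hTpE
  have hEF : (E : F) ≠ 0 := by
    rw [hE, Nat.cast_add, Nat.cast_pow, hq, FiniteField.cast_card_eq_zero,
      zero_pow (by omega), zero_add, Nat.cast_one]
    exact one_ne_zero
  obtain ⟨μ, hμ⟩ : ∃ μ : F[X], μ = minpoly F h := ⟨_, rfl⟩
  rw [← hμ] at hfμ
  have hμE : μ ∣ X ^ E - 1 := by rw [hμ]; exact minpoly.dvd F h (by simp [hhE])
  have hsq : Squarefree μ := by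
    have hsep : (X ^ E - 1 : F[X]).Separable := by
      have := separable_X_pow_sub_C (1 : F) hEF one_ne_zero
      simpa using this
    exact (hsep.squarefree).squarefree_of_dvd hμE
  obtain ⟨m, hm⟩ := hfμ
  have hcop : IsCoprime f m := by
    apply (hf.coprime_iff_not_dvd).2
    intro hfm
    obtain ⟨c, hc⟩ := hfm
    have h1 : f * f ∣ μ := ⟨c, by rw [hm, hc]; ring⟩
    exact hf.not_isUnit (hsq f h1)
  obtain ⟨W, hW⟩ : ∃ W : Submodule F V, W = LinearMap.ker (aeval h f) := ⟨_, rfl⟩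
  obtain ⟨W', hW'⟩ : ∃ W' : Submodule F V, W' = LinearMap.ker (aeval h m) := ⟨_, rfl⟩
  rw [← hW]
  have hdisj : Disjoint W W' := by
    rw [hW, hW']; exact disjoint_ker_aeval_of_isCoprime h hcop
  have hsup : W ⊔ W' = ⊤ := by
    rw [hW, hW', sup_ker_aeval_eq_ker_aeval_mul_of_coprime h hcop, ← hm, hμ, minpoly.aeval,
      LinearMap.ker_zero]
  have hcompl : IsCompl W W' := ⟨hdisj, codisjoint_iff.2 hsup⟩
  have hPh : ∀ P : F[X], aeval h P = aeval T (P.comp (X ^ p)) := by
    intro P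
    rw [aeval_comp, map_pow, aeval_X, hh]
  have hcomm : ∀ (P R : F[X]) (x : V), aeval T P (aeval T R x) = aeval T R (aeval T P x) := by
    intro P R x
    rw [← Module.End.mul_apply, ← Module.End.mul_apply, ← map_mul, ← map_mul, mul_comm]
  have hWinv : ∀ (R : F[X]) (x : V), x ∈ W → aeval T R x ∈ W := by
    intro R x hx
    rw [hW, LinearMap.mem_ker, hPh] at hx ⊢
    rw [hcomm, hx, map_zero]
  have hW'inv : ∀ (R : F[X]) (x : V), x ∈ W' → aeval T R x ∈ W' := by
    intro R x hx
    rw [hW', LinearMap.mem_ker, hPh] at hx ⊢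
    rw [hcomm, hx, map_zero]
  have hTW : ∀ x ∈ W, T x ∈ W := fun x hx => by
    have := hWinv X x hx
    rwa [aeval_X] at this
  have hTW' : ∀ x ∈ W', T x ∈ W' := fun x hx => by
    have := hW'inv X x hx
    rwa [aeval_X] at this
  have hpowW : ∀ (j : ℕ) (x : V), x ∈ W → (T ^ j) x ∈ W := fun j x hx => by
    have := hWinv (X ^ j) x hx
    rwa [map_pow, aeval_X] at this
  have hhW : ∀ x ∈ W, h x ∈ W := fun x hx => by rw [hh]; exact hpowW p x hx
  have hkerW : ∀ x ∈ W, (aeval h f) x = 0 := fun x hx => by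
    rw [hW] at hx
    exact LinearMap.mem_ker.1 hx
  obtain ⟨hd1, hd2⟩ := dvd_finrank_and_det h f W hhW hkerW
  have hμ0 : μ ≠ 0 := by rw [hμ]; exact minpoly.ne_zero (Algebra.IsIntegral.isIntegral h)
  have hm0 : m ≠ 0 := by
    rintro rfl
    rw [mul_zero] at hm
    exact hμ0 hm
  have hWne : W ≠ ⊥ := by
    intro hbot
    have htop : W' = ⊤ := by
      rw [hbot, bot_sup_eq] at hsup
      exact hsup
    have h0 : aeval h m = 0 := by
      apply LinearMap.ext
      intro x
      have hx : x ∈ W' := by rw [htop]; exact Submodule.mem_top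
      rw [hW'] at hx
      rw [LinearMap.mem_ker.1 hx, LinearMap.zero_apply]
    have h1 : μ ∣ m := by rw [hμ]; exact minpoly.dvd F h h0
    have h2 := natDegree_le_of_dvd h1 hm0
    rw [hm, natDegree_mul hf.ne_zero hm0, hfd] at h2
    omega
  have hWpos : 0 < finrank F W := by
    rw [Nat.pos_iff_ne_zero, Ne, Submodule.finrank_eq_zero]
    exact hWne
  have hWle : finrank F W ≤ 2 * k + 3 := by rw [← hdim]; exact Submodule.finrank_le W
  have hWfin : finrank F W = 2 * k := by
    rw [hfd] at hd1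
    obtain ⟨c, hc⟩ := hd1
    have hc1 : c = 1 := by
      rcases c with _ | _ | c
      · omega
      · rfl
      · exfalso
        have : 2 * k * 2 ≤ 2 * k * (c + 1 + 1) := Nat.mul_le_mul_left _ (by omega)
        omega
    rw [hc, hc1, mul_one]
  have hW'fin : finrank F W' = 3 := by
    have := Submodule.finrank_add_eq_of_isCompl hcompl
    omega
  have hdetW : LinearMap.det (h.restrict hhW) = 1 := by
    apply hd2 E hfE
    rw [hWfin, two_mul, Dn_add, ← hq]
    refine ⟨Dn q k, ?_⟩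
    rw [hE]
    ring
  have hNp : (aeval T (X ^ E - 1 : F[X])) ^ p = 0 := by
    rw [← map_pow, sub_pow_char, ← pow_mul, one_pow, map_sub, map_pow, aeval_X, map_one,
      mul_comm E p, hTpE, sub_self]
  obtain ⟨Nn, hNn⟩ : ∃ Nn : Module.End F V, Nn = aeval T (X ^ E - 1 : F[X]) := ⟨_, rfl⟩
  rw [← hNn] at hNp
  have hNapp : ∀ x, Nn x = (T ^ E) x - x := by
    intro x
    rw [hNn, map_sub, map_pow, aeval_X, map_one, LinearMap.sub_apply, Module.End.one_apply]
  have hhx : ∀ x, h x = aeval T (X ^ p : F[X]) x := by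
    intro x
    rw [map_pow, aeval_X, hh]
  have hNW : ∀ x ∈ W, Nn x = 0 := by
    obtain ⟨U, hU⟩ : ∃ U : Submodule F V, U = W ⊓ LinearMap.ker Nn := ⟨_, rfl⟩
    have hUle : U ≤ W := by rw [hU]; exact inf_le_left
    have hhU : ∀ x ∈ U, h x ∈ U := by
      intro x hx
      rw [hU] at hx ⊢
      refine ⟨hhW x hx.1, ?_⟩
      have h1 := LinearMap.mem_ker.1 hx.2
      show h x ∈ LinearMap.ker Nn
      rw [LinearMap.mem_ker, hhx, hNn, hcomm, ← hNn, h1, map_zero]
    obtain ⟨hdU, -⟩ := dvd_finrank_and_det h f U hhU (fun x hx => hkerW x (hUle hx))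
    have hUne : U ≠ ⊥ := by
      obtain ⟨x₀, hx₀W, hx₀⟩ := Submodule.exists_mem_ne_zero_of_ne_bot hWne
      have hex : ∃ c : ℕ, (Nn ^ c) x₀ = 0 := ⟨p, by rw [hNp, LinearMap.zero_apply]⟩
      obtain ⟨c₀, hc₀spec, hc₀min⟩ : ∃ c₀ : ℕ, (Nn ^ c₀) x₀ = 0 ∧ ∀ m < c₀, (Nn ^ m) x₀ ≠ 0 :=
        ⟨Nat.find hex, Nat.find_spec hex, fun m hm => Nat.find_min hex hm⟩
      have hc₀pos : c₀ ≠ 0 := by
        intro h0
        rw [h0, pow_zero, Module.End.one_apply] at hc₀spec
        exact hx₀ hc₀spec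
      have hmin : (Nn ^ (c₀ - 1)) x₀ ≠ 0 := hc₀min _ (by omega)
      intro hbot
      have hmem : (Nn ^ (c₀ - 1)) x₀ ∈ U := by
        rw [hU]
        refine ⟨?_, ?_⟩
        · show (Nn ^ (c₀ - 1)) x₀ ∈ W
          rw [hNn, ← map_pow]
          exact hWinv _ x₀ hx₀W
        · show (Nn ^ (c₀ - 1)) x₀ ∈ LinearMap.ker Nn
          rw [LinearMap.mem_ker, ← Module.End.mul_apply, ← pow_succ',
            Nat.sub_add_cancel (by omega)]
          exact hc₀spec
      rw [hbot, Submodule.mem_bot] at hmem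
      exact hmin hmem
    have hUpos : 0 < finrank F U := by
      rw [Nat.pos_iff_ne_zero, Ne, Submodule.finrank_eq_zero]
      exact hUne
    have hUfin : finrank F W ≤ finrank F U := by
      rw [hWfin]
      rw [hfd] at hdU
      exact Nat.le_of_dvd hUpos hdU
    have hUW : U = W := Submodule.eq_of_le_of_finrank_le hUle hUfin
    intro x hx
    rw [← hUW, hU] at hx
    exact LinearMap.mem_ker.1 hx.2
  refine ⟨W', hcompl, hTW, hTW', hW'fin, ?_, ?_⟩
  · intro x hx
    have := hNW x hx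
    rw [hNapp, sub_eq_zero] at this
    exact this
  · intro hW2
    exact hdetW

theorem unip_structure (p : ℕ) [Fact p.Prime] [CharP F p] (hp2 : p ≠ 2)
    (Q : QuadraticForm F V) (hnd : ∀ x, (∀ y, QuadraticMap.polar Q x y = 0) → x = 0)
    (T : Module.End F V) (hT : ∀ x, Q (T x) = Q x) (E : ℕ)
    (hTpE : T ^ (p * E) = 1) (hTE : T ^ E ≠ 1)
    (W W' : Submodule F V) (hcompl : IsCompl W W') (hTW' : ∀ x ∈ W', T x ∈ W')
    (hW'fin : finrank F W' = 3) (hNW : ∀ x ∈ W, (T ^ E) x = x) :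
    ∃ (y ny z : V) (a : F), y ∈ W' ∧ ny ∈ W' ∧ z ∈ W' ∧ LinearIndependent F ![y, ny, z] ∧
      (∀ x ∈ W', ∃ c₁ c₂ c₃ : F, x = c₁ • y + c₂ • ny + c₃ • z) ∧
      (∀ x ∈ W', (T ^ p) x = a • x) ∧ a ^ 2 = 1 ∧ QuadraticMap.polar Q y z ≠ 0 ∧ Q z = 0 ∧
      QuadraticMap.polar Q ny z = 0 := by
  classical
  have hp : p.Prime := Fact.out
  have hp3 : 3 ≤ p := by
    have := hp.two_le
    omega
  have h2 : (2 : F) ≠ 0 := by
    intro h
    have h1 : ((2 : ℕ) : F) = 0 := by exact_mod_cast h
    rw [CharP.cast_eq_zero_iff F p] at h1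
    exact hp2 ((Nat.prime_dvd_prime_iff_eq hp Nat.prime_two).1 h1)
  obtain ⟨v, hv⟩ : ∃ v : Module.End F V, v = T ^ E := ⟨_, rfl⟩
  have hviso : ∀ x, Q (v x) = Q x := fun x => by rw [hv]; exact iso_pow Q T hT E x
  obtain ⟨Nn, hNn⟩ : ∃ Nn : Module.End F V, Nn = v - 1 := ⟨_, rfl⟩
  have hNapp : ∀ x, Nn x = v x - x := fun x => by
    rw [hNn, LinearMap.sub_apply, Module.End.one_apply]
  have hTN : ∀ x, T (Nn x) = Nn (T x) := by
    intro x
    rw [hNapp, hNapp, map_sub, hv, ← Module.End.mul_apply, ← Module.End.mul_apply, ← pow_succ',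
      ← pow_succ]
  have hNp : Nn ^ p = 0 := by
    have h1 : Nn = aeval T (X ^ E - 1 : F[X]) := by
      rw [hNn, hv, map_sub, map_pow, aeval_X, map_one]
    rw [h1, ← map_pow, sub_pow_char, ← pow_mul, one_pow, map_sub, map_pow, aeval_X, map_one,
      mul_comm E p, hTpE, sub_self]
  have hpowW' : ∀ (j : ℕ) (x : V), x ∈ W' → (T ^ j) x ∈ W' := by
    intro j
    induction j with
    | zero =>
      intro x hx
      rwa [pow_zero, Module.End.one_apply]
    | succ j ih =>
      intro x hx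
      rw [pow_succ', Module.End.mul_apply]
      exact hTW' _ (ih x hx)
  have hNW' : ∀ x ∈ W', Nn x ∈ W' := fun x hx => by
    rw [hNapp, hv]
    exact W'.sub_mem (hpowW' E x hx) hx
  have hNW0 : ∀ x ∈ W, Nn x = 0 := fun x hx => by rw [hNapp, hv, hNW x hx, sub_self]
  have hdec : ∀ x : V, ∃ w ∈ W, ∃ w' ∈ W', w + w' = x := by
    intro x
    have : x ∈ W ⊔ W' := by
      rw [hcompl.sup_eq_top]
      exact Submodule.mem_top
    exact Submodule.mem_sup.1 this
  have hNrange : ∀ x, Nn x ∈ W' := by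
    intro x
    obtain ⟨w, hw, w', hw', rfl⟩ := hdec x
    rw [map_add, hNW0 w hw, zero_add]
    exact hNW' w' hw'
  have hNN : ∃ y₀, Nn (Nn y₀) ≠ 0 := by
    by_contra hcon
    push Not at hcon
    have hNne : ∃ y, Nn y ≠ 0 := by
      by_contra h0
      push Not at h0
      apply hTE
      apply LinearMap.ext
      intro x
      have := h0 x
      rw [hNapp, sub_eq_zero, hv] at this
      rw [Module.End.one_apply]
      exact this
    obtain ⟨y, hy⟩ := hNne
    obtain ⟨x, hli⟩ := exists_indep_of_sq_zero Q h2 hnd v hviso (fun x => by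
      have := hcon x
      rw [hNapp, hNapp, sub_eq_zero] at this
      exact this) y (by rw [← hNapp]; exact hy)
    have h2R : 2 ≤ finrank F (LinearMap.range Nn) := by
      have h1 : Submodule.span F (Set.range ![v x - x, v y - y]) ≤ LinearMap.range Nn := by
        rw [Submodule.span_le]
        rintro _ ⟨i, rfl⟩
        fin_cases i
        · exact ⟨x, hNapp x⟩
        · exact ⟨y, hNapp y⟩
      have h3 := Submodule.finrank_mono h1
      rw [finrank_span_eq_card hli] at h3
      simpa using h3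
    have hWK : W ⊔ LinearMap.range Nn ≤ LinearMap.ker Nn := by
      apply sup_le
      · intro w hw
        exact LinearMap.mem_ker.2 (hNW0 w hw)
      · rintro _ ⟨u, rfl⟩
        exact LinearMap.mem_ker.2 (hcon u)
    have hdis : W ⊓ LinearMap.range Nn = ⊥ := by
      rw [eq_bot_iff]
      intro u hu
      have h1 : u ∈ W ⊓ W' := ⟨hu.1, by
        obtain ⟨u', rfl⟩ := hu.2
        exact hNrange u'⟩
      rw [hcompl.inf_eq_bot] at h1
      exact h1
    have h4 := Submodule.finrank_sup_add_finrank_inf_eq W (LinearMap.range Nn)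
    rw [hdis, finrank_bot, add_zero] at h4
    have h5 := Submodule.finrank_mono hWK
    have h6 := LinearMap.finrank_range_add_finrank_ker Nn
    have h7 := Submodule.finrank_add_eq_of_isCompl hcompl
    omega
  obtain ⟨y₀, hy₀⟩ := hNN
  obtain ⟨w, hw, y, hy, rfl⟩ := hdec y₀
  rw [map_add, hNW0 w hw, zero_add] at hy₀
  obtain ⟨ny, hny⟩ : ∃ ny : V, ny = Nn y := ⟨_, rfl⟩
  obtain ⟨z, hz⟩ : ∃ z : V, z = Nn ny := ⟨_, rfl⟩
  rw [← hny, ← hz] at hy₀
  have hnyW' : ny ∈ W' := by rw [hny]; exact hNW' y hy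
  have hzW' : z ∈ W' := by rw [hz]; exact hNW' ny hnyW'
  have hN3 : ∀ x ∈ W', Nn (Nn (Nn x)) = 0 := by
    have hnil : IsNilpotent (Nn.restrict hNW') := ⟨p, by
      rw [Module.End.pow_restrict p hNW']
      apply LinearMap.ext
      intro x
      apply Subtype.ext
      rw [LinearMap.coe_restrict_apply, hNp]
      rfl⟩
    have hch := ((LinearMap.charpoly_nilpotent_tfae (Nn.restrict hNW')).out 0 1).1 hnil
    rw [hW'fin] at hch
    have h3 := LinearMap.aeval_self_charpoly (Nn.restrict hNW')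
    rw [hch, map_pow, aeval_X] at h3
    intro x hx
    have h4 : (((Nn.restrict hNW') ^ 3) ⟨x, hx⟩ : V) = 0 := by
      rw [h3]
      rfl
    rw [Module.End.pow_restrict 3 hNW', LinearMap.coe_restrict_apply] at h4
    have h5 : (Nn ^ 3) x = Nn (Nn (Nn x)) := by
      rw [pow_succ, pow_succ, pow_one, Module.End.mul_apply, Module.End.mul_apply]
    rw [← h5]
    exact h4
  have hNz : Nn z = 0 := by
    rw [hz, hny]
    exact hN3 y hy
  have hli : LinearIndependent F ![y, ny, z] := by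
    rw [Fintype.linearIndependent_iff]
    intro g hg
    rw [Fin.sum_univ_three] at hg
    simp only [Matrix.cons_val_zero, Matrix.cons_val_one, Matrix.cons_val_two, Matrix.head_cons,
      Matrix.tail_cons] at hg
    have h0 : g 0 = 0 := by
      have h1 := congrArg (fun u => Nn (Nn u)) hg
      simp only [map_add, map_smul, map_zero] at h1
      rw [← hny, ← hz, hNz, map_zero, smul_zero, smul_zero, add_zero, add_zero] at h1
      rcases smul_eq_zero.1 h1 with h | h
      · exact h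
      · exact absurd h hy₀
    rw [h0, zero_smul, zero_add] at hg
    have h1 : g 1 = 0 := by
      have h3 := congrArg (fun u => Nn u) hg
      simp only [map_add, map_smul, map_zero] at h3
      rw [← hz, hNz, smul_zero, add_zero] at h3
      rcases smul_eq_zero.1 h3 with h | h
      · exact h
      · exact absurd h hy₀
    rw [h1, zero_smul, zero_add] at hg
    have h2' : g 2 = 0 := by
      rcases smul_eq_zero.1 hg with h | h
      · exact h
      · exact absurd h hy₀
    intro i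
    fin_cases i
    · exact h0
    · exact h1
    · exact h2'
  have hspan : Submodule.span F (Set.range ![y, ny, z]) = W' := by
    apply Submodule.eq_of_le_of_finrank_le
    · rw [Submodule.span_le]
      rintro _ ⟨i, rfl⟩
      fin_cases i
      · exact hy
      · exact hnyW'
      · exact hzW'
    · rw [finrank_span_eq_card hli, hW'fin]
      simp
  have hrep : ∀ x ∈ W', ∃ c₁ c₂ c₃ : F, x = c₁ • y + c₂ • ny + c₃ • z := by
    intro x hx
    rw [← hspan, Submodule.mem_span_range_iff_exists_fun] at hx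
    obtain ⟨c, hc⟩ := hx
    rw [Fin.sum_univ_three] at hc
    refine ⟨c 0, c 1, c 2, ?_⟩
    rw [← hc]
    simp
  obtain ⟨α, β, γ, hTy⟩ := hrep (T y) (hTW' y hy)
  have hTny : T ny = α • ny + β • z := by
    rw [hny, hTN, hTy, map_add, map_add, map_smul, map_smul, map_smul, ← hny, ← hz, hNz,
      smul_zero, add_zero]
  have hTz : T z = α • z := by
    rw [hz, hTN, hTny, map_add, map_smul, map_smul, ← hz, hNz, smul_zero, add_zero]
  have hD : ∀ x ∈ W', ∃ x₁ ∈ W', T x - α • x = Nn x₁ := by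
    intro x hx
    obtain ⟨a, b, c, rfl⟩ := hrep x hx
    refine ⟨β • (a • y + b • ny + c • z) + γ • Nn (a • y + b • ny + c • z), ?_, ?_⟩
    · exact W'.add_mem (W'.smul_mem _ hx) (W'.smul_mem _ (hNW' _ hx))
    · simp only [map_add, map_smul, hTy, hTny, hTz, ← hny, ← hz, hNz, smul_zero, add_zero]
      module
  obtain ⟨D, hDdef⟩ : ∃ D : Module.End F V, D = T - algebraMap F (Module.End F V) α := ⟨_, rfl⟩
  have hDapp : ∀ x, D x = T x - α • x := fun x => by
    rw [hDdef, LinearMap.sub_apply, Module.algebraMap_end_apply]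
  have hDN : ∀ x, D (Nn x) = Nn (D x) := by
    intro x
    rw [hDapp, hDapp, hTN, map_sub, map_smul]
  have hD3 : ∀ x ∈ W', D (D (D x)) = 0 := by
    intro x hx
    obtain ⟨x₁, hx₁, h1⟩ := hD x hx
    obtain ⟨x₂, hx₂, h2'⟩ := hD x₁ hx₁
    obtain ⟨x₃, hx₃, h3⟩ := hD x₂ hx₂
    rw [hDapp x, h1, hDN, hDapp x₁, h2', hDN, hDN, hDapp x₂, h3]
    exact hN3 x₃ hx₃
  have hDp : D ^ p = T ^ p - algebraMap F (Module.End F V) (α ^ p) := by
    have h1 : D = aeval T (X - C α : F[X]) := by rw [hDdef, map_sub, aeval_X, aeval_C]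
    rw [h1, ← map_pow, sub_pow_char, ← C_pow, map_sub, map_pow, aeval_X, aeval_C]
  have hhW' : ∀ x ∈ W', (T ^ p) x = (α ^ p) • x := by
    intro x hx
    have h1 : (D ^ p) x = 0 := by
      have h3 : (D ^ 3) x = 0 := by
        rw [pow_succ, pow_succ, pow_one, Module.End.mul_apply, Module.End.mul_apply]
        exact hD3 x hx
      have h4 : p = (p - 3) + 3 := by omega
      rw [h4, pow_add, Module.End.mul_apply, h3, map_zero]
    rw [hDp, LinearMap.sub_apply, Module.algebraMap_end_apply, sub_eq_zero] at h1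
    exact h1
  have hvz : v z = z := by
    have := hNz
    rw [hNapp, sub_eq_zero] at this
    exact this
  have hz_ny : QuadraticMap.polar Q z ny = 0 := by
    have := polar_fix_range Q v hviso z hvz y
    rwa [← hNapp, ← hny] at this
  have hz_z : QuadraticMap.polar Q z z = 0 := by
    have := polar_fix_range Q v hviso z hvz ny
    rwa [← hNapp, ← hz] at this
  have hz_W : ∀ w ∈ W, QuadraticMap.polar Q z w = 0 := by
    intro w hw
    have h1 : v w = w := by rw [hv]; exact hNW w hw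
    have := polar_fix_range Q v hviso w h1 ny
    rw [← hNapp, ← hz] at this
    rw [QuadraticMap.polar_comm]
    exact this
  have hQz : Q z = 0 := by
    rw [QuadraticMap.polar_self, two_nsmul] at hz_z
    have h1 : (2 : F) * Q z = 0 := by linear_combination hz_z
    rcases mul_eq_zero.1 h1 with h | h
    · exact absurd h h2
    · exact h
  have hb : QuadraticMap.polar Q y z ≠ 0 := by
    intro hb0
    apply hy₀
    apply hnd
    intro x
    obtain ⟨w, hw, w', hw', rfl⟩ := hdec x
    obtain ⟨a, b, c, rfl⟩ := hrep w' hw'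
    rw [QuadraticMap.polar_add_right, QuadraticMap.polar_add_right, QuadraticMap.polar_add_right,
      QuadraticMap.polar_smul_right, QuadraticMap.polar_smul_right, QuadraticMap.polar_smul_right,
      hz_W w hw, hz_ny, hz_z, QuadraticMap.polar_comm Q z y, hb0]
    simp
  have ha2 : (α ^ p) ^ 2 = 1 := by
    have h1 := polar_map Q (T ^ p) (fun x => iso_pow Q T hT p x) y z
    rw [hhW' y hy, hhW' z hzW', QuadraticMap.polar_smul_left, QuadraticMap.polar_smul_right,
      smul_eq_mul, smul_eq_mul] at h1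
    have h3 : ((α ^ p) ^ 2 - 1) * QuadraticMap.polar Q y z = 0 := by linear_combination h1
    rcases mul_eq_zero.1 h3 with h | h
    · exact sub_eq_zero.1 h
    · exact absurd h hb
  exact ⟨y, ny, z, α ^ p, hy, hnyW', hzW', hli, hrep, hhW', ha2, hb, hQz, by
    rw [QuadraticMap.polar_comm]; exact hz_ny⟩

theorem scalar_eq_one (p : ℕ) [Fact p.Prime] [CharP F p] (T : Module.End F V)
    (W W' : Submodule F V) (hcompl : IsCompl W W') (hTW : ∀ x ∈ W, T x ∈ W)
    (hTW' : ∀ x ∈ W', T x ∈ W') (hW'fin : finrank F W' = 3) (a : F)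
    (ha : ∀ x ∈ W', (T ^ p) x = a • x) (ha2 : a ^ 2 = 1)
    (hpW : ∀ x ∈ W, (T ^ p) x ∈ W) (hdetW : LinearMap.det ((T ^ p).restrict hpW) = 1)
    (hdet : LinearMap.det T = 1) : a = 1 := by
  classical
  let e := Submodule.prodEquivOfIsCompl W W' hcompl
  have hconj : T = (e : (W × W') →ₗ[F] V) ∘ₗ ((T.restrict hTW).prodMap (T.restrict hTW')) ∘ₗ
      (e.symm : V →ₗ[F] (W × W')) := by
    apply LinearMap.ext
    intro x
    obtain ⟨u, rfl⟩ := e.surjective x
    rcases u with ⟨u₁, u₂⟩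
    simp [e, Submodule.coe_prodEquivOfIsCompl']
  have hdet1 : LinearMap.det (T.restrict hTW) * LinearMap.det (T.restrict hTW') = 1 := by
    rw [← LinearMap.det_prodMap, ← hdet]
    conv_rhs => rw [hconj]
    rw [LinearMap.det_conj]
  have h1 : LinearMap.det (T.restrict hTW) ^ p = 1 := by
    rw [← map_pow, Module.End.pow_restrict p hTW]
    exact hdetW
  have h3 : ∀ (hh : ∀ x ∈ W', (T ^ p) x ∈ W'), (T ^ p).restrict hh = a • (1 : Module.End F W') := by
    intro hh
    apply LinearMap.ext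
    intro x
    apply Subtype.ext
    rw [LinearMap.coe_restrict_apply, ha x.1 x.2]
    simp
  have h2 : LinearMap.det (T.restrict hTW') ^ p = a ^ 3 := by
    rw [← map_pow, Module.End.pow_restrict p hTW', h3, LinearMap.det_smul, hW'fin, map_one,
      mul_one]
  have h4 : a ^ 3 = 1 := by
    have h5 := congrArg (· ^ p) hdet1
    simp only [mul_pow, one_pow] at h5
    rw [h1, h2, one_mul] at h5
    exact h5
  have h6 : a ^ 3 = a := by rw [pow_succ, ha2, one_mul]
  rw [← h6]
  exact h4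

theorem fix_mem (T : Module.End F V) (p E : ℕ) (f : F[X]) (hf : Irreducible f)
    (W' : Submodule F V) (hcompl : IsCompl (LinearMap.ker (aeval (T ^ p) f)) W')
    (hfix : ∀ x ∈ W', (T ^ p) x = x) (hordE : ∀ j : ℕ, (T ^ p) ^ j = 1 → E ∣ j)
    (x : V) (j : ℕ) (hj0 : 0 < j) (hjE : j < E) (hx : ((T ^ p) ^ j) x = x) : x ∈ W' := by
  obtain ⟨h, hh⟩ : ∃ h : Module.End F V, h = T ^ p := ⟨_, rfl⟩
  rw [← hh] at hcompl hfix hordE hx
  have hdec : ∀ x : V, ∃ w ∈ LinearMap.ker (aeval h f), ∃ w' ∈ W', w + w' = x := by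
    intro x
    have : x ∈ LinearMap.ker (aeval h f) ⊔ W' := by
      rw [hcompl.sup_eq_top]
      exact Submodule.mem_top
    exact Submodule.mem_sup.1 this
  have hfixj : ∀ (i : ℕ), ∀ u ∈ W', (h ^ i) u = u := by
    intro i
    induction i with
    | zero =>
      intro u _
      rw [pow_zero, Module.End.one_apply]
    | succ i ih =>
      intro u hu
      rw [pow_succ, Module.End.mul_apply, hfix u hu, ih u hu]
  obtain ⟨w, hw, w', hw', rfl⟩ := hdec x
  have hw_fix : (h ^ j) w = w := by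
    rw [map_add, hfixj j w' hw'] at hx
    exact add_right_cancel hx
  by_cases hw0 : w = 0
  · rw [hw0, zero_add]
    exact hw'
  · exfalso
    have hdvd : f ∣ X ^ j - 1 := by
      by_contra hnd
      apply hw0
      apply eq_zero_of_not_dvd h f (X ^ j - 1) hf hnd w (LinearMap.mem_ker.1 hw)
      rw [map_sub, map_pow, aeval_X, map_one, LinearMap.sub_apply, hw_fix, Module.End.one_apply,
        sub_self]
    have hone : h ^ j = 1 := by
      apply LinearMap.ext
      intro u
      obtain ⟨u₁, hu₁, u₂, hu₂, rfl⟩ := hdec u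
      rw [map_add, hfixj j u₂ hu₂, Module.End.one_apply]
      congr 1
      obtain ⟨c, hc⟩ := hdvd
      have h1 : (aeval h (X ^ j - 1 : F[X])) u₁ = 0 := by
        rw [hc, mul_comm, map_mul, Module.End.mul_apply, LinearMap.mem_ker.1 hu₁, map_zero]
      rw [map_sub, map_pow, aeval_X, map_one, LinearMap.sub_apply, Module.End.one_apply,
        sub_eq_zero] at h1
      exact h1
    have := Nat.le_of_dvd hj0 (hordE j hone)
    omega

theorem card_fix (Q : QuadraticForm F V) (W' : Submodule F V) (y ny z : V)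
    (hli : LinearIndependent F ![y, ny, z]) (hyW : y ∈ W') (hnyW : ny ∈ W') (hzW : z ∈ W')
    (hrep : ∀ x ∈ W', ∃ c₁ c₂ c₃ : F, x = c₁ • y + c₂ • ny + c₃ • z)
    (hb : QuadraticMap.polar Q y z ≠ 0) (hQz : Q z = 0) (hnyz : QuadraticMap.polar Q ny z = 0) :
    ∃ t : ℕ, t ≤ Fintype.card F ∧
      Nat.card {x : V // x ∈ W' ∧ Q x = 1} =
        (Fintype.card F - 1) * Fintype.card F + Fintype.card F * t := by
  classical
  obtain ⟨b, hbd⟩ : ∃ b : F, b = QuadraticMap.polar Q y z := ⟨_, rfl⟩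
  rw [← hbd] at hb
  let g : F → F → F := fun α β => Q (α • y + β • ny)
  have hQ : ∀ α β γ : F, Q (α • y + β • ny + γ • z) = g α β + α * γ * b := by
    intro α β γ
    have h1 : Q (α • y + β • ny + γ • z) = Q (α • y + β • ny) + Q (γ • z) +
        QuadraticMap.polar Q (α • y + β • ny) (γ • z) := by
      unfold QuadraticMap.polar
      ring
    rw [h1, QuadraticMap.map_smul, hQz, QuadraticMap.polar_add_left,
      QuadraticMap.polar_smul_left, QuadraticMap.polar_smul_left, QuadraticMap.polar_smul_right,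
      QuadraticMap.polar_smul_right, hnyz, ← hbd]
    simp only [smul_eq_mul, mul_zero, add_zero, g]
    ring
  let φ : {c : F × F × F // g c.1 c.2.1 + c.1 * c.2.2 * b = 1} → {x : V // x ∈ W' ∧ Q x = 1} :=
    fun c => ⟨c.1.1 • y + c.1.2.1 • ny + c.1.2.2 • z,
      W'.add_mem (W'.add_mem (W'.smul_mem _ hyW) (W'.smul_mem _ hnyW)) (W'.smul_mem _ hzW), by
        rw [hQ]
        exact c.2⟩
  have hφ : Function.Bijective φ := by
    constructor
    · rintro ⟨⟨c₁, c₂, c₃⟩, hc⟩ ⟨⟨d₁, d₂, d₃⟩, hd⟩ hcc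
      have h1 : c₁ • y + c₂ • ny + c₃ • z = d₁ • y + d₂ • ny + d₃ • z := congrArg Subtype.val hcc
      have h2 : (c₁ - d₁) • y + (c₂ - d₂) • ny + (c₃ - d₃) • z = 0 := by
        rw [← sub_eq_zero] at h1
        rw [← h1]
        module
      rw [Fintype.linearIndependent_iff] at hli
      have h3 := hli ![c₁ - d₁, c₂ - d₂, c₃ - d₃] (by
        rw [Fin.sum_univ_three]
        simpa using h2)
      have h30 := h3 0
      have h31 := h3 1
      have h32 := h3 2
      simp only [Matrix.cons_val_zero, Matrix.cons_val_one, Matrix.cons_val_two, Matrix.head_cons,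
        Matrix.tail_cons] at h30 h31 h32
      apply Subtype.ext
      rw [sub_eq_zero] at h30 h31 h32
      show (c₁, c₂, c₃) = (d₁, d₂, d₃)
      rw [h30, h31, h32]
    · rintro ⟨x, hxW, hxQ⟩
      obtain ⟨α, β, γ, rfl⟩ := hrep x hxW
      exact ⟨⟨(α, β, γ), by rw [← hQ]; exact hxQ⟩, rfl⟩
  refine ⟨Nat.card {β : F // g 0 β = 1}, ?_, ?_⟩
  · have := Nat.card_le_card_of_injective (fun (β : {β : F // g 0 β = 1}) => β.1)
      Subtype.val_injective
    rw [Nat.card_eq_fintype_card (α := F)] at this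
    exact this
  · rw [← Nat.card_congr (Equiv.ofBijective φ hφ)]
    exact card_triples g b hb

/-- the structure of an isometry of order `p (q^k + 1)` and determinant `1` in dimension `2k+3` -/
theorem structure_thm (p : ℕ) [Fact p.Prime] [CharP F p] (hp2 : p ≠ 2)
    (Q : QuadraticForm F V) (hnd : ∀ x, (∀ y, QuadraticMap.polar Q x y = 0) → x = 0)
    (T : Module.End F V) (hT : ∀ x, Q (T x) = Q x)
    (k : ℕ) (hk : 2 ≤ k) (hdim : finrank F V = 2 * k + 3) (E : ℕ)
    (hE : E = Fintype.card F ^ k + 1) (hord : orderOf T = p * E) (f : F[X]) (hf : Irreducible f)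
    (hfμ : f ∣ minpoly F (T ^ p)) (hfE : f ∣ X ^ E - 1) (hfd : f.natDegree = 2 * k)
    (hdet : LinearMap.det T = 1) :
    ∃ (W' : Submodule F V) (t : ℕ), t ≤ Fintype.card F ∧ (∀ x ∈ W', (T ^ p) x = x) ∧
      (∀ x : V, ∀ j : ℕ, 0 < j → j < E → ((T ^ p) ^ j) x = x → x ∈ W') ∧
      Nat.card {x : V // x ∈ W' ∧ Q x = 1} =
        (Fintype.card F - 1) * Fintype.card F + Fintype.card F * t := by
  obtain ⟨W', hcompl, hTW, hTW', hW'fin, hNW, hdetW⟩ :=
    decomp p T k hk hdim E hE hord f hf hfμ hfE hfd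
  have hp : p.Prime := Fact.out
  have hE0 : 0 < E := by rw [hE]; omega
  have hTpE : T ^ (p * E) = 1 := by rw [← hord]; exact pow_orderOf_eq_one T
  have hTE : T ^ E ≠ 1 := by
    intro h
    have h1 := orderOf_dvd_of_pow_eq_one h
    rw [hord] at h1
    have h2 := Nat.le_of_dvd hE0 h1
    have h3 := hp.two_le
    nlinarith
  obtain ⟨y, ny, z, a, hy, hny, hz, hli, hrep, ha, ha2, hb, hQz, hnyz⟩ :=
    unip_structure p hp2 Q hnd T hT E hTpE hTE _ W' hcompl hTW' hW'fin hNW
  have hpowW : ∀ (j : ℕ) (x : V), x ∈ LinearMap.ker (aeval (T ^ p) f) →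
      (T ^ j) x ∈ LinearMap.ker (aeval (T ^ p) f) := by
    intro j
    induction j with
    | zero =>
      intro x hx
      rwa [pow_zero, Module.End.one_apply]
    | succ j ih =>
      intro x hx
      rw [pow_succ', Module.End.mul_apply]
      exact hTW _ (ih x hx)
  have ha1 : a = 1 := scalar_eq_one p T _ W' hcompl hTW hTW' hW'fin a ha ha2 (hpowW p)
    (hdetW (hpowW p)) hdet
  subst ha1
  obtain ⟨t, ht, hcard⟩ := card_fix Q W' y ny z hli hy hny hz hrep hb hQz hnyz
  refine ⟨W', t, ht, fun x hx => by rw [ha x hx, one_smul], ?_, hcard⟩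
  intro x j hj0 hjE hx
  refine fix_mem T p E f hf W' hcompl (fun x hx => by rw [ha x hx, one_smul]) (fun j hj => ?_)
    x j hj0 hjE hx
  rw [← pow_mul] at hj
  have h1 := orderOf_dvd_of_pow_eq_one hj
  rw [hord] at h1
  exact Nat.dvd_of_mul_dvd_mul_left hp.pos h1

end Cfsg.Agent.Lib.helper64.OmC
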