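import Mathlib
import Cfsg.Agent.Lib.helper64.OmC
import Cfsg.Agent.Lib.helper64.SpPGMain
import Cfsg.Agent.Lib.helper49.Spinor
import Cfsg.Agent.Lib.helper49.Forms
import Cfsg.Agent.Lib.helper42.FormsNondeg
import Cfsg.Agent.S2904

set_option autoImplicit false
set_option linter.unusedSectionVars false

/-!
# The order `p (q^(n-1) + 1)` in `PSp_{2n}(q)` and in `Ω_{2n+1}(q)` (helper64)

* `psp_mem`: `PSp_{2n}(q)` (`q` odd) has an element of order `p (q^(n-1) + 1)`.
* `omega_not_mem`: `Ω_{2n+1}(q)` (`q` odd, `n ≥ 3`) has no element of this order: such an isometry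
  of determinant `1` has spinor sign `-1`.
-/

namespace Cfsg.Agent.Lib.helper64.OmD

open Polynomial Matrix Cfsg Cfsg.Agent.Lib.helper64.OmB Cfsg.Agent.Lib.helper64.OmC
  Cfsg.Agent.Lib.helper64.SpPG Cfsg.Agent.Lib.helper64.SpPGTorus Cfsg.Agent.Lib.helper64.SpPGMain
  Cfsg.Agent.Lib.helper64.PGBasic Cfsg.Agent.Lib.helper49 Cfsg.Agent.Lib.helper42

variable {F : Type*} [Field F] [Fintype F]

theorem two_ne_zero' (p : ℕ) [Fact p.Prime] [CharP F p] (hp2 : p ≠ 2) : (2 : F) ≠ 0 := by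
  have hp : p.Prime := Fact.out
  intro h
  have h1 : ((2 : ℕ) : F) = 0 := by exact_mod_cast h
  rw [CharP.cast_eq_zero_iff F p] at h1
  exact hp2 ((Nat.prime_dvd_prime_iff_eq hp Nat.prime_two).1 h1)

theorem coprime_p (p : ℕ) [Fact p.Prime] [CharP F p] (k : ℕ) (hk : 1 ≤ k) :
    Nat.Coprime p (Fintype.card F ^ k + 1) := by
  have hp : p.Prime := Fact.out
  rw [Nat.Prime.coprime_iff_not_dvd hp]
  intro h
  obtain ⟨a, -, ha⟩ := FiniteField.card F p
  have h1 : p ∣ Fintype.card F ^ k := by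
    rw [ha]
    exact dvd_pow (dvd_pow_self p a.ne_zero) (by omega)
  have h2 : p ∣ 1 := (Nat.dvd_add_right h1).1 h
  exact hp.one_lt.ne' (Nat.dvd_one.1 h2)

theorem psp_mem (p : ℕ) [Fact p.Prime] [CharP F p] (hp2 : p ≠ 2) (n : ℕ) (hn : 2 ≤ n) :
    p * (Fintype.card F ^ (n - 1) + 1) ∈ Set.range (orderOf : Cfsg.PSp n F → ℕ) := by
  classical
  have h2 : (2 : F) ≠ 0 := two_ne_zero' p hp2
  obtain ⟨Ω, Ω', T, hD, hTm, hT⟩ := exists_torus (F := F) p (n - 1) (by omega)
    (Fintype.card F ^ (n - 1) + 1) (dvd_refl _)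
  have hD1 := isSpDatum_J (F := F) 1 (1 : Matrix (Fin 1) (Fin 1) F) Matrix.transpose_one
  have hD2 := hD1.sum hD
  apply IsSpDatum.mem_range (n := n) (by omega) (by
    simp only [Fintype.card_sum, Fintype.card_fin]
    omega) hD2
  intro j hj
  rw [Matrix.fromBlocks_diagonal_pow] at hj
  have hpj : p ∣ j ∧ (Fintype.card F ^ (n - 1) + 1) ∣ j := by
    rcases hj with hj | hj
    · rw [← Matrix.fromBlocks_one, Matrix.fromBlocks_inj] at hj
      refine ⟨?_, hT j hj.2.2.2⟩
      have h3 := unip_pm 1 (1 : Matrix (Fin 1) (Fin 1) F) one_ne_zero j (Or.inl hj.1)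
      exact (CharP.cast_eq_zero_iff F p j).1 h3
    · exfalso
      rw [neg_one_eq_fromBlocks, Matrix.fromBlocks_inj] at hj
      have h1 := hj.1
      rw [unip_pow, neg_one_eq_fromBlocks, Matrix.fromBlocks_inj] at h1
      have h3 := congrFun (congrFun h1.1 0) 0
      simp only [Matrix.one_apply_eq, Matrix.neg_apply] at h3
      apply h2
      linear_combination h3
  exact (coprime_p p (n - 1) (by omega)).mul_dvd_of_dvd_of_dvd hpj.1 hpj.2

theorem omega_not_mem (p : ℕ) [Fact p.Prime] [CharP F p] (hp2 : p ≠ 2) (k : ℕ) (hk : 2 ≤ k)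
    (g : ↥(Cfsg.isometryGroup F (Cfsg.quadFormOdd (k + 1) F)))
    (hg : g ∈ Cfsg.Omega F (Cfsg.quadFormOdd (k + 1) F)) :
    orderOf g ≠ p * (Fintype.card F ^ k + 1) := by
  classical
  intro hord
  have hp : p.Prime := Fact.out
  have h2 : (2 : F) ≠ 0 := two_ne_zero' p hp2
  obtain ⟨q, hq⟩ : ∃ q : ℕ, q = Fintype.card F := ⟨_, rfl⟩
  obtain ⟨E, hE⟩ : ∃ E : ℕ, E = Fintype.card F ^ k + 1 := ⟨_, rfl⟩
  rw [← hE] at hord
  have hq1 : 1 < q := by rw [hq]; exact Fintype.one_lt_card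
  have hqodd : Odd q := by
    obtain ⟨a, -, ha⟩ := FiniteField.card F p
    rw [hq, ha]
    exact (hp.odd_of_ne_two hp2).pow
  have hE0 : 0 < E := by rw [hE]; omega
  have hEq : E = q ^ k + 1 := by rw [hE, hq]
  obtain ⟨r, hr, hrdvd, hrprim⟩ := Cfsg.Agent.S2904.result q (2 * k) hq1 (by omega)
    (by
      rintro ⟨h, -⟩
      rw [h] at hqodd
      exact absurd hqodd (by decide))
    (by
      rintro ⟨h, -⟩
      omega)
  have hrE : r ∣ E := by
    have h1 : q ^ (2 * k) - 1 = (q ^ k - 1) * (q ^ k + 1) := by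
      have h3 : 1 ≤ q ^ k := Nat.one_le_pow _ _ (by omega)
      have h4 : 1 ≤ q ^ (2 * k) := Nat.one_le_pow _ _ (by omega)
      zify [h3, h4]
      ring
    rw [h1] at hrdvd
    rcases (Nat.Prime.dvd_mul hr).1 hrdvd with h | h
    · exact absurd h (hrprim k (by omega) (by omega))
    · rw [hEq]
      exact h
  have hordr : orderOf ((Fintype.card F : ℕ) : ZMod r) = 2 * k := by
    rw [← hq]
    have h1 : orderOf ((q : ℕ) : ZMod r) ∣ 2 * k := ord_dvd_of_dvd (by omega) hrdvd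
    have h3 : 0 < orderOf ((q : ℕ) : ZMod r) := Nat.pos_of_dvd_of_pos h1 (by omega)
    by_contra hne
    have h4 : orderOf ((q : ℕ) : ZMod r) < 2 * k :=
      lt_of_le_of_ne (Nat.le_of_dvd (by omega) h1) hne
    exact hrprim _ h3 h4 (dvd_of_ord_dvd (by omega) (dvd_refl _))
  obtain ⟨J, hJ⟩ := hrE
  have hJ0 : 0 < J := by
    rcases Nat.eq_zero_or_pos J with h | h
    · rw [h, mul_zero] at hJ
      omega
    · exact h
  have hJlt : J < E := by
    have := hr.two_le
    nlinarith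
  obtain ⟨M, hM⟩ : ∃ M : Matrix (Unit ⊕ (Fin (k + 1) ⊕ Fin (k + 1)))
      (Unit ⊕ (Fin (k + 1) ⊕ Fin (k + 1))) F,
      M = ((g : GL (Unit ⊕ (Fin (k + 1) ⊕ Fin (k + 1))) F) : Matrix _ _ F) := ⟨_, rfl⟩
  have hMord : orderOf M = p * E := by
    rw [hM, orderOf_units, Subgroup.orderOf_coe, hord]
  have hMpE : M ^ (p * E) = 1 := by rw [← hMord]; exact pow_orderOf_eq_one M
  have hEF : (E : F) ≠ 0 := by
    rw [hE, Nat.cast_add, Nat.cast_pow, FiniteField.cast_card_eq_zero, zero_pow (by omega),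
      zero_add, Nat.cast_one]
    exact one_ne_zero
  have hMJ : (M ^ p) ^ J ≠ 1 := by
    intro h
    rw [← pow_mul] at h
    have h1 := orderOf_dvd_of_pow_eq_one h
    rw [hMord] at h1
    have h3 := Nat.dvd_of_mul_dvd_mul_left hp.pos h1
    have := Nat.le_of_dvd hJ0 h3
    omega
  obtain ⟨f, hf, hfμ, hfE, hfJ⟩ := exists_factor_of_order (M ^ p) E hEF
    (by rw [← pow_mul]; exact hMpE) J hMJ
  have hfd : f.natDegree = 2 * k := by
    have h1 := ord_dvd_of_factor f hf r hr E J hfE hfJ (by rw [hJ, mul_comm])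
    rw [hordr] at h1
    have h3 : f.natDegree ≤ 2 * k + 3 := by
      have h4 := natDegree_le_of_dvd hfμ (minpoly.ne_zero (Matrix.isIntegral _))
      have h5 := natDegree_minpoly_le_card (M ^ p)
      simp only [Fintype.card_sum, Fintype.card_unit, Fintype.card_fin] at h5
      omega
    have h6 : 0 < f.natDegree := hf.natDegree_pos
    obtain ⟨c, hc⟩ := h1
    have hc1 : c = 1 := by
      rcases c with _ | _ | c
      · omega
      · rfl
      · exfalso
        have : 2 * k * 2 ≤ 2 * k * (c + 1 + 1) := Nat.mul_le_mul_left _ (by omega)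
        omega
    rw [hc, hc1, mul_one]
  obtain ⟨T, hT⟩ : ∃ T : Module.End F (Unit ⊕ (Fin (k + 1) ⊕ Fin (k + 1)) → F),
      T = Matrix.toLinAlgEquiv' M := ⟨_, rfl⟩
  have hTapp : ∀ (j : ℕ) (x : Unit ⊕ (Fin (k + 1) ⊕ Fin (k + 1)) → F),
      (T ^ j) x = (M ^ j) *ᵥ x := by
    intro j x
    rw [hT, ← map_pow, Matrix.toLinAlgEquiv'_apply]
  have hTord : orderOf T = p * E := by
    rw [hT, ← hMord]
    exact MulEquiv.orderOf_eq (Matrix.toLinAlgEquiv' : Matrix (Unit ⊕ (Fin (k + 1) ⊕ Fin (k + 1)))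
      (Unit ⊕ (Fin (k + 1) ⊕ Fin (k + 1))) F ≃ₐ[F] _).toMulEquiv M
  have hiso : ∀ x, oddForm (k + 1) F (T x) = oddForm (k + 1) F x := by
    intro x
    have h3 := hTapp 1 x
    rw [pow_one, pow_one] at h3
    rw [h3, hM]
    exact isometry_apply (Cfsg.quadFormOdd (k + 1) F) g x
  have hnd : ∀ x, (∀ y, QuadraticMap.polar (oddForm (k + 1) F) x y = 0) → x = 0 := by
    have hN : (QuadraticMap.polarBilin (oddForm (k + 1) F)).Nondegenerate := by
      have h1 : QuadraticMap.polarBilin (oddForm (k + 1) F) =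
          Matrix.toBilin' (gramOdd (k + 1) F) := by
        refine LinearMap.ext₂ (fun u v => ?_)
        rw [QuadraticMap.polarBilin_apply_apply, oddForm_coe, polar_quadFormOdd]
      rw [h1]
      apply (Matrix.nondegenerate_toBilin'_iff).mpr
      rw [Matrix.nondegenerate_iff_det_ne_zero, gramOdd, Matrix.det_fromBlocks_zero₂₁]
      refine mul_ne_zero ?_ (det_gramPlus_ne_zero (k + 1))
      rw [Matrix.det_unique]
      exact h2
    intro v hv
    exact hN.1 v (fun y => by simpa using hv y)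
  have hdim : Module.finrank F (Unit ⊕ (Fin (k + 1) ⊕ Fin (k + 1)) → F) = 2 * k + 3 := by
    rw [Module.finrank_fintype_fun_eq_card]
    simp only [Fintype.card_sum, Fintype.card_unit, Fintype.card_fin]
    omega
  have hdetM : M.det = 1 := by
    have h1 : detHom (Cfsg.quadFormOdd (k + 1) F) g = 1 :=
      MonoidHom.mem_ker.mp
        (Abelianization.commutator_subset_ker (detHom (Cfsg.quadFormOdd (k + 1) F)) hg)
    have h3 := congrArg Units.val h1
    rw [detHom, MonoidHom.comp_apply, Matrix.GeneralLinearGroup.val_det_apply] at h3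
    rw [hM]
    simpa using h3
  have hdetT : LinearMap.det T = 1 := by
    rw [hT, ← hdetM]
    exact LinearMap.det_toLin' M
  have hfμ' : f ∣ minpoly F (T ^ p) := by
    rw [hT, ← map_pow, minpoly.algEquiv_eq]
    exact hfμ
  obtain ⟨W', t, ht, h1, h2', hcard⟩ := structure_thm p hp2 (oddForm (k + 1) F) hnd T hiso k hk
    hdim E hE hTord f hf hfμ' hfE hfd hdetT
  obtain ⟨π, hπ⟩ : ∃ π : Equiv.Perm (Level (Cfsg.quadFormOdd (k + 1) F) 1),
      π = permHom (Cfsg.quadFormOdd (k + 1) F) 1 (g ^ p) := ⟨_, rfl⟩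
  have hπapp : ∀ (j : ℕ) (v : Level (Cfsg.quadFormOdd (k + 1) F) 1),
      ((π ^ j) v).1 = ((T ^ p) ^ j) v.1 := by
    intro j v
    rw [hπ, ← map_pow, permHom_apply, Subgroup.coe_pow, Subgroup.coe_pow,
      Units.val_pow_eq_pow_val, Units.val_pow_eq_pow_val, ← hM, ← pow_mul, ← pow_mul, hTapp]
  have hπE : π ^ E = 1 := by
    rw [hπ, ← map_pow, ← pow_mul, ← hord, pow_orderOf_eq_one, map_one]
  have hE1 : 1 < E := by
    rw [hEq]
    have := Nat.one_le_pow k q (by omega)
    omega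
  have hfixπ : ∀ v : Level (Cfsg.quadFormOdd (k + 1) F) 1, ∀ j : ℕ, 0 < j → j < E →
      (π ^ j) v = v → π v = v := by
    intro v j hj0 hjE hv
    have h3 : ((T ^ p) ^ j) v.1 = v.1 := by rw [← hπapp, hv]
    have h4 := h1 v.1 (h2' v.1 j hj0 hjE h3)
    apply Subtype.ext
    have h5 := hπapp 1 v
    rw [pow_one, pow_one] at h5
    rw [h5, h4]
  have hEe : Even E := by
    rw [hEq]
    exact Odd.add_one hqodd.pow
  obtain ⟨hsign, hdvd⟩ := sign_of_full_cycles π E hE0 hEe hπE hfixπ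
  simp only [Fintype.card_eq_nat_card] at hsign hdvd
  have hL : Nat.card (Level (Cfsg.quadFormOdd (k + 1) F) 1) = q ^ (2 * k + 2) + q ^ (k + 1) := by
    rw [hq]
    have h3 := card_level_one (F := F) h2 (k + 1) (by omega)
    rw [show 2 * (k + 1) = 2 * k + 2 by ring] at h3
    exact h3
  have hFix : Nat.card (Function.fixedPoints π) = (q - 1) * q + q * t := by
    rw [hq, ← hcard]
    apply Nat.card_congr
    exact
      { toFun := fun v => ⟨v.1.1, h2' v.1.1 1 one_pos hE1 (by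
            have h3 := hπapp 1 v.1
            rw [pow_one, pow_one] at h3
            rw [pow_one, ← h3]
            exact congrArg Subtype.val v.2), v.1.2⟩
        invFun := fun v => ⟨⟨v.1, v.2.2⟩, by
            show π ⟨v.1, v.2.2⟩ = ⟨v.1, v.2.2⟩
            apply Subtype.ext
            have h3 := hπapp 1 ⟨v.1, v.2.2⟩
            rw [pow_one, pow_one] at h3
            rw [h3]
            exact h1 v.1 v.2.1⟩
        left_inv := fun v => rfl
        right_inv := fun v => rfl }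
  rw [hL, hFix, hEq] at hsign hdvd
  have hodd := odd_cycles q k t hqodd (by omega) (by rw [hq]; exact ht) hdvd
  rw [hodd.neg_one_pow] at hsign
  have hsp : spinorSign (Cfsg.quadFormOdd (k + 1) F) g = 1 :=
    MonoidHom.mem_ker.mp
      (Abelianization.commutator_subset_ker (spinorSign (Cfsg.quadFormOdd (k + 1) F)) hg)
  have h5 : Equiv.Perm.sign π = 1 := by
    rw [hπ]
    have h6 : Equiv.Perm.sign (permHom (Cfsg.quadFormOdd (k + 1) F) 1 (g ^ p)) =
        spinorSign (Cfsg.quadFormOdd (k + 1) F) (g ^ p) := rfl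
    rw [h6, map_pow, hsp, one_pow]
  rw [h5] at hsign
  exact absurd hsign (by decide)

end Cfsg.Agent.Lib.helper64.OmD
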