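import Mathlib
import Cfsg.Agent.Lib.helper44.Unipotent
import Cfsg.Agent.Lib.helper64.IsoPow
import Cfsg.Agent.Lib.helper64.PSLAttach

set_option autoImplicit false

namespace Cfsg.Agent.Lib.helper64.PSLSpec

open Cfsg.Agent.Lib.helper64.IsoPow Cfsg.Agent.Lib.helper64.PSLAttach

variable {F : Type*} [Field F] [Fintype F] {n : ℕ}

theorem charP_of_card {p a : ℕ} (hp : p.Prime) (ha : 1 ≤ a) (hF : Fintype.card F = p ^ a) :
    CharP F p := by
  obtain ⟨p', hp'⟩ := CharP.exists F
  have : Fact p'.Prime := ⟨CharP.char_is_prime F p'⟩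
  obtain ⟨m, hm1, hm2⟩ := FiniteField.card F p'
  have h1 : p ∣ p' ^ (m : ℕ) := by
    rw [← hm2, hF]
    exact dvd_pow_self p (by omega)
  have h2 : p = p' := (Nat.prime_dvd_prime_iff_eq hp hm1).1 (hp.dvd_of_dvd_pow h1)
  rw [h2]
  exact hp'

theorem not_dvd_pred {p a : ℕ} (hp : p.Prime) (ha : 1 ≤ a) (hF : Fintype.card F = p ^ a) :
    ¬ p ∣ Fintype.card F - 1 := by
  intro h
  have h1 : p ∣ Fintype.card F := by
    rw [hF]
    exact dvd_pow_self p (by omega)
  have h2 := Nat.dvd_sub h1 h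
  have h3 : Fintype.card F - (Fintype.card F - 1) = 1 := by
    have := Fintype.card_pos (α := F)
    omega
  rw [h3] at h2
  exact hp.one_lt.ne' (Nat.dvd_one.1 h2)

/-- if `x ^ k = 1` in `PSL_n` then the lift satisfies `A ^ (k (q-1)) = 1` -/
theorem pow_order_mul (hn : 0 < n) (A : Matrix.SpecialLinearGroup (Fin n) F) (k : ℕ)
    (hk : (QuotientGroup.mk A : Matrix.ProjectiveSpecialLinearGroup (Fin n) F) ^ k = 1) :
    (A : Matrix (Fin n) (Fin n) F) ^ (k * (Fintype.card F - 1)) = 1 := by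
  obtain ⟨c, hc⟩ := (mk_pow_eq_one_iff A k).1 hk
  have hcn : c ^ n = 1 := by
    have h := congrArg Matrix.det hc
    rw [← Matrix.SpecialLinearGroup.coe_pow, Matrix.SpecialLinearGroup.det_coe, Matrix.det_smul,
      Matrix.det_one, mul_one, Fintype.card_fin] at h
    exact h.symm
  have hc0 : c ≠ 0 := by
    rintro rfl
    rw [zero_pow hn.ne'] at hcn
    exact zero_ne_one hcn
  rw [pow_mul, hc, smul_pow, one_pow, FiniteField.pow_card_sub_one_eq_one c hc0, one_smul]

section main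

variable {p a r : ℕ} (hp : p.Prime) (ha : 1 ≤ a) (hF : Fintype.card F = p ^ a)
  (hr : r.Prime) (hrq : r ∣ Fintype.card F - 1) (hrn : ¬ r ∣ n)

include hp ha hF in
/-- basic facts about the `p`-part / `p'`-part decomposition of an element of `PSL_n` -/
theorem decomp (hn : 0 < n) (A : Matrix.SpecialLinearGroup (Fin n) F) :
    let o := orderOf (QuotientGroup.mk A : Matrix.ProjectiveSpecialLinearGroup (Fin n) F)
    let P := p ^ o.factorization p
    let M := o / p ^ o.factorization p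
    let N := M * (Fintype.card F - 1)
    ((N : ℕ) : F) ≠ 0 ∧ ((A : Matrix (Fin n) (Fin n) F) ^ P) ^ N = 1 ∧
      ((A : Matrix (Fin n) (Fin n) F) ^ N) ^ P = 1 ∧
      orderOf ((QuotientGroup.mk A : Matrix.ProjectiveSpecialLinearGroup (Fin n) F) ^ P) = M ∧
      (p ∣ o → (A : Matrix (Fin n) (Fin n) F) ^ N ≠ 1) := by
  intro o P M N
  have hchar : CharP F p := charP_of_card hp ha hF
  have ho : 0 < o := orderOf_pos _
  have hPM : P * M = o := Nat.ordProj_mul_ordCompl_eq_self o p
  have hpM : ¬ p ∣ M := Nat.not_dvd_ordCompl hp ho.ne'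
  have hpN : ¬ p ∣ N := by
    intro h
    rcases (Nat.Prime.dvd_mul hp).1 h with h | h
    · exact hpM h
    · exact not_dvd_pred hp ha hF h
  have hA : (A : Matrix (Fin n) (Fin n) F) ^ (o * (Fintype.card F - 1)) = 1 :=
    pow_order_mul hn A o (pow_orderOf_eq_one _)
  have hP0 : P ≠ 0 := (pow_pos hp.pos _).ne'
  refine ⟨?_, ?_, ?_, ?_, ?_⟩
  · intro h
    exact hpN ((CharP.cast_eq_zero_iff F p N).1 h)
  · rw [← pow_mul, show P * N = o * (Fintype.card F - 1) by rw [← hPM, mul_assoc]]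
    exact hA
  · rw [← pow_mul, show N * P = o * (Fintype.card F - 1) by rw [← hPM]; ring]
    exact hA
  · rw [orderOf_pow' _ hP0]
    show o / Nat.gcd o P = M
    rw [Nat.gcd_eq_right (Dvd.intro _ hPM)]
  · intro hpo h1
    have h2 : (QuotientGroup.mk A : Matrix.ProjectiveSpecialLinearGroup (Fin n) F) ^ N = 1 :=
      (mk_pow_eq_one_iff A N).2 ⟨1, by rw [one_smul]; exact h1⟩
    exact hpN (dvd_trans hpo (orderOf_dvd_of_pow_eq_one h2))

include hp ha hF hr hrq hrn in
/-- an element of order divisible by `p`: its `p'`-part can be multiplied by an element of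
order `r` -/
theorem attach_pprime_part (hn : 0 < n) (x : Matrix.ProjectiveSpecialLinearGroup (Fin n) F)
    (hx : ¬ r ∣ orderOf x) (hpx : p ∣ orderOf x) :
    ∃ x' : Matrix.ProjectiveSpecialLinearGroup (Fin n) F,
      (orderOf x / p ^ (orderOf x).factorization p) * r ∣ orderOf x' := by
  classical
  obtain ⟨A, rfl⟩ := QuotientGroup.mk_surjective x
  obtain ⟨hN, hSN, huP, hordS, hu1⟩ := decomp hp ha hF hn A
  set o := orderOf (QuotientGroup.mk A : Matrix.ProjectiveSpecialLinearGroup (Fin n) F) with ho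
  set P := p ^ o.factorization p with hP
  set M := o / p ^ o.factorization p with hM
  set N := M * (Fintype.card F - 1) with hNdef
  have hchar : CharP F p := charP_of_card hp ha hF
  have : Fact p.Prime := ⟨hp⟩
  have : Nonempty (Fin n) := ⟨⟨0, hn⟩⟩
  set u : Matrix (Fin n) (Fin n) F := (A : Matrix (Fin n) (Fin n) F) ^ N with hu
  have hnil : (u - 1) ^ P = 0 := by
    rw [hP, sub_pow_char_pow_of_commute p _ (Commute.one_right u), ← hP, huP, one_pow, sub_self]
  have hdet : (u - 1).det = 0 := by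
    have h := congrArg Matrix.det hnil
    rw [Matrix.det_pow, Matrix.det_zero] at h
    exact (pow_eq_zero_iff (pow_pos hp.pos _).ne').1 h
  let W : Submodule F (Fin n → F) := LinearMap.ker (Matrix.toLin' (u - 1))
  have hW0 : W ≠ ⊥ := by
    obtain ⟨v, hv0, hv⟩ := Matrix.exists_mulVec_eq_zero_iff.2 hdet
    rw [Submodule.ne_bot_iff]
    exact ⟨v, by rw [LinearMap.mem_ker, Matrix.toLin'_apply]; exact hv, hv0⟩
  have hW1 : W ≠ ⊤ := by
    intro h
    have h2 : Matrix.toLin' (u - 1) = 0 := LinearMap.ker_eq_top.1 h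
    have h3 : u - 1 = 0 := by
      apply Matrix.toLin'.injective
      rw [h2, map_zero]
    exact hu1 hpx (sub_eq_zero.1 h3)
  let S : Matrix.SpecialLinearGroup (Fin n) F := A ^ P
  have hScoe : (S : Matrix (Fin n) (Fin n) F) = (A : Matrix (Fin n) (Fin n) F) ^ P :=
    Matrix.SpecialLinearGroup.coe_pow A P
  have hcomm : (u - 1) * (S : Matrix (Fin n) (Fin n) F) = (S : Matrix (Fin n) (Fin n) F) * (u - 1) := by
    rw [hScoe, hu]
    exact ((Commute.pow_pow_self (A : Matrix (Fin n) (Fin n) F) N P).sub_left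
      (Commute.one_left _)).eq
  have hWS : ∀ v ∈ W, (S : Matrix (Fin n) (Fin n) F).mulVec v ∈ W := by
    intro v hv
    rw [LinearMap.mem_ker, Matrix.toLin'_apply] at hv ⊢
    rw [Matrix.mulVec_mulVec, hcomm, ← Matrix.mulVec_mulVec, hv, Matrix.mulVec_zero]
  obtain ⟨Pi, hidem, h0, h1, hc⟩ :=
    maschke_idem (S : Matrix (Fin n) (Fin n) F) N hN (by rw [hScoe]; exact hSN) W hWS hW0 hW1
  have hSmk : (QuotientGroup.mk S : Matrix.ProjectiveSpecialLinearGroup (Fin n) F) =
      (QuotientGroup.mk A : Matrix.ProjectiveSpecialLinearGroup (Fin n) F) ^ P := rfl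
  have hrM : ¬ r ∣ orderOf (QuotientGroup.mk S : Matrix.ProjectiveSpecialLinearGroup (Fin n) F) := by
    rw [hSmk, hordS]
    intro h
    exact hx (dvd_trans h (Nat.div_dvd_of_dvd (Nat.ordProj_dvd o p)))
  obtain ⟨z, hz⟩ := attach hr hrq hrn S Pi hidem h0 h1 hc hrM
  refine ⟨QuotientGroup.mk S * z, ?_⟩
  rw [hz, hSmk, hordS]

include hp ha hF hr hrq hrn in
/-- dichotomy: either an element of order `r` can be attached to `x`, or the `p'`-part of the
order of `x` divides the Singer number -/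
theorem attach_or_dvd (hn : 0 < n) (x : Matrix.ProjectiveSpecialLinearGroup (Fin n) F)
    (hx : ¬ r ∣ orderOf x) :
    (∃ x' : Matrix.ProjectiveSpecialLinearGroup (Fin n) F, orderOf x * r ∣ orderOf x') ∨
      (orderOf x / p ^ (orderOf x).factorization p) ∣ N1 (Fintype.card F) n := by
  classical
  obtain ⟨A, rfl⟩ := QuotientGroup.mk_surjective x
  obtain ⟨hN, hSN, huP, hordS, hu1⟩ := decomp hp ha hF hn A
  set o := orderOf (QuotientGroup.mk A : Matrix.ProjectiveSpecialLinearGroup (Fin n) F) with ho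
  set P := p ^ o.factorization p with hP
  set M := o / p ^ o.factorization p with hM
  set N := M * (Fintype.card F - 1) with hNdef
  let S : Matrix.SpecialLinearGroup (Fin n) F := A ^ P
  have hScoe : (S : Matrix (Fin n) (Fin n) F) = (A : Matrix (Fin n) (Fin n) F) ^ P :=
    Matrix.SpecialLinearGroup.coe_pow A P
  have hSmk : (QuotientGroup.mk S : Matrix.ProjectiveSpecialLinearGroup (Fin n) F) =
      (QuotientGroup.mk A : Matrix.ProjectiveSpecialLinearGroup (Fin n) F) ^ P := rfl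
  by_cases hirr : Irreducible (minpoly F (S : Matrix (Fin n) (Fin n) F))
  · right
    obtain ⟨c, hc⟩ := isotypic_pow (S : Matrix (Fin n) (Fin n) F)
      (Matrix.SpecialLinearGroup.det_coe S) hirr
    have h1 : (QuotientGroup.mk S : Matrix.ProjectiveSpecialLinearGroup (Fin n) F) ^
        N1 (Fintype.card F) n = 1 := (mk_pow_eq_one_iff S _).2 ⟨c, hc⟩
    rw [← hordS, ← hSmk]
    exact orderOf_dvd_of_pow_eq_one h1
  · left
    obtain ⟨g, hidem, h0, h1⟩ := poly_idem hn (S : Matrix (Fin n) (Fin n) F) N hN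
      (by rw [hScoe]; exact hSN) hirr
    have hc : Commute (A : Matrix (Fin n) (Fin n) F)
        (Polynomial.aeval (S : Matrix (Fin n) (Fin n) F) g) := by
      rw [hScoe]
      exact commute_aeval_pow _ P g
    obtain ⟨z, hz⟩ := attach hr hrq hrn A _ hidem h0 h1 hc hx
    exact ⟨QuotientGroup.mk A * z, by rw [hz]⟩

include hp ha hF in
/-- the Singer element -/
theorem exists_singer_psl (hn : 0 < n) :
    ∃ σ : Matrix.ProjectiveSpecialLinearGroup (Fin n) F, N1 (Fintype.card F) n ∣ orderOf σ := by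
  have hchar : CharP F p := charP_of_card hp ha hF
  have : Fact p.Prime := ⟨hp⟩
  obtain ⟨A, hdet, hA⟩ := exists_singer (F := F) hn p
  refine ⟨QuotientGroup.mk (⟨A, hdet⟩ : Matrix.SpecialLinearGroup (Fin n) F), ?_⟩
  exact hA _ ((mk_pow_eq_one_iff _ _).1 (pow_orderOf_eq_one _))

include hr hrq hrn in
/-- an element of order `r` -/
theorem exists_order_r (hn : 2 ≤ n) :
    ∃ z : Matrix.ProjectiveSpecialLinearGroup (Fin n) F, orderOf z = r := by
  classical
  let Pi : Matrix (Fin n) (Fin n) F := Matrix.diagonal (fun i => if i.val = 0 then 1 else 0)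
  have hidem : Pi * Pi = Pi := by
    simp only [Pi, Matrix.diagonal_mul_diagonal]
    congr 1
    funext i
    split_ifs <;> simp
  have h0 : Pi ≠ 0 := by
    intro h
    have h2 := congrFun (congrFun h ⟨0, by omega⟩) ⟨0, by omega⟩
    simp [Pi] at h2
  have h1 : Pi ≠ 1 := by
    intro h
    have h2 := congrFun (congrFun h ⟨1, by omega⟩) ⟨1, by omega⟩
    simp [Pi] at h2
  have hone : (QuotientGroup.mk (1 : Matrix.SpecialLinearGroup (Fin n) F) :
      Matrix.ProjectiveSpecialLinearGroup (Fin n) F) = 1 := rfl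
  obtain ⟨z, hz⟩ := attach hr hrq hrn (1 : Matrix.SpecialLinearGroup (Fin n) F) Pi hidem h0 h1
    (by rw [Matrix.SpecialLinearGroup.coe_one]; exact Commute.one_left _)
    (by rw [hone, orderOf_one]; exact fun h => hr.one_lt.ne' (Nat.dvd_one.1 h))
  rw [hone, one_mul, orderOf_one, one_mul] at hz
  exact ⟨z, hz⟩

include hp ha hF in
/-- the `p`-part of every element order divides any power of `p` that is at least `n` -/
theorem ordProj_dvd_pow (hn : 0 < n) (T : ℕ) (hT : n ≤ p ^ T)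
    (x : Matrix.ProjectiveSpecialLinearGroup (Fin n) F) :
    p ^ (orderOf x).factorization p ∣ p ^ T := by
  classical
  obtain ⟨A, rfl⟩ := QuotientGroup.mk_surjective x
  obtain ⟨hN, hSN, huP, hordS, hu1⟩ := decomp hp ha hF hn A
  set o := orderOf (QuotientGroup.mk A : Matrix.ProjectiveSpecialLinearGroup (Fin n) F) with ho
  set P := p ^ o.factorization p with hP
  set M := o / p ^ o.factorization p with hM
  set N := M * (Fintype.card F - 1) with hNdef
  have hchar : CharP F p := charP_of_card hp ha hF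
  have : Fact p.Prime := ⟨hp⟩
  have : Nonempty (Fin n) := ⟨⟨0, hn⟩⟩
  set u : Matrix (Fin n) (Fin n) F := (A : Matrix (Fin n) (Fin n) F) ^ N with hu
  have hnil : (u - 1) ^ P = 0 := by
    rw [hP, sub_pow_char_pow_of_commute p _ (Commute.one_right u), ← hP, huP, one_pow, sub_self]
  have hnil' : (u - 1) ^ n = 0 := by
    have h := Cfsg.Agent.Lib.helper44.pow_card_eq_zero_of_isNilpotent (u - 1) ⟨P, hnil⟩
    rwa [Fintype.card_fin] at h
  have h1 : (u - 1) ^ (p ^ T) = 0 := pow_eq_zero_of_le hT hnil'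
  have h2 : u ^ (p ^ T) = 1 := by
    rw [sub_pow_char_pow_of_commute p T (Commute.one_right u), one_pow, sub_eq_zero] at h1
    exact h1
  have h3 : (QuotientGroup.mk A : Matrix.ProjectiveSpecialLinearGroup (Fin n) F) ^ (N * p ^ T) = 1 :=
    (mk_pow_eq_one_iff A _).2 ⟨1, by rw [one_smul, pow_mul]; exact h2⟩
  have h4 : o ∣ N * p ^ T := orderOf_dvd_of_pow_eq_one h3
  have hPM : P * M = o := Nat.ordProj_mul_ordCompl_eq_self o p
  have hM0 : 0 < M := by
    apply Nat.pos_of_ne_zero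
    intro h
    rw [h, mul_zero] at hPM
    exact (orderOf_pos (QuotientGroup.mk A : Matrix.ProjectiveSpecialLinearGroup (Fin n) F)).ne' hPM.symm
  have h5 : M * P ∣ M * ((Fintype.card F - 1) * p ^ T) := by
    rw [mul_comm M P, hPM, ← mul_assoc]
    exact h4
  have h6 : P ∣ (Fintype.card F - 1) * p ^ T := Nat.dvd_of_mul_dvd_mul_left hM0 h5
  have hcop : Nat.Coprime P (Fintype.card F - 1) :=
    Nat.Coprime.pow_left _ ((Nat.Prime.coprime_iff_not_dvd hp).2 (not_dvd_pred hp ha hF))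
  exact hcop.dvd_of_dvd_mul_left h6

include hp ha hF hr hrq hrn in
/-- an element of order divisible by `r p^T` built from a Jordan block of size `n - 1` -/
theorem exists_w (hn : 3 ≤ n) (T : ℕ) (hT : n ≤ p ^ T) (hT' : p ^ (T - 1) < n - 1) :
    ∃ w : Matrix.ProjectiveSpecialLinearGroup (Fin n) F, p ^ T * r ∣ orderOf w := by
  classical
  have hchar : CharP F p := charP_of_card hp ha hF
  have : Fact p.Prime := ⟨hp⟩
  have : Nonempty (Fin n) := ⟨⟨0, by omega⟩⟩
  set m := n - 1 with hm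
  let e : Fin m ⊕ Fin 1 ≃ Fin n := finSumFinEquiv.trans (finCongr (by omega))
  let φ := Matrix.reindexAlgEquiv F F e
  let sh := Cfsg.Agent.Lib.helper44.shiftMat F m
  let BN : Matrix (Fin m ⊕ Fin 1) (Fin m ⊕ Fin 1) F := Matrix.fromBlocks sh 0 0 0
  let BP : Matrix (Fin m ⊕ Fin 1) (Fin m ⊕ Fin 1) F := Matrix.fromBlocks 1 0 0 0
  have hBN : ∀ k : ℕ, BN ^ k = Matrix.fromBlocks (sh ^ k) 0 0 (0 ^ k) :=
    fun k => Matrix.fromBlocks_diagonal_pow _ _ k
  have hBPP : BP * BP = BP := by simp [BP, Matrix.fromBlocks_multiply]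
  have hBNP : BN * BP = BP * BN := by simp [BN, BP, Matrix.fromBlocks_multiply]
  have hBP0 : BP ≠ 0 := by
    intro h
    rw [← Matrix.fromBlocks_zero, Matrix.fromBlocks_inj] at h
    have h2 := congrFun (congrFun h.1 ⟨0, by omega⟩) ⟨0, by omega⟩
    simp at h2
  have hBP1 : BP ≠ 1 := by
    intro h
    rw [← Matrix.fromBlocks_one, Matrix.fromBlocks_inj] at h
    have h2 := congrFun (congrFun h.2.2.2 0) 0
    simp at h2
  set Nn : Matrix (Fin n) (Fin n) F := φ BN with hNn
  set Pi : Matrix (Fin n) (Fin n) F := φ BP with hPi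
  have hPiPi : Pi * Pi = Pi := by rw [hPi, ← map_mul, hBPP]
  have hPi0 : Pi ≠ 0 := fun h => hBP0 (φ.injective (by rw [← hPi, h, map_zero]))
  have hPi1 : Pi ≠ 1 := fun h => hBP1 (φ.injective (by rw [← hPi, h, map_one]))
  have hNP : Commute Nn Pi := by
    show φ BN * φ BP = φ BP * φ BN
    rw [← map_mul, ← map_mul, hBNP]
  set U : Matrix (Fin n) (Fin n) F := 1 + Nn with hU
  have hUP : Commute U Pi := (Commute.one_left Pi).add_left hNP
  have hpow : ∀ s : ℕ, U ^ (p ^ s) = 1 + Nn ^ (p ^ s) := by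
    intro s
    rw [hU, add_pow_char_pow_of_commute p s (Commute.one_left _), one_pow]
  have hNk : ∀ k : ℕ, Nn ^ k = φ (Matrix.fromBlocks (sh ^ k) 0 0 (0 ^ k)) := fun k => by
    rw [hNn, ← map_pow, hBN]
  have hNT : Nn ^ (p ^ T) = 0 := by
    rw [hNk, pow_eq_zero_of_le (by omega : m ≤ p ^ T)
      (Cfsg.Agent.Lib.helper44.shiftMat_pow_self F m), zero_pow (pow_pos hp.pos T).ne',
      Matrix.fromBlocks_zero, map_zero]
  have hNT' : Nn ^ (p ^ (T - 1)) ≠ 0 := by
    intro h
    rw [hNk] at h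
    have h2 := φ.injective (h.trans (map_zero φ).symm)
    rw [← Matrix.fromBlocks_zero, Matrix.fromBlocks_inj] at h2
    exact Cfsg.Agent.Lib.helper44.shiftMat_pow_ne_zero F m _ hT' h2.1
  have hUT : U ^ (p ^ T) = 1 := by rw [hpow, hNT, add_zero]
  have hUdet : U.det = 1 := by
    have h := congrArg Matrix.det hUT
    rw [Matrix.det_pow, Matrix.det_one] at h
    have h2 : (U.det - 1) ^ (p ^ T) = 0 := by rw [sub_pow_char_pow, h, one_pow, sub_self]
    exact sub_eq_zero.1 ((pow_eq_zero_iff (pow_pos hp.pos T).ne').1 h2)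
  have hUord : ∀ k : ℕ, U ^ k = 1 → p ^ T ∣ k := by
    intro k hk
    have hdvd : orderOf U ∣ p ^ T := orderOf_dvd_of_pow_eq_one hUT
    obtain ⟨s, hs, hs'⟩ := (Nat.dvd_prime_pow hp).1 hdvd
    have hst : s = T := by
      by_contra hne
      have hlt : s ≤ T - 1 := by omega
      have h1 : U ^ (p ^ (T - 1)) = 1 := by
        have h3 : orderOf U ∣ p ^ (T - 1) := by
          rw [hs']
          exact pow_dvd_pow p hlt
        exact orderOf_dvd_iff_pow_eq_one.1 h3
      rw [hpow] at h1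
      exact hNT' (by simpa using h1)
    rw [← hst, ← hs']
    exact orderOf_dvd_of_pow_eq_one hk
  obtain ⟨Z, hZdet, hZcomm, hZr, hZk⟩ := exists_rtorsion hr hrq hrn Pi hPiPi hPi0 hPi1
  have hZU : Commute Z U := (hZcomm U hUP).symm
  have hrp : r ≠ p := by
    rintro rfl
    exact not_dvd_pred hp ha hF hrq
  let w : Matrix.SpecialLinearGroup (Fin n) F :=
    ⟨Z * U, by rw [Matrix.det_mul, hZdet, hUdet, one_mul]⟩
  refine ⟨QuotientGroup.mk w, ?_⟩
  obtain ⟨c, hc⟩ := (mk_pow_eq_one_iff w _).1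
    (pow_orderOf_eq_one (QuotientGroup.mk w : Matrix.ProjectiveSpecialLinearGroup (Fin n) F))
  set k := orderOf (QuotientGroup.mk w : Matrix.ProjectiveSpecialLinearGroup (Fin n) F) with hk
  have hc' : Z ^ k * U ^ k = c • (1 : Matrix (Fin n) (Fin n) F) := by
    rw [← hZU.mul_pow]
    exact hc
  have h1 : Z ^ (k * p ^ T) = c ^ (p ^ T) • (1 : Matrix (Fin n) (Fin n) F) := by
    have h2 := congrArg (fun X => X ^ (p ^ T)) hc'
    rw [(hZU.pow_pow k k).mul_pow, ← pow_mul, ← pow_mul, mul_comm k (p ^ T), pow_mul U, hUT,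
      one_pow, mul_one, smul_pow, one_pow] at h2
    rw [mul_comm]
    exact h2
  have hrk : r ∣ k := by
    have h2 := hZk _ ⟨_, h1⟩
    rcases (Nat.Prime.dvd_mul hr).1 h2 with h | h
    · exact h
    · exfalso
      exact hrp ((Nat.prime_dvd_prime_iff_eq hr hp).1 (hr.dvd_of_dvd_pow h))
  have hZk1 : Z ^ k = 1 := by
    obtain ⟨e', he'⟩ := hrk
    rw [he', pow_mul, hZr, one_pow]
  rw [hZk1, one_mul] at hc'
  have hcT : c ^ (p ^ T) = 1 := by
    have h2 := congrArg (fun X => X ^ (p ^ T)) hc'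
    rw [← pow_mul, mul_comm, pow_mul, hUT, one_pow, smul_pow, one_pow] at h2
    have h3 := congrFun (congrFun h2 ⟨0, by omega⟩) ⟨0, by omega⟩
    simpa using h3.symm
  have hc1 : c = 1 := by
    have h2 : (c - 1) ^ (p ^ T) = 0 := by rw [sub_pow_char_pow, hcT, one_pow, sub_self]
    exact sub_eq_zero.1 ((pow_eq_zero_iff (pow_pos hp.pos T).ne').1 h2)
  rw [hc1, one_smul] at hc'
  have hpk : p ^ T ∣ k := hUord k hc'
  exact Nat.Coprime.mul_dvd_of_dvd_of_dvd
    (Nat.Coprime.pow_left _ ((Nat.coprime_primes hp hr).2 (Ne.symm hrp))) hpk hrk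

include hp ha hF hr hrq hrn in
/-- if `n - 1` is not a power of `p`, some element has order divisible by `r` times the
`p`-part of every element order -/
theorem exists_big (hn : 2 ≤ n) (hnp : ¬ ∃ j : ℕ, n - 1 = p ^ j) :
    ∃ w : Matrix.ProjectiveSpecialLinearGroup (Fin n) F,
      ∀ x : Matrix.ProjectiveSpecialLinearGroup (Fin n) F,
        p ^ (orderOf x).factorization p * r ∣ orderOf w := by
  have hn3 : 3 ≤ n := by
    by_contra h
    have h2 : n = 2 := by omega
    exact hnp ⟨0, by rw [h2]; simp⟩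
  have hT : n ≤ p ^ Nat.clog p n := Nat.le_pow_clog hp.one_lt n
  have hT' : p ^ (Nat.clog p n - 1) < n - 1 := by
    have h1 := Nat.pow_pred_clog_lt_self hp.one_lt (x := n) (by omega)
    rw [Nat.pred_eq_sub_one] at h1
    have h2 : p ^ (Nat.clog p n - 1) ≠ n - 1 := fun h => hnp ⟨_, h.symm⟩
    omega
  obtain ⟨w, hw⟩ := exists_w hp ha hF hr hrq hrn hn3 _ hT hT'
  exact ⟨w, fun x => dvd_trans
    (Nat.mul_dvd_mul_right (ordProj_dvd_pow hp ha hF (by omega) _ hT x) r) hw⟩

end main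

end Cfsg.Agent.Lib.helper64.PSLSpec
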