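import Mathlib
import Cfsg.Agent.Lib.helper64.RsIso
import Cfsg.Agent.Lib.helper64.RsSp

set_option autoImplicit false
set_option linter.unusedSectionVars false

/-!
# Products of two primes in the spectrum of `Ω_{2n+1}(q)`: existence (helper64)
-/

namespace Cfsg.Agent.Lib.helper64.RsOmE

open Polynomial Matrix Cfsg Cfsg.Agent.Lib.helper64.SpPGMain Cfsg.Agent.Lib.helper64.PGBasic
  Cfsg.Agent.Lib.helper64.RsIso Cfsg.Agent.Lib.helper64.RsSp

universe u

variable {F : Type u} [Field F] [Fintype F]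

theorem omega_rs_exists (p : ℕ) [hp : Fact p.Prime] [CharP F p] (hp2 : p ≠ 2) (n : ℕ)
    (hn : 1 ≤ n) (r s : ℕ)
    (hr : r.Prime) (hs : s.Prime) (hr2 : r ≠ 2) (hs2 : s ≠ 2) (hrp : r ≠ p) (hsp : s ≠ p)
    (hrs : r ≠ s) (k l ηk ηl : ℕ) (hk : k = orderOf ((Fintype.card F : ℕ) : ZMod r))
    (hl : l = orderOf ((Fintype.card F : ℕ) : ZMod s))
    (hηk : (Odd k ∧ ηk = k) ∨ (Even k ∧ 2 * ηk = k))
    (hηl : (Odd l ∧ ηl = l) ∨ (Even l ∧ 2 * ηl = l))
    (hC : ηk + ηl ≤ n ∨ (ηl ≤ n ∧ ∃ t : ℕ, Odd t ∧ l = k * t)) :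
    r * s ∈ Set.range (orderOf : Cfsg.POmega F (Cfsg.quadFormOdd n F) → ℕ) := by
  have h2 : (2 : F) ≠ 0 := two_ne p hp2
  have hk0 : 0 < k := by rw [hk]; exact ord_pos p r hr hrp
  have hl0 : 0 < l := by rw [hl]; exact ord_pos p s hs hsp
  have hηk0 : 0 < ηk := by
    rcases hηk with ⟨-, h⟩ | ⟨-, h⟩ <;> omega
  have hηl0 : 0 < ηl := by
    rcases hηl with ⟨-, h⟩ | ⟨-, h⟩ <;> omega
  have hrodd := hr.odd_of_ne_two hr2
  have hsodd := hs.odd_of_ne_two hs2
  have hcop : Nat.Coprime r s := (Nat.coprime_primes hr hs).2 hrs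
  have hrs0 : 0 < r * s := Nat.mul_pos hr.pos hs.pos
  have hgcd : (r * s) / Nat.gcd (r * s) 2 = r * s := by
    have h1 : Nat.gcd (r * s) 2 = 1 := Nat.coprime_two_right.2 (hrodd.mul hsodd)
    rw [h1, Nat.div_one]
  have key : HasIso F (2 * n + 1) (r * s) := by
    rcases hC with hsum | ⟨hηln, t, ht, hlt⟩
    · have hb1 := hasIso_block (F := F) p h2 ηk hηk0 r hr.pos (dvd_pm r hr k ηk hk hηk)
      have hb2 := hasIso_block (F := F) p h2 ηl hηl0 s hs.pos (dvd_pm s hs l ηl hl hηl)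
      have h3 := (hb1.prod hb2).prod (hasIso_filler h2 (2 * n + 1 - (ηk + ηk) - (ηl + ηl)))
      rw [Nat.lcm_one_right, hcop.lcm_eq_mul] at h3
      have h4 : ηk + ηk + (ηl + ηl) + (2 * n + 1 - (ηk + ηk) - (ηl + ηl)) = 2 * n + 1 := by omega
      rwa [h4] at h3
    · have hb := hasIso_block (F := F) p h2 ηl hηl0 (r * s) hrs0
        (Cfsg.Agent.S2469.dvd_pm_prod r s hr hs hrs k l ηk ηl hk hl hηk hηl hk0 hl0 t ht hlt)
      have h3 := hb.prod (hasIso_filler h2 (2 * n + 1 - (ηl + ηl)))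
      rw [Nat.lcm_one_right] at h3
      have h4 : ηl + ηl + (2 * n + 1 - (ηl + ηl)) = 2 * n + 1 := by omega
      rwa [h4] at h3
  have h5 := exists_omega_of_hasIso h2 n (r * s) hrs0 hn key
  rwa [hgcd] at h5

theorem omega_rp_exists (p : ℕ) [hp : Fact p.Prime] [CharP F p] (hp2 : p ≠ 2) (n : ℕ)
    (hn : 1 ≤ n) (r : ℕ) (hr : r.Prime) (hr2 : r ≠ 2) (hrp : r ≠ p) (k ηk : ℕ)
    (hk : k = orderOf ((Fintype.card F : ℕ) : ZMod r))
    (hηk : (Odd k ∧ ηk = k) ∨ (Even k ∧ 2 * ηk = k)) (hC : ηk + 1 ≤ n) :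
    r * p ∈ Set.range (orderOf : Cfsg.POmega F (Cfsg.quadFormOdd n F) → ℕ) := by
  have hpp : p.Prime := hp.out
  have h2 : (2 : F) ≠ 0 := two_ne p hp2
  have hk0 : 0 < k := by rw [hk]; exact ord_pos p r hr hrp
  have hηk0 : 0 < ηk := by
    rcases hηk with ⟨-, h⟩ | ⟨-, h⟩ <;> omega
  have hrodd := hr.odd_of_ne_two hr2
  have hpodd := hpp.odd_of_ne_two hp2
  have hcop : Nat.Coprime r p := (Nat.coprime_primes hr hpp).2 hrp
  have hrp0 : 0 < r * p := Nat.mul_pos hr.pos hpp.pos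
  have hgcd : (r * p) / Nat.gcd (r * p) 2 = r * p := by
    have h1 : Nat.gcd (r * p) 2 = 1 := Nat.coprime_two_right.2 (hrodd.mul hpodd)
    rw [h1, Nat.div_one]
  have key : HasIso F (2 * n + 1) (r * p) := by
    have hb1 := hasIso_block (F := F) p h2 ηk hηk0 r hr.pos (dvd_pm r hr k ηk hk hηk)
    have h3 := (hb1.prod (hasIso_unip (F := F) p h2)).prod
      (hasIso_filler h2 (2 * n + 1 - (ηk + ηk) - 3))
    rw [Nat.lcm_one_right, hcop.lcm_eq_mul] at h3
    have h4 : ηk + ηk + 3 + (2 * n + 1 - (ηk + ηk) - 3) = 2 * n + 1 := by omega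
    rwa [h4] at h3
  have h5 := exists_omega_of_hasIso h2 n (r * p) hrp0 hn key
  rwa [hgcd] at h5

theorem omega_two_p (p : ℕ) [hp : Fact p.Prime] [CharP F p] (hp2 : p ≠ 2) (n : ℕ)
    (hn : 2 ≤ n) :
    2 * p ∈ Set.range (orderOf : Cfsg.POmega F (Cfsg.quadFormOdd n F) → ℕ) := by
  have hpp : p.Prime := hp.out
  have h2 : (2 : F) ≠ 0 := two_ne p hp2
  have hpodd := hpp.odd_of_ne_two hp2
  have hcop : Nat.Coprime 4 p := by
    have h1 : Nat.Coprime (2 ^ 2) p := Nat.Coprime.pow_left 2 (Nat.coprime_two_left.2 hpodd)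
    exact h1
  have h4p0 : 0 < 4 * p := by have := hpp.pos; omega
  have hgcd : (4 * p) / Nat.gcd (4 * p) 2 = 2 * p := by
    have h1 : Nat.gcd (4 * p) 2 = 2 := by
      have h3 : 4 * p = 2 * (2 * p) := by ring
      rw [h3, Nat.gcd_mul_right_left]
    rw [h1]
    omega
  have key : HasIso F (2 * n + 1) (4 * p) := by
    have h3 := ((hasIso_rot (F := F) h2).prod (hasIso_unip (F := F) p h2)).prod
      (hasIso_filler h2 (2 * n + 1 - 5))
    rw [Nat.lcm_one_right, hcop.lcm_eq_mul] at h3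
    have h4 : 2 + 3 + (2 * n + 1 - 5) = 2 * n + 1 := by omega
    rwa [h4] at h3
  have h5 := exists_omega_of_hasIso h2 n (4 * p) h4p0 (by omega) key
  rwa [hgcd] at h5

theorem omega_two_r_exists (p : ℕ) [hp : Fact p.Prime] [CharP F p] (hp2 : p ≠ 2) (n : ℕ)
    (hn : 1 ≤ n) (r : ℕ) (hr : r.Prime) (hr2 : r ≠ 2) (hrp : r ≠ p) (k ηk : ℕ)
    (hk : k = orderOf ((Fintype.card F : ℕ) : ZMod r))
    (hηk : (Odd k ∧ ηk = k) ∨ (Even k ∧ 2 * ηk = k))
    (hC : ηk + 1 ≤ n ∨ (ηk = n ∧ Odd k ∧ 4 ∣ Fintype.card F ^ n - 1) ∨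
      (ηk = n ∧ Even k ∧ 4 ∣ Fintype.card F ^ n + 1)) :
    2 * r ∈ Set.range (orderOf : Cfsg.POmega F (Cfsg.quadFormOdd n F) → ℕ) := by
  have hpp : p.Prime := hp.out
  have h2 : (2 : F) ≠ 0 := two_ne p hp2
  have hrodd := hr.odd_of_ne_two hr2
  have hk0 : 0 < k := by rw [hk]; exact ord_pos p r hr hrp
  have hη0 : 0 < ηk := by
    rcases hηk with ⟨-, h⟩ | ⟨-, h⟩ <;> omega
  have hq1 : 1 ≤ Fintype.card F := Fintype.card_pos
  have hcop4 : Nat.Coprime 4 r := by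
    have h1 : Nat.Coprime (2 ^ 2) r := Nat.Coprime.pow_left 2 (Nat.coprime_two_left.2 hrodd)
    exact h1
  have h4r0 : 0 < 4 * r := by have := hr.pos; omega
  have hgcd : (4 * r) / Nat.gcd (4 * r) 2 = 2 * r := by
    have h1 : Nat.gcd (4 * r) 2 = 2 := by
      have h3 : 4 * r = 2 * (2 * r) := by ring
      rw [h3, Nat.gcd_mul_right_left]
    rw [h1]
    omega
  have key : HasIso F (2 * n + 1) (4 * r) := by
    rcases hC with hlt | ⟨hηn, hkodd, h4⟩ | ⟨hηn, hkeven, h4⟩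
    · have hb1 := hasIso_block (F := F) p h2 ηk hη0 r hr.pos (dvd_pm r hr k ηk hk hηk)
      have h3 := (hb1.prod (hasIso_rot (F := F) h2)).prod
        (hasIso_filler h2 (2 * n + 1 - (ηk + ηk) - 2))
      rw [Nat.lcm_one_right, hcop4.symm.lcm_eq_mul, mul_comm r 4] at h3
      have h4 : ηk + ηk + 2 + (2 * n + 1 - (ηk + ηk) - 2) = 2 * n + 1 := by omega
      rwa [h4] at h3
    · have hkn : k = n := by
        rcases hηk with ⟨-, h⟩ | ⟨he, -⟩
        · omega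
        · exact absurd he (Nat.not_even_iff_odd.2 hkodd)
      have hr1 : r ∣ Fintype.card F ^ n - 1 := dvd_of_ord_dvd hq1 (by rw [← hk, hkn])
      have hb := hasIso_block (F := F) p h2 n (by omega) (4 * r) h4r0
        (Or.inl (hcop4.mul_dvd_of_dvd_of_dvd h4 hr1))
      have h3 := hb.prod (hasIso_filler h2 1)
      rw [Nat.lcm_one_right] at h3
      have h5 : n + n + 1 = 2 * n + 1 := by omega
      rwa [h5] at h3
    · have hkn : 2 * ηk = k := by
        rcases hηk with ⟨ho, -⟩ | ⟨-, h⟩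
        · exact absurd hkeven (Nat.not_even_iff_odd.2 ho)
        · exact h
      have hr1 : r ∣ Fintype.card F ^ n + 1 := by
        rcases dvd_pm r hr k ηk hk hηk with h | h
        · exfalso
          have h3 := ord_dvd_of_dvd hq1 h
          rw [← hk] at h3
          have := Nat.le_of_dvd (by omega) h3
          omega
        · rw [← hηn]
          exact h
      have hb := hasIso_block (F := F) p h2 n (by omega) (4 * r) h4r0
        (Or.inr (hcop4.mul_dvd_of_dvd_of_dvd h4 hr1))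
      have h3 := hb.prod (hasIso_filler h2 1)
      rw [Nat.lcm_one_right] at h3
      have h5 : n + n + 1 = 2 * n + 1 := by omega
      rwa [h5] at h3
  have h5 := exists_omega_of_hasIso h2 n (4 * r) h4r0 hn key
  rwa [hgcd] at h5

end Cfsg.Agent.Lib.helper64.RsOmE
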