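import Mathlib
import Cfsg.Agent.Lib.helper64.RsIso
import Cfsg.Agent.Lib.helper64.RsSp
import Cfsg.Agent.Lib.helper64.OmD

set_option autoImplicit false
set_option linter.unusedSectionVars false

/-!
# Products of two primes in the spectrum of `Ω_{2n+1}(q)`: necessity (helper64)

* `natDegree_le_finrank_ker`, `det_involution`: linear algebra.
* `perm_count`: fixed points of a permutation of order `2 r` with sign `1`.
* `omega_rs_nec`, `omega_rp_nec`, `omega_two_r_nec`: the arithmetic criteria are necessary.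
-/

namespace Cfsg.Agent.Lib.helper64.RsOmN

open Polynomial Matrix Cfsg Cfsg.Agent.Lib.helper64.SpPGMain Cfsg.Agent.Lib.helper64.PGBasic
  Cfsg.Agent.Lib.helper64.RsIso Cfsg.Agent.Lib.helper64.RsSp Cfsg.Agent.Lib.helper64.RsW
  Cfsg.Agent.Lib.helper64.OmA Cfsg.Agent.Lib.helper64.OmB Cfsg.Agent.Lib.helper49
  Cfsg.Agent.Lib.helper45

section lin

variable {K : Type*} [Field K] {V : Type*} [AddCommGroup V] [Module K V] [FiniteDimensional K V]

/-- the kernel of a factor `W` of the minimal polynomial has dimension at least `deg W` -/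
theorem natDegree_le_finrank_ker (h : Module.End K V) (W : K[X]) (hW : W ∣ minpoly K h) :
    W.natDegree ≤ Module.finrank K (LinearMap.ker (aeval h W)) := by
  obtain ⟨R, hR⟩ := hW
  have hμ0 : minpoly K h ≠ 0 := minpoly.ne_zero (Algebra.IsIntegral.isIntegral h)
  have hR0 : R ≠ 0 := by
    rintro rfl
    rw [mul_zero] at hR
    exact hμ0 hR
  obtain ⟨U, hU⟩ : ∃ U : Submodule K V, U = LinearMap.ker (aeval h W) := ⟨_, rfl⟩
  rw [← hU]
  have hinv : ∀ x ∈ U, h x ∈ U := by
    intro x hx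
    rw [hU, LinearMap.mem_ker] at hx ⊢
    have h1 : aeval h (W * X) = aeval h (X * W) := by rw [mul_comm]
    rw [map_mul, map_mul, aeval_X] at h1
    have h3 := congrArg (fun f => f x) h1
    simp only [Module.End.mul_apply] at h3
    rw [h3, hx, map_zero]
  have h1 : ∀ x : V, (aeval h R) x ∈ U := by
    intro x
    rw [hU, LinearMap.mem_ker, ← Module.End.mul_apply, ← map_mul, ← hR, minpoly.aeval,
      LinearMap.zero_apply]
  have h2 : aeval h (minpoly K (h.restrict hinv) * R) = 0 := by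
    apply LinearMap.ext
    intro x
    rw [map_mul, Module.End.mul_apply, LinearMap.zero_apply]
    have h3 := aeval_restrict_apply h U hinv (minpoly K (h.restrict hinv)) ⟨_, h1 x⟩
    rw [minpoly.aeval, LinearMap.zero_apply] at h3
    exact h3.symm
  have h3 : W * R ∣ minpoly K (h.restrict hinv) * R := by
    rw [← hR]
    exact minpoly.dvd K h h2
  have h4 : W ∣ minpoly K (h.restrict hinv) := (mul_dvd_mul_iff_right hR0).1 h3
  have h5 : W.natDegree ≤ (minpoly K (h.restrict hinv)).natDegree :=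
    natDegree_le_of_dvd h4 (minpoly.ne_zero (Algebra.IsIntegral.isIntegral _))
  have h6 : (minpoly K (h.restrict hinv)).natDegree ≤ Module.finrank K U := by
    have h7 := natDegree_le_of_dvd (LinearMap.minpoly_dvd_charpoly (h.restrict hinv))
      (LinearMap.charpoly_monic (h.restrict hinv)).ne_zero
    rwa [LinearMap.charpoly_natDegree] at h7
  exact h5.trans h6

/-- an involution in characteristic `≠ 2`: determinant and the dimensions of the eigenspaces -/
theorem det_involution (h2 : (2 : K) ≠ 0) (t : Module.End K V) (ht : t * t = 1) :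
    LinearMap.det t = (-1) ^ Module.finrank K (LinearMap.ker (t + 1)) ∧
      Module.finrank K (LinearMap.ker (t - 1)) + Module.finrank K (LinearMap.ker (t + 1)) =
        Module.finrank K V := by
  classical
  have htt : ∀ x, t (t x) = x := fun x => by
    have h1 := congrArg (fun f => f x) ht
    simpa using h1
  have hcompl : IsCompl (LinearMap.ker (t - 1)) (LinearMap.ker (t + 1)) := by
    constructor
    · rw [Submodule.disjoint_def]
      intro x hx hx'
      rw [LinearMap.mem_ker, LinearMap.sub_apply, Module.End.one_apply, sub_eq_zero] at hx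
      rw [LinearMap.mem_ker, LinearMap.add_apply, Module.End.one_apply, hx] at hx'
      have h1 : (2 : K) • x = 0 := by rw [two_smul]; exact hx'
      rcases smul_eq_zero.1 h1 with h | h
      · exact absurd h h2
      · exact h
    · rw [codisjoint_iff, eq_top_iff]
      intro x _
      rw [Submodule.mem_sup]
      refine ⟨(2⁻¹ : K) • (x + t x), ?_, (2⁻¹ : K) • (x - t x), ?_, ?_⟩
      · rw [LinearMap.mem_ker, LinearMap.sub_apply, Module.End.one_apply, map_smul, map_add, htt,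
          add_comm, sub_self]
      · rw [LinearMap.mem_ker, LinearMap.add_apply, Module.End.one_apply, map_smul, map_sub, htt,
          ← smul_add, sub_add_sub_cancel, sub_self, smul_zero]
      · rw [← smul_add, add_add_sub_cancel, ← two_smul K x, smul_smul, inv_mul_cancel₀ h2,
          one_smul]
  refine ⟨?_, Submodule.finrank_add_eq_of_isCompl hcompl⟩
  let e := Submodule.prodEquivOfIsCompl _ _ hcompl
  have hconj : t = (e : _ →ₗ[K] V) ∘ₗ
      ((1 : Module.End K (LinearMap.ker (t - 1))).prodMap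
        ((-1 : K) • (1 : Module.End K (LinearMap.ker (t + 1))))) ∘ₗ (e.symm : V →ₗ[K] _) := by
    apply LinearMap.ext
    intro x
    obtain ⟨u, rfl⟩ := e.surjective x
    rcases u with ⟨u₁, u₂⟩
    have h1 : t u₁.1 = u₁.1 := by
      have h3 := u₁.2
      rw [LinearMap.mem_ker, LinearMap.sub_apply, Module.End.one_apply, sub_eq_zero] at h3
      exact h3
    have h3 : t u₂.1 = -u₂.1 := by
      have h4 := u₂.2
      rw [LinearMap.mem_ker, LinearMap.add_apply, Module.End.one_apply] at h4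
      exact eq_neg_of_add_eq_zero_left h4
    simp [e, Submodule.coe_prodEquivOfIsCompl', h1, h3]
  conv_lhs => rw [hconj]
  rw [LinearMap.det_conj, LinearMap.det_prodMap, map_one, one_mul, LinearMap.det_smul, map_one,
    mul_one]

end lin

/-- a permutation `π` with `π ^ (2 r) = 1` of sign `1` such that `π ^ r` and `π ^ 2` have the same
fixed points -/
theorem perm_count {L : Type*} [Fintype L] [DecidableEq L] (π : Equiv.Perm L) (r : ℕ)
    [hr : Fact r.Prime] (hπ : π ^ (2 * r) = 1)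
    (hfix : ∀ x, (π ^ r) x = x ↔ (π ^ 2) x = x) (hsign : Equiv.Perm.sign π = 1) :
    Fintype.card L ≡ Fintype.card (Function.fixedPoints (π ^ r)) [MOD r] ∧
      4 ∣ Fintype.card L - Fintype.card (Function.fixedPoints (π ^ r)) := by
  have hcard : Fintype.card (Function.fixedPoints (π ^ r)) =
      Fintype.card (Function.fixedPoints (π ^ 2 : Equiv.Perm L)) := by
    apply Fintype.card_congr
    exact Equiv.subtypeEquivRight (fun x => by
      rw [Function.mem_fixedPoints, Function.mem_fixedPoints, Function.IsFixedPt,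
        Function.IsFixedPt]
      exact hfix x)
  constructor
  · rw [hcard, Equiv.Perm.card_fixedPoints, Equiv.Perm.sum_cycleType, ← Finset.card_compl]
    have h1 : (π ^ 2) ^ r ^ 1 = 1 := by rw [pow_one, ← pow_mul]; exact hπ
    exact (Equiv.Perm.card_compl_support_modEq h1).symm
  · have hσ2 : (π ^ r) ^ 2 = 1 := by rw [← pow_mul, mul_comm]; exact hπ
    obtain ⟨hs, hd⟩ := sign_of_full_cycles (π ^ r) 2 (by norm_num) even_two hσ2 (by
      intro x j hj0 hj2 hx
      have hj : j = 1 := by omega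
      subst hj
      rwa [pow_one] at hx)
    rw [map_pow, hsign, one_pow] at hs
    obtain ⟨m, hm⟩ := hd
    rw [hm, Nat.mul_div_cancel_left _ (by norm_num : 0 < 2)] at hs
    have hme : Even m := by
      by_contra hodd
      rw [Nat.not_even_iff_odd] at hodd
      rw [hodd.neg_one_pow] at hs
      exact absurd hs (by decide)
    obtain ⟨c, hc⟩ := hme
    rw [hm, hc]
    exact ⟨c, by ring⟩

theorem arith_odd (Y r c : ℕ) (hY : Odd Y) (hr : r.Prime) (hr2 : r ≠ 2) (hrY : r ∣ Y - 1)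
    (hc : c ≤ 2) (hmod : Y ^ 2 + Y ≡ c [MOD r]) (h4 : 4 ∣ Y ^ 2 + Y - c) : 4 ∣ Y - 1 := by
  obtain ⟨m, rfl⟩ := hY
  obtain ⟨a, ha⟩ := hrY
  have ha' : 2 * m = r * a := by omega
  have h1 : (2 * m + 1) ^ 2 + (2 * m + 1) = 2 + r * (a * (r * a) + 3 * a) := by
    have : (2 * m + 1) ^ 2 + (2 * m + 1) = 2 + ((2 * m) * (2 * m) + 3 * (2 * m)) := by ring
    rw [this, ha']
    ring
  have h3 : c ≡ 2 [MOD r] := by
    have h5 : (2 * m + 1) ^ 2 + (2 * m + 1) ≡ 2 [MOD r] := by
      rw [h1]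
      have h6 : r ∣ 2 + r * (a * (r * a) + 3 * a) - 2 := by
        rw [Nat.add_sub_cancel_left]
        exact dvd_mul_right r _
      exact ((Nat.modEq_iff_dvd' (Nat.le_add_right 2 _)).2 h6).symm
    exact hmod.symm.trans h5
  have h5 : r ∣ 2 - c := (Nat.modEq_iff_dvd' hc).1 h3
  have hr3 : 3 ≤ r := by
    have := hr.two_le
    omega
  have hc2 : c = 2 := by
    by_contra hne
    have := Nat.le_of_dvd (by omega) h5
    omega
  subst hc2
  have h6 : (2 * m + 1) ^ 2 + (2 * m + 1) - 2 = 4 * (m * m + m) + 2 * m := by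
    have : (2 * m + 1) ^ 2 + (2 * m + 1) = 4 * (m * m + m) + 2 * m + 2 := by ring
    omega
  rw [h6] at h4
  have h7 : 4 ∣ 2 * m := (Nat.dvd_add_right (dvd_mul_right 4 _)).1 h4
  have h8 : 2 * m + 1 - 1 = 2 * m := by omega
  rw [h8]
  exact h7

theorem arith_even (Y r c : ℕ) (hY : Odd Y) (hr : r.Prime) (hr2 : r ≠ 2) (hrY : r ∣ Y + 1)
    (hc : c ≤ 2) (hmod : Y ^ 2 + Y ≡ c [MOD r]) (h4 : 4 ∣ Y ^ 2 + Y - c) : 4 ∣ Y + 1 := by
  have h1 : Y ^ 2 + Y = Y * (Y + 1) := by ring
  have h3 : c ≡ 0 [MOD r] := by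
    have h5 : Y ^ 2 + Y ≡ 0 [MOD r] := by
      rw [h1, Nat.modEq_zero_iff_dvd]
      exact dvd_mul_of_dvd_right hrY _
    exact hmod.symm.trans h5
  have h5 : r ∣ c := (Nat.modEq_zero_iff_dvd).1 h3
  have hr3 : 3 ≤ r := by
    have := hr.two_le
    omega
  have hc0 : c = 0 := by
    by_contra hne
    have := Nat.le_of_dvd (by omega) h5
    omega
  subst hc0
  rw [Nat.sub_zero, h1] at h4
  have hcop : Nat.Coprime 4 Y := by
    have h6 : Nat.Coprime (2 ^ 2) Y := Nat.Coprime.pow_left 2 (Nat.coprime_two_left.2 hY)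
    exact h6
  exact hcop.dvd_of_dvd_mul_left h4

variable {F : Type*} [Field F] [Fintype F]

theorem gram_pow {ι : Type*} [Fintype ι] [DecidableEq ι] (Ω A : Matrix ι ι F)
    (hA : Aᵀ * Ω * A = Ω) (j : ℕ) : (A ^ j)ᵀ * Ω * A ^ j = Ω := by
  induction j with
  | zero => simp
  | succ j ih =>
    rw [pow_succ, Matrix.transpose_mul]
    calc Aᵀ * (A ^ j)ᵀ * Ω * (A ^ j * A)
        = Aᵀ * ((A ^ j)ᵀ * Ω * A ^ j) * A := by simp only [Matrix.mul_assoc]
      _ = Ω := by rw [ih, hA]

/-- the matrix of an isometry of `quadFormOdd` of order `N` -/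
theorem setup (h2 : (2 : F) ≠ 0) (n : ℕ)
    (g : ↥(Cfsg.isometryGroup F (Cfsg.quadFormOdd n F))) (N : ℕ) (hN : 0 < N)
    (hord : orderOf g = N) :
    ∃ M : Matrix (Unit ⊕ (Fin n ⊕ Fin n)) (Unit ⊕ (Fin n ⊕ Fin n)) F,
      M = ((g : GL (Unit ⊕ (Fin n ⊕ Fin n)) F) : Matrix _ _ F) ∧
      (∀ j : ℕ, M ^ j = 1 ↔ N ∣ j) ∧ (∀ j : ℕ, RevClosed (M ^ j)) ∧
      (∀ j : ℕ, (minpoly F (M ^ j)).natDegree ≤ 2 * n + 1) := by
  classical
  have h1 : orderOf ((g : GL (Unit ⊕ (Fin n ⊕ Fin n)) F) :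
      Matrix (Unit ⊕ (Fin n ⊕ Fin n)) (Unit ⊕ (Fin n ⊕ Fin n)) F) = N := by
    rw [orderOf_units, Subgroup.orderOf_coe, hord]
  refine ⟨_, rfl, ?_, ?_, ?_⟩
  · intro j
    rw [← h1]
    exact (orderOf_dvd_iff_pow_eq_one).symm
  · intro j
    have hgram := (Cfsg.Agent.Lib.helper48.OddBal.mem_iso_iff_gram h2 g.1).1 g.2
    have h1Ω : gramOdd n F * gramOddInv n F = 1 := gramOdd_mul_inv n h2
    have h2Ω : gramOddInv n F * gramOdd n F = 1 := mul_eq_one_comm.1 h1Ω
    refine revClosed_of_gram (gramOdd n F) (gramOddInv n F) h1Ω h2Ω _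
      (gram_pow _ _ hgram j) N hN ?_
    rw [← pow_mul, mul_comm, pow_mul, ← h1, pow_orderOf_eq_one, one_pow]
  · intro j
    have h5 := natDegree_minpoly_le_card
      (((g : GL (Unit ⊕ (Fin n ⊕ Fin n)) F) :
        Matrix (Unit ⊕ (Fin n ⊕ Fin n)) (Unit ⊕ (Fin n ⊕ Fin n)) F) ^ j)
    simp only [Fintype.card_sum, Fintype.card_unit, Fintype.card_fin] at h5
    omega

theorem omega_rs_nec (p : ℕ) [hp : Fact p.Prime] [CharP F p] (hp2 : p ≠ 2) (n : ℕ)
    (hn : 1 ≤ n) (r s : ℕ)
    (hr : r.Prime) (hs : s.Prime) (hr2 : r ≠ 2) (hs2 : s ≠ 2) (hrp : r ≠ p) (hsp : s ≠ p)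
    (hrs : r ≠ s) (k l ηk ηl : ℕ) (hk : k = orderOf ((Fintype.card F : ℕ) : ZMod r))
    (hl : l = orderOf ((Fintype.card F : ℕ) : ZMod s))
    (hηk : (Odd k ∧ ηk = k) ∨ (Even k ∧ 2 * ηk = k))
    (hηl : (Odd l ∧ ηl = l) ∨ (Even l ∧ 2 * ηl = l)) (hkl : ηk ≤ ηl)
    (h : r * s ∈ Set.range (orderOf : Cfsg.POmega F (Cfsg.quadFormOdd n F) → ℕ)) :
    ηk + ηl ≤ n ∨ (ηl ≤ n ∧ ∃ t : ℕ, Odd t ∧ l = k * t) := by
  classical
  have h2 : (2 : F) ≠ 0 := two_ne p hp2
  have hk0 : 0 < k := by rw [hk]; exact ord_pos p r hr hrp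
  have hl0 : 0 < l := by rw [hl]; exact ord_pos p s hs hsp
  obtain ⟨g, -, hord⟩ := exists_of_mem_range h2 n hn (r * s) h
  obtain ⟨M, -, hMpow, hRC, hdeg⟩ := setup h2 n g (r * s) (Nat.mul_pos hr.pos hs.pos) hord
  have hRC1 : RevClosed M := by have := hRC 1; rwa [pow_one] at this
  have hdeg1 : (minpoly F M).natDegree ≤ 2 * n + 1 := by have := hdeg 1; rwa [pow_one] at this
  rcases analysis_rs p n hn r s hr hs hr2 hs2 hrp hsp hrs k l ηk ηl hk hl hηk hηl hkl hk0 hl0 M
    hRC1 hdeg1 hMpow with h1 | h1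
  · exact Or.inl h1
  · right
    refine ⟨?_, h1⟩
    have hsF : ((s : ℕ) : F) ≠ 0 := cast_ne p s hs hsp
    have hAs : (M ^ r) ^ s = 1 := by rw [← pow_mul]; exact (hMpow _).2 (dvd_refl _)
    have hA1 : M ^ r ≠ 1 := by
      intro h3
      have h4 : r * s ∣ r * 1 := by rw [mul_one]; exact (hMpow r).1 h3
      exact hs.one_lt.ne' (Nat.dvd_one.1 (Nat.dvd_of_mul_dvd_mul_left hr.pos h4))
    obtain ⟨W, -, -, -, -, hle⟩ :=
      eta_le' (M ^ r) (hRC r) n (hdeg r) s hs hs2 hsF hAs hA1 l ηl hl hηl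
    exact hle

theorem omega_rp_nec (p : ℕ) [hp : Fact p.Prime] [CharP F p] (hp2 : p ≠ 2) (n : ℕ)
    (hn : 1 ≤ n) (r : ℕ) (hr : r.Prime) (hr2 : r ≠ 2) (hrp : r ≠ p) (k ηk : ℕ)
    (hk : k = orderOf ((Fintype.card F : ℕ) : ZMod r))
    (hηk : (Odd k ∧ ηk = k) ∨ (Even k ∧ 2 * ηk = k))
    (h : r * p ∈ Set.range (orderOf : Cfsg.POmega F (Cfsg.quadFormOdd n F) → ℕ)) :
    ηk + 1 ≤ n := by
  classical
  have hpp : p.Prime := hp.out
  have h2 : (2 : F) ≠ 0 := two_ne p hp2
  have hk0 : 0 < k := by rw [hk]; exact ord_pos p r hr hrp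
  have hη0 : 0 < ηk := by
    rcases hηk with ⟨-, h⟩ | ⟨-, h⟩ <;> omega
  obtain ⟨g, -, hord⟩ := exists_of_mem_range h2 n hn (r * p) h
  obtain ⟨M, -, hMpow, hRC, hdeg⟩ := setup h2 n g (r * p) (Nat.mul_pos hr.pos hpp.pos) hord
  have hRC1 : RevClosed M := by have := hRC 1; rwa [pow_one] at this
  have hdeg1 : (minpoly F M).natDegree ≤ 2 * n + 1 := by have := hdeg 1; rwa [pow_one] at this
  exact analysis_p p n hn r hr hr2 hrp k ηk hk hηk hη0 M hRC1 hdeg1 hMpow

theorem omega_two_r_nec (p : ℕ) [hp : Fact p.Prime] [CharP F p] (hp2 : p ≠ 2) (n : ℕ)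
    (hn : 1 ≤ n) (r : ℕ) (hr : r.Prime) (hr2 : r ≠ 2) (hrp : r ≠ p) (k ηk : ℕ)
    (hk : k = orderOf ((Fintype.card F : ℕ) : ZMod r))
    (hηk : (Odd k ∧ ηk = k) ∨ (Even k ∧ 2 * ηk = k))
    (h : 2 * r ∈ Set.range (orderOf : Cfsg.POmega F (Cfsg.quadFormOdd n F) → ℕ)) :
    ηk + 1 ≤ n ∨ (ηk = n ∧ Odd k ∧ 4 ∣ Fintype.card F ^ n - 1) ∨
      (ηk = n ∧ Even k ∧ 4 ∣ Fintype.card F ^ n + 1) := by
  classical
  have hpp : p.Prime := hp.out
  have : Fact r.Prime := ⟨hr⟩
  have h2 : (2 : F) ≠ 0 := two_ne p hp2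
  have hrodd := hr.odd_of_ne_two hr2
  have hrF : ((r : ℕ) : F) ≠ 0 := cast_ne p r hr hrp
  have hq1 : 1 ≤ Fintype.card F := Fintype.card_pos
  have hqodd : Odd (Fintype.card F) := odd_card p hp2
  have hk0 : 0 < k := by rw [hk]; exact ord_pos p r hr hrp
  by_cases hlt : ηk + 1 ≤ n
  · exact Or.inl hlt
  right
  obtain ⟨g, hgΩ, hord⟩ := exists_of_mem_range h2 n hn (2 * r) h
  obtain ⟨M, hM, hMpow, hRC, hdeg⟩ := setup h2 n g (2 * r) (by have := hr.pos; omega) hord
  have hRC1 : RevClosed M := by have := hRC 1; rwa [pow_one] at this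
  -- the square has order `r`
  have hB1 : M ^ 2 ≠ 1 := by
    intro h3
    have h4 : 2 * r ∣ 2 * 1 := by rw [mul_one]; exact (hMpow 2).1 h3
    exact hr.one_lt.ne' (Nat.dvd_one.1 (Nat.dvd_of_mul_dvd_mul_left (by norm_num) h4))
  have hBr : (M ^ 2) ^ r = 1 := by rw [← pow_mul]; exact (hMpow _).2 (dvd_refl _)
  obtain ⟨W, hWμ, hWr, hWc, hWd, hηn⟩ :=
    eta_le' (M ^ 2) (hRC 2) n (hdeg 2) r hr hr2 hrF hBr hB1 k ηk hk hηk
  have hηeq : ηk = n := by omega
  -- the endomorphism
  obtain ⟨T, hT⟩ : ∃ T : Module.End F (Unit ⊕ (Fin n ⊕ Fin n) → F),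
      T = Matrix.toLinAlgEquiv' M := ⟨_, rfl⟩
  have hTapp : ∀ (j : ℕ) (x : Unit ⊕ (Fin n ⊕ Fin n) → F), (T ^ j) x = (M ^ j) *ᵥ x := by
    intro j x
    rw [hT, ← map_pow, Matrix.toLinAlgEquiv'_apply]
  have hTpow : ∀ j : ℕ, T ^ j = 1 ↔ 2 * r ∣ j := by
    intro j
    rw [← hMpow j, hT, ← map_pow]
    constructor
    · intro h3
      apply (Matrix.toLinAlgEquiv' : Matrix (Unit ⊕ (Fin n ⊕ Fin n))
        (Unit ⊕ (Fin n ⊕ Fin n)) F ≃ₐ[F] _).injective
      rw [h3, map_one]
    · intro h3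
      rw [h3, map_one]
  have hminT : ∀ j : ℕ, minpoly F (T ^ j) = minpoly F (M ^ j) := by
    intro j
    rw [hT, ← map_pow, minpoly.algEquiv_eq]
  have hdim : Module.finrank F (Unit ⊕ (Fin n ⊕ Fin n) → F) = 2 * n + 1 := finrank_odd n
  have hdetM : M.det = 1 := by
    have h1 : detHom (Cfsg.quadFormOdd n F) g = 1 :=
      MonoidHom.mem_ker.mp
        (Abelianization.commutator_subset_ker (detHom (Cfsg.quadFormOdd n F)) hgΩ)
    have h3 := congrArg Units.val h1
    rw [detHom, MonoidHom.comp_apply, Matrix.GeneralLinearGroup.val_det_apply] at h3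
    rw [hM]
    simpa using h3
  have hdetT : LinearMap.det T = 1 := by
    rw [hT, ← hdetM]
    exact LinearMap.det_toLin' M
  -- the fixed space of the square has dimension at most `1`
  have hS2 : Module.finrank F (LinearMap.ker (T ^ 2 - 1)) ≤ 1 := by
    have h1 := natDegree_le_finrank_ker (T ^ 2) W (by rw [hminT]; exact hWμ)
    have hdisj : Disjoint (LinearMap.ker (aeval (T ^ 2) W)) (LinearMap.ker (T ^ 2 - 1)) := by
      rw [Submodule.disjoint_def]
      intro x hx hx'
      obtain ⟨a, b, hab⟩ := hWc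
      have h3 : (aeval (T ^ 2) (a * W + b * (X - 1))) x = x := by
        rw [hab, map_one, Module.End.one_apply]
      have h4 : (aeval (T ^ 2) (X - 1 : F[X])) x = 0 := by
        rw [map_sub, aeval_X, map_one]
        exact LinearMap.mem_ker.1 hx'
      rw [map_add, map_mul, map_mul, LinearMap.add_apply, Module.End.mul_apply,
        Module.End.mul_apply, LinearMap.mem_ker.1 hx, h4, map_zero, map_zero, zero_add] at h3
      exact h3.symm
    have h5 := Submodule.finrank_add_finrank_le_of_disjoint hdisj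
    rw [hdim] at h5
    omega
  -- the involution
  have htt : T ^ r * T ^ r = 1 := by
    rw [← pow_add]
    exact (hTpow _).2 ⟨1, by ring⟩
  obtain ⟨hdet, hsum⟩ := det_involution h2 (T ^ r) htt
  rw [map_pow, hdetT, one_pow] at hdet
  have heven : Even (Module.finrank F (LinearMap.ker (T ^ r + 1))) := by
    by_contra hodd
    rw [Nat.not_even_iff_odd] at hodd
    rw [hodd.neg_one_pow] at hdet
    apply h2
    linear_combination hdet
  rw [hdim] at hsum
  -- vectors fixed by `T ^ r` are fixed by `T`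
  have hμT : aeval T (minpoly F M) = 0 := by
    have h1 := hminT 1
    rw [pow_one, pow_one] at h1
    rw [← h1]
    exact minpoly.aeval F T
  have hS1 : ∀ x, (T ^ r) x = x → T x = x := by
    obtain ⟨G, hG⟩ : ∃ G : F[X], G = EuclideanDomain.gcd (minpoly F M) (X ^ r - 1) := ⟨_, rfl⟩
    have hXr0 : (X ^ r - 1 : F[X]) ≠ 0 := by
      have h1 := (monic_X_pow_sub_C (1 : F) hr.ne_zero).ne_zero
      rwa [map_one] at h1
    have hGr : G ∣ X ^ r - 1 := by rw [hG]; exact EuclideanDomain.gcd_dvd_right _ _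
    have hGμ : G ∣ minpoly F M := by rw [hG]; exact EuclideanDomain.gcd_dvd_left _ _
    have hG0 : G ≠ 0 := ne_zero_of_dvd_ne_zero hXr0 hGr
    have hGsq : Squarefree G := by
      have h1 : G ∣ X ^ r - C (1 : F) := by rwa [map_one]
      exact ((separable_X_pow_sub_C (1 : F) hrF one_ne_zero).of_dvd h1).squarefree
    have hG1 : G ∣ X - 1 := by
      by_contra hnd
      obtain ⟨φ, hφ, hφG, hφ1⟩ := exists_irr_factor_not_dvd G (X - 1) hG0 hGsq hnd
      obtain ⟨W', hW'μ, hW'r, -, hW'd, -⟩ := exists_weight' M hRC1 r hr hr2 k ηk hk hηk φ hφ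
        (hφG.trans hGμ) (hφG.trans hGr) hφ1
      have h1 := natDegree_le_finrank_ker T W' (by
        have h3 := hminT 1
        rw [pow_one, pow_one] at h3
        rw [h3]
        exact hW'μ)
      have hle : LinearMap.ker (aeval T W') ≤ LinearMap.ker (T ^ r - 1) := by
        intro x hx
        obtain ⟨c, hc⟩ := hW'r
        rw [LinearMap.mem_ker] at hx ⊢
        have h3 : (aeval T (X ^ r - 1 : F[X])) x = 0 := by
          rw [hc, mul_comm, map_mul, Module.End.mul_apply, hx, map_zero]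
        rwa [map_sub, map_pow, aeval_X, map_one] at h3
      have h3 := Submodule.finrank_mono hle
      have h4 : Module.finrank F (LinearMap.ker (T ^ r + 1)) = 0 := by
        obtain ⟨c, hc⟩ := heven
        omega
      have h5 : LinearMap.ker (T ^ r - 1) = ⊤ := by
        apply Submodule.eq_top_of_finrank_eq
        rw [hdim]
        omega
      have h6 : T ^ r = 1 := by
        apply LinearMap.ext
        intro x
        have h7 : x ∈ LinearMap.ker (T ^ r - 1) := by rw [h5]; exact Submodule.mem_top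
        rw [LinearMap.mem_ker, LinearMap.sub_apply, sub_eq_zero] at h7
        exact h7
      have h7 := Nat.le_of_dvd hr.pos ((hTpow r).1 h6)
      have := hr.pos
      omega
    intro x hx
    have hGx : (aeval T G) x = 0 := by
      rw [hG, EuclideanDomain.gcd_eq_gcd_ab, map_add, map_mul, map_mul, LinearMap.add_apply, hμT,
        zero_mul, LinearMap.zero_apply, zero_add, ← map_mul, mul_comm, map_mul,
        Module.End.mul_apply, map_sub, map_pow, aeval_X, map_one, LinearMap.sub_apply, hx,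
        Module.End.one_apply, sub_self, map_zero]
    obtain ⟨c, hc⟩ := hG1
    have h1 : (aeval T (X - 1 : F[X])) x = 0 := by
      rw [hc, mul_comm, map_mul, Module.End.mul_apply, hGx, map_zero]
    rw [map_sub, aeval_X, map_one, LinearMap.sub_apply, Module.End.one_apply, sub_eq_zero] at h1
    exact h1
  have hle12 : LinearMap.ker (T ^ r - 1) ≤ LinearMap.ker (T ^ 2 - 1) := by
    intro x hx
    rw [LinearMap.mem_ker, LinearMap.sub_apply, Module.End.one_apply, sub_eq_zero] at hx ⊢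
    have h1 := hS1 x hx
    rw [pow_two, Module.End.mul_apply, h1, h1]
  have hfr1 : Module.finrank F (LinearMap.ker (T ^ r - 1)) = 1 := by
    have h1 := Submodule.finrank_mono hle12
    obtain ⟨c, hc⟩ := heven
    omega
  have heq12 : LinearMap.ker (T ^ r - 1) = LinearMap.ker (T ^ 2 - 1) :=
    Submodule.eq_of_le_of_finrank_le hle12 (by rw [hfr1]; exact hS2)
  have hfix : ∀ x, (T ^ r) x = x ↔ (T ^ 2) x = x := by
    intro x
    have h1 : x ∈ LinearMap.ker (T ^ r - 1) ↔ x ∈ LinearMap.ker (T ^ 2 - 1) := by rw [heq12]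
    rw [LinearMap.mem_ker, LinearMap.mem_ker, LinearMap.sub_apply, LinearMap.sub_apply,
      Module.End.one_apply, sub_eq_zero, sub_eq_zero] at h1
    exact h1
  -- the fixed vectors of norm `1`
  obtain ⟨e, he0, hespan⟩ := finrank_eq_one_iff'.1 hfr1
  have hpm : ∀ v v' : Unit ⊕ (Fin n ⊕ Fin n) → F, (T ^ r) v = v → (T ^ r) v' = v' →
      Cfsg.quadFormOdd n F v = 1 → Cfsg.quadFormOdd n F v' = 1 → v' = v ∨ v' = -v := by
    intro v v' hv hv' hQv hQv'
    have hvk : v ∈ LinearMap.ker (T ^ r - 1) := by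
      rw [LinearMap.mem_ker, LinearMap.sub_apply, Module.End.one_apply, hv, sub_self]
    have hvk' : v' ∈ LinearMap.ker (T ^ r - 1) := by
      rw [LinearMap.mem_ker, LinearMap.sub_apply, Module.End.one_apply, hv', sub_self]
    obtain ⟨c, hc⟩ := hespan ⟨v, hvk⟩
    obtain ⟨c', hc'⟩ := hespan ⟨v', hvk'⟩
    have hc1 : c • e.1 = v := congrArg Subtype.val hc
    have hc1' : c' • e.1 = v' := congrArg Subtype.val hc'
    have hQ : ∀ a : F, Cfsg.quadFormOdd n F (a • e.1) = a * a * Cfsg.quadFormOdd n F e.1 := by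
      intro a
      have h3 := QuadraticMap.map_smul (oddForm n F) a e.1
      rw [smul_eq_mul] at h3
      exact h3
    rw [← hc1, hQ] at hQv
    rw [← hc1', hQ] at hQv'
    have h3 : (c' - c) * (c' + c) * Cfsg.quadFormOdd n F e.1 = 0 := by
      linear_combination hQv' - hQv
    have hQe : Cfsg.quadFormOdd n F e.1 ≠ 0 := by
      intro h0
      rw [h0, mul_zero] at hQv
      exact zero_ne_one hQv
    rcases mul_eq_zero.1 h3 with h4 | h4
    · rcases mul_eq_zero.1 h4 with h5 | h5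
      · left
        rw [← hc1, ← hc1', sub_eq_zero.1 h5]
      · right
        rw [← hc1, ← hc1', eq_neg_of_add_eq_zero_left h5, neg_smul]
    · exact absurd h4 hQe
  -- the permutation of the vectors of norm `1`
  obtain ⟨π, hπ⟩ : ∃ π : Equiv.Perm (Level (Cfsg.quadFormOdd n F) 1),
      π = permHom (Cfsg.quadFormOdd n F) 1 g := ⟨_, rfl⟩
  have hπapp : ∀ (j : ℕ) (v : Level (Cfsg.quadFormOdd n F) 1),
      ((π ^ j) v).1 = (T ^ j) v.1 := by
    intro j v
    rw [hπ, ← map_pow, permHom_apply, Subgroup.coe_pow, Units.val_pow_eq_pow_val, ← hM, hTapp]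
  have hπ2r : π ^ (2 * r) = 1 := by
    rw [hπ, ← map_pow, ← hord, pow_orderOf_eq_one, map_one]
  have hfixπ : ∀ v, (π ^ r) v = v ↔ (π ^ 2) v = v := by
    intro v
    constructor
    · intro h3
      apply Subtype.ext
      rw [hπapp]
      exact (hfix v.1).1 (by rw [← hπapp, h3])
    · intro h3
      apply Subtype.ext
      rw [hπapp]
      exact (hfix v.1).2 (by rw [← hπapp, h3])
  have hsignπ : Equiv.Perm.sign π = 1 := by
    rw [hπ]
    exact MonoidHom.mem_ker.mp
      (Abelianization.commutator_subset_ker (spinorSign (Cfsg.quadFormOdd n F)) hgΩ)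
  obtain ⟨hmod, h4⟩ := perm_count π r hπ2r hfixπ hsignπ
  have hc2 : Fintype.card (Function.fixedPoints (π ^ r)) ≤ 2 := by
    by_contra hgt
    rw [not_le, Fintype.two_lt_card_iff] at hgt
    obtain ⟨a, b, c, hab, hac, hbc⟩ := hgt
    have hfa : (T ^ r) a.1.1 = a.1.1 := by rw [← hπapp]; exact congrArg Subtype.val a.2
    have hfb : (T ^ r) b.1.1 = b.1.1 := by rw [← hπapp]; exact congrArg Subtype.val b.2
    have hfc : (T ^ r) c.1.1 = c.1.1 := by rw [← hπapp]; exact congrArg Subtype.val c.2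
    have hb : b.1.1 = -a.1.1 := by
      rcases hpm a.1.1 b.1.1 hfa hfb a.1.2 b.1.2 with h5 | h5
      · exact absurd (Subtype.ext (Subtype.ext h5)).symm hab
      · exact h5
    have hc : c.1.1 = -a.1.1 := by
      rcases hpm a.1.1 c.1.1 hfa hfc a.1.2 c.1.2 with h5 | h5
      · exact absurd (Subtype.ext (Subtype.ext h5)).symm hac
      · exact h5
    exact hbc (Subtype.ext (Subtype.ext (by rw [hb, hc])))
  have hL : Fintype.card (Level (Cfsg.quadFormOdd n F) 1) =
      (Fintype.card F ^ n) ^ 2 + Fintype.card F ^ n := by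
    rw [Fintype.card_eq_nat_card, ← pow_mul, mul_comm n 2]
    exact card_level_one h2 n hn
  rw [hL] at hmod h4
  rcases hηk with ⟨hodd, hηk'⟩ | ⟨hev, hηk'⟩
  · left
    refine ⟨hηeq, hodd, ?_⟩
    have hrY : r ∣ Fintype.card F ^ n - 1 := dvd_of_ord_dvd hq1 (by rw [← hk, ← hηk', hηeq])
    exact arith_odd (Fintype.card F ^ n) r _ hqodd.pow hr hr2 hrY hc2 hmod h4
  · right
    refine ⟨hηeq, hev, ?_⟩
    have hrY : r ∣ Fintype.card F ^ n + 1 := by
      rcases dvd_pm r hr k ηk hk (Or.inr ⟨hev, hηk'⟩) with h5 | h5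
      · exfalso
        have h3 := ord_dvd_of_dvd hq1 h5
        rw [← hk] at h3
        have := Nat.le_of_dvd (by omega) h3
        omega
      · rw [← hηeq]
        exact h5
    exact arith_even (Fintype.card F ^ n) r _ hqodd.pow hr hr2 hrY hc2 hmod h4

end Cfsg.Agent.Lib.helper64.RsOmN
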