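import Mathlib
import Cfsg.Agent.Lib.helper64.RsOmE
import Cfsg.Agent.Lib.helper64.RsOmN

set_option autoImplicit false
set_option linter.unusedSectionVars false

/-!
# `Ω_{2n+1}(q)` and `PSp_{2n}(q)`, `q` odd, have the same prime graph (helper64)

The arithmetic criteria of `RsSp` (symplectic side), `RsOmE` and `RsOmN` (orthogonal side) agree.
-/

namespace Cfsg.Agent.Lib.helper64.RsFin

open Cfsg Cfsg.Agent.Lib.helper64.RsSp Cfsg.Agent.Lib.helper64.RsOmE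
  Cfsg.Agent.Lib.helper64.RsOmN

theorem exists_eta (k : ℕ) : ∃ η : ℕ, (Odd k ∧ η = k) ∨ (Even k ∧ 2 * η = k) := by
  rcases Nat.even_or_odd k with h | h
  · obtain ⟨c, hc⟩ := id h
    exact ⟨c, Or.inr ⟨h, by omega⟩⟩
  · exact ⟨k, Or.inl ⟨h, rfl⟩⟩

variable {F : Type*} [Field F] [Fintype F]

theorem iff_two_p (p : ℕ) [hp : Fact p.Prime] [CharP F p] (hp2 : p ≠ 2) (n : ℕ) (hn : 2 ≤ n) :
    (2 * p ∈ Set.range (orderOf : Cfsg.POmega F (Cfsg.quadFormOdd n F) → ℕ)) ↔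
      (2 * p ∈ Set.range (orderOf : Cfsg.PSp n F → ℕ)) :=
  ⟨fun _ => psp_two_p p hp2 n hn, fun _ => omega_two_p p hp2 n hn⟩

theorem iff_two_r (p : ℕ) [hp : Fact p.Prime] [CharP F p] (hp2 : p ≠ 2) (n : ℕ) (hn : 1 ≤ n)
    (r : ℕ) (hr : r.Prime) (hr2 : r ≠ 2) (hrp : r ≠ p) :
    (2 * r ∈ Set.range (orderOf : Cfsg.POmega F (Cfsg.quadFormOdd n F) → ℕ)) ↔
      (2 * r ∈ Set.range (orderOf : Cfsg.PSp n F → ℕ)) := by
  obtain ⟨ηk, hηk⟩ := exists_eta (orderOf ((Fintype.card F : ℕ) : ZMod r))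
  rw [psp_two_r_iff p hp2 n hn r hr hr2 hrp _ ηk rfl hηk]
  exact ⟨omega_two_r_nec p hp2 n hn r hr hr2 hrp _ ηk rfl hηk,
    omega_two_r_exists p hp2 n hn r hr hr2 hrp _ ηk rfl hηk⟩

theorem iff_r_p (p : ℕ) [hp : Fact p.Prime] [CharP F p] (hp2 : p ≠ 2) (n : ℕ) (hn : 1 ≤ n)
    (r : ℕ) (hr : r.Prime) (hr2 : r ≠ 2) (hrp : r ≠ p) :
    (r * p ∈ Set.range (orderOf : Cfsg.POmega F (Cfsg.quadFormOdd n F) → ℕ)) ↔
      (r * p ∈ Set.range (orderOf : Cfsg.PSp n F → ℕ)) := by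
  obtain ⟨ηk, hηk⟩ := exists_eta (orderOf ((Fintype.card F : ℕ) : ZMod r))
  rw [psp_rp_iff p hp2 n hn r hr hr2 hrp _ ηk rfl hηk]
  exact ⟨omega_rp_nec p hp2 n hn r hr hr2 hrp _ ηk rfl hηk,
    omega_rp_exists p hp2 n hn r hr hr2 hrp _ ηk rfl hηk⟩

theorem iff_r_s (p : ℕ) [hp : Fact p.Prime] [CharP F p] (hp2 : p ≠ 2) (n : ℕ) (hn : 1 ≤ n)
    (r s : ℕ) (hr : r.Prime) (hs : s.Prime) (hr2 : r ≠ 2) (hs2 : s ≠ 2) (hrp : r ≠ p)
    (hsp : s ≠ p) (hrs : r ≠ s) :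
    (r * s ∈ Set.range (orderOf : Cfsg.POmega F (Cfsg.quadFormOdd n F) → ℕ)) ↔
      (r * s ∈ Set.range (orderOf : Cfsg.PSp n F → ℕ)) := by
  obtain ⟨ηk, hηk⟩ := exists_eta (orderOf ((Fintype.card F : ℕ) : ZMod r))
  obtain ⟨ηl, hηl⟩ := exists_eta (orderOf ((Fintype.card F : ℕ) : ZMod s))
  rcases le_total ηk ηl with hkl | hkl
  · rw [psp_rs_iff p n hn r s hr hs hr2 hs2 hrp hsp hrs _ _ ηk ηl rfl rfl hηk hηl hkl]
    exact ⟨omega_rs_nec p hp2 n hn r s hr hs hr2 hs2 hrp hsp hrs _ _ ηk ηl rfl rfl hηk hηl hkl,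
      omega_rs_exists p hp2 n hn r s hr hs hr2 hs2 hrp hsp hrs _ _ ηk ηl rfl rfl hηk hηl⟩
  · rw [mul_comm r s,
      psp_rs_iff p n hn s r hs hr hs2 hr2 hsp hrp hrs.symm _ _ ηl ηk rfl rfl hηl hηk hkl]
    exact ⟨omega_rs_nec p hp2 n hn s r hs hr hs2 hr2 hsp hrp hrs.symm _ _ ηl ηk rfl rfl hηl hηk
        hkl,
      omega_rs_exists p hp2 n hn s r hs hr hs2 hr2 hsp hrp hrs.symm _ _ ηl ηk rfl rfl hηl hηk⟩

/-- the prime graphs of `Ω_{2n+1}(q)` and `PSp_{2n}(q)` coincide -/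
theorem main_iff (p : ℕ) [hp : Fact p.Prime] [CharP F p] (hp2 : p ≠ 2) (n : ℕ) (hn : 2 ≤ n)
    (r s : ℕ) (hr : r.Prime) (hs : s.Prime) (hrs : r ≠ s) :
    (r * s ∈ Set.range (orderOf : Cfsg.POmega F (Cfsg.quadFormOdd n F) → ℕ)) ↔
      (r * s ∈ Set.range (orderOf : Cfsg.PSp n F → ℕ)) := by
  have hn1 : 1 ≤ n := by omega
  by_cases hr2 : r = 2
  · subst hr2
    by_cases hsp : s = p
    · subst hsp
      exact iff_two_p s hp2 n hn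
    · exact iff_two_r p hp2 n hn1 s hs (fun h => hrs h.symm) hsp
  by_cases hs2 : s = 2
  · subst hs2
    rw [mul_comm r 2]
    by_cases hrp : r = p
    · subst hrp
      exact iff_two_p r hp2 n hn
    · exact iff_two_r p hp2 n hn1 r hr hr2 hrp
  by_cases hrp : r = p
  · subst hrp
    rw [mul_comm r s]
    exact iff_r_p r hp2 n hn1 s hs hs2 (fun h => hrs h.symm)
  by_cases hsp : s = p
  · subst hsp
    exact iff_r_p s hp2 n hn1 r hr hr2 hrp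
  exact iff_r_s p hp2 n hn1 r s hr hs hr2 hs2 hrp hsp hrs

end Cfsg.Agent.Lib.helper64.RsFin
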