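import Mathlib

/-!
# S2113 piece TWOF (helper64, racing copy): a combinatorial lemma on `ZMod 7`
-/

set_option autoImplicit false
set_option linter.unusedVariables false

namespace Cfsg.Agent.Lib.helper64.S2113

/-- PIECE TWOF (racing copy by helper64, prefixed name): a combinatorial lemma on `ZMod 7`. -/
theorem helper64_two_f {Γ : Type*} [Group Γ] (f : ZMod 7 → Γ) (j : ZMod 7)
    (hcomm : ∀ a b, f a * f b = f b * f a) (h0 : f 0 = 1) (hsq : ∀ k, f k * f k = 1)
    (hneg : ∀ k, f (-k) = f k) (hj0 : j ≠ 0) (hj1 : j ≠ 1)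
    (hrel : ∀ i, f (i + j) = f i * f (i + 1)) : ∀ k, f k = 1 := by
  have h4 : f 4 = f 3 := hneg 3
  have h5 : f 5 = f 2 := hneg 2
  have h6 : f 6 = f 1 := hneg 1
  have hjall : ∀ j : ZMod 7, j ≠ 0 → j ≠ 1 → j = 2 ∨ j = 3 ∨ j = 4 ∨ j = 5 ∨ j = 6 := by
    decide
  have hj := hjall j hj0 hj1
  have cl : ∀ x y : Γ, y = x * y → x = 1 := fun x y e =>
    mul_right_cancel (b := y) (by rw [one_mul]; exact e.symm)
  have cr : ∀ x y : Γ, x = x * y → y = 1 := fun x y e =>
    mul_left_cancel (a := x) (by rw [mul_one]; exact e.symm)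
  have key : f 1 = 1 ∧ f 2 = 1 ∧ f 3 = 1 := by
    rcases hj with rfl | rfl | rfl | rfl | rfl
    · have e0 : f 2 = f 0 * f 1 := hrel 0
      have e1 : f 3 = f 1 * f 2 := hrel 1
      have e2 : f 4 = f 2 * f 3 := hrel 2
      rw [h0, one_mul] at e0
      rw [h4] at e2
      have hB : f 2 = 1 := cl _ _ e2
      have hA : f 1 = 1 := by rw [← e0, hB]
      refine ⟨hA, hB, ?_⟩
      rw [e1, hA, hB, one_mul]
    · have e0 : f 3 = f 0 * f 1 := hrel 0
      have e1 : f 4 = f 1 * f 2 := hrel 1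
      have e2 : f 5 = f 2 * f 3 := hrel 2
      rw [h0, one_mul] at e0
      rw [h4, e0] at e1
      rw [h5] at e2
      have hB : f 2 = 1 := cr _ _ e1
      have hC : f 3 = 1 := cr _ _ e2
      refine ⟨?_, hB, hC⟩
      rw [← e0, hC]
    · have e0 : f 4 = f 0 * f 1 := hrel 0
      have e1 : f 5 = f 1 * f 2 := hrel 1
      have e2 : f 6 = f 2 * f 3 := hrel 2
      rw [h0, one_mul, h4] at e0
      rw [h5] at e1
      rw [h6] at e2
      have hA : f 1 = 1 := cl _ _ e1
      have hC : f 3 = 1 := by rw [e0, hA]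
      refine ⟨hA, ?_, hC⟩
      rw [hA, hC, mul_one] at e2
      exact e2.symm
    · have e0 : f 5 = f 0 * f 1 := hrel 0
      have e1 : f 6 = f 1 * f 2 := hrel 1
      have e2 : f 0 = f 2 * f 3 := hrel 2
      rw [h0, one_mul, h5] at e0
      rw [h6] at e1
      rw [h0] at e2
      have hB : f 2 = 1 := cr _ _ e1
      have hA : f 1 = 1 := by rw [← e0, hB]
      refine ⟨hA, hB, ?_⟩
      rw [hB, one_mul] at e2
      exact e2.symm
    · have e1 : f 0 = f 1 * f 2 := hrel 1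
      have e2 : f 1 = f 2 * f 3 := hrel 2
      have e3 : f 2 = f 3 * f 4 := hrel 3
      rw [h0] at e1
      rw [h4, hsq 3] at e3
      rw [e3, mul_one] at e1
      refine ⟨e1.symm, e3, ?_⟩
      rw [e3, one_mul, ← e1] at e2
      exact e2.symm
  obtain ⟨hA, hB, hC⟩ := key
  intro k
  have hkall : ∀ k : ZMod 7, k = 0 ∨ k = 1 ∨ k = 2 ∨ k = 3 ∨ k = 4 ∨ k = 5 ∨ k = 6 := by
    decide
  have hk := hkall k
  rcases hk with rfl | rfl | rfl | rfl | rfl | rfl | rfl
  · exact h0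
  · exact hA
  · exact hB
  · exact hC
  · rw [h4, hC]
  · rw [h5, hB]
  · rw [h6, hA]

end Cfsg.Agent.Lib.helper64.S2113
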