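import Mathlib

/-! S3664 split project (helper92), piece SYLC `sylow_conj` (insurance copy; verbatim Skel
statement): elements of order `p` are conjugate up to powers when `p² ∤ |G|`. -/

set_option autoImplicit false

namespace Cfsg.Agent.Lib.helper64.S3664

open scoped Pointwise

theorem sylow_conj {G : Type*} [Group G] [Finite G] (p : ℕ) (hp : p.Prime)
    (hp2 : ¬ p ^ 2 ∣ Nat.card G) (x y : G) (hx : orderOf x = p) (hy : orderOf y = p) :
    ∃ (c : G) (j : ℕ), y = c * x ^ j * c⁻¹ := by
  have hfact : Fact p.Prime := ⟨hp⟩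
  have hpx : IsPGroup p (Subgroup.zpowers x) := by
    apply IsPGroup.of_card (n := 1)
    rw [Nat.card_zpowers, hx, pow_one]
  have hpy : IsPGroup p (Subgroup.zpowers y) := by
    apply IsPGroup.of_card (n := 1)
    rw [Nat.card_zpowers, hy, pow_one]
  obtain ⟨P, hP⟩ := hpx.exists_le_sylow
  obtain ⟨Q, hQ⟩ := hpy.exists_le_sylow
  have hcard : ∀ R : Sylow p G, Nat.card R = p := by
    intro R
    rw [Sylow.card_eq_multiplicity]
    have h1 : p ∣ Nat.card G := hx ▸ orderOf_dvd_natCard x
    have hpos : Nat.card G ≠ 0 := Nat.card_pos.ne'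
    have h1' : 1 ≤ (Nat.card G).factorization p :=
      (hp.dvd_iff_one_le_factorization hpos).mp h1
    have h2' : ¬ 2 ≤ (Nat.card G).factorization p := fun h =>
      hp2 ((hp.pow_dvd_iff_le_factorization hpos).mpr h)
    have hfac : (Nat.card G).factorization p = 1 := by omega
    rw [hfac, pow_one]
  have hPx : Subgroup.zpowers x = (P : Subgroup G) := by
    apply Subgroup.eq_of_le_of_card_ge hP
    rw [hcard P, Nat.card_zpowers, hx]
  have hQy : Subgroup.zpowers y = (Q : Subgroup G) := by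
    apply Subgroup.eq_of_le_of_card_ge hQ
    rw [hcard Q, Nat.card_zpowers, hy]
  obtain ⟨c, hc⟩ := MulAction.exists_smul_eq G P Q
  have hy' : y ∈ (Q : Subgroup G) := hQy ▸ Subgroup.mem_zpowers y
  rw [← hc, Sylow.coe_subgroup_smul, Subgroup.mem_smul_pointwise_iff_exists] at hy'
  obtain ⟨s, hs, hsy⟩ := hy'
  rw [← hPx, ← mem_powers_iff_mem_zpowers, Submonoid.mem_powers_iff] at hs
  obtain ⟨j, rfl⟩ := hs
  refine ⟨c, j, ?_⟩
  rw [← hsy, MulAut.smul_def, MulAut.conj_apply]

end Cfsg.Agent.Lib.helper64.S3664
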