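import Mathlib
import Cfsg.Agent.Lib.helper24.S6eDefs

set_option autoImplicit false

namespace Cfsg.Agent.Lib.helper24

open Matrix Cfsg Cfsg.Geo

theorem h64_mul_single_mul {F : Type*} [Field F] {n : Type*} [Fintype n] [DecidableEq n]
    (X Y : Matrix n n F) (a b c d : n) :
    (X * Matrix.single b c (1 : F) * Y : Matrix n n F) a d = X a b * Y c d := by
  rw [Matrix.mul_apply]
  have h1 : ∀ k, (X * Matrix.single b c (1 : F)) a k = if c = k then X a b else 0 := by
    intro k
    rw [Matrix.mul_apply]
    by_cases hk : c = k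
    · subst hk
      rw [if_pos rfl, Finset.sum_eq_single b]
      · simp
      · intro l _ hl
        simp [Matrix.single_apply, Ne.symm hl]
      · intro h
        exact absurd (Finset.mem_univ b) h
    · rw [if_neg hk]
      apply Finset.sum_eq_zero
      intro l _
      simp [Matrix.single_apply, hk]
  simp_rw [h1]
  simp

/-- Abstract core: trace zero off `±1` for a faithful matrix group with the Schur averaging
property, containing `-1`, of order twice the dimension of the matrix space. -/
theorem h64_trace_zero_core {F : Type*} [Field F] {n : Type*} [Fintype n] [DecidableEq n]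
    {G : Type*} [Group G] [Fintype G]
    (h2 : (2 : F) ≠ 0) (M : G → Matrix n n F) (hM1 : M 1 = 1)
    (hMmul : ∀ g h, M (g * h) = M g * M h)
    (hMinj : Function.Injective M) (z : G) (hz : M z = -1) (c₀ : F) (hc₀ : c₀ ≠ 0)
    (hcard : Fintype.card G = 2 * (Fintype.card n * Fintype.card n))
    (havg : ∀ A : Matrix n n F,
      ∑ g : G, M g * A * M g⁻¹ = (c₀ * Matrix.trace A) • (1 : Matrix n n F)) :
    ∀ g : G, M g ≠ 1 → M g ≠ -1 → Matrix.trace (M g) = 0 := by
  classical
  have hn : 0 < Fintype.card n := by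
    by_contra h
    have h0 : Fintype.card n = 0 := by omega
    rw [h0] at hcard
    have : 0 < Fintype.card G := Fintype.card_pos
    omega
  obtain ⟨i0⟩ : Nonempty n := Fintype.card_pos_iff.mp hn
  have hzz : z * z = 1 := hMinj (by rw [hMmul, hz, hM1]; simp)
  have hz1 : z ≠ 1 := by
    intro h
    rw [h, hM1] at hz
    have h3 := congrFun (congrFun hz i0) i0
    simp at h3
    exact h2 (by linear_combination h3)
  have hzinv : z⁻¹ = z := inv_eq_of_mul_eq_one_left hzz
  -- entry formula
  have hent : ∀ a b c d, ∑ g : G, M g a b * M g⁻¹ c d =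
      c₀ * (if b = c then 1 else 0) * (if a = d then 1 else 0) := by
    intro a b c d
    have h := congrFun (congrFun (havg (Matrix.single b c 1)) a) d
    rw [Matrix.sum_apply] at h
    simp_rw [h64_mul_single_mul] at h
    rw [h, Matrix.smul_apply, Matrix.one_apply, smul_eq_mul]
    by_cases hbc : b = c
    · subst hbc
      rw [Matrix.trace_single_eq_same, if_pos rfl]
    · rw [Matrix.trace_single_eq_of_ne _ _ _ hbc, if_neg hbc]
  -- Fourier inversion
  have hinv : ∀ A : Matrix n n F, ∑ g : G, Matrix.trace (A * M g⁻¹) • M g = c₀ • A := by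
    intro A
    ext a b
    rw [Matrix.sum_apply]
    simp only [Matrix.smul_apply, smul_eq_mul, Matrix.trace, Matrix.diag, Matrix.mul_apply]
    calc ∑ g, (∑ i, ∑ j, A i j * M g⁻¹ j i) * M g a b
        = ∑ i, ∑ j, A i j * ∑ g, M g a b * M g⁻¹ j i := by
          simp_rw [Finset.sum_mul, Finset.mul_sum]
          rw [Finset.sum_comm]
          refine Finset.sum_congr rfl (fun i _ => ?_)
          rw [Finset.sum_comm]
          exact Finset.sum_congr rfl (fun j _ => Finset.sum_congr rfl (fun g _ => by ring))
      _ = c₀ * A a b := by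
          simp_rw [hent]
          rw [Finset.sum_eq_single a (fun i _ hi => by simp [Ne.symm hi])
            (fun h => absurd (Finset.mem_univ a) h)]
          rw [Finset.sum_eq_single b (fun j _ hj => by simp [Ne.symm hj])
            (fun h => absurd (Finset.mem_univ b) h)]
          simp only [if_true, mul_one]
          ring
  -- the linear combination map
  have hLsurj : LinearMap.range (Fintype.linearCombination F M) = ⊤ := by
    rw [eq_top_iff]
    intro A _
    refine ⟨fun g => c₀⁻¹ * Matrix.trace (A * M g⁻¹), ?_⟩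
    rw [Fintype.linearCombination_apply]
    simp_rw [mul_smul]
    rw [← Finset.smul_sum, hinv, smul_smul, inv_mul_cancel₀ hc₀, one_smul]
  have hzZ : z ∈ Subgroup.zpowers z := Subgroup.mem_zpowers z
  have hordz : orderOf z = 2 := orderOf_eq_prime (by rw [pow_two]; exact hzz) hz1
  have hcardZ : Nat.card (Subgroup.zpowers z) = 2 := by rw [Nat.card_zpowers, hordz]
  have hcardQ : Nat.card (G ⧸ Subgroup.zpowers z) = Fintype.card n * Fintype.card n := by
    have h := Subgroup.card_eq_card_quotient_mul_card_subgroup (Subgroup.zpowers z)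
    rw [hcardZ, Nat.card_eq_fintype_card, hcard] at h
    omega
  letI : Fintype (G ⧸ Subgroup.zpowers z) := Fintype.ofFinite _
  have hPinj : Function.Injective
      (LinearMap.funLeft F F (QuotientGroup.mk : G → G ⧸ Subgroup.zpowers z)) :=
    LinearMap.funLeft_injective_of_surjective F F _ QuotientGroup.mk_surjective
  have hPker : LinearMap.range
      (LinearMap.funLeft F F (QuotientGroup.mk : G → G ⧸ Subgroup.zpowers z)) ≤
      LinearMap.ker (Fintype.linearCombination F M) := by
    rintro _ ⟨φ, rfl⟩
    rw [LinearMap.mem_ker, Fintype.linearCombination_apply]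
    have hsum : ∑ g : G, (LinearMap.funLeft F F
          (QuotientGroup.mk : G → G ⧸ Subgroup.zpowers z) φ) g • M g =
        -∑ g : G, (LinearMap.funLeft F F
          (QuotientGroup.mk : G → G ⧸ Subgroup.zpowers z) φ) g • M g := by
      conv_lhs => rw [← Equiv.sum_comp (Equiv.mulRight z)]
      rw [← Finset.sum_neg_distrib]
      refine Finset.sum_congr rfl (fun g _ => ?_)
      simp only [Equiv.coe_mulRight]
      have h1 : (LinearMap.funLeft F F
          (QuotientGroup.mk : G → G ⧸ Subgroup.zpowers z) φ) (g * z) =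
          (LinearMap.funLeft F F (QuotientGroup.mk : G → G ⧸ Subgroup.zpowers z) φ) g := by
        show φ (QuotientGroup.mk (g * z)) = φ (QuotientGroup.mk g)
        rw [QuotientGroup.mk_mul_of_mem g hzZ]
      rw [h1, hMmul, hz, mul_neg, mul_one, smul_neg]
    have h2x : (2 : F) • ∑ g : G, (LinearMap.funLeft F F
          (QuotientGroup.mk : G → G ⧸ Subgroup.zpowers z) φ) g • M g = 0 := by
      rw [two_smul]
      nth_rewrite 1 [hsum]
      simp
    exact (smul_eq_zero.mp h2x).resolve_left h2
  have hfin_ker : Module.finrank F (LinearMap.ker (Fintype.linearCombination F M)) =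
      Fintype.card n * Fintype.card n := by
    have h := LinearMap.finrank_range_add_finrank_ker (Fintype.linearCombination F M)
    rw [hLsurj, finrank_top, Module.finrank_matrix, Module.finrank_self,
      Module.finrank_fintype_fun_eq_card, hcard] at h
    omega
  have hfin_P : Module.finrank F (LinearMap.range
      (LinearMap.funLeft F F (QuotientGroup.mk : G → G ⧸ Subgroup.zpowers z))) =
      Fintype.card n * Fintype.card n := by
    rw [LinearMap.finrank_range_of_inj hPinj, Module.finrank_fintype_fun_eq_card,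
      ← Nat.card_eq_fintype_card, hcardQ]
  have hEq := Submodule.eq_of_le_of_finrank_eq hPker (by rw [hfin_P, hfin_ker])
  -- the coefficient function
  have hc₁ : (fun g : G => Matrix.trace (M g⁻¹) - (if g = 1 then c₀ / 2 else 0) +
      (if g = z then c₀ / 2 else 0)) ∈ LinearMap.ker (Fintype.linearCombination F M) := by
    rw [LinearMap.mem_ker, Fintype.linearCombination_apply]
    simp only [add_smul, sub_smul, Finset.sum_add_distrib, Finset.sum_sub_distrib, ite_smul,
      zero_smul, Finset.sum_ite_eq', Finset.mem_univ, if_true]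
    have h1 := hinv 1
    simp only [one_mul] at h1
    rw [h1, hM1, hz, smul_neg, ← sub_eq_add_neg, ← sub_smul, ← sub_smul]
    have h3 : c₀ - c₀ / 2 - c₀ / 2 = 0 := by
      field_simp
      ring
    rw [h3, zero_smul]
  rw [← hEq] at hc₁
  obtain ⟨φ, hφ⟩ := hc₁
  intro g hg1 hgm1
  have hgi1 : g⁻¹ ≠ 1 := by
    intro h
    apply hg1
    rw [inv_eq_one.mp h, hM1]
  have hgiz : g⁻¹ ≠ z := by
    intro h
    apply hgm1
    have h3 : g = z⁻¹ := by rw [← h, inv_inv]
    rw [h3, hzinv, hz]
  have hgz1 : g⁻¹ * z ≠ 1 := by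
    intro h
    apply hgm1
    have h3 : z = g := by rw [← mul_one g, ← h, mul_inv_cancel_left]
    rw [← h3, hz]
  have hgzz : g⁻¹ * z ≠ z := by
    intro h
    exact hgi1 (mul_right_cancel (b := z) (by rw [h, one_mul]))
  have e1 := congrFun hφ g⁻¹
  have e2 := congrFun hφ (g⁻¹ * z)
  simp only [if_neg hgi1, if_neg hgiz, inv_inv, sub_zero, add_zero] at e1
  simp only [if_neg hgz1, if_neg hgzz, sub_zero, add_zero] at e2
  rw [_root_.mul_inv_rev, inv_inv, hzinv, hMmul, hz, neg_one_mul, Matrix.trace_neg] at e2
  have e3 : (LinearMap.funLeft F F (QuotientGroup.mk : G → G ⧸ Subgroup.zpowers z) φ)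
      (g⁻¹ * z) = (LinearMap.funLeft F F
        (QuotientGroup.mk : G → G ⧸ Subgroup.zpowers z) φ) g⁻¹ := by
    show φ (QuotientGroup.mk (g⁻¹ * z)) = φ (QuotientGroup.mk g⁻¹)
    rw [QuotientGroup.mk_mul_of_mem _ hzZ]
  rw [e1, e2] at e3
  have h5 : (2 : F) * Matrix.trace (M g) = 0 := by linear_combination (-1 : F) * e3
  exact (mul_eq_zero.mp h5).resolve_left h2

/-- ATR (L). Trace zero off the centre. -/
theorem h64_s6_trace_zero {F : Type*} [Field F] [Fintype F] (h2 : (2 : F) ≠ 0) (R : Subgroup (GL S6I F))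
    (hR5 : Nat.card R = 32) (hneg : ∃ z ∈ R, (z : Matrix S6I S6I F) = -1)
    (havg : ∀ A : Matrix S6I S6I F, ∑ᶠ s : R, ((s : GL S6I F) : Matrix S6I S6I F) * A *
      (((s : GL S6I F)⁻¹ : GL S6I F) : Matrix S6I S6I F) = (8 * Matrix.trace A) • (1 : Matrix S6I S6I F)) :
    ∀ s ∈ R, (s : Matrix S6I S6I F) ≠ 1 → (s : Matrix S6I S6I F) ≠ -1 → Matrix.trace (s : Matrix S6I S6I F) = 0 := by
  classical
  obtain ⟨z, hzR, hz⟩ := hneg
  haveI : Fintype R := Fintype.ofFinite R
  have h8 : (8 : F) ≠ 0 := by
    have h : (8 : F) = 2 * 2 * 2 := by norm_num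
    rw [h]
    exact mul_ne_zero (mul_ne_zero h2 h2) h2
  have hcard : Fintype.card R = 2 * (Fintype.card S6I * Fintype.card S6I) := by
    rw [← Nat.card_eq_fintype_card, hR5]
    simp [S6I]
  have havg' : ∀ A : Matrix S6I S6I F,
      ∑ g : R, (fun s : R => ((s : GL S6I F) : Matrix S6I S6I F)) g * A *
        (fun s : R => ((s : GL S6I F) : Matrix S6I S6I F)) g⁻¹ =
        ((8 : F) * Matrix.trace A) • (1 : Matrix S6I S6I F) := by
    intro A
    have h := havg A
    rw [finsum_eq_sum_of_fintype] at h
    exact h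
  have hcore := h64_trace_zero_core (n := S6I) (G := R) h2
    (fun s : R => ((s : GL S6I F) : Matrix S6I S6I F)) rfl (fun g h => rfl)
    (fun a b h => Subtype.ext (Units.ext h)) ⟨z, hzR⟩ hz (8 : F) h8 hcard havg'
  intro s hs h1 hm1
  exact hcore ⟨s, hs⟩ h1 hm1

end Cfsg.Agent.Lib.helper24
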