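/-
Affine groups `K^(2×k) ⋊ SL(2,K)` and their element orders in characteristic 2.
Used for the statements about groups with the prime graph of `PSL(2,q)`.
-/
import Mathlib

set_option autoImplicit false

namespace Cfsg.Agent.Lib.helper64

open Matrix

section General

variable {K : Type*} [Field K]

/-- Cayley–Hamilton for 2×2 matrices. -/
theorem cayley_two (M : Matrix (Fin 2) (Fin 2) K) :
    M * M = M.trace • M - M.det • (1 : Matrix (Fin 2) (Fin 2) K) := by
  ext i j
  fin_cases i <;> fin_cases j <;>
    simp [Matrix.mul_apply, Fin.sum_univ_two, Matrix.trace, Matrix.det_fin_two] <;> ring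

/-- `det (M - 1) = det M - trace M + 1` for 2×2 matrices. -/
theorem det_sub_one_two (M : Matrix (Fin 2) (Fin 2) K) :
    (M - 1).det = M.det - M.trace + 1 := by
  simp [Matrix.det_fin_two, Matrix.trace, Fin.sum_univ_two]
  ring

/-- Left multiplication action of `SL(2,K)` on `2×k` matrices, as automorphisms of the
multiplicative copy of the additive group of matrices. -/
def affAct (K : Type*) [Field K] (k : ℕ) :
    Matrix.SpecialLinearGroup (Fin 2) K →* MulAut (Multiplicative (Matrix (Fin 2) (Fin k) K)) where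
  toFun g := AddEquiv.toMultiplicative
    { toFun := fun M => (g : Matrix (Fin 2) (Fin 2) K) * M
      invFun := fun M => ((g⁻¹ : Matrix.SpecialLinearGroup (Fin 2) K) : Matrix (Fin 2) (Fin 2) K) * M
      left_inv := fun M => by
        show ((g⁻¹ : Matrix.SpecialLinearGroup (Fin 2) K) : Matrix (Fin 2) (Fin 2) K) *
          ((g : Matrix (Fin 2) (Fin 2) K) * M) = M
        rw [← Matrix.mul_assoc, ← Matrix.SpecialLinearGroup.coe_mul, inv_mul_cancel,
          Matrix.SpecialLinearGroup.coe_one, Matrix.one_mul]
      right_inv := fun M => by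
        show (g : Matrix (Fin 2) (Fin 2) K) *
          (((g⁻¹ : Matrix.SpecialLinearGroup (Fin 2) K) : Matrix (Fin 2) (Fin 2) K) * M) = M
        rw [← Matrix.mul_assoc, ← Matrix.SpecialLinearGroup.coe_mul, mul_inv_cancel,
          Matrix.SpecialLinearGroup.coe_one, Matrix.one_mul]
      map_add' := fun M M' => Matrix.mul_add _ _ _ }
  map_one' := by
    ext M
    simp
  map_mul' := fun g h => by
    ext M
    simp [Matrix.mul_assoc]

theorem affAct_apply (k : ℕ) (g : Matrix.SpecialLinearGroup (Fin 2) K)
    (M : Matrix (Fin 2) (Fin k) K) :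
    affAct K k g (Multiplicative.ofAdd M) =
      Multiplicative.ofAdd ((g : Matrix (Fin 2) (Fin 2) K) * M) := rfl

/-- The affine group `K^(2×k) ⋊ SL(2,K)`. -/
abbrev Aff (K : Type*) [Field K] (k : ℕ) : Type _ :=
  Multiplicative (Matrix (Fin 2) (Fin k) K) ⋊[affAct K k] Matrix.SpecialLinearGroup (Fin 2) K

end General

section Conj

variable {K : Type*} [Field K]

/-- If `g - 1` is invertible, then every element of the affine group above `g` is conjugate
to `g` itself (embedded as a complement element). -/
theorem aff_conj {k : ℕ} (g : Matrix.SpecialLinearGroup (Fin 2) K)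
    (hu : IsUnit ((g : Matrix (Fin 2) (Fin 2) K) - 1).det)
    (a : Multiplicative (Matrix (Fin 2) (Fin k) K)) :
    ∃ c : Aff K k, (⟨a, g⟩ : Aff K k) = c * SemidirectProduct.inr g * c⁻¹ := by
  set U : Matrix (Fin 2) (Fin 2) K := (g : Matrix (Fin 2) (Fin 2) K) - 1 with hU
  set A : Matrix (Fin 2) (Fin k) K := Multiplicative.toAdd a with hA
  set b : Matrix (Fin 2) (Fin k) K := -(U⁻¹ * A) with hb
  have hUb : b - (g : Matrix (Fin 2) (Fin 2) K) * b = A := by
    have h1 : U * (U⁻¹ * A) = A := by
      rw [← Matrix.mul_assoc, Matrix.mul_nonsing_inv U hu, Matrix.one_mul]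
    have h2 : (g : Matrix (Fin 2) (Fin 2) K) = U + 1 := by rw [hU]; abel
    rw [h2, hb, Matrix.add_mul, Matrix.one_mul, Matrix.mul_neg, h1]
    abel
  refine ⟨SemidirectProduct.inl (Multiplicative.ofAdd b), ?_⟩
  apply SemidirectProduct.ext
  · simp only [SemidirectProduct.mul_left, SemidirectProduct.left_inl, SemidirectProduct.left_inr,
      SemidirectProduct.mul_right, SemidirectProduct.right_inl, SemidirectProduct.right_inr,
      SemidirectProduct.inv_left, map_one, MulAut.one_apply, one_mul, mul_one, inv_one]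
    rw [← ofAdd_neg, affAct_apply, ← ofAdd_add]
    have : b + (g : Matrix (Fin 2) (Fin 2) K) * -b = A := by
      rw [Matrix.mul_neg, ← sub_eq_add_neg]; exact hUb
    rw [this, hA]
    rfl
  · simp

/-- Elements of the kernel of the projection square to one in characteristic 2. -/
theorem aff_ker_sq [CharP K 2] {k : ℕ} (x : Aff K k) (hx : x.right = 1) : x ^ 2 = 1 := by
  have hx' : x = SemidirectProduct.inl x.left := by
    apply SemidirectProduct.ext
    · simp
    · simpa using hx
  rw [hx', ← map_pow]
  have : x.left ^ 2 = 1 := by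
    rw [← ofAdd_toAdd (x.left), ← ofAdd_nsmul, ← ofAdd_zero]
    congr 1
    ext i j
    simp only [Matrix.smul_apply, Matrix.zero_apply, nsmul_eq_mul, Nat.cast_ofNat]
    rw [two_mul]
    exact CharTwo.add_self_eq_zero _
  rw [this, map_one]

end Conj

section Orders

variable {K : Type*} [Field K] [CharP K 2]

/-- In characteristic 2, an element `g` of `SL(2,K)` with `g^2 ≠ 1` has `g - 1` invertible. -/
theorem isUnit_det_sub_one_of_sq_ne_one (g : Matrix.SpecialLinearGroup (Fin 2) K)
    (hg : g ^ 2 ≠ 1) : IsUnit ((g : Matrix (Fin 2) (Fin 2) K) - 1).det := by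
  have h2 : (2 : K) = 0 := CharTwo.two_eq_zero
  have hdet : (g : Matrix (Fin 2) (Fin 2) K).det = 1 := g.2
  have htr : (g : Matrix (Fin 2) (Fin 2) K).trace ≠ 0 := by
    intro h0
    apply hg
    apply Subtype.ext
    rw [pow_two, Matrix.SpecialLinearGroup.coe_mul, cayley_two, h0, hdet,
      Matrix.SpecialLinearGroup.coe_one, zero_smul, one_smul, zero_sub]
    have h3 : (2 : Matrix (Fin 2) (Fin 2) K) = 0 := by
      have : ((2 : K) • (1 : Matrix (Fin 2) (Fin 2) K)) = 0 := by rw [h2, zero_smul]
      rw [← this, two_smul]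
      norm_num
    have h4 : (1 : Matrix (Fin 2) (Fin 2) K) + 1 = 0 := by rw [← h3]; norm_num
    exact neg_eq_of_add_eq_zero_left h4
  rw [det_sub_one_two, hdet, isUnit_iff_ne_zero]
  intro h
  apply htr
  linear_combination -h + h2

/-- Key lemma: an element of the affine group whose order is a product of two distinct primes
projects to an element of `SL(2,K)` of the same order. -/
theorem aff_orderOf_right {k : ℕ} (x : Aff K k) (p q : ℕ) (hp : p.Prime) (hq : q.Prime)
    (hpq : p ≠ q) (hx : orderOf x = p * q) : orderOf x.right = p * q := by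
  have hdvd : orderOf x.right ∣ p * q := by
    rw [← hx]
    exact orderOf_map_dvd (SemidirectProduct.rightHom : Aff K k →* _) x
  have hp2 := hp.two_le
  have hq2 := hq.two_le
  have hpq6 : 4 < p * q := by
    rcases Nat.lt_or_ge p 3 with h | h
    · have hp' : p = 2 := by omega
      have hq3 : 3 ≤ q := by omega
      nlinarith
    · nlinarith
  -- the order of the projection is not 1
  have h1 : orderOf x.right ≠ 1 := by
    intro h
    have h' : x.right = 1 := orderOf_eq_one_iff.mp h
    have h'' : orderOf x ∣ 2 := orderOf_dvd_of_pow_eq_one (aff_ker_sq x h')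
    rw [hx] at h''
    have := Nat.le_of_dvd (by norm_num) h''
    omega
  -- the order of the projection is not a prime
  have hprime : ∀ r : ℕ, r.Prime → orderOf x.right = r → orderOf x ∣ 4 ∨ orderOf x = r := by
    intro r hr hor
    by_cases hr2 : x.right ^ 2 = 1
    · left
      have h' : (x ^ 2).right = 1 := by
        have : (x ^ 2).right = (SemidirectProduct.rightHom : Aff K k →* _) (x ^ 2) := rfl
        rw [this, map_pow]
        exact hr2
      have h'' := aff_ker_sq (x ^ 2) h'
      rw [← pow_mul] at h''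
      exact orderOf_dvd_of_pow_eq_one h''
    · right
      obtain ⟨c, hc⟩ := aff_conj x.right (isUnit_det_sub_one_of_sq_ne_one x.right hr2) x.left
      have hx' : x = c * SemidirectProduct.inr x.right * c⁻¹ := by
        rw [← hc]
      have h3 : orderOf x = orderOf (SemidirectProduct.inr x.right : Aff K k) := by
        conv_lhs => rw [hx']
        exact (MulAut.conj c).orderOf_eq _
      rw [h3, orderOf_injective (SemidirectProduct.inr : _ →* Aff K k)
        SemidirectProduct.inr_injective, hor]
  -- a prime order of the projection is impossible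
  have hnot : ∀ r : ℕ, r.Prime → (r = p ∨ r = q) → orderOf x.right ≠ r := by
    intro r hr hrpq hor
    rcases hprime r hr hor with h | h
    · rw [hx] at h
      have := Nat.le_of_dvd (by norm_num) h
      omega
    · rw [hx] at h
      rcases hrpq with rfl | rfl
      · have h5 : r * q = r * 1 := by rw [h, mul_one]
        have := Nat.eq_of_mul_eq_mul_left (by omega) h5
        omega
      · have h5 : p * r = 1 * r := by rw [h, one_mul]
        have := Nat.eq_of_mul_eq_mul_right (by omega) h5
        omega
  obtain ⟨k₁, k₂, hk₁, hk₂, hk⟩ := (Nat.dvd_mul).mp hdvd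
  rcases (Nat.dvd_prime hp).mp hk₁ with h₁ | h₁ <;> rcases (Nat.dvd_prime hq).mp hk₂ with h₂ | h₂
  · rw [h₁, h₂] at hk
    exact absurd hk.symm h1
  · rw [h₁, h₂, one_mul] at hk
    exact absurd hk.symm (hnot q hq (Or.inr rfl))
  · rw [h₁, h₂, mul_one] at hk
    exact absurd hk.symm (hnot p hp (Or.inl rfl))
  · rw [h₁, h₂] at hk
    exact hk.symm

end Orders

section Card

variable {K : Type*} [Field K] [CharP K 2]

instance aff_finite [Finite K] (k : ℕ) : Finite (Aff K k) :=
  Finite.of_equiv _ (SemidirectProduct.equivProd (φ := affAct K k)).symm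

/-- A prime dividing the order of the affine group is 2 or divides the order of `SL(2,K)`. -/
theorem prime_dvd_card_aff [Finite K] {k : ℕ} (p : ℕ) (hp : p.Prime)
    (h : p ∣ Nat.card (Aff K k)) :
    p = 2 ∨ p ∣ Nat.card (Matrix.SpecialLinearGroup (Fin 2) K) := by
  rw [SemidirectProduct.card] at h
  rcases (Nat.Prime.dvd_mul hp).mp h with h | h
  · left
    have : Fact p.Prime := ⟨hp⟩
    obtain ⟨n, hn⟩ := exists_prime_orderOf_dvd_card' p h
    have h2 : (SemidirectProduct.inl n : Aff K k) ^ 2 = 1 := aff_ker_sq _ (by simp)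
    rw [← map_pow, ← map_one (SemidirectProduct.inl : _ →* Aff K k)] at h2
    have h3 : n ^ 2 = 1 := SemidirectProduct.inl_injective h2
    have h4 : p ∣ 2 := hn ▸ orderOf_dvd_of_pow_eq_one h3
    exact (Nat.prime_dvd_prime_iff_eq hp Nat.prime_two).mp h4
  · right
    exact h

omit [CharP K 2] in
/-- The order of `SL(2,K)` divides the order of the affine group. -/
theorem card_SL_dvd_card_aff (k : ℕ) :
    Nat.card (Matrix.SpecialLinearGroup (Fin 2) K) ∣ Nat.card (Aff K k) := by
  rw [SemidirectProduct.card]
  exact dvd_mul_left _ _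

omit [CharP K 2] in
/-- The affine groups have unbounded order. -/
theorem lt_card_aff [Finite K] (k : ℕ) : k < Nat.card (Aff K k) := by
  rw [SemidirectProduct.card]
  have h1 : 0 < Nat.card (Matrix.SpecialLinearGroup (Fin 2) K) := Nat.card_pos
  have h2 : Nat.card (Multiplicative (Matrix (Fin 2) (Fin k) K)) = (Nat.card K ^ k) ^ 2 := by
    have : Nat.card (Multiplicative (Matrix (Fin 2) (Fin k) K)) = Nat.card (Fin 2 → Fin k → K) :=
      rfl
    rw [this, Nat.card_fun, Nat.card_fun, Nat.card_fin, Nat.card_fin]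
  have h3 : 2 ≤ Nat.card K := Finite.one_lt_card
  have h4 : k < Nat.card K ^ k :=
    lt_of_lt_of_le (Nat.lt_two_pow_self) (Nat.pow_le_pow_left h3 k)
  have h5 : Nat.card K ^ k ≤ (Nat.card K ^ k) ^ 2 := Nat.le_self_pow (by norm_num) _
  calc k < Nat.card K ^ k := h4
    _ ≤ (Nat.card K ^ k) ^ 2 := h5
    _ = Nat.card (Multiplicative (Matrix (Fin 2) (Fin k) K)) := h2.symm
    _ ≤ _ := Nat.le_mul_of_pos_right _ h1

/-- An element of order 2 in `SL(2,K)`, characteristic 2. -/
theorem exists_orderOf_two_SL :
    ∃ u : Matrix.SpecialLinearGroup (Fin 2) K, orderOf u = 2 := by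
  have h2 : (2 : K) = 0 := CharTwo.two_eq_zero
  obtain ⟨u, hu⟩ : ∃ u : Matrix.SpecialLinearGroup (Fin 2) K,
      (u : Matrix (Fin 2) (Fin 2) K) = !![1, 1; 0, 1] :=
    ⟨⟨!![1, 1; 0, 1], by simp [Matrix.det_fin_two]⟩, rfl⟩
  refine ⟨u, ?_⟩
  apply orderOf_eq_prime
  · apply Subtype.ext
    rw [pow_two, Matrix.SpecialLinearGroup.coe_mul, Matrix.SpecialLinearGroup.coe_one, hu]
    ext i j
    fin_cases i <;> fin_cases j <;> simp [Matrix.mul_apply, Fin.sum_univ_two]
    rw [one_add_one_eq_two, h2]
  · intro h
    have h3 : (u : Matrix (Fin 2) (Fin 2) K) 0 1 = (1 : Matrix (Fin 2) (Fin 2) K) 0 1 := by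
      rw [h, Matrix.SpecialLinearGroup.coe_one]
    rw [hu] at h3
    simp at h3

theorem two_dvd_card_SL [Finite K] : 2 ∣ Nat.card (Matrix.SpecialLinearGroup (Fin 2) K) := by
  obtain ⟨u, hu⟩ := exists_orderOf_two_SL (K := K)
  have := orderOf_dvd_natCard u
  rwa [hu] at this

/-- In characteristic 2 the centre of `SL(2,K)` is trivial. -/
theorem center_SL_eq_bot :
    Subgroup.center (Matrix.SpecialLinearGroup (Fin 2) K) = ⊥ := by
  rw [eq_bot_iff]
  intro A hA
  obtain ⟨r, hr, hrA⟩ := Matrix.SpecialLinearGroup.mem_center_iff.mp hA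
  rw [Subgroup.mem_bot]
  have h2 : (2 : K) = 0 := CharTwo.two_eq_zero
  have hr1 : r = 1 := by
    simp only [Fintype.card_fin] at hr
    have : (r - 1) ^ 2 = 0 := by linear_combination hr - r * h2 + h2
    have := pow_eq_zero_iff (two_ne_zero) |>.mp this
    linear_combination this
  apply Subtype.ext
  rw [← hrA, hr1]
  simp

/-- In characteristic 2, `PSL(2,K) ≃* SL(2,K)`. -/
noncomputable def pslEquivSL :
    Matrix.ProjectiveSpecialLinearGroup (Fin 2) K ≃* Matrix.SpecialLinearGroup (Fin 2) K :=
  (QuotientGroup.quotientMulEquivOfEq (center_SL_eq_bot (K := K))).trans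
    QuotientGroup.quotientBot

end Card

end Cfsg.Agent.Lib.helper64
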