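/-
Element orders in `PSL(2,7)` and `SL(2,8)` via Cayley–Hamilton recurrences.
-/
import Cfsg.Agent.Lib.helper64.SL2Affine

set_option autoImplicit false

namespace Cfsg.Agent.Lib.helper64

open Matrix

/-- The sequence `(a_n, b_n)` with `M^n = a_n M + b_n` for a 2×2 matrix of determinant 1 and
trace `t`. -/
def trSeq {R : Type*} [CommRing R] (t : R) : ℕ → R × R
  | 0 => (0, 1)
  | n + 1 => (t * (trSeq t n).1 + (trSeq t n).2, -(trSeq t n).1)

theorem trSeq_zero {R : Type*} [CommRing R] (t : R) : trSeq t 0 = (0, 1) := rfl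

theorem trSeq_succ {R : Type*} [CommRing R] (t : R) (n : ℕ) :
    trSeq t (n + 1) = (t * (trSeq t n).1 + (trSeq t n).2, -(trSeq t n).1) := rfl

theorem trSeq_map {R S : Type*} [CommRing R] [CommRing S] (f : R →+* S) (t : R) (n : ℕ) :
    trSeq (f t) n = (f (trSeq t n).1, f (trSeq t n).2) := by
  induction n with
  | zero => simp [trSeq_zero]
  | succ n ih => simp [trSeq_succ, ih]

theorem pow_eq_trSeq {K : Type*} [Field K] (M : Matrix (Fin 2) (Fin 2) K) (hdet : M.det = 1)
    (n : ℕ) :
    M ^ n = (trSeq M.trace n).1 • M + (trSeq M.trace n).2 • (1 : Matrix (Fin 2) (Fin 2) K) := by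
  induction n with
  | zero => simp [trSeq_zero]
  | succ n ih =>
    rw [pow_succ, ih, trSeq_succ]
    simp only [add_mul, smul_mul_assoc, one_mul]
    rw [cayley_two, hdet]
    module

section Seven

/-- Values of the integer sequence used for `PSL(2,7)`. -/
theorem trSeq_vals :
    trSeq (0 : ℤ) 4 = (0, 1) ∧ trSeq (1 : ℤ) 3 = (0, -1) ∧ trSeq (2 : ℤ) 7 = (7, -6) ∧
    trSeq (3 : ℤ) 4 = (21, -8) ∧ trSeq (4 : ℤ) 4 = (56, -15) ∧
    trSeq (5 : ℤ) 7 = (12649, -2640) ∧ trSeq (6 : ℤ) 3 = (35, -6) := by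
  refine ⟨?_, ?_, ?_, ?_, ?_, ?_, ?_⟩ <;> decide

variable {F : Type*} [Field F]

/-- If `g^m = ±1` as matrices then the image of `g` in `PSL(2,F)` has `m`-th power one. -/
theorem mk_pow_eq_one (g : Matrix.SpecialLinearGroup (Fin 2) F) (m : ℕ)
    (h : (g : Matrix (Fin 2) (Fin 2) F) ^ m = 1 ∨ (g : Matrix (Fin 2) (Fin 2) F) ^ m = -1) :
    (QuotientGroup.mk g : Matrix.ProjectiveSpecialLinearGroup (Fin 2) F) ^ m = 1 := by
  rw [← QuotientGroup.mk_pow, QuotientGroup.eq_one_iff, Matrix.SpecialLinearGroup.mem_center_iff]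
  rcases h with h | h
  · exact ⟨1, by simp, by simp [h]⟩
  · exact ⟨-1, by simp, by rw [Matrix.SpecialLinearGroup.coe_pow, h, map_neg, map_one]⟩

/-- Every element of `PSL(2,7)` has order dividing 3, 4 or 7. -/
theorem psl7_pow [Fintype F] (hF : Fintype.card F = 7)
    (x : Matrix.ProjectiveSpecialLinearGroup (Fin 2) F) :
    x ^ 3 = 1 ∨ x ^ 4 = 1 ∨ x ^ 7 = 1 := by
  obtain ⟨g, rfl⟩ := QuotientGroup.mk_surjective x
  have h7 : (7 : F) = 0 := by
    have := FiniteField.cast_card_eq_zero F
    rw [hF] at this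
    exact_mod_cast this
  have hdet : (g : Matrix (Fin 2) (Fin 2) F).det = 1 := g.2
  obtain ⟨n, hn, htr⟩ : ∃ n : ℕ, n < 7 ∧ (g : Matrix (Fin 2) (Fin 2) F).trace = ((n : ℤ) : F) := by
    let e := ZMod.ringEquivOfPrime F (by norm_num : Nat.Prime 7) hF
    have : NeZero 7 := ⟨by norm_num⟩
    generalize (g : Matrix (Fin 2) (Fin 2) F).trace = t
    refine ⟨(e.symm t).val, ZMod.val_lt _, ?_⟩
    have h1 : t = (((e.symm t).val : ℕ) : F) := by
      conv_lhs => rw [← e.apply_symm_apply t, ← ZMod.natCast_zmod_val (e.symm t), map_natCast]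
    rw [Int.cast_natCast]
    exact h1
  have key : ∀ m : ℕ, ∀ a b : ℤ, trSeq (n : ℤ) m = (a, b) →
      (g : Matrix (Fin 2) (Fin 2) F) ^ m = (a : F) • (g : Matrix (Fin 2) (Fin 2) F) +
        (b : F) • (1 : Matrix (Fin 2) (Fin 2) F) := by
    intro m a b hab
    have h1 := pow_eq_trSeq (g : Matrix (Fin 2) (Fin 2) F) hdet m
    have h2 := trSeq_map (Int.castRingHom F) (n : ℤ) m
    rw [hab] at h2
    simp only [eq_intCast] at h2
    rw [htr, h2] at h1
    exact h1
  have c0 : ∀ c : ℤ, ((7 * c : ℤ) : F) = 0 := by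
    intro c
    push_cast
    rw [h7, zero_mul]
  interval_cases n
  · right; left
    apply mk_pow_eq_one; left
    rw [key 4 0 1 trSeq_vals.1]
    simp
  · left
    apply mk_pow_eq_one; right
    rw [key 3 0 (-1) trSeq_vals.2.1]
    simp
  · right; right
    apply mk_pow_eq_one; left
    rw [key 7 7 (-6) trSeq_vals.2.2.1]
    have h6 : ((-6 : ℤ) : F) = 1 := by
      have := c0 (-1)
      push_cast at this ⊢
      linear_combination this
    have h7' : ((7 : ℤ) : F) = 0 := by simpa using c0 1
    rw [h7', h6]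
    simp
  · right; left
    apply mk_pow_eq_one; right
    rw [key 4 21 (-8) trSeq_vals.2.2.2.1]
    have ha : ((21 : ℤ) : F) = 0 := by simpa using c0 3
    have hb : ((-8 : ℤ) : F) = -1 := by
      have := c0 (-1)
      push_cast at this ⊢
      linear_combination this
    rw [ha, hb]
    simp
  · right; left
    apply mk_pow_eq_one; right
    rw [key 4 56 (-15) trSeq_vals.2.2.2.2.1]
    have ha : ((56 : ℤ) : F) = 0 := by simpa using c0 8
    have hb : ((-15 : ℤ) : F) = -1 := by
      have := c0 (-2)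
      push_cast at this ⊢
      linear_combination this
    rw [ha, hb]
    simp
  · right; right
    apply mk_pow_eq_one; right
    rw [key 7 12649 (-2640) trSeq_vals.2.2.2.2.2.1]
    have ha : ((12649 : ℤ) : F) = 0 := by simpa using c0 1807
    have hb : ((-2640 : ℤ) : F) = -1 := by
      have := c0 (-377)
      push_cast at this ⊢
      linear_combination this
    rw [ha, hb]
    simp
  · left
    apply mk_pow_eq_one; left
    rw [key 3 35 (-6) trSeq_vals.2.2.2.2.2.2]
    have ha : ((35 : ℤ) : F) = 0 := by simpa using c0 5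
    have hb : ((-6 : ℤ) : F) = 1 := by
      have := c0 (-1)
      push_cast at this ⊢
      linear_combination this
    rw [ha, hb]
    simp

end Seven

section SevenGraph

variable {F : Type*} [Field F]

/-- A product of two distinct primes does not divide a prime power. -/
theorem not_mul_dvd_prime_pow (p q r k : ℕ) (hp : p.Prime) (hq : q.Prime) (hr : r.Prime)
    (hpq : p ≠ q) : ¬ p * q ∣ r ^ k := by
  intro h
  have h1 : p = r := (Nat.prime_dvd_prime_iff_eq hp hr).mp
    (hp.dvd_of_dvd_pow ((dvd_mul_right p q).trans h))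
  have h2 : q = r := (Nat.prime_dvd_prime_iff_eq hq hr).mp
    (hq.dvd_of_dvd_pow ((dvd_mul_left q p).trans h))
  exact hpq (h1.trans h2.symm)

/-- An element of `SL(2,F)` with non-zero upper right entry is not central. -/
theorem mk_ne_one (g : Matrix.SpecialLinearGroup (Fin 2) F)
    (h : (g : Matrix (Fin 2) (Fin 2) F) 0 1 ≠ 0) :
    (QuotientGroup.mk g : Matrix.ProjectiveSpecialLinearGroup (Fin 2) F) ≠ 1 := by
  intro h1
  rw [QuotientGroup.eq_one_iff, Matrix.SpecialLinearGroup.mem_center_iff] at h1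
  obtain ⟨r, _, hr⟩ := h1
  apply h
  rw [← hr]
  simp

/-- `PSL(2,7)` has no element whose order is a product of two distinct primes. -/
theorem psl7_no_edge [Fintype F] (hF : Fintype.card F = 7) (p q : ℕ) (hp : p.Prime)
    (hq : q.Prime) (hpq : p ≠ q) :
    ¬ ∃ g : Matrix.ProjectiveSpecialLinearGroup (Fin 2) F, orderOf g = p * q := by
  rintro ⟨g, hg⟩
  rcases psl7_pow hF g with h | h | h
  · have := orderOf_dvd_of_pow_eq_one h
    rw [hg] at this
    exact not_mul_dvd_prime_pow p q 3 1 hp hq Nat.prime_three hpq (by simpa using this)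
  · have := orderOf_dvd_of_pow_eq_one h
    rw [hg] at this
    exact not_mul_dvd_prime_pow p q 2 2 hp hq Nat.prime_two hpq (by simpa using this)
  · have := orderOf_dvd_of_pow_eq_one h
    rw [hg] at this
    exact not_mul_dvd_prime_pow p q 7 1 hp hq (by norm_num) hpq (by simpa using this)

/-- Powers of the upper unitriangular matrix. -/
theorem upper_pow (a : F) (n : ℕ) :
    (!![1, a; 0, 1] : Matrix (Fin 2) (Fin 2) F) ^ n = !![1, n * a; 0, 1] := by
  induction n with
  | zero =>
    ext i j
    fin_cases i <;> fin_cases j <;> simp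
  | succ n ih =>
    rw [pow_succ, ih]
    ext i j
    fin_cases i <;> fin_cases j <;> simp [Matrix.mul_apply, Fin.sum_univ_two]
    ring

/-- The primes dividing the order of `PSL(2,7)` are exactly 2, 3 and 7. -/
theorem psl7_primes [Fintype F] (hF : Fintype.card F = 7) (p : ℕ) (hp : p.Prime) :
    p ∣ Nat.card (Matrix.ProjectiveSpecialLinearGroup (Fin 2) F) ↔ p = 2 ∨ p = 3 ∨ p = 7 := by
  have h7 : (7 : F) = 0 := by
    have := FiniteField.cast_card_eq_zero F
    rw [hF] at this
    exact_mod_cast this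
  constructor
  · intro h
    have : Fact p.Prime := ⟨hp⟩
    obtain ⟨g, hg⟩ := exists_prime_orderOf_dvd_card' p h
    rcases psl7_pow hF g with h | h | h
    · have := orderOf_dvd_of_pow_eq_one h
      rw [hg] at this
      right; left
      exact (Nat.prime_dvd_prime_iff_eq hp Nat.prime_three).mp this
    · have := orderOf_dvd_of_pow_eq_one h
      rw [hg] at this
      left
      exact (Nat.prime_dvd_prime_iff_eq hp Nat.prime_two).mp
        (hp.dvd_of_dvd_pow (by simpa using this : p ∣ 2 ^ 2))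
    · have := orderOf_dvd_of_pow_eq_one h
      rw [hg] at this
      right; right
      exact (Nat.prime_dvd_prime_iff_eq hp (by norm_num)).mp this
  · rintro (rfl | rfl | rfl)
    · -- an element of order 2
      obtain ⟨w, hw⟩ : ∃ w : Matrix.SpecialLinearGroup (Fin 2) F,
          (w : Matrix (Fin 2) (Fin 2) F) = !![0, 1; -1, 0] :=
        ⟨⟨!![0, 1; -1, 0], by simp [Matrix.det_fin_two]⟩, rfl⟩
      have h1 : (QuotientGroup.mk w : Matrix.ProjectiveSpecialLinearGroup (Fin 2) F) ^ 2 = 1 := by
        apply mk_pow_eq_one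
        right
        rw [hw, pow_two]
        ext i j
        fin_cases i <;> fin_cases j <;> simp [Matrix.mul_apply, Fin.sum_univ_two]
      have h2 := mk_ne_one w (by rw [hw]; simp)
      have h3 := orderOf_eq_prime h1 h2
      have h4 := orderOf_dvd_natCard
        (QuotientGroup.mk w : Matrix.ProjectiveSpecialLinearGroup (Fin 2) F)
      rw [h3] at h4
      exact h4
    · -- an element of order 3
      obtain ⟨v, hv⟩ : ∃ v : Matrix.SpecialLinearGroup (Fin 2) F,
          (v : Matrix (Fin 2) (Fin 2) F) = !![0, 1; -1, -1] :=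
        ⟨⟨!![0, 1; -1, -1], by simp [Matrix.det_fin_two]⟩, rfl⟩
      have h1 : (QuotientGroup.mk v : Matrix.ProjectiveSpecialLinearGroup (Fin 2) F) ^ 3 = 1 := by
        apply mk_pow_eq_one
        left
        rw [hv, pow_succ, pow_two]
        ext i j
        fin_cases i <;> fin_cases j <;> simp [Matrix.mul_apply, Fin.sum_univ_two]
      have h2 := mk_ne_one v (by rw [hv]; simp)
      have h3 := orderOf_eq_prime h1 h2
      have h4 := orderOf_dvd_natCard
        (QuotientGroup.mk v : Matrix.ProjectiveSpecialLinearGroup (Fin 2) F)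
      rw [h3] at h4
      exact h4
    · -- an element of order 7
      obtain ⟨u, hu⟩ : ∃ u : Matrix.SpecialLinearGroup (Fin 2) F,
          (u : Matrix (Fin 2) (Fin 2) F) = !![1, 1; 0, 1] :=
        ⟨⟨!![1, 1; 0, 1], by simp [Matrix.det_fin_two]⟩, rfl⟩
      have h1 : (QuotientGroup.mk u : Matrix.ProjectiveSpecialLinearGroup (Fin 2) F) ^ 7 = 1 := by
        apply mk_pow_eq_one
        left
        rw [hu, upper_pow]
        ext i j
        fin_cases i <;> fin_cases j <;> simp [h7]
      have h2 := mk_ne_one u (by rw [hu]; simp)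
      have : Fact (Nat.Prime 7) := ⟨by norm_num⟩
      have h3 := orderOf_eq_prime h1 h2
      have h4 := orderOf_dvd_natCard
        (QuotientGroup.mk u : Matrix.ProjectiveSpecialLinearGroup (Fin 2) F)
      rw [h3] at h4
      exact h4

end SevenGraph

section Eight

variable {K : Type*} [Field K] [CharP K 2]

theorem neg_one_eq_one_mat : (-1 : Matrix (Fin 2) (Fin 2) K) = 1 := by
  have h2 : (2 : K) = 0 := CharTwo.two_eq_zero
  ext i j
  fin_cases i <;> fin_cases j <;> simp <;> linear_combination -h2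

/-- Every element of `SL(2,8)` has order dividing 2, 7 or 9. -/
theorem sl8_pow [Fintype K] (hK : Fintype.card K = 8)
    (g : Matrix.SpecialLinearGroup (Fin 2) K) : g ^ 2 = 1 ∨ g ^ 7 = 1 ∨ g ^ 9 = 1 := by
  have h2 : (2 : K) = 0 := CharTwo.two_eq_zero
  have hdet : (g : Matrix (Fin 2) (Fin 2) K).det = 1 := g.2
  generalize ht : (g : Matrix (Fin 2) (Fin 2) K).trace = t
  have h8 : t ^ 8 = t := by
    have := FiniteField.pow_card t
    rwa [hK] at this
  have hscalar : ∀ n : ℕ, (trSeq t n).1 = 0 → g ^ n = 1 := by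
    intro n ha
    have h1 := pow_eq_trSeq (g : Matrix (Fin 2) (Fin 2) K) hdet n
    rw [ht, ha, zero_smul, zero_add] at h1
    generalize (trSeq t n).2 = b at h1
    have hb2 : b ^ 2 = 1 := by
      have := congrArg Matrix.det h1
      rw [Matrix.det_pow, hdet, one_pow, Matrix.det_smul, Matrix.det_one, Fintype.card_fin,
        mul_one] at this
      exact this.symm
    have hb1 : b = 1 := by
      have : (b - 1) ^ 2 = 0 := by linear_combination hb2 - b * h2 + h2
      have := pow_eq_zero_iff (two_ne_zero) |>.mp this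
      linear_combination this
    apply Subtype.ext
    rw [Matrix.SpecialLinearGroup.coe_pow, Matrix.SpecialLinearGroup.coe_one, h1, hb1, one_smul]
  have hprod : t * (trSeq t 7).1 * (trSeq t 9).1 = 0 := by
    simp only [trSeq_succ, trSeq_zero]
    linear_combination (t ^ 7 + 1) * h8 +
      (8 * t ^ 3 - 40 * t ^ 5 + 74 * t ^ 7 - 64 * t ^ 9 + 28 * t ^ 11 - 6 * t ^ 13) * h2
  rcases mul_eq_zero.mp hprod with h | h
  · rcases mul_eq_zero.mp h with h | h
    · left
      apply Subtype.ext
      rw [pow_two, Matrix.SpecialLinearGroup.coe_mul, Matrix.SpecialLinearGroup.coe_one,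
        cayley_two, ht, h, hdet, zero_smul, one_smul, zero_sub]
      exact neg_one_eq_one_mat
    · right; left
      exact hscalar 7 h
  · right; right
    exact hscalar 9 h

/-- An element of order 3 in `SL(2,K)`, characteristic 2. -/
theorem exists_orderOf_three_SL :
    ∃ u : Matrix.SpecialLinearGroup (Fin 2) K, orderOf u = 3 := by
  have h2 : (2 : K) = 0 := CharTwo.two_eq_zero
  obtain ⟨u, hu⟩ : ∃ u : Matrix.SpecialLinearGroup (Fin 2) K,
      (u : Matrix (Fin 2) (Fin 2) K) = !![0, 1; 1, 1] :=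
    ⟨⟨!![0, 1; 1, 1], by simp [Matrix.det_fin_two]; linear_combination -h2⟩, rfl⟩
  refine ⟨u, ?_⟩
  apply orderOf_eq_prime
  · apply Subtype.ext
    rw [pow_succ, pow_two, Matrix.SpecialLinearGroup.coe_mul, Matrix.SpecialLinearGroup.coe_mul,
      Matrix.SpecialLinearGroup.coe_one, hu]
    ext i j
    fin_cases i <;> fin_cases j <;> simp [Matrix.mul_apply, Fin.sum_univ_two]
    all_goals (rw [one_add_one_eq_two, h2])
  · intro h
    have h3 : (u : Matrix (Fin 2) (Fin 2) K) 0 1 = (1 : Matrix (Fin 2) (Fin 2) K) 0 1 := by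
      rw [h, Matrix.SpecialLinearGroup.coe_one]
    rw [hu] at h3
    simp at h3

omit [CharP K 2] in
/-- Powers of a diagonal 2×2 matrix. -/
theorem diag_pow (a b : K) (n : ℕ) :
    (!![a, 0; 0, b] : Matrix (Fin 2) (Fin 2) K) ^ n = !![a ^ n, 0; 0, b ^ n] := by
  induction n with
  | zero =>
    ext i j
    fin_cases i <;> fin_cases j <;> simp
  | succ n ih =>
    rw [pow_succ, ih]
    ext i j
    fin_cases i <;> fin_cases j <;> simp [Matrix.mul_apply, Fin.sum_univ_two, pow_succ]

omit [CharP K 2] in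
/-- An element of order 7 in `SL(2,8)`. -/
theorem exists_orderOf_seven_SL [Fintype K] (hK : Fintype.card K = 8) :
    ∃ u : Matrix.SpecialLinearGroup (Fin 2) K, orderOf u = 7 := by
  classical
  obtain ⟨l, hl⟩ : ∃ l : K, l ∉ ({0, 1} : Finset K) := by
    by_contra hcon
    push Not at hcon
    have h1 : (Finset.univ : Finset K) ⊆ {0, 1} := fun x _ => hcon x
    have h2 := Finset.card_le_card h1
    have h3 : ({0, 1} : Finset K).card ≤ 2 := Finset.card_le_two
    rw [Finset.card_univ, hK] at h2
    omega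
  have hl0 : l ≠ 0 := fun h => hl (by simp [h])
  have hl1 : l ≠ 1 := fun h => hl (by simp [h])
  have hl7 : l ^ 7 = 1 := by
    have := FiniteField.pow_card_sub_one_eq_one l hl0
    rwa [hK] at this
  obtain ⟨u, hu⟩ : ∃ u : Matrix.SpecialLinearGroup (Fin 2) K,
      (u : Matrix (Fin 2) (Fin 2) K) = !![l, 0; 0, l⁻¹] :=
    ⟨⟨!![l, 0; 0, l⁻¹], by simp [Matrix.det_fin_two, hl0]⟩, rfl⟩
  refine ⟨u, ?_⟩
  have : Fact (Nat.Prime 7) := ⟨by norm_num⟩
  apply orderOf_eq_prime
  · apply Subtype.ext
    rw [Matrix.SpecialLinearGroup.coe_pow, Matrix.SpecialLinearGroup.coe_one, hu, diag_pow,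
      inv_pow, hl7]
    ext i j
    fin_cases i <;> fin_cases j <;> simp
  · intro h
    have h3 : (u : Matrix (Fin 2) (Fin 2) K) 0 0 = (1 : Matrix (Fin 2) (Fin 2) K) 0 0 := by
      rw [h, Matrix.SpecialLinearGroup.coe_one]
    rw [hu] at h3
    simp at h3
    exact hl1 h3

/-- `SL(2,8)` has no element whose order is a product of two distinct primes. -/
theorem sl8_no_edge [Fintype K] (hK : Fintype.card K = 8) (p q : ℕ) (hp : p.Prime)
    (hq : q.Prime) (hpq : p ≠ q) :
    ¬ ∃ g : Matrix.SpecialLinearGroup (Fin 2) K, orderOf g = p * q := by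
  rintro ⟨g, hg⟩
  rcases sl8_pow hK g with h | h | h
  · have := orderOf_dvd_of_pow_eq_one h
    rw [hg] at this
    exact not_mul_dvd_prime_pow p q 2 1 hp hq Nat.prime_two hpq (by simpa using this)
  · have := orderOf_dvd_of_pow_eq_one h
    rw [hg] at this
    exact not_mul_dvd_prime_pow p q 7 1 hp hq (by norm_num) hpq (by simpa using this)
  · have := orderOf_dvd_of_pow_eq_one h
    rw [hg] at this
    exact not_mul_dvd_prime_pow p q 3 2 hp hq Nat.prime_three hpq (by simpa using this)

/-- The primes dividing the order of `SL(2,8)` are exactly 2, 3 and 7. -/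
theorem sl8_primes [Fintype K] (hK : Fintype.card K = 8) (p : ℕ) (hp : p.Prime) :
    p ∣ Nat.card (Matrix.SpecialLinearGroup (Fin 2) K) ↔ p = 2 ∨ p = 3 ∨ p = 7 := by
  constructor
  · intro h
    have : Fact p.Prime := ⟨hp⟩
    obtain ⟨g, hg⟩ := exists_prime_orderOf_dvd_card' p h
    rcases sl8_pow hK g with h | h | h
    · have := orderOf_dvd_of_pow_eq_one h
      rw [hg] at this
      left
      exact (Nat.prime_dvd_prime_iff_eq hp Nat.prime_two).mp this
    · have := orderOf_dvd_of_pow_eq_one h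
      rw [hg] at this
      right; right
      exact (Nat.prime_dvd_prime_iff_eq hp (by norm_num)).mp this
    · have := orderOf_dvd_of_pow_eq_one h
      rw [hg] at this
      right; left
      exact (Nat.prime_dvd_prime_iff_eq hp Nat.prime_three).mp
        (hp.dvd_of_dvd_pow (by simpa using this : p ∣ 3 ^ 2))
  · rintro (rfl | rfl | rfl)
    · exact two_dvd_card_SL
    · obtain ⟨u, hu⟩ := exists_orderOf_three_SL (K := K)
      have h4 := orderOf_dvd_natCard u
      rwa [hu] at h4
    · obtain ⟨u, hu⟩ := exists_orderOf_seven_SL hK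
      have h4 := orderOf_dvd_natCard u
      rwa [hu] at h4

end Eight

end Cfsg.Agent.Lib.helper64
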