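/-
Products of two conjugates of a semisimple element cover the noncentral elements of `SL(3,F)`
for a finite field `F` with at least three elements (used for S2459).
-/
import Cfsg.Agent.Lib.helper64.SL3Tab

set_option autoImplicit false

namespace Cfsg.Agent.Lib.helper64.SL3Cover

open Matrix MatrixGroups

section general

variable {R : Type*} [CommRing R]

/-- assembling a product of two conjugates from matrix identities -/
theorem conj_of_matrix_eq (M u v x : SL(3, R)) (T₁ T₂ : Matrix (Fin 3) (Fin 3) R)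
    (h : (M : Matrix (Fin 3) (Fin 3) R) = T₁ * T₂)
    (h1 : T₁ * (u : Matrix (Fin 3) (Fin 3) R) = (u : Matrix (Fin 3) (Fin 3) R) * (x : Matrix (Fin 3) (Fin 3) R))
    (h2 : T₂ * (v : Matrix (Fin 3) (Fin 3) R) = (v : Matrix (Fin 3) (Fin 3) R) * (x : Matrix (Fin 3) (Fin 3) R)) :
    M = u * x * u⁻¹ * (v * x * v⁻¹) := by
  have hu : (u : Matrix (Fin 3) (Fin 3) R) * ((u⁻¹ : SL(3, R)) : Matrix (Fin 3) (Fin 3) R) = 1 := by
    rw [← Matrix.SpecialLinearGroup.coe_mul, mul_inv_cancel, Matrix.SpecialLinearGroup.coe_one]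
  have hv : (v : Matrix (Fin 3) (Fin 3) R) * ((v⁻¹ : SL(3, R)) : Matrix (Fin 3) (Fin 3) R) = 1 := by
    rw [← Matrix.SpecialLinearGroup.coe_mul, mul_inv_cancel, Matrix.SpecialLinearGroup.coe_one]
  apply Subtype.ext
  simp only [Matrix.SpecialLinearGroup.coe_mul]
  rw [← h1, ← h2, Matrix.mul_assoc T₁, hu, Matrix.mul_one, Matrix.mul_assoc T₂, hv, Matrix.mul_one, h]

theorem conj_mulVec (g P : SL(3, R)) (η : Fin 3 → R) :
    (g : Matrix (Fin 3) (Fin 3) R) *ᵥ ((P : Matrix (Fin 3) (Fin 3) R) *ᵥ η) =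
      (P : Matrix (Fin 3) (Fin 3) R) *ᵥ (((P⁻¹ * g * P : SL(3, R)) : Matrix (Fin 3) (Fin 3) R) *ᵥ η) := by
  simp only [Matrix.mulVec_mulVec, ← Matrix.SpecialLinearGroup.coe_mul]
  rw [show P * (P⁻¹ * g * P) = g * P by group]

theorem conj_mulVec_eq (g P : SL(3, R)) (η ζ : Fin 3 → R)
    (h : (g : Matrix (Fin 3) (Fin 3) R) *ᵥ ((P : Matrix (Fin 3) (Fin 3) R) *ᵥ η)
      = (P : Matrix (Fin 3) (Fin 3) R) *ᵥ ζ) :
    ((P⁻¹ * g * P : SL(3, R)) : Matrix (Fin 3) (Fin 3) R) *ᵥ η = ζ := by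
  have h2 := conj_mulVec g P η
  rw [h] at h2
  have h3 := congrArg (fun z => ((P⁻¹ : SL(3, R)) : Matrix (Fin 3) (Fin 3) R) *ᵥ z) h2
  simp only [Matrix.mulVec_mulVec, ← Matrix.SpecialLinearGroup.coe_mul, inv_mul_cancel,
    inv_mul_cancel_left, Matrix.SpecialLinearGroup.coe_one, Matrix.one_mulVec] at h3
  exact h3.symm

/-- the matrix with columns `p₀ p₁ p₂` -/
def ofCols (p₀ p₁ p₂ : Fin 3 → R) : Matrix (Fin 3) (Fin 3) R := (Matrix.of ![p₀, p₁, p₂])ᵀ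

theorem ofCols_mulVec (p₀ p₁ p₂ η : Fin 3 → R) :
    ofCols p₀ p₁ p₂ *ᵥ η = η 0 • p₀ + η 1 • p₁ + η 2 • p₂ := by
  ext i
  simp [ofCols, Matrix.mulVec, dotProduct, Fin.sum_univ_three]
  ring

theorem det_ofCols (p₀ p₁ p₂ : Fin 3 → R) :
    (ofCols p₀ p₁ p₂).det = p₀ ⬝ᵥ (p₁ ⨯₃ p₂) := by
  rw [ofCols, det_transpose, triple_product_eq_det]
  rfl

theorem mulVec_e0 (A : Matrix (Fin 3) (Fin 3) R) : A *ᵥ ![1, 0, 0] = fun i => A i 0 := by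
  ext i; simp [Matrix.mulVec, dotProduct, Fin.sum_univ_three]

theorem mulVec_e1 (A : Matrix (Fin 3) (Fin 3) R) : A *ᵥ ![0, 1, 0] = fun i => A i 1 := by
  ext i; simp [Matrix.mulVec, dotProduct, Fin.sum_univ_three]

theorem mulVec_e2 (A : Matrix (Fin 3) (Fin 3) R) : A *ᵥ ![0, 0, 1] = fun i => A i 2 := by
  ext i; simp [Matrix.mulVec, dotProduct, Fin.sum_univ_three]

theorem vec_id1 (v y w : Fin 3 → R) : ((y - v) ⨯₃ w) ⬝ᵥ v = w ⬝ᵥ (v ⨯₃ y) := by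
  simp [cross_apply, dotProduct, Fin.sum_univ_three]; ring

theorem vec_id2 (v y w : Fin 3 → R) : ((y - v) ⨯₃ w) ⬝ᵥ y = w ⬝ᵥ (v ⨯₃ y) := by
  simp [cross_apply, dotProduct, Fin.sum_univ_three]; ring

theorem vec_id3 (v y w : Fin 3 → R) : ((y - v) ⨯₃ w) ⬝ᵥ w = 0 := by
  simp [cross_apply, dotProduct, Fin.sum_univ_three]; ring

theorem vec_id4 (v f w : Fin 3 → R) : ((f - w) ⨯₃ v) ⬝ᵥ v = 0 := by
  simp [cross_apply, dotProduct, Fin.sum_univ_three]; ring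

theorem vec_id5 (v f w : Fin 3 → R) : ((f - w) ⨯₃ v) ⬝ᵥ w = -(w ⬝ᵥ (v ⨯₃ f)) := by
  simp [cross_apply, dotProduct, Fin.sum_univ_three]; ring

theorem vec_id6 (v f w : Fin 3 → R) : ((f - w) ⨯₃ v) ⬝ᵥ f = -(w ⬝ᵥ (v ⨯₃ f)) := by
  simp [cross_apply, dotProduct, Fin.sum_univ_three]; ring

theorem vec_id7 (a b v w : Fin 3 → R) (k : R) :
    v ⬝ᵥ ((k • (a ⨯₃ b)) ⨯₃ w) = k * ((a ⬝ᵥ w) * (b ⬝ᵥ v) - (a ⬝ᵥ v) * (b ⬝ᵥ w)) := by
  simp [cross_apply, dotProduct, Fin.sum_univ_three]; ring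

end general

section field

variable {F : Type*} [Field F]

theorem exists_cross_ne_zero (g : Matrix (Fin 3) (Fin 3) F)
    (hns : ∀ r : F, Matrix.scalar (Fin 3) r ≠ g) :
    ∃ v : Fin 3 → F, v ⨯₃ (g *ᵥ v) ≠ 0 := by
  by_contra hcon
  push Not at hcon
  apply hns (g 0 0)
  have h0 := hcon ![1, 0, 0]
  have h1 := hcon ![0, 1, 0]
  have h2 := hcon ![0, 0, 1]
  have h3 := hcon ![1, 1, 0]
  have h4 := hcon ![1, 0, 1]
  simp [cross_apply, Matrix.mulVec, dotProduct, Fin.sum_univ_three] at h0 h1 h2 h3 h4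
  obtain ⟨h20, h10⟩ := h0
  obtain ⟨h21, h01⟩ := h1
  obtain ⟨h12, h02⟩ := h2
  have h11 : g 1 1 = g 0 0 := by linear_combination h3.2.2 - h10 + h01
  have h22 : g 2 2 = g 0 0 := by linear_combination -h4.2.1 + h02 - h20
  ext i j
  fin_cases i <;> fin_cases j <;>
    simp [Matrix.scalar_apply, h20, h10, h21, h01, h12, h02, h11, h22]

/-- a nonscalar element of `SL(3,F)` is conjugate to a matrix with first column `(0,1,0)` -/
theorem exists_conj_col (g : SL(3, F))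
    (hns : ∀ r : F, Matrix.scalar (Fin 3) r ≠ (g : Matrix (Fin 3) (Fin 3) F)) :
    ∃ P : SL(3, F), (P⁻¹ * g * P) 0 0 = 0 ∧ (P⁻¹ * g * P) 1 0 = 1 ∧ (P⁻¹ * g * P) 2 0 = 0 := by
  obtain ⟨v, hv⟩ := exists_cross_ne_zero _ hns
  set y := (g : Matrix (Fin 3) (Fin 3) F) *ᵥ v with hy
  obtain ⟨k, hk⟩ : ∃ k : Fin 3 → F, k ⬝ᵥ (v ⨯₃ y) ≠ 0 := by
    by_contra hcon
    push Not at hcon
    exact hv (by funext i; simpa using hcon (Pi.single i 1))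
  have hdet : (ofCols v y ((k ⬝ᵥ (v ⨯₃ y))⁻¹ • k)).det = 1 := by
    have hperm : v ⬝ᵥ (y ⨯₃ k) = k ⬝ᵥ (v ⨯₃ y) := by
      rw [triple_product_permutation, triple_product_permutation]
    rw [det_ofCols, map_smul, dotProduct_smul, hperm, smul_eq_mul, inv_mul_cancel₀ hk]
  let P : SL(3, F) := ⟨ofCols v y ((k ⬝ᵥ (v ⨯₃ y))⁻¹ • k), hdet⟩
  have e1 : (P : Matrix (Fin 3) (Fin 3) F) *ᵥ ![1, 0, 0] = v := by
    show ofCols v y ((k ⬝ᵥ (v ⨯₃ y))⁻¹ • k) *ᵥ ![1, 0, 0] = v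
    rw [ofCols_mulVec]; simp
  have e2 : (P : Matrix (Fin 3) (Fin 3) F) *ᵥ ![0, 1, 0] = y := by
    show ofCols v y ((k ⬝ᵥ (v ⨯₃ y))⁻¹ • k) *ᵥ ![0, 1, 0] = y
    rw [ofCols_mulVec]; simp
  have key := conj_mulVec_eq g P ![1, 0, 0] ![0, 1, 0] (by rw [e1, e2])
  rw [mulVec_e0] at key
  refine ⟨P, ?_, ?_, ?_⟩
  · simpa using congrFun key 0
  · simpa using congrFun key 1
  · simpa using congrFun key 2

theorem exists_conj_lu_core (g : SL(3, F)) (v f : Fin 3 → F)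
    (h1 : ((g : Matrix (Fin 3) (Fin 3) F) *ᵥ f) ⬝ᵥ
      (v ⨯₃ ((g : Matrix (Fin 3) (Fin 3) F) *ᵥ v)) ≠ 0)
    (h3 : ((g : Matrix (Fin 3) (Fin 3) F) *ᵥ f) ⬝ᵥ (v ⨯₃ f) ≠ 0) :
    ∃ P : SL(3, F), (P⁻¹ * g * P) 0 0 = 1 ∧ ((P⁻¹ * g * P)⁻¹ : SL(3, F)) 2 2 = 1 := by
  set y := (g : Matrix (Fin 3) (Fin 3) F) *ᵥ v with hy
  set w := (g : Matrix (Fin 3) (Fin 3) F) *ᵥ f with hw
  set δ₁ := w ⬝ᵥ (v ⨯₃ y) with hδ₁
  set δ₃ := w ⬝ᵥ (v ⨯₃ f) with hδ₃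
  set a := (y - v) ⨯₃ w with ha
  set b := (f - w) ⨯₃ v with hb
  set c := (δ₁ * δ₃)⁻¹ • (a ⨯₃ b) with hc
  have hav : a ⬝ᵥ v = δ₁ := vec_id1 v y w
  have hay : a ⬝ᵥ y = δ₁ := vec_id2 v y w
  have haw : a ⬝ᵥ w = 0 := vec_id3 v y w
  have hbv : b ⬝ᵥ v = 0 := vec_id4 v f w
  have hbw : b ⬝ᵥ w = -δ₃ := vec_id5 v f w
  have hbf : b ⬝ᵥ f = -δ₃ := vec_id6 v f w
  have hac : a ⬝ᵥ c = 0 := by rw [hc, dotProduct_smul, dot_self_cross, smul_zero]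
  have hbc : b ⬝ᵥ c = 0 := by rw [hc, dotProduct_smul, dot_cross_self, smul_zero]
  have hdet : (ofCols v c w).det = 1 := by
    rw [det_ofCols, hc, vec_id7, haw, hbv, hav, hbw]
    field_simp
    ring
  let P : SL(3, F) := ⟨ofCols v c w, hdet⟩
  have hP : ∀ η : Fin 3 → F,
      (P : Matrix (Fin 3) (Fin 3) F) *ᵥ η = η 0 • v + η 1 • c + η 2 • w :=
    fun η => ofCols_mulVec v c w η
  have e0 : (P : Matrix (Fin 3) (Fin 3) F) *ᵥ ![1, 0, 0] = v := by rw [hP]; simp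
  have e2 : (P : Matrix (Fin 3) (Fin 3) F) *ᵥ ![0, 0, 1] = w := by rw [hP]; simp
  refine ⟨P, ?_, ?_⟩
  · have key := conj_mulVec g P ![1, 0, 0]
    generalize P⁻¹ * g * P = M at key ⊢
    rw [e0, hP, mulVec_e0, ← hy] at key
    have key2 := congrArg (fun z => a ⬝ᵥ z) key
    simp only [dotProduct_add, dotProduct_smul, hav, hay, haw, hac, smul_eq_mul, mul_zero,
      add_zero] at key2
    exact mul_right_cancel₀ h1 (by rw [one_mul]; exact key2.symm)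
  · have e : (P⁻¹ * g * P)⁻¹ = P⁻¹ * g⁻¹ * P := by group
    rw [e]
    have hgf : ((g⁻¹ : SL(3, F)) : Matrix (Fin 3) (Fin 3) F) *ᵥ w = f := by
      rw [hw, Matrix.mulVec_mulVec, ← Matrix.SpecialLinearGroup.coe_mul, inv_mul_cancel,
        Matrix.SpecialLinearGroup.coe_one, Matrix.one_mulVec]
    have key := conj_mulVec g⁻¹ P ![0, 0, 1]
    generalize P⁻¹ * g⁻¹ * P = M at key ⊢
    rw [e2, hgf, hP, mulVec_e2] at key
    have key2 := congrArg (fun z => b ⬝ᵥ z) key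
    simp only [dotProduct_add, dotProduct_smul, hbv, hbw, hbf, hbc, smul_eq_mul, mul_zero,
      zero_add] at key2
    exact mul_right_cancel₀ h3 (by rw [one_mul]; linear_combination key2)

theorem exists_conj_lu (g : SL(3, F))
    (hns : ∀ r : F, Matrix.scalar (Fin 3) r ≠ (g : Matrix (Fin 3) (Fin 3) F)) :
    ∃ P : SL(3, F), (P⁻¹ * g * P) 0 0 = 1 ∧ ((P⁻¹ * g * P)⁻¹ : SL(3, F)) 2 2 = 1 := by
  obtain ⟨P₁, h00, h10, h20⟩ := exists_conj_col g hns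
  set M := P₁⁻¹ * g * P₁ with hM
  have hdet := M.det_coe
  rw [det_fin_three] at hdet
  obtain ⟨f₁, hf₁⟩ : ∃ f₁ : F, M 2 1 * f₁ + M 2 2 ≠ 0 := by
    by_cases h : M 2 2 = 0
    · refine ⟨1, ?_⟩
      intro hc
      have h21 : M 2 1 = 0 := by linear_combination hc - h
      simp [h00, h10, h20, h, h21] at hdet
    · exact ⟨0, by simpa using h⟩
  have hc1 : ((M : Matrix (Fin 3) (Fin 3) F) *ᵥ
      ![f₁ * (M 2 1 * f₁ + M 2 2) - M 1 1 * f₁ - M 1 2 - 1, f₁, 1]) ⬝ᵥ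
      ((![1, 0, 0] : Fin 3 → F) ⨯₃ ((M : Matrix (Fin 3) (Fin 3) F) *ᵥ ![1, 0, 0])) ≠ 0 := by
    simp [cross_apply, Matrix.mulVec, dotProduct, Fin.sum_univ_three, h00, h10, h20]
    exact hf₁
  have hc3 : ((M : Matrix (Fin 3) (Fin 3) F) *ᵥ
      ![f₁ * (M 2 1 * f₁ + M 2 2) - M 1 1 * f₁ - M 1 2 - 1, f₁, 1]) ⬝ᵥ
      ((![1, 0, 0] : Fin 3 → F) ⨯₃
        ![f₁ * (M 2 1 * f₁ + M 2 2) - M 1 1 * f₁ - M 1 2 - 1, f₁, 1]) ≠ 0 := by
    simp [cross_apply, Matrix.mulVec, dotProduct, Fin.sum_univ_three, h00, h10, h20]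
    intro h
    apply one_ne_zero (α := F)
    linear_combination h
  obtain ⟨P₂, hP₂⟩ := exists_conj_lu_core M ![1, 0, 0]
    ![f₁ * (M 2 1 * f₁ + M 2 2) - M 1 1 * f₁ - M 1 2 - 1, f₁, 1] hc1 hc3
  refine ⟨P₁ * P₂, ?_⟩
  have e : (P₁ * P₂)⁻¹ * g * (P₁ * P₂) = P₂⁻¹ * M * P₂ := by rw [hM]; group
  rw [e]; exact hP₂

theorem lower_conj (d₂ d₃ a b c : F) (h12 : 1 ≠ d₂) (h13 : 1 ≠ d₃) (h23 : d₂ ≠ d₃)
    (x : SL(3, F)) (hx : (x : Matrix (Fin 3) (Fin 3) F) = !![1, 0, 0; 0, d₂, 0; 0, 0, d₃]) :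
    ∃ u : SL(3, F), !![1, 0, 0; a, d₂, 0; b, c, d₃] * (u : Matrix (Fin 3) (Fin 3) F)
      = (u : Matrix (Fin 3) (Fin 3) F) * (x : Matrix (Fin 3) (Fin 3) F) := by
  have h12' : 1 - d₂ ≠ 0 := sub_ne_zero.mpr h12
  have h13' : 1 - d₃ ≠ 0 := sub_ne_zero.mpr h13
  have h23' : d₂ - d₃ ≠ 0 := sub_ne_zero.mpr h23
  refine ⟨⟨!![1, 0, 0; a / (1 - d₂), 1, 0;
    (b + c * (a / (1 - d₂))) / (1 - d₃), c / (d₂ - d₃), 1], by simp [det_fin_three]⟩, ?_⟩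
  rw [hx]
  ext i j
  fin_cases i <;> fin_cases j <;> simp [Matrix.mul_apply, Fin.sum_univ_three] <;> field_simp <;>
    ring

theorem upper_conj (d₂ d₃ a b c : F) (h12 : 1 ≠ d₂) (h13 : 1 ≠ d₃) (h23 : d₂ ≠ d₃)
    (x : SL(3, F)) (hx : (x : Matrix (Fin 3) (Fin 3) F) = !![1, 0, 0; 0, d₂, 0; 0, 0, d₃]) :
    ∃ v : SL(3, F), !![1, a, b; 0, d₃, c; 0, 0, d₂] * (v : Matrix (Fin 3) (Fin 3) F)
      = (v : Matrix (Fin 3) (Fin 3) F) * (x : Matrix (Fin 3) (Fin 3) F) := by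
  have h12' : d₂ - 1 ≠ 0 := sub_ne_zero.mpr (Ne.symm h12)
  have h13' : d₃ - 1 ≠ 0 := sub_ne_zero.mpr (Ne.symm h13)
  have h23' : d₂ - d₃ ≠ 0 := sub_ne_zero.mpr h23
  refine ⟨⟨!![-1, (a * (c / (d₂ - d₃)) + b) / (d₂ - 1), a / (d₃ - 1);
    0, c / (d₂ - d₃), 1; 0, 1, 0], by simp [det_fin_three]⟩, ?_⟩
  rw [hx]
  ext i j
  fin_cases i <;> fin_cases j <;> simp [Matrix.mul_apply, Fin.sum_univ_three] <;> field_simp <;>
    ring

theorem factor_lu (M : SL(3, F)) (h00 : M 0 0 = 1) (hinv : (M⁻¹ : SL(3, F)) 2 2 = 1)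
    (t : F) (ht0 : t ≠ 0) (ht1 : t ≠ 1) (ht2 : t * t ≠ 1)
    (x : SL(3, F)) (hx : (x : Matrix (Fin 3) (Fin 3) F) = !![1, 0, 0; 0, t, 0; 0, 0, t⁻¹]) :
    ∃ u v : SL(3, F), M = u * x * u⁻¹ * (v * x * v⁻¹) := by
  have hminor : M 0 0 * M 1 1 - M 0 1 * M 1 0 = 1 := by
    have h := hinv
    rw [Matrix.SpecialLinearGroup.coe_inv, adjugate_fin_three] at h
    simpa using h
  have hdet := M.det_coe
  rw [det_fin_three] at hdet
  have h1t : (1 : F) ≠ t := fun h => ht1 h.symm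
  have h1ti : (1 : F) ≠ t⁻¹ := fun h => ht1 (by rw [← inv_inv t, ← h, inv_one])
  have htti : t ≠ t⁻¹ := fun h => ht2 (by nth_rewrite 2 [h]; exact mul_inv_cancel₀ ht0)
  obtain ⟨u, hu⟩ := lower_conj t t⁻¹ (M 1 0) (M 2 0) ((M 2 1 - M 2 0 * M 0 1) * t)
    h1t h1ti htti x hx
  obtain ⟨v, hv⟩ := upper_conj t t⁻¹ (M 0 1) (M 0 2) (t⁻¹ * (M 1 2 - M 1 0 * M 0 2))
    h1t h1ti htti x hx
  refine ⟨u, v, conj_of_matrix_eq M u v x _ _ ?_ hu hv⟩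
  ext i j
  have hti : t * t⁻¹ = 1 := mul_inv_cancel₀ ht0
  have hit : t⁻¹ * t = 1 := inv_mul_cancel₀ ht0
  fin_cases i <;> fin_cases j <;> simp [Matrix.mul_apply, Fin.sum_univ_three]
  · exact h00
  · linear_combination hminor - M 1 1 * h00 - hti
  · linear_combination -(M 1 2 - M 1 0 * M 0 2) * hti
  · linear_combination -(M 2 1 - M 2 0 * M 0 1) * hti
  · linear_combination hdet - M 2 2 * hminor + M 1 2 * M 2 1 * h00 + M 0 2 * M 2 0 * hminor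
      - M 0 2 * M 2 0 * M 1 1 * h00
      - (M 2 1 - M 2 0 * M 0 1) * (M 1 2 - M 1 0 * M 0 2) * hti - hit

theorem nonscalar_of_not_mem_center (g : SL(3, F)) (hg : g ∉ Subgroup.center SL(3, F)) :
    ∀ r : F, Matrix.scalar (Fin 3) r ≠ (g : Matrix (Fin 3) (Fin 3) F) := by
  intro r hr
  apply hg
  rw [Matrix.SpecialLinearGroup.mem_center_iff]
  refine ⟨r, ?_, hr⟩
  have h := g.det_coe
  rw [← hr] at h
  simpa [Matrix.scalar_apply] using h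

theorem cover_of_four (t : F) (ht0 : t ≠ 0) (ht1 : t ≠ 1) (ht2 : t * t ≠ 1) (x : SL(3, F))
    (hx : (x : Matrix (Fin 3) (Fin 3) F) = !![1, 0, 0; 0, t, 0; 0, 0, t⁻¹]) (g : SL(3, F))
    (hg : g ∉ Subgroup.center SL(3, F)) :
    ∃ u v : SL(3, F), g = u * x * u⁻¹ * (v * x * v⁻¹) := by
  have hns := nonscalar_of_not_mem_center g hg
  obtain ⟨P, h00, hinv⟩ := exists_conj_lu g hns
  obtain ⟨u, v, huv⟩ := factor_lu _ h00 hinv t ht0 ht1 ht2 x hx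
  refine ⟨P * u, P * v, ?_⟩
  have e : g = P * (P⁻¹ * g * P) * P⁻¹ := by group
  rw [e, huv]; group

end field

section three

/-- the element of order 8 of `SL(3, ZMod 3)` -/
def x3s : SL(3, ZMod 3) := ⟨x3z, by rw [det_fin_three]; exact x3z_det3⟩

theorem x3s_pow : x3s ^ 8 = 1 := by
  apply Subtype.ext
  rw [Matrix.SpecialLinearGroup.coe_pow, Matrix.SpecialLinearGroup.coe_one]
  show x3z ^ 8 = 1
  have h : x3z ^ 8 = x3z * x3z * (x3z * x3z) * (x3z * x3z * (x3z * x3z)) := by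
    simp only [pow_succ, pow_zero, one_mul, Matrix.mul_assoc]
  rw [h, x3z_pow]

theorem cover_zmod3_col (M : SL(3, ZMod 3)) (h00 : M 0 0 = 0) (h10 : M 1 0 = 1)
    (h20 : M 2 0 = 0) :
    ∃ u v : SL(3, ZMod 3), M = u * x3s * u⁻¹ * (v * x3s * v⁻¹) := by
  have hdet := M.det_coe
  rw [det_fin_three] at hdet
  have hcond : M 0 2 * M 2 1 - M 0 1 * M 2 2 = 1 := by
    rw [h00, h10, h20] at hdet
    linear_combination hdet
  obtain ⟨hM, hU, hV, hdU, hdV⟩ :=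
    tab_ok (M 0 1) (M 0 2) (M 1 1) (M 1 2) (M 2 1) (M 2 2) hcond
  refine ⟨⟨_, by rw [det_fin_three]; exact hdU⟩, ⟨_, by rw [det_fin_three]; exact hdV⟩, ?_⟩
  refine conj_of_matrix_eq M _ _ x3s _ _ ?_ hU hV
  rw [← hM]
  ext a b
  fin_cases a <;> fin_cases b <;> simp [h00, h10, h20]

variable {F : Type*} [Field F] [Fintype F]

theorem cover_of_three (hF : Fintype.card F = 3) :
    ∃ x : SL(3, F), x ^ 8 = 1 ∧ ∀ g : SL(3, F), g ∉ Subgroup.center SL(3, F) →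
      ∃ u v : SL(3, F), g = u * x * u⁻¹ * (v * x * v⁻¹) := by
  let e : ZMod 3 ≃+* F := ZMod.ringEquivOfPrime F Nat.prime_three hF
  let φ : SL(3, ZMod 3) →* SL(3, F) := Matrix.SpecialLinearGroup.map (e : ZMod 3 →+* F)
  let ψ : SL(3, F) →* SL(3, ZMod 3) := Matrix.SpecialLinearGroup.map (e.symm : F →+* ZMod 3)
  have hφψ : ∀ M : SL(3, F), φ (ψ M) = M := by
    intro M
    ext i j
    simp [φ, ψ]
  refine ⟨φ x3s, by rw [← map_pow, x3s_pow, map_one], ?_⟩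
  intro g hg
  have hns := nonscalar_of_not_mem_center g hg
  obtain ⟨P, h00, h10, h20⟩ := exists_conj_col g hns
  set M := P⁻¹ * g * P with hM
  obtain ⟨u, v, huv⟩ := cover_zmod3_col (ψ M) (by simp [ψ, h00]) (by simp [ψ, h10])
    (by simp [ψ, h20])
  refine ⟨P * φ u, P * φ v, ?_⟩
  have e1 : M = φ u * φ x3s * (φ u)⁻¹ * (φ v * φ x3s * (φ v)⁻¹) := by
    rw [← hφψ M, huv]
    simp only [map_mul, map_inv]
  have e2 : g = P * M * P⁻¹ := by rw [hM]; group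
  rw [e2, e1]
  group

end three

end Cfsg.Agent.Lib.helper64.SL3Cover
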