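import Mathlib
import Cfsg.Prelude.Def_Classical
import Cfsg.Prelude.Def_GeometricClasses
import Cfsg.Agent.Lib.helper49.WittIso

set_option autoImplicit false

namespace Cfsg.Agent.Lib.helper59.Sfk

open Matrix Cfsg.Geo
open Cfsg.Agent.Lib.helper49 (detHom spinorSign)

theorem h64_proj_orth {F V κ : Type*} [Field F] [AddCommGroup V] [Module F V] [Fintype κ]
    [DecidableEq κ] (B : LinearMap.BilinForm F V) (f : κ → V)
    (horth : ∀ k l, k ≠ l → B (f k) (f l) = 0)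
    (hne : ∀ k, B (f k) (f k) ≠ 0) (w : V) (l : κ) :
    B (w - ∑ k, (B w (f k) / B (f k) (f k)) • f k) (f l) = 0 := by
  rw [map_sub, LinearMap.sub_apply, map_sum, LinearMap.sum_apply, Finset.sum_eq_single l]
  · rw [map_smul, LinearMap.smul_apply, smul_eq_mul, div_mul_cancel₀ _ (hne l), sub_self]
  · intro k _ hk
    rw [map_smul, LinearMap.smul_apply, horth k l hk, smul_zero]
  · intro h
    exact absurd (Finset.mem_univ l) h

theorem h64_orth_zero {F V κ : Type*} [Field F] [AddCommGroup V] [Module F V] [Fintype κ]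
    [DecidableEq κ] (B : LinearMap.BilinForm F V) (f : κ → V)
    (horth : ∀ k l, k ≠ l → B (f k) (f l) = 0) (hne : ∀ k, B (f k) (f k) ≠ 0)
    (q : V → F) (hBp : ∀ u v, B u v = q (u + v) - q u - q v)
    (hcon : ∀ u, (∀ k, B u (f k) = 0) → q u = 0) (v' : V) (hv' : ∀ k, B v' (f k) = 0)
    (w : V) : B v' w = 0 := by
  obtain ⟨w', hw'def⟩ : ∃ w', w' = w - ∑ k, (B w (f k) / B (f k) (f k)) • f k := ⟨_, rfl⟩
  have hw' : ∀ k, B w' (f k) = 0 := by
    intro k
    rw [hw'def]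
    exact h64_proj_orth B f horth hne w k
  have hw : w = w' + ∑ k, (B w (f k) / B (f k) (f k)) • f k := by
    rw [hw'def, sub_add_cancel]
  have h1 : B v' (∑ k, (B w (f k) / B (f k) (f k)) • f k) = 0 := by
    rw [map_sum]
    apply Finset.sum_eq_zero
    intro k _
    rw [map_smul, hv' k, smul_zero]
  have h2 : B v' w' = 0 := by
    rw [hBp, hcon _ (fun k => by rw [map_add, LinearMap.add_apply, hv' k, hw' k, add_zero]),
      hcon _ hv', hcon _ hw']
    simp
  rw [hw, map_add, h1, h2, add_zero]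

/-- The orthogonality conditions on a family `e`. -/
def h64_JFam {F : Type*} [Field F] {ι : Type} [Fintype ι] [DecidableEq ι]
    (Q : QuadraticForm F (ι → F)) (X : Matrix ι ι F) (m : ℕ) (e : Fin m → (ι → F)) : Prop :=
  (∀ i j, i ≠ j → QuadraticMap.polar (⇑Q) (e i) (e j) = 0) ∧
  (∀ i j, QuadraticMap.polar (⇑Q) (e i) (X *ᵥ e j) = 0) ∧ ∀ i, Q (e i) ≠ 0

theorem h64_polar_iso {F : Type*} [Field F] {ι : Type} [Fintype ι] [DecidableEq ι]
    (Q : QuadraticForm F (ι → F)) (X : Matrix ι ι F)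
    (hiso : ∀ v, Q (X *ᵥ v) = Q v) (u v : ι → F) :
    QuadraticMap.polar (⇑Q) (X *ᵥ u) (X *ᵥ v) = QuadraticMap.polar (⇑Q) u v := by
  unfold QuadraticMap.polar
  rw [← Matrix.mulVec_add, hiso, hiso, hiso]

theorem h64_polar_skew {F : Type*} [Field F] {ι : Type} [Fintype ι] [DecidableEq ι]
    (Q : QuadraticForm F (ι → F)) (X : Matrix ι ι F)
    (hiso : ∀ v, Q (X *ᵥ v) = Q v) (hXX : ∀ v, X *ᵥ (X *ᵥ v) = -v) (u v : ι → F) :
    QuadraticMap.polar (⇑Q) (X *ᵥ u) v = - QuadraticMap.polar (⇑Q) u (X *ᵥ v) := by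
  rw [← h64_polar_iso Q X hiso (X *ᵥ u) v, hXX, QuadraticMap.polar_neg_left]

theorem h64_polar_self0 {F : Type*} [Field F] {ι : Type} [Fintype ι] [DecidableEq ι]
    (h2 : (2 : F) ≠ 0) (Q : QuadraticForm F (ι → F)) (X : Matrix ι ι F)
    (hiso : ∀ v, Q (X *ᵥ v) = Q v) (hXX : ∀ v, X *ᵥ (X *ᵥ v) = -v) (u : ι → F) :
    QuadraticMap.polar (⇑Q) u (X *ᵥ u) = 0 := by
  have h := h64_polar_skew Q X hiso hXX u u
  rw [QuadraticMap.polar_comm] at h
  have h3 : (2 : F) * QuadraticMap.polar (⇑Q) u (X *ᵥ u) = 0 := by linear_combination h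
  exact (mul_eq_zero.mp h3).resolve_left h2

theorem h64_polar_self_ne {F : Type*} [Field F] {ι : Type} [Fintype ι] [DecidableEq ι]
    (h2 : (2 : F) ≠ 0) (Q : QuadraticForm F (ι → F)) (u : ι → F) (hu : Q u ≠ 0) :
    QuadraticMap.polar (⇑Q) u u ≠ 0 := by
  rw [QuadraticMap.polar_self, two_nsmul, ← two_mul]
  exact mul_ne_zero h2 hu

theorem h64_jfam_orth {F : Type*} [Field F] {ι : Type} [Fintype ι] [DecidableEq ι]
    (Q : QuadraticForm F (ι → F)) (X : Matrix ι ι F)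
    (hiso : ∀ v, Q (X *ᵥ v) = Q v) (m : ℕ) (e : Fin m → (ι → F)) (hC : h64_JFam Q X m e) :
    ∀ k l : Fin m ⊕ Fin m, k ≠ l →
      QuadraticMap.polarBilin Q (Sum.elim e (fun i => X *ᵥ e i) k)
        (Sum.elim e (fun i => X *ᵥ e i) l) = 0 := by
  obtain ⟨h1, h2', h3⟩ := hC
  rintro (i | i) (j | j) hij
  · exact h1 i j (fun h => hij (by rw [h]))
  · exact h2' i j
  · show QuadraticMap.polar (⇑Q) (X *ᵥ e i) (e j) = 0
    rw [QuadraticMap.polar_comm]
    exact h2' j i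
  · show QuadraticMap.polar (⇑Q) (X *ᵥ e i) (X *ᵥ e j) = 0
    rw [h64_polar_iso Q X hiso]
    exact h1 i j (fun h => hij (by rw [h]))

theorem h64_jfam_ne {F : Type*} [Field F] {ι : Type} [Fintype ι] [DecidableEq ι]
    (h2 : (2 : F) ≠ 0) (Q : QuadraticForm F (ι → F)) (X : Matrix ι ι F)
    (hiso : ∀ v, Q (X *ᵥ v) = Q v) (m : ℕ) (e : Fin m → (ι → F)) (hC : h64_JFam Q X m e) :
    ∀ k : Fin m ⊕ Fin m,
      QuadraticMap.polarBilin Q (Sum.elim e (fun i => X *ᵥ e i) k)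
        (Sum.elim e (fun i => X *ᵥ e i) k) ≠ 0 := by
  obtain ⟨h1, h2', h3⟩ := hC
  rintro (i | i)
  · exact h64_polar_self_ne h2 Q (e i) (h3 i)
  · exact h64_polar_self_ne h2 Q (X *ᵥ e i) (by rw [hiso]; exact h3 i)

theorem h64_jfam_indep {F : Type*} [Field F] {ι : Type} [Fintype ι] [DecidableEq ι]
    (h2 : (2 : F) ≠ 0) (Q : QuadraticForm F (ι → F)) (X : Matrix ι ι F)
    (hiso : ∀ v, Q (X *ᵥ v) = Q v) (m : ℕ) (e : Fin m → (ι → F)) (hC : h64_JFam Q X m e) :
    LinearIndependent F (Sum.elim e (fun i => X *ᵥ e i)) :=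
  LinearMap.BilinForm.linearIndependent_of_iIsOrtho (B := QuadraticMap.polarBilin Q)
    (LinearMap.BilinForm.iIsOrtho_def.2 (h64_jfam_orth Q X hiso m e hC))
    (h64_jfam_ne h2 Q X hiso m e hC)

theorem h64_jfam_card_le {F : Type*} [Field F] {ι : Type} [Fintype ι] [DecidableEq ι]
    (h2 : (2 : F) ≠ 0) (Q : QuadraticForm F (ι → F)) (X : Matrix ι ι F)
    (hiso : ∀ v, Q (X *ᵥ v) = Q v) (m : ℕ) (e : Fin m → (ι → F)) (hC : h64_JFam Q X m e) :
    2 * m ≤ Fintype.card ι := by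
  have hli := h64_jfam_indep h2 Q X hiso m e hC
  have h := hli.fintype_card_le_finrank
  simp at h
  omega

theorem h64_jfam_extend {F : Type*} [Field F] {ι : Type} [Fintype ι] [DecidableEq ι]
    (h2 : (2 : F) ≠ 0) (Q : QuadraticForm F (ι → F))
    (hQ : (QuadraticMap.polarBilin Q).Nondegenerate) (X : Matrix ι ι F)
    (hiso : ∀ v, Q (X *ᵥ v) = Q v) (hXX : ∀ v, X *ᵥ (X *ᵥ v) = -v)
    (m : ℕ) (e : Fin m → (ι → F)) (hC : h64_JFam Q X m e)
    (hlt : 2 * m ≠ Fintype.card ι) :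
    ∃ e' : Fin (m + 1) → (ι → F), h64_JFam Q X (m + 1) e' := by
  classical
  have hli := h64_jfam_indep h2 Q X hiso m e hC
  have horth := h64_jfam_orth Q X hiso m e hC
  have hne := h64_jfam_ne h2 Q X hiso m e hC
  obtain ⟨h1, h2', h3⟩ := hC
  have hspan : Submodule.span F (Set.range (Sum.elim e (fun i => X *ᵥ e i))) ≠ ⊤ := by
    intro htop
    have h := finrank_span_eq_card hli
    rw [htop, finrank_top, Module.finrank_fintype_fun_eq_card] at h
    simp at h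
    omega
  obtain ⟨v, hv⟩ : ∃ v, v ∉ Submodule.span F (Set.range (Sum.elim e (fun i => X *ᵥ e i))) := by
    by_contra hcon
    simp only [not_exists, not_not] at hcon
    exact hspan (Submodule.eq_top_iff'.mpr hcon)
  obtain ⟨v', hv'def⟩ : ∃ v' : ι → F, v' = v - ∑ k,
      (QuadraticMap.polarBilin Q v (Sum.elim e (fun i => X *ᵥ e i) k) /
      QuadraticMap.polarBilin Q (Sum.elim e (fun i => X *ᵥ e i) k)
        (Sum.elim e (fun i => X *ᵥ e i) k)) • Sum.elim e (fun i => X *ᵥ e i) k := ⟨_, rfl⟩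
  have hv'orth : ∀ k, QuadraticMap.polarBilin Q v' (Sum.elim e (fun i => X *ᵥ e i) k) = 0 := by
    intro k
    rw [hv'def]
    exact h64_proj_orth (QuadraticMap.polarBilin Q) (Sum.elim e (fun i => X *ᵥ e i))
      horth hne v k
  have hv'0 : v' ≠ 0 := by
    intro h0
    apply hv
    rw [h0] at hv'def
    rw [sub_eq_zero.mp hv'def.symm]
    exact Submodule.sum_mem _ (fun k _ => Submodule.smul_mem _ _ (Submodule.subset_span ⟨k, rfl⟩))
  obtain ⟨u, hu, hQu⟩ : ∃ u : ι → F,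
      (∀ k, QuadraticMap.polarBilin Q u (Sum.elim e (fun i => X *ᵥ e i) k) = 0) ∧ Q u ≠ 0 := by
    by_contra hcon
    simp only [not_exists, not_and, not_not] at hcon
    apply hv'0
    apply hQ.1
    intro w
    exact h64_orth_zero (QuadraticMap.polarBilin Q) (Sum.elim e (fun i => X *ᵥ e i)) horth hne
      (⇑Q) (fun _ _ => rfl) hcon v' hv'orth w
  have hu1 : ∀ i, QuadraticMap.polar (⇑Q) u (e i) = 0 := fun i => hu (Sum.inl i)
  have hu2 : ∀ i, QuadraticMap.polar (⇑Q) u (X *ᵥ e i) = 0 := fun i => hu (Sum.inr i)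
  refine ⟨Fin.cons u e, ?_, ?_, ?_⟩
  · intro i j hij
    rcases Fin.eq_zero_or_eq_succ i with rfl | ⟨i', rfl⟩ <;>
      rcases Fin.eq_zero_or_eq_succ j with rfl | ⟨j', rfl⟩
    · exact absurd rfl hij
    · simp only [Fin.cons_zero, Fin.cons_succ]
      exact hu1 j'
    · simp only [Fin.cons_zero, Fin.cons_succ]
      rw [QuadraticMap.polar_comm]
      exact hu1 i'
    · simp only [Fin.cons_succ]
      exact h1 i' j' (fun h => hij (by rw [h]))
  · intro i j
    rcases Fin.eq_zero_or_eq_succ i with rfl | ⟨i', rfl⟩ <;>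
      rcases Fin.eq_zero_or_eq_succ j with rfl | ⟨j', rfl⟩
    · simp only [Fin.cons_zero]
      exact h64_polar_self0 h2 Q X hiso hXX u
    · simp only [Fin.cons_zero, Fin.cons_succ]
      exact hu2 j'
    · simp only [Fin.cons_zero, Fin.cons_succ]
      have h := h64_polar_skew Q X hiso hXX (e i') u
      rw [QuadraticMap.polar_comm, hu2 i'] at h
      exact neg_eq_zero.mp h.symm
    · simp only [Fin.cons_succ]
      exact h2' i' j'
  · intro i
    rcases Fin.eq_zero_or_eq_succ i with rfl | ⟨i', rfl⟩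
    · simp only [Fin.cons_zero]
      exact hQu
    · simp only [Fin.cons_succ]
      exact h3 i'

/-- JBASIS (L+): for an isometry with `x * x = -1` there are `e_1 .. e_m` such that
`e_1, .., e_m, x e_1, .., x e_m` is an orthogonal basis. -/
theorem sfk_j_basis {F : Type*} [Field F] {ι : Type} [Fintype ι] [DecidableEq ι]
    (h2 : (2 : F) ≠ 0) (Q : QuadraticForm F (ι → F))
    (hQ : (QuadraticMap.polarBilin Q).Nondegenerate)
    (x : GL ι F) (hx : x ∈ Cfsg.isometryGroup F (⇑Q))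
    (hxx : (x : Matrix ι ι F) * (x : Matrix ι ι F) = -1) :
    ∃ (m : ℕ) (e : Fin m → (ι → F)),
      LinearIndependent F (Sum.elim e (fun i => (x : Matrix ι ι F) *ᵥ e i)) ∧
      Fintype.card ι = 2 * m ∧
      (∀ i j, i ≠ j → QuadraticMap.polar (⇑Q) (e i) (e j) = 0) ∧
      (∀ i j, QuadraticMap.polar (⇑Q) (e i) ((x : Matrix ι ι F) *ᵥ e j) = 0) ∧
      ∀ i, Q (e i) ≠ 0 := by
  classical
  have hiso : ∀ v, Q ((x : Matrix ι ι F) *ᵥ v) = Q v := fun v =>
    (show ∀ u v : ι → F, Q ((x : Matrix ι ι F) *ᵥ u) = Q u from hx) v v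
  have hXX : ∀ v, (x : Matrix ι ι F) *ᵥ ((x : Matrix ι ι F) *ᵥ v) = -v := by
    intro v
    rw [Matrix.mulVec_mulVec, hxx, Matrix.neg_mulVec, Matrix.one_mulVec]
  have key : ∀ d m (e : Fin m → (ι → F)), h64_JFam Q (x : Matrix ι ι F) m e →
      Fintype.card ι - 2 * m = d →
      ∃ (m' : ℕ) (e' : Fin m' → (ι → F)), h64_JFam Q (x : Matrix ι ι F) m' e' ∧
        Fintype.card ι = 2 * m' := by
    intro d
    induction d using Nat.strong_induction_on with
    | _ d ih =>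
      intro m e hC hd
      have hle := h64_jfam_card_le h2 Q (x : Matrix ι ι F) hiso m e hC
      by_cases heq : 2 * m = Fintype.card ι
      · exact ⟨m, e, hC, heq.symm⟩
      · obtain ⟨e', hC'⟩ := h64_jfam_extend h2 Q hQ (x : Matrix ι ι F) hiso hXX m e hC heq
        have hle' := h64_jfam_card_le h2 Q (x : Matrix ι ι F) hiso (m + 1) e' hC'
        exact ih (Fintype.card ι - 2 * (m + 1)) (by omega) (m + 1) e' hC' rfl
  obtain ⟨m, e, hC, hcard⟩ := key _ 0 Fin.elim0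
    ⟨fun i => i.elim0, fun i => i.elim0, fun i => i.elim0⟩ rfl
  exact ⟨m, e, h64_jfam_indep h2 Q (x : Matrix ι ι F) hiso m e hC, hcard, hC.1, hC.2.1, hC.2.2⟩

end Cfsg.Agent.Lib.helper59.Sfk
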