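import Mathlib
import Cfsg.Agent.Lib.helper44.Unipotent
import Cfsg.Agent.Lib.helper48.UnitaryConj
import Cfsg.Agent.Lib.helper64.UBasic

set_option autoImplicit false

/-!
# A unitary unipotent matrix with one Jordan block (helper64)

Built as the Cayley transform of a skew-Hermitian regular nilpotent matrix; the latter is a
conjugate of the shift matrix, which is skew for an explicit antidiagonal Hermitian form.
-/

namespace Cfsg.Agent.Lib.helper64.UJordan

open Matrix Cfsg.Agent.Lib.helper64.UBasic Cfsg.Agent.Lib.helper44 Finset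

variable {F : Type*} [Field F]

theorem exists_trace_ne (σ : F →+* F) (hσne : σ ≠ RingHom.id F) : ∃ a : F, a + σ a ≠ 0 := by
  by_contra hcon
  push Not at hcon
  have h1 : (1 : F) + 1 = 0 := by
    have := hcon 1
    rwa [map_one] at this
  apply hσne
  apply RingHom.ext
  intro a
  have h2 : a + a = 0 := by
    calc a + a = a * (1 + 1) := by ring
      _ = 0 := by rw [h1, mul_zero]
  have h3 := hcon a
  rw [RingHom.id_apply]
  linear_combination h3 - h2

theorem exists_theta (σ : F →+* F) (hσ2 : ∀ x, σ (σ x) = x) (hσne : σ ≠ RingHom.id F) (m : ℕ) :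
    ∃ θ : F, θ ≠ 0 ∧ σ θ = (-1) ^ (m + 1) * θ := by
  rcases Nat.even_or_odd (m + 1) with h | h
  · exact ⟨1, one_ne_zero, by rw [map_one, h.neg_one_pow, mul_one]⟩
  · have hex : ∃ c : F, σ c ≠ c := by
      by_contra hcon
      push Not at hcon
      exact hσne (RingHom.ext hcon)
    obtain ⟨c, hc⟩ := hex
    refine ⟨c - σ c, sub_ne_zero.mpr (Ne.symm hc), ?_⟩
    rw [h.neg_one_pow, map_sub, hσ2]
    ring

/-- the antidiagonal form with alternating signs -/
def Hm (m : ℕ) (θ : F) : Matrix (Fin m) (Fin m) F :=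
  Matrix.of fun i j => if i.val + j.val + 1 = m then (-1) ^ i.val * θ else 0

theorem Hm_apply (m : ℕ) (θ : F) (i j : Fin m) :
    Hm m θ i j = if i.val + j.val + 1 = m then (-1) ^ i.val * θ else 0 := rfl

theorem mul_shift (m : ℕ) (M : Matrix (Fin m) (Fin m) F) (i j : Fin m) :
    (M * shiftMat F m) i j = if h : 0 < j.val then M i ⟨j.val - 1, by omega⟩ else 0 := by
  rw [Matrix.mul_apply]
  simp only [shiftMat_apply]
  split_ifs with h
  · rw [Finset.sum_eq_single (⟨j.val - 1, by omega⟩ : Fin m)]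
    · rw [if_pos (by simp; omega), mul_one]
    · intro k _ hk
      have : j.val ≠ k.val + 1 := by
        intro h'
        apply hk
        apply Fin.ext
        simp
        omega
      rw [if_neg this, mul_zero]
    · intro h'
      exact absurd (Finset.mem_univ _) h'
  · apply Finset.sum_eq_zero
    intro k _
    rw [if_neg (by omega), mul_zero]

theorem shiftT_mul (m : ℕ) (M : Matrix (Fin m) (Fin m) F) (i j : Fin m) :
    ((shiftMat F m)ᵀ * M) i j = if h : 0 < i.val then M ⟨i.val - 1, by omega⟩ j else 0 := by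
  rw [Matrix.mul_apply]
  simp only [Matrix.transpose_apply, shiftMat_apply]
  split_ifs with h
  · rw [Finset.sum_eq_single (⟨i.val - 1, by omega⟩ : Fin m)]
    · rw [if_pos (by simp; omega), one_mul]
    · intro k _ hk
      have : i.val ≠ k.val + 1 := by
        intro h'
        apply hk
        apply Fin.ext
        simp
        omega
      rw [if_neg this, zero_mul]
    · intro h'
      exact absurd (Finset.mem_univ _) h'
  · apply Finset.sum_eq_zero
    intro k _
    rw [if_neg (by omega), zero_mul]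

theorem cs_shift (σ : F →+* F) (m : ℕ) : cs σ (shiftMat F m) = (shiftMat F m)ᵀ := by
  ext i j
  rw [cs_apply, Matrix.transpose_apply, shiftMat_apply]
  split_ifs <;> simp

theorem cs_Hm (σ : F →+* F) (m : ℕ) (θ : F) (hθ : σ θ = (-1) ^ (m + 1) * θ) :
    cs σ (Hm m θ) = Hm m θ := by
  ext i j
  rw [cs_apply, Hm_apply, Hm_apply]
  by_cases hij : i.val + j.val + 1 = m
  · rw [if_pos hij, if_pos (by omega), map_mul, map_pow, map_neg, map_one, hθ, ← mul_assoc,
      ← pow_add]
    congr 1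
    have h1 : j.val + (m + 1) = i.val + 2 * (j.val + 1) := by omega
    rw [h1, pow_add, pow_mul]
    simp
  · rw [if_neg hij, if_neg (by omega), map_zero]

theorem Hm_mul_self (m : ℕ) (θ : F) :
    Hm m θ * Hm m θ = ((-1) ^ (m + 1) * θ ^ 2) • (1 : Matrix (Fin m) (Fin m) F) := by
  ext i j
  rw [Matrix.mul_apply, Matrix.smul_apply, Matrix.one_apply, smul_eq_mul]
  rw [Finset.sum_eq_single (Fin.rev i)]
  · rw [Hm_apply, Hm_apply]
    have h1 : i.val + (Fin.rev i).val + 1 = m := by
      rw [Fin.val_rev]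
      omega
    rw [if_pos h1]
    by_cases hij : i = j
    · subst hij
      rw [if_pos (by omega), if_pos rfl, mul_one]
      have h2 : (-1 : F) ^ i.val * θ * ((-1) ^ (Fin.rev i).val * θ) =
          (-1) ^ (i.val + (Fin.rev i).val) * θ ^ 2 := by
        rw [pow_add]
        ring
      rw [h2]
      congr 1
      have h3 : m + 1 = i.val + (Fin.rev i).val + 2 := by omega
      rw [h3, pow_add (-1 : F) _ 2]
      simp
    · have h2 : ¬ ((Fin.rev i).val + j.val + 1 = m) := by
        intro h'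
        apply hij
        apply Fin.ext
        omega
      rw [if_neg h2, if_neg hij, mul_zero, mul_zero]
  · intro k _ hk
    have h2 : ¬ (i.val + k.val + 1 = m) := by
      intro h'
      apply hk
      apply Fin.ext
      rw [Fin.val_rev]
      omega
    rw [Hm_apply, if_neg h2, zero_mul]
  · intro h'
    exact absurd (Finset.mem_univ _) h'

theorem shift_skew (σ : F →+* F) (m : ℕ) (θ : F) :
    cs σ (shiftMat F m) * Hm m θ = -(Hm m θ * shiftMat F m) := by
  rw [cs_shift]
  ext i j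
  rw [shiftT_mul, Matrix.neg_apply, mul_shift]
  by_cases hi : 0 < i.val
  · by_cases hj : 0 < j.val
    · rw [dif_pos hi, dif_pos hj, Hm_apply, Hm_apply]
      simp only
      by_cases hij : i.val + j.val = m
      · rw [if_pos (by omega), if_pos (by omega)]
        obtain ⟨i', hi'⟩ : ∃ i', i.val = i' + 1 := ⟨i.val - 1, by omega⟩
        rw [hi']
        simp only [Nat.add_sub_cancel]
        rw [pow_succ]
        ring
      · rw [if_neg (by omega), if_neg (by omega), neg_zero]
    · rw [dif_pos hi, dif_neg hj, Hm_apply, neg_zero]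
      have := i.2
      rw [if_neg (by simp only; omega)]
  · by_cases hj : 0 < j.val
    · rw [dif_neg hi, dif_pos hj, Hm_apply]
      have := j.2
      rw [if_neg (by simp only; omega), neg_zero]
    · rw [dif_neg hi, dif_neg hj, neg_zero]

/-- a skew-Hermitian nilpotent matrix with a single Jordan block -/
theorem exists_skew_nilp [Finite F] (σ : F →+* F) (hσ2 : ∀ x, σ (σ x) = x)
    (hσne : σ ≠ RingHom.id F) (m : ℕ) (hm : 0 < m) :
    ∃ Y : Matrix (Fin m) (Fin m) F, cs σ Y = -Y ∧ Y ^ m = 0 ∧ Y ^ (m - 1) ≠ 0 := by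
  classical
  obtain ⟨θ, hθ0, hθ⟩ := exists_theta σ hσ2 hσne m
  have hH : cs σ (Hm m θ) = Hm m θ := cs_Hm σ m θ hθ
  have hHu : IsUnit (Hm m θ) := by
    have hc : ((-1) ^ (m + 1) * θ ^ 2 : F) ≠ 0 :=
      mul_ne_zero (pow_ne_zero _ (neg_ne_zero.mpr one_ne_zero)) (pow_ne_zero _ hθ0)
    have h1 := Hm_mul_self m θ
    rw [Matrix.isUnit_iff_isUnit_det]
    have h2 := congrArg Matrix.det h1
    rw [Matrix.det_mul, Matrix.det_smul, Matrix.det_one, mul_one] at h2
    apply isUnit_iff_ne_zero.mpr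
    intro h0
    rw [h0, mul_zero] at h2
    exact pow_ne_zero _ hc h2.symm
  obtain ⟨C, hCu, hC⟩ :=
    Cfsg.Agent.Lib.helper48.exists_cstar_mul_self σ hσne hσ2 (Hm m θ) hH hHu
  have hC' : cs σ C * C = Hm m θ := hC
  obtain ⟨Ci, hCi⟩ := hCu.exists_right_inv
  have hCi' : Ci * C = 1 := mul_eq_one_comm.mp hCi
  have hpow : ∀ k : ℕ, (C * shiftMat F m * Ci) ^ k = C * shiftMat F m ^ k * Ci := by
    intro k
    induction k with
    | zero => rw [pow_zero, pow_zero, mul_one, hCi]
    | succ k ih =>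
      rw [pow_succ, ih, pow_succ]
      calc C * shiftMat F m ^ k * Ci * (C * shiftMat F m * Ci)
          = C * shiftMat F m ^ k * (Ci * C) * shiftMat F m * Ci := by simp only [mul_assoc]
        _ = C * (shiftMat F m ^ k * shiftMat F m) * Ci := by
          rw [hCi', mul_one]; simp only [mul_assoc]
  refine ⟨C * shiftMat F m * Ci, ?_, ?_, ?_⟩
  · have h1 : cs σ Ci * cs σ C = 1 := by rw [← cs_mul, hCi, cs_one]
    have h2 := shift_skew σ m θ
    rw [← hC'] at h2
    calc cs σ (C * shiftMat F m * Ci)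
        = cs σ Ci * (cs σ (shiftMat F m) * (cs σ C * C)) * Ci := by
          rw [cs_mul, cs_mul]
          simp only [mul_assoc]
          rw [hCi, mul_one]
      _ = cs σ Ci * (-(cs σ C * C * shiftMat F m)) * Ci := by rw [h2]
      _ = -(C * shiftMat F m * Ci) := by
          rw [mul_neg, neg_mul]
          congr 1
          simp only [← mul_assoc]
          rw [h1, one_mul]
  · rw [hpow, shiftMat_pow_self, mul_zero, zero_mul]
  · intro h0
    rw [hpow] at h0
    apply shiftMat_pow_ne_zero F m (m - 1) (by omega)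
    calc shiftMat F m ^ (m - 1) = (Ci * C) * shiftMat F m ^ (m - 1) * (Ci * C) := by
          rw [hCi', one_mul, mul_one]
      _ = Ci * (C * shiftMat F m ^ (m - 1) * Ci) * C := by simp only [mul_assoc]
      _ = 0 := by rw [h0, mul_zero, zero_mul]

/-- the Cayley transform of a skew-Hermitian nilpotent matrix is unitary, with the same
nilpotency behaviour -/
theorem cayley (σ : F →+* F) (hσ2 : ∀ x, σ (σ x) = x) (m : ℕ)
    (Y : Matrix (Fin m) (Fin m) F) (hY : cs σ Y = -Y) (hYm : Y ^ m = 0) (a : F)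
    (ha : a + σ a ≠ 0) :
    ∃ U₀ : Matrix (Fin m) (Fin m) F, cs σ U₀ * U₀ = 1 ∧ ∀ k : ℕ, (U₀ - 1) ^ k = 0 ↔ Y ^ k = 0 := by
  classical
  set x : Matrix (Fin m) (Fin m) F := σ a • Y with hx
  have hxm : x ^ m = 0 := by rw [hx, smul_pow, hYm, smul_zero]
  set G : Matrix (Fin m) (Fin m) F := ∑ i ∈ range m, x ^ i with hG
  set A : Matrix (Fin m) (Fin m) F := 1 + a • Y with hA
  set Bm : Matrix (Fin m) (Fin m) F := 1 - x with hBm
  have hBG : Bm * G = 1 := by rw [hBm, hG, mul_neg_geom_sum, hxm, sub_zero]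
  have hGB : G * Bm = 1 := by rw [hBm, hG, geom_sum_mul_neg, hxm, sub_zero]
  have hcsA : cs σ A = Bm := by
    rw [hA, cs_add, cs_one, cs_smul, hY, hBm, hx, smul_neg, sub_eq_add_neg]
  have hcsB : cs σ Bm = A := by
    rw [hBm, hx, cs_sub, cs_one, cs_smul, hσ2, hY, smul_neg, sub_neg_eq_add]
  have hAcsG : A * cs σ G = 1 := by rw [← hcsB, ← cs_mul, hGB, cs_one]
  have hcsGA : cs σ G * A = 1 := mul_eq_one_comm.mp hAcsG
  have hYx : Commute Y x := (Commute.refl Y).smul_right (σ a)
  have hYG : Commute Y G := by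
    rw [hG]
    exact Commute.sum_right _ _ _ (fun i _ => hYx.pow_right i)
  have hAB : Commute A Bm :=
    (Commute.one_right A).sub_right ((Commute.one_left x).add_left (hYx.smul_left a))
  refine ⟨A * G, ?_, ?_⟩
  · calc cs σ (A * G) * (A * G) = cs σ G * (Bm * A) * G := by
          rw [cs_mul, hcsA]; simp only [mul_assoc]
      _ = (cs σ G * A) * (Bm * G) := by rw [← hAB.eq]; simp only [mul_assoc]
      _ = 1 := by rw [hcsGA, hBG, mul_one]
  · intro k
    have h1 : A * G - 1 = ((a + σ a) • Y) * G := by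
      have h2 : A - Bm = (a + σ a) • Y := by
        rw [hA, hBm, hx, add_smul]
        abel
      rw [← h2, sub_mul, hBG]
    have hcomm : Commute ((a + σ a) • Y) G := hYG.smul_left _
    rw [h1, hcomm.mul_pow, smul_pow]
    constructor
    · intro h0
      have hGBk : G ^ k * Bm ^ k = 1 := by
        have hc : Commute G Bm := by
          show G * Bm = Bm * G
          rw [hGB, hBG]
        rw [← hc.mul_pow, hGB, one_pow]
      have h2 : Y ^ k * G ^ k = 0 := by
        rw [smul_mul_assoc] at h0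
        exact (smul_eq_zero.1 h0).resolve_left (pow_ne_zero _ ha)
      calc Y ^ k = Y ^ k * (G ^ k * Bm ^ k) := by rw [hGBk, mul_one]
        _ = 0 := by rw [← mul_assoc, h2, zero_mul]
    · intro h0
      rw [h0, smul_zero, zero_mul]

omit [Field F] in
theorem cs_fromBlocks {F : Type*} [Field F] {m₁ m₂ : Type*} [Fintype m₁] [Fintype m₂]
    (σ : F →+* F) (A : Matrix m₁ m₁ F) (B : Matrix m₁ m₂ F) (C : Matrix m₂ m₁ F)
    (D : Matrix m₂ m₂ F) :
    cs σ (Matrix.fromBlocks A B C D) = Matrix.fromBlocks (cs σ A) (cs σ C) (cs σ B) (cs σ D) := by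
  unfold cs
  rw [Matrix.fromBlocks_map, Matrix.fromBlocks_transpose]

/-- a unitary unipotent matrix with a Jordan block of size `n - 1`, commuting with a
non-scalar self-adjoint idempotent -/
theorem exists_unip [Finite F] (σ : F →+* F) (hσ2 : ∀ x, σ (σ x) = x) (hσne : σ ≠ RingHom.id F)
    (n : ℕ) (hn : 2 ≤ n) :
    ∃ U Pi : Matrix (Fin n) (Fin n) F, cs σ U * U = 1 ∧ Pi * Pi = Pi ∧ cs σ Pi = Pi ∧ Pi ≠ 0 ∧
      Pi ≠ 1 ∧ Commute U Pi ∧ (U - 1) ^ (n - 1) = 0 ∧ (U - 1) ^ (n - 2) ≠ 0 := by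
  classical
  set m := n - 1 with hm
  obtain ⟨Y, hY, hYm, hYm'⟩ := exists_skew_nilp σ hσ2 hσne m (by omega)
  obtain ⟨a, ha⟩ := exists_trace_ne σ hσne
  obtain ⟨U₀, hU₀, hU₀k⟩ := cayley σ hσ2 m Y hY hYm a ha
  let e : Fin m ⊕ Fin 1 ≃ Fin n := finSumFinEquiv.trans (finCongr (by omega))
  let φ := Matrix.reindexAlgEquiv F F e
  have hcsφ : ∀ X : Matrix (Fin m ⊕ Fin 1) (Fin m ⊕ Fin 1) F, cs σ (φ X) = φ (cs σ X) := by
    intro X
    rfl
  let BU : Matrix (Fin m ⊕ Fin 1) (Fin m ⊕ Fin 1) F := Matrix.fromBlocks U₀ 0 0 1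
  let BP : Matrix (Fin m ⊕ Fin 1) (Fin m ⊕ Fin 1) F := Matrix.fromBlocks 1 0 0 0
  have hBUu : cs σ BU * BU = 1 := by
    simp only [BU]
    rw [cs_fromBlocks, cs_zero, cs_zero, cs_one, Matrix.fromBlocks_multiply]
    simp [hU₀, Matrix.fromBlocks_one]
  have hBPP : BP * BP = BP := by simp [BP, Matrix.fromBlocks_multiply]
  have hBUP : BU * BP = BP * BU := by simp [BU, BP, Matrix.fromBlocks_multiply]
  have hBPcs : cs σ BP = BP := by
    simp only [BP]
    rw [cs_fromBlocks, cs_zero, cs_zero, cs_zero, cs_one]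
  have hBP0 : BP ≠ 0 := by
    intro h
    rw [← Matrix.fromBlocks_zero, Matrix.fromBlocks_inj] at h
    have h2 := congrFun (congrFun h.1 ⟨0, by omega⟩) ⟨0, by omega⟩
    simp at h2
  have hBP1 : BP ≠ 1 := by
    intro h
    rw [← Matrix.fromBlocks_one, Matrix.fromBlocks_inj] at h
    have h2 := congrFun (congrFun h.2.2.2 0) 0
    simp at h2
  have hBU1 : BU - 1 = Matrix.fromBlocks (U₀ - 1) 0 0 0 := by
    simp only [BU]
    rw [sub_eq_add_neg, ← Matrix.fromBlocks_one, Matrix.fromBlocks_neg, Matrix.fromBlocks_add]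
    simp [sub_eq_add_neg]
  have hBUk : ∀ k : ℕ, (BU - 1) ^ k = Matrix.fromBlocks ((U₀ - 1) ^ k) 0 0 (0 ^ k) := by
    intro k
    rw [hBU1]
    exact Matrix.fromBlocks_diagonal_pow _ _ k
  have hUk : ∀ k : ℕ, (φ BU - 1) ^ k = φ (Matrix.fromBlocks ((U₀ - 1) ^ k) 0 0 (0 ^ k)) := by
    intro k
    rw [← hBUk, map_pow, map_sub, map_one]
  refine ⟨φ BU, φ BP, ?_, ?_, ?_, ?_, ?_, ?_, ?_, ?_⟩
  · rw [hcsφ, ← map_mul, hBUu, map_one]
  · rw [← map_mul, hBPP]
  · rw [hcsφ, hBPcs]
  · exact fun h => hBP0 (φ.injective (by rw [h, map_zero]))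
  · exact fun h => hBP1 (φ.injective (by rw [h, map_one]))
  · show φ BU * φ BP = φ BP * φ BU
    rw [← map_mul, ← map_mul, hBUP]
  · rw [hUk, (hU₀k m).2 hYm, zero_pow (by omega : m ≠ 0), Matrix.fromBlocks_zero, map_zero]
  · intro h
    have h1 : n - 2 = m - 1 := by omega
    rw [h1, hUk] at h
    have h2 := φ.injective (h.trans (map_zero φ).symm)
    rw [← Matrix.fromBlocks_zero, Matrix.fromBlocks_inj] at h2
    exact hYm' ((hU₀k (m - 1)).1 h2.1)

end Cfsg.Agent.Lib.helper64.UJordan
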