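import Mathlib
import Cfsg.Agent.Lib.helper64.SpGlue
import Cfsg.Agent.Lib.helper64.UJordan

set_option autoImplicit false
set_option linter.unusedSectionVars false

/-!
# Explicit isometries of alternating forms (helper64)

A regular unipotent isometry (Cayley transform of the shift matrix for an antidiagonal form),
its order, the image of a Singer cycle of `GL_n` in `Sp_{2n}`, and an element of even order of
`PSp_{2n}`.
-/

namespace Cfsg.Agent.Lib.helper64.SpExist

open Matrix Cfsg Finset Cfsg.Agent.Lib.helper64.SpBasic Cfsg.Agent.Lib.helper64.SpGlue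
  Cfsg.Agent.Lib.helper64.UJordan Cfsg.Agent.Lib.helper64.UBasic Cfsg.Agent.Lib.helper44

variable {F : Type*} [Field F]

/-- the antidiagonal form of even size is skew-symmetric with inverse its negative -/
theorem skewInv_Hm (m : ℕ) (hm : Even m) : SkewInv (Hm m (1 : F)) (-Hm m (1 : F)) := by
  have h1 : (Hm m (1 : F))ᵀ = -Hm m (1 : F) := by
    ext i j
    rw [Matrix.transpose_apply, Matrix.neg_apply, Hm_apply, Hm_apply]
    by_cases hij : i.val + j.val + 1 = m
    · rw [if_pos hij, if_pos (by omega), mul_one, mul_one]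
      obtain ⟨c, hc⟩ := hm
      rcases Nat.even_or_odd i.val with hi | hi
      · have hj : Odd j.val := by
          obtain ⟨a, ha⟩ := hi
          exact ⟨c - a - 1, by omega⟩
        rw [hi.neg_one_pow, hj.neg_one_pow]
      · have hj : Even j.val := by
          obtain ⟨a, ha⟩ := hi
          exact ⟨c - a - 1, by omega⟩
        rw [hi.neg_one_pow, hj.neg_one_pow, neg_neg]
    · rw [if_neg hij, if_neg (by omega), neg_zero]
  have h2 : Hm m (1 : F) * Hm m (1 : F) = -1 := by
    rw [Hm_mul_self, one_pow, mul_one, hm.add_one.neg_one_pow, neg_smul, one_smul]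
  exact ⟨h1, by rw [Matrix.mul_neg, h2, neg_neg], by rw [Matrix.neg_mul, h2, neg_neg]⟩

/-- a regular unipotent isometry of the antidiagonal form -/
theorem exists_reg_unip (m : ℕ) (h2 : (2 : F) ≠ 0) :
    ∃ R : Matrix (Fin m) (Fin m) F, Rᵀ * Hm m (1 : F) * R = Hm m (1 : F) ∧
      (R - 1) ^ m = 0 ∧ ∀ k : ℕ, k < m → (R - 1) ^ k ≠ 0 := by
  classical
  set Γ := Hm m (1 : F) with hΓ
  set X := shiftMat F m with hX
  have hXm : X ^ m = 0 := shiftMat_pow_self F m
  have hXΓ : Xᵀ * Γ = -(Γ * X) := by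
    have := shift_skew (RingHom.id F) m (1 : F)
    rwa [cs_shift] at this
  set G : Matrix (Fin m) (Fin m) F := ∑ i ∈ range m, X ^ i with hG
  have hBG : (1 - X) * G = 1 := by rw [hG, mul_neg_geom_sum, hXm, sub_zero]
  have hGB : G * (1 - X) = 1 := by rw [hG, geom_sum_mul_neg, hXm, sub_zero]
  have hXG : Commute X G := by
    rw [hG]
    exact Commute.sum_right _ _ _ (fun i _ => (Commute.refl X).pow_right i)
  have h1 : (1 + X)ᵀ * Γ = Γ * (1 - X) := by
    rw [Matrix.transpose_add, Matrix.transpose_one, Matrix.add_mul, Matrix.one_mul, hXΓ,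
      Matrix.mul_sub, Matrix.mul_one, sub_eq_add_neg]
  have h3 : Γ * (1 + X) = (1 - X)ᵀ * Γ := by
    rw [Matrix.transpose_sub, Matrix.transpose_one, Matrix.sub_mul, Matrix.one_mul, hXΓ,
      Matrix.mul_add, Matrix.mul_one, sub_neg_eq_add]
  have hcomm : (1 - X) * (1 + X) = (1 + X) * (1 - X) :=
    ((Commute.one_left (1 + X)).sub_left
      ((Commute.one_right X).add_right (Commute.refl X))).eq
  refine ⟨(1 + X) * G, ?_, ?_, ?_⟩
  · rw [Matrix.transpose_mul]
    calc Gᵀ * (1 + X)ᵀ * Γ * ((1 + X) * G)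
        = Gᵀ * ((1 + X)ᵀ * Γ) * ((1 + X) * G) := by simp only [Matrix.mul_assoc]
      _ = Gᵀ * Γ * ((1 - X) * (1 + X)) * G := by
          rw [h1]
          simp only [Matrix.mul_assoc]
      _ = Gᵀ * (Γ * (1 + X)) * ((1 - X) * G) := by
          rw [hcomm]
          simp only [Matrix.mul_assoc]
      _ = (Gᵀ * (1 - X)ᵀ) * Γ := by
          rw [hBG, h3, Matrix.mul_one, Matrix.mul_assoc]
      _ = Γ := by rw [← Matrix.transpose_mul, hBG, Matrix.transpose_one, Matrix.one_mul]
  all_goals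
    have hR1 : (1 + X) * G - 1 = ((2 : F) • X) * G := by
      have h5 : (1 + X) - (1 - X) = (2 : F) • X := by
        rw [two_smul]
        abel
      rw [← h5, sub_mul, hBG]
    have hc : Commute ((2 : F) • X) G := hXG.smul_left _
  · rw [hR1, hc.mul_pow, smul_pow, hXm, smul_zero, zero_mul]
  · intro k hk h0
    rw [hR1, hc.mul_pow, smul_pow, smul_mul_assoc] at h0
    have h6 : X ^ k * G ^ k = 0 := (smul_eq_zero.1 h0).resolve_left (pow_ne_zero _ h2)
    have hGBk : G ^ k * (1 - X) ^ k = 1 := by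
      have hc' : Commute G (1 - X) := by
        show G * (1 - X) = (1 - X) * G
        rw [hGB, hBG]
      rw [← hc'.mul_pow, hGB, one_pow]
    apply shiftMat_pow_ne_zero F m k hk
    calc X ^ k = X ^ k * (G ^ k * (1 - X) ^ k) := by rw [hGBk, mul_one]
      _ = 0 := by rw [← mul_assoc, h6, zero_mul]

/-- the order of a unipotent matrix with a single Jordan block of size `m` -/
theorem unip_order (p : ℕ) [hp : Fact p.Prime] [CharP F p] {m : ℕ} (hm : 2 ≤ m)
    (R : Matrix (Fin m) (Fin m) F) (h1 : (R - 1) ^ m = 0) (h2 : (R - 1) ^ (m - 1) ≠ 0) :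
    R ^ (p ^ Nat.clog p m) = 1 ∧ ∀ k : ℕ, R ^ k = 1 → p ^ Nat.clog p m ∣ k := by
  classical
  have : Nonempty (Fin m) := ⟨⟨0, by omega⟩⟩
  have hpow : ∀ j : ℕ, (R - 1) ^ (p ^ j) = R ^ (p ^ j) - 1 := by
    intro j
    rw [sub_pow_char_pow_of_commute p j (Commute.one_right R), one_pow]
  set T := Nat.clog p m with hT
  have hmT : m ≤ p ^ T := Nat.le_pow_clog hp.out.one_lt m
  have hRT : R ^ (p ^ T) = 1 := by
    have h3 : (R - 1) ^ (p ^ T) = 0 := pow_eq_zero_of_le hmT h1
    rw [hpow] at h3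
    exact sub_eq_zero.1 h3
  refine ⟨hRT, ?_⟩
  intro k hk
  have h3 : orderOf R ∣ p ^ T := orderOf_dvd_of_pow_eq_one hRT
  obtain ⟨j, hjT, hj⟩ := (Nat.dvd_prime_pow hp.out).1 h3
  have hjT' : j = T := by
    by_contra hne
    have hlt : j < T := lt_of_le_of_ne hjT hne
    have h4 : p ^ T.pred < m := Nat.pow_pred_clog_lt_self hp.out.one_lt (by omega)
    have h5 : p ^ j ≤ p ^ T.pred := Nat.pow_le_pow_right hp.out.pos (by
      have : T.pred = T - 1 := rfl
      omega)
    have h6 : R ^ (p ^ j) = 1 := by rw [← hj, pow_orderOf_eq_one]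
    have h7 : (R - 1) ^ (p ^ j) = 0 := by rw [hpow, h6, sub_self]
    exact h2 (pow_eq_zero_of_le (by omega) h7)
  rw [← hjT', ← hj]
  exact orderOf_dvd_of_pow_eq_one hk

/-- an element of even order -/
theorem exists_even (n : ℕ) (hn : 2 ≤ n) (h2 : (2 : F) ≠ 0) :
    ∃ x : PSp n F, 2 ∣ orderOf x := by
  have hw : (2 : ℕ) + (n + n - 2) = n + n := by omega
  have hev : Even (n + n - 2) := by
    refine ⟨n - 1, by omega⟩
  obtain ⟨x, hx⟩ := glue (F := F) n (by omega) h2 hw (by omega) (by omega)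
    (Hm 2 1) (-Hm 2 1) (skewInv_Hm 2 (by decide))
    (Hm (n + n - 2) 1) (-Hm (n + n - 2) 1) (skewInv_Hm _ hev)
    1 (by rw [Matrix.transpose_one, Matrix.one_mul, Matrix.mul_one]) 1 (by decide) (pow_one 1)
    (fun k _ => one_dvd k)
    1 (by rw [Matrix.transpose_one, Matrix.one_mul, Matrix.mul_one]) 1 (by decide) (pow_one 1)
    (fun k _ => one_dvd k)
  exact ⟨x, by simpa using hx⟩

/-- the image of a Singer cycle of `GL_n(F)` -/
theorem exists_minus [Fintype F] (p : ℕ) [Fact p.Prime] [CharP F p] (n : ℕ) (hn : 1 ≤ n)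
    (hodd : Odd (Fintype.card F)) (h2 : (2 : F) ≠ 0) :
    ∃ x : PSp n F, (Fintype.card F ^ n - 1) / 2 ∣ orderOf x := by
  classical
  have : NeZero n := ⟨by omega⟩
  set q := Fintype.card F with hq
  let E := FiniteField.Extension F p n
  have : Fintype E := Fintype.ofFinite E
  have hfr : Module.finrank F E = n := FiniteField.finrank_extension F p n
  have hcardE : Fintype.card E = q ^ n := by
    have := FiniteField.natCard_extension F p n
    rw [Nat.card_eq_fintype_card, Nat.card_eq_fintype_card] at this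
    exact this
  let b : Module.Basis (Fin n) F E := Module.finBasisOfFinrankEq F E hfr
  have hinj : Function.Injective (Algebra.leftMulMatrix b) := Algebra.leftMulMatrix_injective b
  obtain ⟨θ, hθ⟩ := IsCyclic.exists_generator (α := Eˣ)
  have hordθ : orderOf θ = q ^ n - 1 := by
    rw [orderOf_eq_card_of_forall_mem_zpowers hθ, Nat.card_eq_fintype_card, Fintype.card_units,
      hcardE]
  set A : Matrix (Fin n) (Fin n) F := Algebra.leftMulMatrix b (θ : E) with hA
  set A' : Matrix (Fin n) (Fin n) F := Algebra.leftMulMatrix b ((θ⁻¹ : Eˣ) : E) with hA'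
  have hA'A : A' * A = 1 := by
    rw [hA, hA', ← map_mul, ← Units.val_mul, inv_mul_cancel, Units.val_one, map_one]
  have hApow : ∀ k : ℕ, A ^ k = 1 → q ^ n - 1 ∣ k := by
    intro k hk
    rw [← hordθ]
    apply orderOf_dvd_of_pow_eq_one
    apply Units.ext
    apply hinj
    rw [Units.val_pow_eq_pow_val, map_pow, Units.val_one, map_one]
    exact hk
  set h : Matrix (Fin n ⊕ Fin n) (Fin n ⊕ Fin n) F := Matrix.fromBlocks A 0 0 A'ᵀ with hh
  have hJ : SkewInv (J (Fin n) F) (-J (Fin n) F) :=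
    ⟨Matrix.J_transpose (Fin n) F, by rw [Matrix.mul_neg, Matrix.J_squared, neg_neg],
      by rw [Matrix.neg_mul, Matrix.J_squared, neg_neg]⟩
  have hhJ : hᵀ * J (Fin n) F * h = J (Fin n) F := by
    have h1 : Aᵀ * A'ᵀ = 1 := by rw [← Matrix.transpose_mul, hA'A, Matrix.transpose_one]
    rw [hh, Matrix.J, Matrix.fromBlocks_transpose, Matrix.fromBlocks_multiply,
      Matrix.fromBlocks_multiply]
    simp [h1, hA'A]
  have hpow : ∀ k : ℕ, h ^ k = Matrix.fromBlocks (A ^ k) 0 0 (A'ᵀ ^ k) :=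
    fun k => Matrix.fromBlocks_diagonal_pow _ _ k
  have heven : 2 ∣ q ^ n - 1 := by
    have h1 : Odd (q ^ n) := hodd.pow
    obtain ⟨c, hc⟩ := h1
    exact ⟨c, by omega⟩
  obtain ⟨c, hc⟩ := heven
  have hdiv : (q ^ n - 1) / 2 = c := by omega
  rw [hdiv]
  apply transfer n hn (by rw [Fintype.card_sum, Fintype.card_fin]) h2 _ _ hJ h hhJ
  intro k hk
  rw [hpow] at hk
  rcases hk with hk | hk
  · rw [← Matrix.fromBlocks_one, Matrix.fromBlocks_inj] at hk
    have := hApow k hk.1
    rw [hc] at this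
    exact (dvd_mul_left c 2).trans this
  · have h3 : (-1 : Matrix (Fin n ⊕ Fin n) (Fin n ⊕ Fin n) F) =
        Matrix.fromBlocks (-1) 0 0 (-1) := by
      rw [← Matrix.fromBlocks_one, Matrix.fromBlocks_neg]
      simp
    rw [h3, Matrix.fromBlocks_inj] at hk
    have h4 : A ^ (2 * k) = 1 := by
      rw [mul_comm, pow_mul, hk.1]
      simp
    have := hApow _ h4
    rw [hc] at this
    exact (Nat.mul_dvd_mul_iff_left (by norm_num : 0 < 2)).1 this

end Cfsg.Agent.Lib.helper64.SpExist
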