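import Mathlib
import Cfsg.Agent.Lib.helper64.SpBasic
import Cfsg.Agent.Lib.helper64.UOrtho

set_option autoImplicit false
set_option linter.unusedSectionVars false

/-!
# Semisimple symplectic matrices without self-adjoint idempotents (helper64)

For a matrix `S` of order prime to the characteristic, preserving a non-degenerate alternating
form and different from its adjoint, such that `F[S]` has no non-trivial self-adjoint idempotent:
there is a vector `b` whose cyclic subspace is non-degenerate and on which `F[S]` acts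
faithfully; the orthogonal projection onto it is a self-adjoint idempotent commuting with `S`.
-/

namespace Cfsg.Agent.Lib.helper64.SpOrtho

open Polynomial Matrix Cfsg.Agent.Lib.helper64.SpBasic Cfsg.Agent.Lib.helper64.UOrtho

variable {F : Type*} [Field F] {n : ℕ}

section

variable (Ω Ω' : Matrix (Fin n) (Fin n) F) (hΩ : SkewInv Ω Ω') (S : Matrix (Fin n) (Fin n) F)
  (hS : ad Ω Ω' S * S = 1) (N : ℕ) (hN : (N : F) ≠ 0) (hSN : S ^ N = 1)

include hS hN hSN in
theorem ad_eq_pow : ad Ω Ω' S = S ^ (N - 1) := by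
  have hN0 : N ≠ 0 := by
    rintro rfl
    simp at hN
  have h1 : S * S ^ (N - 1) = 1 := by
    rw [← pow_succ', Nat.sub_add_cancel (Nat.pos_of_ne_zero hN0), hSN]
  calc ad Ω Ω' S = ad Ω Ω' S * (S * S ^ (N - 1)) := by rw [h1, mul_one]
    _ = (ad Ω Ω' S * S) * S ^ (N - 1) := by rw [mul_assoc]
    _ = S ^ (N - 1) := by rw [hS, one_mul]

include hΩ hS hN hSN in
/-- `F[S]` is stable under the adjoint -/
theorem ad_mem (g : F[X]) : ∃ g' : F[X], ad Ω Ω' (aeval S g) = aeval S g' := by
  refine ⟨g.comp (X ^ (N - 1)), ?_⟩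
  rw [ad_aeval hΩ, ad_eq_pow Ω Ω' S hS N hN hSN, Polynomial.aeval_comp, map_pow, aeval_X]

include hΩ hS hN hSN in
/-- if `F[S]` has no non-trivial self-adjoint idempotent, then every idempotent `e` of `F[S]`
is `0`, `1`, or satisfies `e* = 1 - e` -/
theorem H_idem
    (H : ∀ g : F[X], aeval S g * aeval S g = aeval S g → ad Ω Ω' (aeval S g) = aeval S g →
      aeval S g = 0 ∨ aeval S g = 1)
    (g : F[X]) (hg : aeval S g * aeval S g = aeval S g) :
    aeval S g = 0 ∨ aeval S g = 1 ∨ ad Ω Ω' (aeval S g) = 1 - aeval S g := by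
  obtain ⟨g', hg'⟩ := ad_mem Ω Ω' hΩ S hS N hN hSN g
  set e := aeval S g with he
  set e' := aeval S g' with he'
  have hcomm : e * e' = e' * e := aeval_comm S g g'
  have he'e' : e' * e' = e' := by
    rw [← hg', ← ad_mul hΩ, hg]
  have hcse' : ad Ω Ω' e' = e := by rw [← hg', ad_ad hΩ]
  have h1 : aeval S (g * g') * aeval S (g * g') = aeval S (g * g') := by
    rw [map_mul, ← he, ← he']
    calc e * e' * (e * e') = (e * e) * (e' * e') := by
          rw [mul_assoc, ← mul_assoc e' e e', ← hcomm, mul_assoc, ← mul_assoc]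
      _ = e * e' := by rw [hg, he'e']
  have h2 : ad Ω Ω' (aeval S (g * g')) = aeval S (g * g') := by
    rw [map_mul, ← he, ← he', ad_mul hΩ, hcse', hg']
  rcases H _ h1 h2 with h | h
  · rw [map_mul, ← he, ← he'] at h
    have h3 : aeval S (g + g') * aeval S (g + g') = aeval S (g + g') := by
      rw [map_add, ← he, ← he']
      rw [mul_add, add_mul, add_mul, hg, he'e', h, ← hcomm, h, zero_add, add_zero]
    have h4 : ad Ω Ω' (aeval S (g + g')) = aeval S (g + g') := by
      rw [map_add, ← he, ← he', ad_add, hcse', hg', add_comm]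
    rcases H _ h3 h4 with h5 | h5
    · left
      rw [map_add, ← he, ← he'] at h5
      calc e = e * e := hg.symm
        _ = e * (e + e') - e * e' := by rw [mul_add]; abel
        _ = 0 := by rw [h5, h, mul_zero, sub_zero]
    · right; right
      rw [map_add, ← he, ← he'] at h5
      rw [hg']
      exact eq_sub_of_add_eq' h5
  · right; left
    rw [map_mul, ← he, ← he'] at h
    calc e = e * (e * e') := by rw [h, mul_one]
      _ = e * e' := by rw [← mul_assoc, hg]
      _ = 1 := h

end

/-- the orthogonal projection onto a non-degenerate cyclic subspace on which `F[S]` acts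
faithfully -/
theorem exists_proj_sp [Finite F] (Ω Ω' : Matrix (Fin n) (Fin n) F) (hΩ : SkewInv Ω Ω')
    (S : Matrix (Fin n) (Fin n) F) (hS : ad Ω Ω' S * S = 1) (N : ℕ) (hN : (N : F) ≠ 0)
    (hSN : S ^ N = 1) (hSne : ad Ω Ω' S ≠ S)
    (H : ∀ g : F[X], aeval S g * aeval S g = aeval S g → ad Ω Ω' (aeval S g) = aeval S g →
      aeval S g = 0 ∨ aeval S g = 1) :
    ∃ Pi : Matrix (Fin n) (Fin n) F, Pi * Pi = Pi ∧ ad Ω Ω' Pi = Pi ∧ Pi ≠ 0 ∧ Commute S Pi ∧
      (∀ g : F[X], aeval S g * Pi = 0 → aeval S g = 0) ∧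
      Pi.rank ≤ (minpoly F S).natDegree := by
  classical
  have Hi := H_idem Ω Ω' hΩ S hS N hN hSN H
  -- the vector `b`
  obtain ⟨b, hb⟩ : ∃ b : Fin n → F, bf Ω (S *ᵥ b) b ≠ 0 := by
    by_contra hcon
    push Not at hcon
    apply hSne
    apply Matrix.toLin'.injective
    apply LinearMap.ext
    intro u
    rw [Matrix.toLin'_apply, Matrix.toLin'_apply]
    have h1 : ad Ω Ω' S *ᵥ u - S *ᵥ u = 0 := by
      apply eq_zero_of_bf' hΩ
      intro v
      have h2 := hcon (u + v)
      rw [Matrix.mulVec_add, bf_add_left, bf_add_right, bf_add_right, hcon u, hcon v] at h2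
      rw [bf_sub_left, bf_adj' hΩ, bf_skew hΩ (S *ᵥ v) u]
      linear_combination -h2
    exact sub_eq_zero.1 h1
  have hb0 : b ≠ 0 := by
    rintro rfl
    rw [bf_zero_right] at hb
    exact hb rfl
  let ev : F[X] →ₗ[F] (Fin n → F) :=
    { toFun := fun g => aeval S g *ᵥ b
      map_add' := fun g g' => by rw [map_add, Matrix.add_mulVec]
      map_smul' := fun c g => by rw [map_smul, Matrix.smul_mulVec, RingHom.id_apply] }
  have hev : ∀ g, ev g = aeval S g *ᵥ b := fun g => rfl
  let W : Submodule F (Fin n → F) := LinearMap.range ev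
  have hWmem : ∀ v, v ∈ W ↔ ∃ g, aeval S g *ᵥ b = v := fun v => Iff.rfl
  let Wp : Submodule F (Fin n → F) :=
    { carrier := {v | ∀ w ∈ W, bf Ω w v = 0}
      add_mem' := fun {x y} hx hy w hw => by rw [bf_add_right, hx w hw, hy w hw, add_zero]
      zero_mem' := fun w _ => bf_zero_right w
      smul_mem' := fun c x hx w hw => by rw [bf_smul_right, hx w hw, mul_zero] }
  have hWpmem : ∀ v, v ∈ Wp ↔ ∀ w ∈ W, bf Ω w v = 0 := fun v => Iff.rfl
  have hbW : b ∈ W := (hWmem b).2 ⟨1, by rw [map_one, Matrix.one_mulVec]⟩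
  have hWinv : ∀ g : F[X], ∀ w ∈ W, aeval S g *ᵥ w ∈ W := by
    intro g w hw
    obtain ⟨g', rfl⟩ := (hWmem w).1 hw
    exact (hWmem _).2 ⟨g * g', by rw [map_mul, Matrix.mulVec_mulVec]⟩
  have hSbW : S *ᵥ b ∈ W := by
    have := hWinv X b hbW
    rwa [aeval_X] at this
  have hWpinv : ∀ g : F[X], ∀ v ∈ Wp, aeval S g *ᵥ v ∈ Wp := by
    intro g v hv
    obtain ⟨g', hg'⟩ := ad_mem Ω Ω' hΩ S hS N hN hSN g
    rw [hWpmem]
    intro w hw
    rw [← bf_adj' hΩ, hg']
    exact (hWpmem v).1 hv _ (hWinv g' w hw)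
  -- `F[S]` acts faithfully on `b`
  have hfaith : ∀ g : F[X], aeval S g *ᵥ b = 0 → aeval S g = 0 := by
    intro g hgb
    obtain ⟨g', g'', hεε, hyε, hεy⟩ := supp_idem S N hN hSN g
    have hεb : aeval S g' *ᵥ b = 0 := by
      rw [hεy, ← Matrix.mulVec_mulVec, hgb, Matrix.mulVec_zero]
    rcases Hi g' hεε with h | h | h
    · rw [← hyε, h, mul_zero]
    · rw [h, Matrix.one_mulVec] at hεb
      exact absurd hεb hb0
    · exfalso
      apply hb
      have h1 : b = (1 - aeval S g') *ᵥ b := by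
        rw [Matrix.sub_mulVec, Matrix.one_mulVec, hεb, sub_zero]
      have h2 : S *ᵥ b = (1 - aeval S g') *ᵥ (S *ᵥ b) := by
        have hc : (1 - aeval S g') * S = S * (1 - aeval S g') := by
          have := aeval_comm S g' X
          rw [aeval_X] at this
          rw [sub_mul, mul_sub, one_mul, mul_one, this]
        rw [Matrix.mulVec_mulVec, hc, ← Matrix.mulVec_mulVec, ← h1]
      rw [h2, bf_adj hΩ, ad_sub, ad_one hΩ, h, sub_sub_cancel, hεb, bf_zero_right]
  have hdisj : ∀ x ∈ W, x ∈ Wp → x = 0 := by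
    intro x hxW hxWp
    obtain ⟨g, rfl⟩ := (hWmem x).1 hxW
    obtain ⟨g', g'', hεε, hyε, hεy⟩ := supp_idem S N hN hSN g
    have hεbWp : aeval S g' *ᵥ b ∈ Wp := by
      rw [hεy, ← Matrix.mulVec_mulVec]
      exact hWpinv g'' _ hxWp
    rcases Hi g' hεε with h | h | h
    · rw [← hyε, h, mul_zero, Matrix.zero_mulVec]
    · exfalso
      rw [h, Matrix.one_mulVec] at hεbWp
      exact hb ((hWpmem b).1 hεbWp _ hSbW)
    · exfalso
      apply hb
      have h1 : bf Ω (S *ᵥ b) (aeval S g' *ᵥ b) = 0 := (hWpmem _).1 hεbWp _ hSbW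
      have h2 : bf Ω (S *ᵥ b) ((1 - aeval S g') *ᵥ b) = 0 := by
        rw [← h, ← bf_adj hΩ, bf_skew hΩ, neg_eq_zero, Matrix.mulVec_mulVec]
        have hc : aeval S g' * S = S * aeval S g' := by
          have := aeval_comm S g' X
          rwa [aeval_X] at this
        rw [hc, ← Matrix.mulVec_mulVec, ← bf_adj' hΩ]
        obtain ⟨g₃, hg₃⟩ := ad_mem Ω Ω' hΩ S hS N hN hSN X
        rw [aeval_X] at hg₃
        rw [hg₃]
        exact (hWpmem _).1 hεbWp _ (hWinv g₃ b hbW)
      have h3 : b = aeval S g' *ᵥ b + (1 - aeval S g') *ᵥ b := by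
        rw [← Matrix.add_mulVec, add_sub_cancel, Matrix.one_mulVec]
      calc bf Ω (S *ᵥ b) b
          = bf Ω (S *ᵥ b) (aeval S g' *ᵥ b + (1 - aeval S g') *ᵥ b) := by rw [← h3]
        _ = 0 := by rw [bf_add_right, h1, h2, add_zero]
  have hinf : W ⊓ Wp = ⊥ := by
    rw [Submodule.eq_bot_iff]
    intro x hx
    exact hdisj x hx.1 hx.2
  have hsup : W ⊔ Wp = ⊤ := by
    set k := Module.finrank F W with hk
    let bW : Module.Basis (Fin k) F W := Module.finBasis F W
    let Ψ : (Fin n → F) →ₗ[F] (Fin k → F) :=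
      { toFun := fun v j => bf Ω (bW j : Fin n → F) v
        map_add' := fun v v' => by funext j; simp [bf_add_right]
        map_smul' := fun c v => by funext j; simp [bf_smul_right] }
    have hΨ : ∀ v j, Ψ v j = bf Ω (bW j : Fin n → F) v := fun v j => rfl
    have hspan : W = Submodule.span F (Set.range (fun j => (bW j : Fin n → F))) := by
      have h1 := bW.span_eq
      have h2 := congrArg (Submodule.map W.subtype) h1
      rw [Submodule.map_span, Submodule.map_subtype_top, ← Set.range_comp] at h2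
      exact h2.symm
    have hker : LinearMap.ker Ψ ≤ Wp := by
      intro v hv
      rw [LinearMap.mem_ker] at hv
      let Kv : Submodule F (Fin n → F) :=
        { carrier := {w | bf Ω w v = 0}
          add_mem' := fun {x y} hx hy => by
            show bf Ω (x + y) v = 0
            rw [bf_add_left, hx, hy, add_zero]
          zero_mem' := bf_zero_left v
          smul_mem' := fun c x hx => by
            show bf Ω (c • x) v = 0
            rw [bf_smul_left, hx, mul_zero] }
      have hWK : W ≤ Kv := by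
        rw [hspan, Submodule.span_le]
        rintro _ ⟨j, rfl⟩
        show bf Ω (bW j : Fin n → F) v = 0
        rw [← hΨ, hv]
        rfl
      rw [hWpmem]
      intro w hw
      exact hWK hw
    have h1 := LinearMap.finrank_range_add_finrank_ker Ψ
    rw [Module.finrank_fin_fun] at h1
    have h2 : Module.finrank F (LinearMap.range Ψ) ≤ k := by
      have := Submodule.finrank_le (LinearMap.range Ψ)
      rwa [Module.finrank_fin_fun] at this
    have h3 : Module.finrank F (LinearMap.ker Ψ) ≤ Module.finrank F Wp :=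
      Submodule.finrank_mono hker
    have h4 := Submodule.finrank_sup_add_finrank_inf_eq W Wp
    rw [hinf, finrank_bot, add_zero] at h4
    apply Submodule.eq_top_of_finrank_eq
    rw [Module.finrank_fin_fun]
    have h5 := Submodule.finrank_le (W ⊔ Wp)
    rw [Module.finrank_fin_fun] at h5
    omega
  have hcompl : IsCompl W Wp :=
    ⟨disjoint_iff.2 hinf, codisjoint_iff.2 hsup⟩
  let π₀ : Module.End F (Fin n → F) := W.subtype ∘ₗ Submodule.projectionOnto W Wp hcompl
  have hπ1 : ∀ v, π₀ v ∈ W := fun v => Submodule.coe_mem _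
  have hπ2 : ∀ w ∈ W, π₀ w = w := by
    intro w hw
    simp only [π₀, LinearMap.comp_apply, Submodule.subtype_apply]
    have := Submodule.projectionOnto_apply_left hcompl ⟨w, hw⟩
    exact congrArg Subtype.val this
  have hπ3 : ∀ w ∈ Wp, π₀ w = 0 := by
    intro w hw
    simp only [π₀, LinearMap.comp_apply, Submodule.subtype_apply]
    have := Submodule.projectionOnto_apply_right hcompl ⟨w, hw⟩
    rw [this]
    rfl
  have hπ4 : ∀ v, v - π₀ v ∈ Wp := by
    intro v
    have hv : v ∈ W ⊔ Wp := by rw [hsup]; exact Submodule.mem_top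
    obtain ⟨w, hw, w', hw', rfl⟩ := Submodule.mem_sup.1 hv
    rw [map_add, hπ2 w hw, hπ3 w' hw', add_zero, add_sub_cancel_left]
    exact hw'
  let e : Matrix (Fin n) (Fin n) F ≃ₐ[F] Module.End F (Fin n → F) := Matrix.toLinAlgEquiv'
  set Pi : Matrix (Fin n) (Fin n) F := e.symm π₀ with hPi
  have hPiv : ∀ v, Pi *ᵥ v = π₀ v := by
    intro v
    have h1 : e Pi = π₀ := by rw [hPi, AlgEquiv.apply_symm_apply]
    rw [← h1]
    rfl
  have hsa : ∀ u v, bf Ω (Pi *ᵥ u) v = bf Ω u (Pi *ᵥ v) := by
    intro u v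
    rw [hPiv, hPiv]
    have hu : bf Ω (u - π₀ u) (π₀ v) = 0 := by
      rw [bf_skew hΩ, (hWpmem _).1 (hπ4 u) _ (hπ1 v), neg_zero]
    have hv : bf Ω (π₀ u) (v - π₀ v) = 0 := (hWpmem _).1 (hπ4 v) _ (hπ1 u)
    have e1 : bf Ω (π₀ u) v = bf Ω (π₀ u) (π₀ v) + bf Ω (π₀ u) (v - π₀ v) := by
      rw [← bf_add_right, add_sub_cancel]
    have e2 : bf Ω u (π₀ v) = bf Ω (π₀ u) (π₀ v) + bf Ω (u - π₀ u) (π₀ v) := by
      rw [← bf_add_left, add_sub_cancel]
    rw [e1, e2, hu, hv]
  have hPib : Pi *ᵥ b = b := by rw [hPiv, hπ2 b hbW]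
  refine ⟨Pi, ?_, ad_eq_of_bf hΩ Pi hsa, ?_, ?_, ?_, ?_⟩
  · apply Matrix.toLin'.injective
    apply LinearMap.ext
    intro v
    rw [Matrix.toLin'_apply, Matrix.toLin'_apply, ← Matrix.mulVec_mulVec, hPiv, hPiv]
    exact hπ2 _ (hπ1 v)
  · intro h
    rw [h, Matrix.zero_mulVec] at hPib
    exact hb0 hPib.symm
  · apply Matrix.toLin'.injective
    apply LinearMap.ext
    intro v
    rw [Matrix.toLin'_apply, Matrix.toLin'_apply, ← Matrix.mulVec_mulVec, ← Matrix.mulVec_mulVec,
      hPiv, hPiv]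
    have hSX : aeval S (X : F[X]) = S := aeval_X S
    have h1 : S *ᵥ π₀ v ∈ W := by
      have := hWinv X _ (hπ1 v)
      rwa [hSX] at this
    have h2 : S *ᵥ (v - π₀ v) ∈ Wp := by
      have := hWpinv X _ (hπ4 v)
      rwa [hSX] at this
    have h3 : S *ᵥ v = S *ᵥ π₀ v + S *ᵥ (v - π₀ v) := by
      rw [← Matrix.mulVec_add, add_sub_cancel]
    rw [h3, map_add, hπ2 _ h1, hπ3 _ h2, add_zero]
  · intro g hg
    apply hfaith
    rw [← hPib, Matrix.mulVec_mulVec, hg, Matrix.zero_mulVec]
  · -- rank bound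
    have hn : 0 < n := by
      rcases Nat.eq_zero_or_pos n with h0 | h0
      · subst h0
        exact absurd (Subsingleton.elim b 0) hb0
      · exact h0
    have : Nonempty (Fin n) := ⟨⟨0, hn⟩⟩
    set δ := (minpoly F S).natDegree with hδ
    have hμmonic : (minpoly F S).Monic := minpoly.monic (Matrix.isIntegral S)
    have hμ1 : minpoly F S ≠ 1 := minpoly.ne_one F S
    have hWle : W ≤ Submodule.span F (Set.range (fun i : Fin δ => (S ^ (i : ℕ)) *ᵥ b)) := by
      rintro v ⟨g, rfl⟩
      have h1 : ev g = ev (g %ₘ minpoly F S) := by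
        rw [hev, hev]
        conv_lhs => rw [← Polynomial.modByMonic_add_div g (minpoly F S)]
        rw [map_add, map_mul, minpoly.aeval, zero_mul, add_zero]
      have hdeg : (g %ₘ minpoly F S).natDegree < δ :=
        Polynomial.natDegree_modByMonic_lt g hμmonic hμ1
      rw [h1, Polynomial.as_sum_range' (g %ₘ minpoly F S) δ hdeg, map_sum]
      apply Submodule.sum_mem
      intro i hi
      rw [hev, Polynomial.aeval_monomial, ← Algebra.smul_def, Matrix.smul_mulVec]
      apply Submodule.smul_mem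
      exact Submodule.subset_span ⟨⟨i, Finset.mem_range.1 hi⟩, rfl⟩
    have h1 : Pi.rank ≤ Module.finrank F W := by
      unfold Matrix.rank
      apply Submodule.finrank_mono
      rintro v ⟨u, rfl⟩
      show Pi *ᵥ u ∈ W
      rw [hPiv]
      exact hπ1 u
    have h2 : Module.finrank F W ≤ δ := by
      calc Module.finrank F W
          ≤ Module.finrank F (Submodule.span F
              (Set.range (fun i : Fin δ => (S ^ (i : ℕ)) *ᵥ b))) := Submodule.finrank_mono hWle
        _ ≤ Fintype.card (Fin δ) := finrank_range_le_card _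
        _ = δ := Fintype.card_fin δ
    exact h1.trans h2

end Cfsg.Agent.Lib.helper64.SpOrtho
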