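import Mathlib
import Cfsg.Agent.Lib.helper64.SpOrtho

set_option autoImplicit false
set_option linter.unusedSectionVars false

/-!
# A bound for the unipotent part of a symplectic matrix (helper64)

If `S = g ^ P` is semisimple such that every idempotent `e` of `F[S]` is `0`, `1` or satisfies
`e* = 1 - e`, and `Z = g ^ M - 1` is nilpotent, then `Z ^ k = 0` as soon as
`(k + 1) * deg (minpoly S)` exceeds the size of the matrices.
-/

namespace Cfsg.Agent.Lib.helper64.SpNil

open Polynomial Matrix Cfsg.Agent.Lib.helper64.SpBasic Cfsg.Agent.Lib.helper64.UOrtho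
  Cfsg.Agent.Lib.helper64.SpOrtho

variable {F : Type*} [Field F] [Finite F] {n : ℕ}

theorem natDegree_minpoly_le (hn : 0 < n) (g : Matrix (Fin n) (Fin n) F) :
    (minpoly F g).natDegree ≤ n := by
  have : Nonempty (Fin n) := ⟨⟨0, hn⟩⟩
  have h1 := Polynomial.natDegree_le_of_dvd (Matrix.minpoly_dvd_charpoly g)
    (Matrix.charpoly_monic g).ne_zero
  rw [Matrix.charpoly_natDegree_eq_dim, Fintype.card_fin] at h1
  exact h1

theorem nil_bound (hn : 0 < n) (Ω Ω' : Matrix (Fin n) (Fin n) F) (hΩ : SkewInv Ω Ω')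
    (g : Matrix (Fin n) (Fin n) F) (hg : ad Ω Ω' g * g = 1) (P M : ℕ) (hM : (M : F) ≠ 0)
    (hSM : (g ^ P) ^ M = 1)
    (Hi : ∀ g₁ : F[X], aeval (g ^ P) g₁ * aeval (g ^ P) g₁ = aeval (g ^ P) g₁ →
      aeval (g ^ P) g₁ = 0 ∨ aeval (g ^ P) g₁ = 1 ∨
        ad Ω Ω' (aeval (g ^ P) g₁) = 1 - aeval (g ^ P) g₁)
    (hnil : IsNilpotent (g ^ M - 1)) (k : ℕ)
    (hk : n < (k + 1) * (minpoly F (g ^ P)).natDegree) : (g ^ M - 1) ^ k = 0 := by
  classical
  have : Nonempty (Fin n) := ⟨⟨0, hn⟩⟩
  set S := g ^ P with hSdef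
  set U := g ^ M with hUdef
  set Z := U - 1 with hZdef
  set δ := (minpoly F S).natDegree with hδ
  have hμS0 : minpoly F S ≠ 0 := (minpoly.monic (Matrix.isIntegral S)).ne_zero
  -- exact nilpotency index
  set ν := Nat.find hnil with hν
  have hZν : Z ^ ν = 0 := Nat.find_spec hnil
  have hZmin : ∀ j, j < ν → Z ^ j ≠ 0 := fun j hj => Nat.find_min hnil hj
  have hν1 : 1 ≤ ν := by
    by_contra h0
    have h00 : ν = 0 := by omega
    rw [h00, pow_zero] at hZν
    exact one_ne_zero hZν
  -- commutation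
  have hSU : Commute S U := Commute.pow_pow_self g P M
  have hZS : Commute Z S := (hSU.symm).sub_left (Commute.one_left S)
  have hUinv : ad Ω Ω' U * U = 1 := ad_pow_mul hΩ hg M
  have hUinv' : U * ad Ω Ω' U = 1 := ad_mul_comm hUinv
  have hadZ : ad Ω Ω' Z = -(ad Ω Ω' U * Z) := by
    rw [hZdef, ad_sub, ad_one hΩ, mul_sub, mul_one, hUinv]
    abel
  have hcUU : Commute (ad Ω Ω' U) U := by
    show ad Ω Ω' U * U = U * ad Ω Ω' U
    rw [hUinv, hUinv']
  have hcUZ : Commute (ad Ω Ω' U) Z := hcUU.sub_right (Commute.one_right _)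
  -- faithfulness of Z^(ν-1)
  have hfaith : ∀ g₁ : F[X], aeval S g₁ * Z ^ (ν - 1) = 0 → aeval S g₁ = 0 := by
    intro g₁ hy
    obtain ⟨g', g'', hεε, hyε, hεy⟩ := supp_idem S M hM hSM g₁
    have hεZ : aeval S g' * Z ^ (ν - 1) = 0 := by rw [hεy, mul_assoc, hy, mul_zero]
    rcases Hi g' hεε with h | h | h
    · rw [← hyε, h, mul_zero]
    · exfalso
      rw [h, one_mul] at hεZ
      exact hZmin (ν - 1) (by omega) hεZ
    · exfalso
      apply hZmin (ν - 1) (by omega)
      have h1 : ad Ω Ω' (aeval S g' * Z ^ (ν - 1)) = 0 := by rw [hεZ, ad_zero]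
      rw [ad_mul hΩ, ad_pow hΩ, hadZ, h, neg_pow, hcUZ.mul_pow, mul_assoc,
        neg_one_pow_mul_eq_zero_iff] at h1
      have h2 : Z ^ (ν - 1) * (1 - aeval S g') = 0 := by
        have h3 : U ^ (ν - 1) * ad Ω Ω' U ^ (ν - 1) = 1 := by
          rw [← hcUU.symm.mul_pow, hUinv', one_pow]
        calc Z ^ (ν - 1) * (1 - aeval S g')
            = (U ^ (ν - 1) * ad Ω Ω' U ^ (ν - 1)) * (Z ^ (ν - 1) * (1 - aeval S g')) := by
              rw [h3, one_mul]
          _ = U ^ (ν - 1) * (ad Ω Ω' U ^ (ν - 1) * Z ^ (ν - 1) * (1 - aeval S g')) := by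
              simp only [mul_assoc]
          _ = 0 := by rw [h1, mul_zero]
      have hcε : Commute (Z ^ (ν - 1)) (aeval S g') := (commute_aeval S Z hZS g').pow_left _
      calc Z ^ (ν - 1) = Z ^ (ν - 1) * (1 - aeval S g') + Z ^ (ν - 1) * aeval S g' := by
            rw [← mul_add, sub_add_cancel, mul_one]
        _ = 0 := by rw [h2, hcε.eq, hεZ, add_zero]
  -- the injective linear map
  set μg := minpoly F g with hμg
  have hμg0 : μg ≠ 0 := (minpoly.monic (Matrix.isIntegral g)).ne_zero
  let G : (Fin ν → degreeLT F δ) →ₗ[F] F[X] :=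
    { toFun := fun c => ∑ i : Fin ν, ((c i : F[X]).comp (X ^ P)) * (X ^ M - 1) ^ (i : ℕ)
      map_add' := fun c c' => by
        simp only [Pi.add_apply, Submodule.coe_add, Polynomial.add_comp, add_mul,
          Finset.sum_add_distrib]
      map_smul' := fun a c => by
        simp only [Pi.smul_apply, Submodule.coe_smul, Polynomial.smul_comp, smul_mul_assoc,
          Finset.smul_sum, RingHom.id_apply] }
  have hG : ∀ c, G c = ∑ i : Fin ν, ((c i : F[X]).comp (X ^ P)) * (X ^ M - 1) ^ (i : ℕ) :=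
    fun c => rfl
  let Ψ : (Fin ν → degreeLT F δ) →ₗ[F] AdjoinRoot μg :=
    (AdjoinRoot.mkₐ μg).toLinearMap ∘ₗ G
  have hΨ : ∀ c, Ψ c = AdjoinRoot.mk μg (G c) := fun c => rfl
  have hΨinj : Function.Injective Ψ := by
    rw [injective_iff_map_eq_zero]
    intro c hc
    rw [hΨ] at hc
    have h1 : μg ∣ G c := AdjoinRoot.mk_eq_zero.1 hc
    have h2 : aeval g (G c) = 0 :=
      Polynomial.aeval_eq_zero_of_dvd_aeval_eq_zero h1 (minpoly.aeval F g)
    have h3 : ∑ i : Fin ν, aeval S (c i : F[X]) * Z ^ (i : ℕ) = 0 := by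
      rw [← h2, hG, map_sum]
      apply Finset.sum_congr rfl
      intro i _
      rw [map_mul, map_pow, map_sub, map_pow, aeval_X, map_one, Polynomial.aeval_comp, map_pow,
        aeval_X]
    have h4 : ∀ j : ℕ, ∀ hj : j < ν, aeval S (c ⟨j, hj⟩ : F[X]) = 0 := by
      intro j
      induction j using Nat.strong_induction_on with
      | _ j ih =>
        intro hj
        apply hfaith
        have h5 := congrArg (fun Y => Y * Z ^ (ν - 1 - j)) h3
        simp only [zero_mul, Finset.sum_mul] at h5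
        rw [Finset.sum_eq_single (⟨j, hj⟩ : Fin ν)] at h5
        · rw [mul_assoc, ← pow_add] at h5
          have hjj : j + (ν - 1 - j) = ν - 1 := by omega
          simp only [hjj] at h5
          exact h5
        · intro i _ hij
          rcases Nat.lt_or_gt_of_ne (fun h => hij (Fin.ext h)) with hlt | hgt
          · have := ih i.val hlt i.isLt
            rw [Fin.eta] at this
            rw [this, zero_mul, zero_mul]
          · rw [mul_assoc, ← pow_add]
            have hii : (i : ℕ) + (ν - 1 - j) = ν + ((i : ℕ) - j - 1) := by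
              have : j < (i : ℕ) := hgt
              omega
            rw [hii, pow_add, hZν, zero_mul, mul_zero]
        · intro h
          exact absurd (Finset.mem_univ _) h
    funext j
    apply Subtype.ext
    show (c j : F[X]) = 0
    have h6 := h4 j.val j.isLt
    rw [Fin.eta] at h6
    have h7 : minpoly F S ∣ (c j : F[X]) := minpoly.dvd F S h6
    have h8 : (c j : F[X]).degree < (minpoly F S).degree := by
      rw [Polynomial.degree_eq_natDegree hμS0]
      exact Polynomial.mem_degreeLT.1 (c j).2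
    exact Polynomial.eq_zero_of_dvd_of_degree_lt h7 h8
  have hfin1 : Module.finrank F (Fin ν → degreeLT F δ) = ν * δ := by
    rw [LinearEquiv.finrank_eq (LinearEquiv.piCongrRight (fun _ : Fin ν => degreeLTEquiv F δ)),
      Module.finrank_pi_fintype]
    simp
  have : Module.Finite F (AdjoinRoot μg) := (AdjoinRoot.powerBasis hμg0).finite
  have hfin2 : Module.finrank F (AdjoinRoot μg) = μg.natDegree := by
    rw [(AdjoinRoot.powerBasis hμg0).finrank, AdjoinRoot.powerBasis_dim]
  have hle := LinearMap.finrank_le_finrank_of_injective hΨinj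
  rw [hfin1, hfin2] at hle
  have hdeg : μg.natDegree ≤ n := natDegree_minpoly_le hn g
  have hνk : ν ≤ k := by
    by_contra hlt
    have h9 : (k + 1) * δ ≤ ν * δ := Nat.mul_le_mul_right δ (by omega)
    exact absurd hk (by linarith)
  exact pow_eq_zero_of_le hνk hZν

end Cfsg.Agent.Lib.helper64.SpNil
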