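import Mathlib
import Cfsg.Agent.Lib.helper64.IsoPow

set_option autoImplicit false

/-!
# Arithmetic of the unitary torus numbers (helper64)

`Dp q n = (q ^ n - (-1) ^ n) / (q + 1)` and `Np q n`, the order of the image in `PSU_n(q)` of
the cyclic torus of order `Dp q n` of `SU_n(q)`.
-/

namespace Cfsg.Agent.Lib.helper64.UArith

open Cfsg.Agent.Lib.helper64.IsoPow Finset

/-- `(q ^ n - (-1) ^ n) / (q + 1)` -/
def Dp (q n : ℕ) : ℕ := if Even n then (q ^ n - 1) / (q + 1) else (q ^ n + 1) / (q + 1)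

/-- the projective order of the torus of order `Dp q n` -/
def Np (q n : ℕ) : ℕ := Dp q n / Nat.gcd (Dp q n) (Nat.gcd n (q + 1))

theorem sq_sub_one (q : ℕ) : q ^ 2 - 1 = (q + 1) * (q - 1) := by
  rcases Nat.eq_zero_or_pos q with h | h
  · subst h; simp
  · obtain ⟨q', rfl⟩ : ∃ q', q = q' + 1 := ⟨q - 1, by omega⟩
    simp only [Nat.add_sub_cancel]
    have : (q' + 1) ^ 2 = (q' + 1 + 1) * q' + 1 := by ring
    omega

theorem Dp_mul_odd (q n : ℕ) (h : Odd n) : Dp q n * (q + 1) = q ^ n + 1 := by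
  have h' : ¬ Even n := Nat.not_even_iff_odd.2 h
  rw [Dp, if_neg h']
  apply Nat.div_mul_cancel
  simpa using h.nat_add_dvd_pow_add_pow q 1

theorem Dp_mul_even (q n : ℕ) (h : Even n) : Dp q n * (q + 1) = q ^ n - 1 := by
  rw [Dp, if_pos h]
  apply Nat.div_mul_cancel
  obtain ⟨k, rfl⟩ := h
  have h1 : q ^ 2 - 1 ∣ (q ^ 2) ^ k - 1 ^ k := Nat.sub_dvd_pow_sub_pow _ _ _
  have h2 : q + 1 ∣ q ^ 2 - 1 := ⟨q - 1, sq_sub_one q⟩
  rw [one_pow, ← pow_mul, two_mul] at h1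
  exact dvd_trans h2 h1

theorem Np_mul (q n : ℕ) : ∃ t, Np q n * Nat.gcd n (q + 1) = Dp q n * t := by
  set g := Nat.gcd n (q + 1) with hg
  set G := Nat.gcd (Dp q n) g with hG
  refine ⟨g / G, ?_⟩
  have h1 : G ∣ Dp q n := Nat.gcd_dvd_left _ _
  have h2 : G ∣ g := Nat.gcd_dvd_right _ _
  obtain ⟨a, ha⟩ := h1
  obtain ⟨b, hb⟩ := h2
  rcases Nat.eq_zero_or_pos G with h0 | hpos
  · rw [h0, zero_mul] at ha hb
    rw [Np, ← hg, ← hG, ha, hb]
    simp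
  · have e1 : Np q n = a := by
      rw [Np, ← hg, ← hG, ha, Nat.mul_div_cancel_left _ hpos]
    have e2 : g / G = b := by rw [hb, Nat.mul_div_cancel_left _ hpos]
    rw [e1, e2, ha, hb]
    ring

theorem Np_dvd (q n j : ℕ) (h : Dp q n ∣ j * Nat.gcd n (q + 1)) : Np q n ∣ j := by
  set g := Nat.gcd n (q + 1) with hg
  set G := Nat.gcd (Dp q n) g with hG
  have hgpos : 0 < g := Nat.gcd_pos_of_pos_right _ (Nat.succ_pos q)
  have hGpos : 0 < G := Nat.gcd_pos_of_pos_right _ hgpos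
  have h1 : G ∣ Dp q n := Nat.gcd_dvd_left _ _
  have h2 : G ∣ g := Nat.gcd_dvd_right _ _
  have hcop : Nat.Coprime (Dp q n / G) (g / G) := Nat.coprime_div_gcd_div_gcd hGpos
  obtain ⟨a, ha⟩ := h1
  obtain ⟨b, hb⟩ := h2
  have e1 : Dp q n / G = a := by rw [ha, Nat.mul_div_cancel_left _ hGpos]
  have e2 : g / G = b := by rw [hb, Nat.mul_div_cancel_left _ hGpos]
  rw [e1, e2] at hcop
  have e3 : Np q n = a := by rw [Np, ← hg, ← hG, e1]
  rw [e3]
  have h3 : G * a ∣ G * (j * b) := by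
    rw [← ha]
    have : G * (j * b) = j * g := by rw [hb]; ring
    rw [this]
    exact h
  have h4 : a ∣ j * b := Nat.dvd_of_mul_dvd_mul_left hGpos h3
  exact hcop.dvd_of_dvd_mul_right h4

theorem Dp_even (q h : ℕ) (hq : 1 ≤ q) : Dp q (2 * h) = (q - 1) * Dn (q ^ 2) h := by
  have h1 := Dp_mul_even q (2 * h) ⟨h, by ring⟩
  have h2 := pred_mul_Dn (q ^ 2) h (Nat.one_le_pow _ _ hq)
  rw [sq_sub_one, ← pow_mul] at h2
  have h3 : Dp q (2 * h) * (q + 1) = (q - 1) * Dn (q ^ 2) h * (q + 1) := by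
    rw [h1, ← h2]
    ring
  exact Nat.eq_of_mul_eq_mul_right (Nat.succ_pos q) h3

theorem Dn_sq_odd (q n : ℕ) (hq : 2 ≤ q) (hn : Odd n) : Dn (q ^ 2) n = Dp q n * Dn q n := by
  have h1 := Dp_mul_odd q n hn
  have h2 := pred_mul_Dn (q ^ 2) n (Nat.one_le_pow _ _ (by omega))
  have h3 := pred_mul_Dn q n (by omega)
  rw [sq_sub_one, ← pow_mul] at h2
  have hpos : 0 < (q + 1) * (q - 1) := Nat.mul_pos (Nat.succ_pos q) (by omega)
  apply Nat.eq_of_mul_eq_mul_left hpos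
  rw [h2]
  have h4 : (q + 1) * (q - 1) * (Dp q n * Dn q n) = (Dp q n * (q + 1)) * ((q - 1) * Dn q n) := by
    ring
  rw [h4, h1, h3]
  have h5 : 1 ≤ q ^ n := Nat.one_le_pow _ _ (by omega)
  have h6 : q ^ (2 * n) = q ^ n * q ^ n := by rw [two_mul, pow_add]
  obtain ⟨a, ha⟩ : ∃ a, q ^ n = a + 1 := ⟨q ^ n - 1, by omega⟩
  rw [h6, ha]
  simp only [Nat.add_sub_cancel]
  have : (a + 1) * (a + 1) = (a + 1 + 1) * a + 1 := by ring
  omega

theorem sum_pow_mul {R : Type*} [CommRing R] (z : R) (d m : ℕ) (hz : z ^ d = 1) :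
    ∑ i ∈ range (d * m), z ^ i = m * ∑ i ∈ range d, z ^ i := by
  induction m with
  | zero => simp
  | succ m ih =>
    rw [mul_add, mul_one, Finset.sum_range_add, ih]
    have h1 : ∑ x ∈ range d, z ^ (d * m + x) = ∑ x ∈ range d, z ^ x := by
      apply Finset.sum_congr rfl
      intro x _
      rw [pow_add, pow_mul, hz, one_pow, one_mul]
    rw [h1]
    push_cast
    ring

theorem sum_even_odd {R : Type*} [CommRing R] (y : R) (k : ℕ) :
    ∑ j ∈ range (2 * k + 1), y ^ j =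
      ∑ i ∈ range (k + 1), y ^ (2 * i) + ∑ i ∈ range k, y ^ (2 * i + 1) := by
  induction k with
  | zero => simp
  | succ k ih =>
    have e1 : 2 * (k + 1) + 1 = 2 * k + 1 + 1 + 1 := by ring
    rw [e1, Finset.sum_range_succ, Finset.sum_range_succ, ih,
      Finset.sum_range_succ (fun i => y ^ (2 * i)) (k + 1),
      Finset.sum_range_succ (fun i => y ^ (2 * i + 1)) k]
    have e2 : 2 * (k + 1) = 2 * k + 1 + 1 := by ring
    rw [e2]
    ring

theorem sum_sq_eq {R : Type*} [CommRing R] (y : R) (k : ℕ) (hy : y ^ (2 * k + 1) = 1) :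
    ∑ i ∈ range (2 * k + 1), (y ^ 2) ^ i = ∑ i ∈ range (2 * k + 1), y ^ i := by
  rw [sum_even_odd y k]
  have e1 : 2 * k + 1 = (k + 1) + k := by ring
  rw [e1, Finset.sum_range_add]
  congr 1
  · apply Finset.sum_congr rfl
    intro i _
    rw [← pow_mul]
  · apply Finset.sum_congr rfl
    intro i _
    rw [← pow_mul]
    have e2 : 2 * (k + 1 + i) = (2 * k + 1) + (2 * i + 1) := by ring
    rw [e2, pow_add, hy, one_mul]

theorem sum_sq_eq' {R : Type*} [CommRing R] (y : R) (d m : ℕ) (hd : Odd d) (hy : y ^ d = 1) :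
    ∑ i ∈ range (d * m), (y ^ 2) ^ i = ∑ i ∈ range (d * m), y ^ i := by
  have hy2 : (y ^ 2) ^ d = 1 := by rw [← pow_mul, mul_comm, pow_mul, hy, one_pow]
  rw [sum_pow_mul (y ^ 2) d m hy2, sum_pow_mul y d m hy]
  obtain ⟨k, rfl⟩ := hd
  rw [sum_sq_eq y k hy]

theorem alt_sum (q n : ℕ) :
    (∑ i ∈ range n, (-(q : ℤ)) ^ i) * ((q : ℤ) + 1) = 1 - (-(q : ℤ)) ^ n := by
  have h := geom_sum_mul (-(q : ℤ)) n
  linear_combination -h

theorem Dp_int (q n : ℕ) (hq : 1 ≤ q) :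
    ((Dp q n : ℕ) : ℤ) = (-1) ^ (n + 1) * ∑ i ∈ range n, (-(q : ℤ)) ^ i := by
  have hq1 : ((q : ℤ) + 1) ≠ 0 := by positivity
  apply mul_right_cancel₀ hq1
  rw [mul_assoc, alt_sum]
  have h5 : 1 ≤ q ^ n := Nat.one_le_pow _ _ hq
  rcases Nat.even_or_odd n with h | h
  · have h1 := Dp_mul_even q n h
    have h2 : ((Dp q n : ℕ) : ℤ) * ((q : ℤ) + 1) = (q : ℤ) ^ n - 1 := by
      have := congrArg (fun x : ℕ => (x : ℤ)) h1
      push_cast [h5] at this
      exact this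
    have h3 : Odd (n + 1) := h.add_one
    rw [h2, h3.neg_one_pow, h.neg_pow]
    ring
  · have h1 := Dp_mul_odd q n h
    have h2 : ((Dp q n : ℕ) : ℤ) * ((q : ℤ) + 1) = (q : ℤ) ^ n + 1 := by
      have := congrArg (fun x : ℕ => (x : ℤ)) h1
      push_cast at this
      exact this
    have h3 : Even (n + 1) := h.add_one
    rw [h2, h3.neg_one_pow, h.neg_pow]
    ring

theorem dvd_sub (q d n : ℕ) (hd : Odd d) (hdn : d ∣ n) :
    ((q ^ d + 1 : ℕ) : ℤ) ∣ (Dn (q ^ 2) n : ℤ) - ∑ i ∈ range n, (-(q : ℤ)) ^ i := by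
  rw [← ZMod.intCast_zmod_eq_zero_iff_dvd]
  unfold Dn
  push_cast
  set y : ZMod (q ^ d + 1) := -(q : ZMod (q ^ d + 1)) with hy
  have hyd : y ^ d = 1 := by
    rw [hy, hd.neg_pow]
    have h1 : ((q ^ d + 1 : ℕ) : ZMod (q ^ d + 1)) = 0 := ZMod.natCast_self _
    push_cast at h1
    linear_combination -h1
  have hy2 : ((q : ZMod (q ^ d + 1)) ^ 2) = y ^ 2 := by rw [hy, neg_sq]
  obtain ⟨m, rfl⟩ := hdn
  rw [hy2, sum_sq_eq' y d m hd hyd, sub_self]

/-- the key consequence for elements of the Coxeter-type tori -/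
theorem pow_Dp_eq_one {M : Type*} [Monoid M] (x : M) (q d n : ℕ) (hq : 1 ≤ q) (hd : Odd d)
    (hdn : d ∣ n) (h1 : x ^ (q ^ d + 1) = 1) (h2 : x ^ Dn (q ^ 2) n = 1) : x ^ Dp q n = 1 := by
  have ho1 : orderOf x ∣ q ^ d + 1 := orderOf_dvd_of_pow_eq_one h1
  have ho2 : orderOf x ∣ Dn (q ^ 2) n := orderOf_dvd_of_pow_eq_one h2
  have h3 : (orderOf x : ℤ) ∣ ∑ i ∈ range n, (-(q : ℤ)) ^ i := by
    have h4 := dvd_trans (Int.natCast_dvd_natCast.2 ho1) (dvd_sub q d n hd hdn)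
    have h5 : (orderOf x : ℤ) ∣ (Dn (q ^ 2) n : ℤ) := Int.natCast_dvd_natCast.2 ho2
    have h6 := Int.dvd_sub h5 h4
    simpa using h6
  have h7 : (orderOf x : ℤ) ∣ ((Dp q n : ℕ) : ℤ) := by
    rw [Dp_int q n hq]
    exact Dvd.dvd.mul_left h3 _
  exact orderOf_dvd_iff_pow_eq_one.1 (Int.natCast_dvd_natCast.1 h7)

end Cfsg.Agent.Lib.helper64.UArith
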