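import Mathlib
import Cfsg.Agent.Lib.helper64.UIso
import Cfsg.Agent.Lib.helper64.UArith
import Cfsg.Agent.Lib.helper64.PSLSpec

set_option autoImplicit false

/-!
# Unitary matrices with irreducible minimal polynomial (helper64)

For `S` unitary of determinant one with irreducible minimal polynomial: `S ^ Np q n` is scalar,
and if `S` is cyclic there is a unitary torus element of determinant one and projective order
divisible by `Np q n`.
-/

namespace Cfsg.Agent.Lib.helper64.UTypeA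

open Polynomial Matrix Cfsg.Agent.Lib.helper64.IsoPow Cfsg.Agent.Lib.helper64.UOrtho
  Cfsg.Agent.Lib.helper64.UBasic Cfsg.Agent.Lib.helper64.UIso Cfsg.Agent.Lib.helper64.UArith

variable {F : Type*} [Field F] [Fintype F] {n q : ℕ}

theorem card_eq_succ (hq : 1 ≤ q) : q ^ 2 = (q + 1) * (q - 1) + 1 := by
  have h := sq_sub_one q
  have h1 : 1 ≤ q ^ 2 := Nat.one_le_pow _ _ hq
  omega

/-- an element of a field extension of `F` whose `gcd(n, q+1)`-th power is one lies in `F` -/
theorem mem_range_of_pow_gcd (hF : Fintype.card F = q ^ 2) (hq : 1 ≤ q) {K : Type*} [Field K]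
    [Algebra F K] (β : K) (hβ : β ^ Nat.gcd n (q + 1) = 1) :
    ∃ c : F, algebraMap F K c = β := by
  apply mem_range_of_pow_card
  obtain ⟨e, he⟩ := Nat.gcd_dvd_right n (q + 1)
  rw [hF, card_eq_succ hq, pow_succ, he, mul_assoc, pow_mul, hβ, one_pow, one_mul]

theorem typeA (hF : Fintype.card F = q ^ 2) (p a : ℕ) (hp : p.Prime) (ha : 1 ≤ a)
    (hq : q = p ^ a) (σ : F →+* F) (hσ : ∀ x, σ x = x ^ q) (hσ2 : ∀ x, σ (σ x) = x)
    (hσne : σ ≠ RingHom.id F) (hn : 0 < n) (S : Matrix (Fin n) (Fin n) F)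
    (hS : cs σ S * S = 1) (hdet : S.det = 1) (hirr : Irreducible (minpoly F S)) :
    (∃ c : F, S ^ Np q n = c • (1 : Matrix (Fin n) (Fin n) F)) ∧
    (Cyc S → ∃ t : Matrix (Fin n) (Fin n) F, cs σ t * t = 1 ∧ t.det = 1 ∧
        ∀ j : ℕ, (∃ c : F, t ^ j = c • (1 : Matrix (Fin n) (Fin n) F)) → Np q n ∣ j) := by
  classical
  have : Nonempty (Fin n) := ⟨⟨0, hn⟩⟩
  have hq1 : 1 ≤ q := by rw [hq]; exact Nat.one_le_pow _ _ hp.pos
  have hq2 : 2 ≤ q := by
    rw [hq]
    calc 2 ≤ p := hp.two_le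
      _ = p ^ 1 := (pow_one p).symm
      _ ≤ p ^ a := Nat.pow_le_pow_right hp.pos ha
  have hFp : Fintype.card F = p ^ (2 * a) := by rw [hF, hq, ← pow_mul, mul_comm]
  have hchar : CharP F p := Cfsg.Agent.Lib.helper64.PSLSpec.charP_of_card hp (by omega) hFp
  have : Fact p.Prime := ⟨hp⟩
  set f := minpoly F S with hfdef
  have : Fact (Irreducible f) := ⟨hirr⟩
  have hf : aeval S f = 0 := minpoly.aeval F S
  have hf0 : f ≠ 0 := hirr.ne_zero
  let K := AdjoinRoot f
  have hfinK : Finite K := finite_adjoinRoot f hf0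
  have hcharK : CharP K p := charP_of_injective_algebraMap (algebraMap F K).injective p
  let φ : K →ₐ[F] Matrix (Fin n) (Fin n) F := phi f S hf
  have hφinj : Function.Injective φ := phi_injective f hn S hf
  set ρ : K := AdjoinRoot.root f with hρdef
  have hφρ : φ ρ = S := phi_root f S hf
  set d := f.natDegree with hd
  have hcardK : Nat.card K = p ^ (2 * (a * d)) := by
    have h1 := card_adjoinRoot f hf0
    rw [hF, hq] at h1
    rw [h1, ← pow_mul, ← pow_mul]
    congr 1
    ring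
  have hS' : S * cs σ S = 1 := cs_mul_eq_one_comm σ hS
  have hρ0 : ρ ≠ 0 := by
    intro h
    rw [h, map_zero] at hφρ
    rw [← hφρ, mul_zero] at hS
    exact zero_ne_one hS
  have hφx : φ ρ⁻¹ = cs σ S := by
    have h1 : φ ρ⁻¹ * S = 1 := by
      rw [← hφρ, ← map_mul, inv_mul_cancel₀ hρ0, map_one]
    calc φ ρ⁻¹ = φ ρ⁻¹ * (S * cs σ S) := by rw [hS', mul_one]
      _ = (φ ρ⁻¹ * S) * cs σ S := by rw [mul_assoc]
      _ = cs σ S := by rw [h1, one_mul]
  let i : F →+* K := (algebraMap F K).comp σ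
  have hev : ∀ g : F[X], φ (g.eval₂ i ρ⁻¹) = aeval (cs σ S) (g.map σ) := by
    intro g
    induction g using Polynomial.induction_on' with
    | add g1 g2 h1 h2 => rw [eval₂_add, map_add, h1, h2, Polynomial.map_add, map_add]
    | monomial k c =>
      rw [eval₂_monomial, map_mul, map_pow, hφx, Polynomial.map_monomial, aeval_monomial]
      congr 1
      show φ (algebraMap F K (σ c)) = _
      rw [AlgHom.commutes]
  have hlift : f.eval₂ i ρ⁻¹ = 0 := by
    apply hφinj
    rw [hev, ← cs_aeval, hf, cs_zero, map_zero]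
  let τ : K →+* K := AdjoinRoot.lift i ρ⁻¹ hlift
  have hτφ : ∀ y : K, φ (τ y) = cs σ (φ y) := by
    intro y
    obtain ⟨g, rfl⟩ := exists_mk f y
    show φ (AdjoinRoot.lift i ρ⁻¹ hlift (AdjoinRoot.mk f g)) = _
    rw [AdjoinRoot.lift_mk, hev, ← cs_aeval]
    rfl
  have hτ2 : ∀ y : K, τ (τ y) = y := by
    intro y
    apply hφinj
    rw [hτφ, hτφ, cs_cs σ hσ2]
  have hcsalg : ∀ c : F, cs σ (algebraMap F (Matrix (Fin n) (Fin n) F) c) =
      algebraMap F (Matrix (Fin n) (Fin n) F) (σ c) := by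
    intro c
    rw [Algebra.algebraMap_eq_smul_one, Algebra.algebraMap_eq_smul_one, cs_smul, cs_one]
  have hτF : ∀ c : F, τ (algebraMap F K c) = algebraMap F K (σ c) := by
    intro c
    apply hφinj
    rw [hτφ, AlgHom.commutes, AlgHom.commutes, hcsalg]
  have hτne : τ ≠ RingHom.id K := by
    intro h
    apply hσne
    apply RingHom.ext
    intro c
    apply (algebraMap F K).injective
    rw [← hτF, h]
    rfl
  have hτpow : ∀ y : K, τ y = y ^ (q ^ d) := by
    intro y
    have h1 := invol_frob p (a * d) hcardK τ hτ2 hτne y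
    rw [h1, hq, ← pow_mul]
  have hdodd : Odd d := by
    by_contra hcon
    rw [Nat.not_odd_iff_even] at hcon
    obtain ⟨k, hk⟩ := hcon
    apply hσne
    apply RingHom.ext
    intro c
    apply (algebraMap F K).injective
    rw [← hτF, hτpow, ← map_pow]
    congr 1
    show c ^ (q ^ d) = c
    rw [hk, ← two_mul, pow_mul, ← hF]
    exact FiniteField.pow_card_pow k c
  obtain ⟨hdn, hdetpow⟩ := pow_Dn_eq_det f S hf
  rw [hF] at hdetpow
  have hunit : ∀ y : K, cs σ (φ y) * φ y = 1 → y ^ (q ^ d + 1) = 1 := by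
    intro y hy
    apply hφinj
    rw [pow_succ, ← hτpow, map_mul, hτφ, hy, map_one]
  have hρU : ρ ^ (q ^ d + 1) = 1 := hunit ρ (by rw [hφρ]; exact hS)
  have hρD : ρ ^ Dn (q ^ 2) n = 1 := by
    rw [hdetpow, hφρ, hdet, map_one]
  have hρDp : ρ ^ Dp q n = 1 := pow_Dp_eq_one ρ q d n hq1 hdodd hdn hρU hρD
  constructor
  · obtain ⟨t, ht⟩ := Np_mul q n
    have hβ : (ρ ^ Np q n) ^ Nat.gcd n (q + 1) = 1 := by
      rw [← pow_mul, ht, pow_mul, hρDp, one_pow]
    obtain ⟨c, hc⟩ := mem_range_of_pow_gcd hF hq1 (ρ ^ Np q n) hβ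
    refine ⟨c, ?_⟩
    rw [← hφρ, ← map_pow, ← hc, AlgHom.commutes, Algebra.algebraMap_eq_smul_one]
  · intro hcyc
    have hdn' : d = n := natDegree_minpoly_of_cyc hn S hcyc
    have hnodd : Odd n := hdn' ▸ hdodd
    have hDp1 := Dp_mul_odd q n hnodd
    have hDpdvd : Dp q n ∣ Nat.card K - 1 := by
      rw [hcardK, hdn']
      have h1 : p ^ (2 * (a * n)) = q ^ n * q ^ n := by
        rw [hq, ← pow_mul, ← pow_add]
        congr 1
        ring
      have h2 : 1 ≤ q ^ n := Nat.one_le_pow _ _ hq1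
      have h3 : q ^ n * q ^ n - 1 = (q ^ n + 1) * (q ^ n - 1) := by
        obtain ⟨b, hb⟩ : ∃ b, q ^ n = b + 1 := ⟨q ^ n - 1, by omega⟩
        rw [hb]
        simp only [Nat.add_sub_cancel]
        have : (b + 1) * (b + 1) = (b + 1 + 1) * b + 1 := by ring
        omega
      rw [h1, h3, ← hDp1]
      exact dvd_mul_of_dvd_left (dvd_mul_right _ _) _
    obtain ⟨κ, hκ⟩ := exists_orderOf (K := K) (Dp q n) hDpdvd
    have hκU : τ κ * κ = 1 := by
      rw [hτpow, ← pow_succ, hdn', ← hDp1, pow_mul, ← hκ, pow_orderOf_eq_one, one_pow]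
    have hκD : κ ^ Dn (q ^ 2) n = 1 := by
      rw [Dn_sq_odd q n hq2 hnodd, pow_mul, ← hκ, pow_orderOf_eq_one, one_pow]
    have htu : cs σ (φ κ) * φ κ = 1 := by
      rw [← hτφ, ← map_mul, hκU, map_one]
    refine ⟨φ κ, htu, ?_, ?_⟩
    · apply (algebraMap F K).injective
      rw [← hdetpow, hκD, map_one]
    · rintro j ⟨c, hc⟩
      have hκj : κ ^ j = algebraMap F K c := by
        apply hφinj
        rw [map_pow, hc, AlgHom.commutes, Algebra.algebraMap_eq_smul_one]
      have hcn : c ^ n = 1 := by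
        have h1 := congrArg Matrix.det hc
        rw [Matrix.det_pow, Matrix.det_smul, Matrix.det_one, mul_one, Fintype.card_fin] at h1
        have h2 : (φ κ).det = 1 := by
          apply (algebraMap F K).injective
          rw [← hdetpow, hκD, map_one]
        rw [h2, one_pow] at h1
        exact h1.symm
      have hcq : c ^ (q + 1) = 1 := by
        have h1 : cs σ (φ κ ^ j) * φ κ ^ j = 1 := by
          rw [← map_pow, ← hτφ, ← map_mul, map_pow, ← mul_pow, hκU, one_pow, map_one]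
        rw [hc, cs_smul, cs_one, smul_mul_assoc, one_mul, smul_smul] at h1
        have h2 := congrFun (congrFun h1 ⟨0, hn⟩) ⟨0, hn⟩
        rw [Matrix.smul_apply, Matrix.one_apply_eq, smul_eq_mul, mul_one, hσ] at h2
        rw [pow_succ', ← h2, mul_comm]
      have hcg : c ^ Nat.gcd n (q + 1) = 1 := pow_gcd_eq_one.2 ⟨hcn, hcq⟩
      have h3 : κ ^ (j * Nat.gcd n (q + 1)) = 1 := by
        rw [pow_mul, hκj, ← map_pow, hcg, map_one]
      apply Np_dvd
      rw [← hκ]
      exact orderOf_dvd_of_pow_eq_one h3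

end Cfsg.Agent.Lib.helper64.UTypeA
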