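import Mathlib
import Cfsg.Agent.Lib.helper64.UTypeA

set_option autoImplicit false

/-!
# Unitary matrices of split type (helper64)

`S` unitary of determinant one, semisimple, such that `F[S]` has no non-trivial self-adjoint
idempotent but the minimal polynomial of `S` is reducible: then `F[S]` has an idempotent `e`
with `e* = 1 - e`, `n` is even and `S` is determined by its restriction to the range of `e`.
-/

namespace Cfsg.Agent.Lib.helper64.UTypeB

open Polynomial Matrix Cfsg.Agent.Lib.helper64.IsoPow Cfsg.Agent.Lib.helper64.UOrtho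
  Cfsg.Agent.Lib.helper64.UBasic Cfsg.Agent.Lib.helper64.UIso Cfsg.Agent.Lib.helper64.UArith
  Cfsg.Agent.Lib.helper64.UTypeA Cfsg.Agent.Lib.helper64.PSLAttach

variable {F : Type*} [Field F] {n : ℕ}

/-- an idempotent matrix factors through its range -/
theorem exists_factor (e : Matrix (Fin n) (Fin n) F) (he : e * e = e) :
    ∃ (h : ℕ) (B : Matrix (Fin n) (Fin h) F) (C : Matrix (Fin h) (Fin n) F),
      C * B = 1 ∧ B * C = e := by
  classical
  let V₁ : Submodule F (Fin n → F) := LinearMap.range (Matrix.toLin' e)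
  let β := Module.finBasis F V₁
  let ι : (Fin (Module.finrank F V₁) → F) →ₗ[F] (Fin n → F) :=
    V₁.subtype ∘ₗ β.equivFun.symm.toLinearMap
  let π : (Fin n → F) →ₗ[F] (Fin (Module.finrank F V₁) → F) :=
    β.equivFun.toLinearMap ∘ₗ (Matrix.toLin' e).rangeRestrict
  have h1 : π ∘ₗ ι = LinearMap.id := by
    apply LinearMap.ext
    intro w
    have h2 : (Matrix.toLin' e).rangeRestrict (V₁.subtype (β.equivFun.symm w)) =
        β.equivFun.symm w := by
      apply Subtype.ext
      obtain ⟨u, hu⟩ := (β.equivFun.symm w).2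
      show Matrix.toLin' e (β.equivFun.symm w : Fin n → F) = (β.equivFun.symm w : Fin n → F)
      rw [← hu, Matrix.toLin'_apply, Matrix.toLin'_apply, Matrix.mulVec_mulVec, he]
    show β.equivFun ((Matrix.toLin' e).rangeRestrict (V₁.subtype (β.equivFun.symm w))) = w
    rw [h2]
    exact β.equivFun.apply_symm_apply w
  have h2 : ι ∘ₗ π = Matrix.toLin' e := by
    apply LinearMap.ext
    intro v
    show V₁.subtype (β.equivFun.symm (β.equivFun ((Matrix.toLin' e).rangeRestrict v))) = _
    rw [β.equivFun.symm_apply_apply]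
    rfl
  refine ⟨_, LinearMap.toMatrix' ι, LinearMap.toMatrix' π, ?_, ?_⟩
  · rw [← LinearMap.toMatrix'_comp, h1, LinearMap.toMatrix'_id]
  · rw [← LinearMap.toMatrix'_comp, h2, LinearMap.toMatrix'_toLin']

theorem det_block {h : ℕ} (B : Matrix (Fin n) (Fin h) F) (C : Matrix (Fin h) (Fin n) F)
    (hCB : C * B = 1) (Z : Matrix (Fin h) (Fin h) F) :
    (B * Z * C + (1 - B * C)).det = Z.det := by
  have h1 : B * Z * C + (1 - B * C) = 1 + B * ((Z - 1) * C) := by
    rw [Matrix.sub_mul, Matrix.one_mul, Matrix.mul_sub, Matrix.mul_assoc]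
    abel
  rw [h1, Matrix.det_one_add_mul_comm, Matrix.mul_assoc, hCB, Matrix.mul_one, add_sub_cancel]

theorem card_of_split {h : ℕ} (B B' : Matrix (Fin n) (Fin h) F) (C C' : Matrix (Fin h) (Fin n) F)
    (h1 : C * B = 1) (h2 : C' * B' = 1) (h3 : C * B' = 0) (h4 : C' * B = 0)
    (h5 : B * C + B' * C' = 1) : n = 2 * h := by
  classical
  let X := Matrix.fromCols B B'
  let Y := Matrix.fromRows C C'
  have hXY : X * Y = 1 := by rw [Matrix.fromCols_mul_fromRows, h5]
  have hYX : Y * X = 1 := by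
    rw [Matrix.fromRows_mul_fromCols, h1, h2, h3, h4, Matrix.fromBlocks_one]
  have e1 : n ≤ 2 * h := by
    have h6 := Matrix.rank_mul_le_right X Y
    rw [hXY, Matrix.rank_one, Fintype.card_fin] at h6
    have h7 := Matrix.rank_le_card_height Y
    rw [Fintype.card_sum, Fintype.card_fin] at h7
    omega
  have e2 : 2 * h ≤ n := by
    have h6 := Matrix.rank_mul_le_right Y X
    rw [hYX, Matrix.rank_one, Fintype.card_sum, Fintype.card_fin] at h6
    have h7 := Matrix.rank_le_card_height X
    rw [Fintype.card_fin] at h7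
    omega
  omega

variable [Fintype F] {q : ℕ}

theorem typeB (hF : Fintype.card F = q ^ 2) (hq2 : 2 ≤ q)
    (σ : F →+* F) (hσ : ∀ x, σ x = x ^ q) (hσ2 : ∀ x, σ (σ x) = x)
    (hn : 0 < n) (S : Matrix (Fin n) (Fin n) F)
    (hS : cs σ S * S = 1) (hdet : S.det = 1) (N : ℕ) (hN : (N : F) ≠ 0) (hSN : S ^ N = 1)
    (Hi : ∀ g : F[X], aeval S g * aeval S g = aeval S g →
      aeval S g = 0 ∨ aeval S g = 1 ∨ cs σ (aeval S g) = 1 - aeval S g)
    (hred : ¬ Irreducible (minpoly F S)) :
    (∃ c : F, S ^ Np q n = c • (1 : Matrix (Fin n) (Fin n) F)) ∧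
    (Cyc S → ∃ t : Matrix (Fin n) (Fin n) F, cs σ t * t = 1 ∧ t.det = 1 ∧
        ∀ j : ℕ, (∃ c : F, t ^ j = c • (1 : Matrix (Fin n) (Fin n) F)) → Np q n ∣ j) := by
  classical
  have : Nonempty (Fin n) := ⟨⟨0, hn⟩⟩
  obtain ⟨g₀, hee, he0, he1⟩ := poly_idem hn S N hN hSN hred
  set e := aeval S g₀ with hedef
  have hcse : cs σ e = 1 - e := by
    rcases Hi g₀ hee with h | h | h
    · exact absurd h he0
    · exact absurd h he1
    · exact h
  set e' : Matrix (Fin n) (Fin n) F := 1 - e with he'def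
  have hee' : e * e' = 0 := by rw [he'def, mul_sub, mul_one, hee, sub_self]
  have he'e : e' * e = 0 := by rw [he'def, sub_mul, one_mul, hee, sub_self]
  have he'e' : e' * e' = e' := by
    rw [he'def, mul_sub, mul_one, sub_mul, one_mul, hee, sub_self, sub_zero]
  have hadd : e + e' = 1 := by rw [he'def]; abel
  have hcse' : cs σ e' = e := by rw [he'def, cs_sub, cs_one, hcse, he'def, sub_sub_cancel]
  have hSe : S * e = e * S := by
    have := aeval_comm S X g₀
    rwa [aeval_X] at this
  have hSe' : S * e' = e' * S := by rw [he'def, mul_sub, sub_mul, mul_one, one_mul, hSe]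
  have hgcomm : ∀ g : F[X], aeval S g * e = e * aeval S g := fun g => aeval_comm S g g₀
  obtain ⟨h, B, C, hCB, hBC⟩ := exists_factor e hee
  have hh : 0 < h := by
    rcases Nat.eq_zero_or_pos h with h0 | hpos
    · subst h0
      exfalso
      apply he0
      rw [← hBC]
      ext i j
      simp [Matrix.mul_apply]
    · exact hpos
  have : Nonempty (Fin h) := ⟨⟨0, hh⟩⟩
  have heB : e * B = B := by rw [← hBC, Matrix.mul_assoc, hCB, Matrix.mul_one]
  have hCe : C * e = C := by rw [← hBC, ← Matrix.mul_assoc, hCB, Matrix.one_mul]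
  set B' : Matrix (Fin n) (Fin h) F := cs σ C with hB'
  set C' : Matrix (Fin h) (Fin n) F := cs σ B with hC'
  have hC'B' : C' * B' = 1 := by rw [hB', hC', ← cs_mul, hCB, cs_one]
  have hB'C' : B' * C' = e' := by rw [hB', hC', ← cs_mul, hBC, hcse]
  have he'B' : e' * B' = B' := by rw [← hB'C', Matrix.mul_assoc, hC'B', Matrix.mul_one]
  have hC'e' : C' * e' = C' := by rw [← hB'C', ← Matrix.mul_assoc, hC'B', Matrix.one_mul]
  have hCB' : C * B' = 0 := by
    rw [← hCe, ← he'B', Matrix.mul_assoc, ← Matrix.mul_assoc e, hee', Matrix.zero_mul,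
      Matrix.mul_zero]
  have hC'B : C' * B = 0 := by
    rw [← hC'e', ← heB, Matrix.mul_assoc, ← Matrix.mul_assoc e', he'e, Matrix.zero_mul,
      Matrix.mul_zero]
  have hn2 : n = 2 * h :=
    card_of_split B B' C C' hCB hC'B' hCB' hC'B (by rw [hBC, hB'C', hadd])
  have hback : ∀ Z : Matrix (Fin h) (Fin h) F, C * (B * Z * C) * B = Z := by
    intro Z
    calc C * (B * Z * C) * B = (C * B) * Z * (C * B) := by simp only [Matrix.mul_assoc]
      _ = Z := by rw [hCB, Matrix.one_mul, Matrix.mul_one]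
  have hblockmul : ∀ Z Z' : Matrix (Fin h) (Fin h) F,
      (B * Z * C) * (B * Z' * C) = B * (Z * Z') * C := by
    intro Z Z'
    calc (B * Z * C) * (B * Z' * C) = B * Z * (C * B) * Z' * C := by
          simp only [Matrix.mul_assoc]
      _ = B * (Z * Z') * C := by rw [hCB, Matrix.mul_one]; simp only [Matrix.mul_assoc]
  have hCBCB : C * (B * C) * B = 1 := by
    calc C * (B * C) * B = (C * B) * (C * B) := by simp only [Matrix.mul_assoc]
      _ = 1 := by rw [hCB, Matrix.one_mul]
  set M₁ : Matrix (Fin h) (Fin h) F := C * S * B with hM₁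
  have hpow : ∀ k : ℕ, M₁ ^ k = C * S ^ k * B := by
    intro k
    induction k with
    | zero => rw [pow_zero, pow_zero, Matrix.mul_one, hCB]
    | succ k ih =>
      rw [pow_succ, ih, hM₁]
      calc C * S ^ k * B * (C * S * B) = C * S ^ k * ((B * C) * S) * B := by
            simp only [Matrix.mul_assoc]
        _ = C * S ^ k * (S * e) * B := by rw [hBC, hSe]
        _ = C * S ^ (k + 1) * B := by rw [pow_succ]; simp only [Matrix.mul_assoc, heB]
  have hae : ∀ g : F[X], aeval M₁ g = C * aeval S g * B := by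
    intro g
    induction g using Polynomial.induction_on' with
    | add g1 g2 h1 h2 => rw [map_add, map_add, h1, h2, Matrix.mul_add, Matrix.add_mul]
    | monomial k c =>
      rw [aeval_monomial, aeval_monomial, ← Algebra.smul_def, ← Algebra.smul_def, hpow,
        Matrix.mul_smul, Matrix.smul_mul]
  have hBaeC : ∀ g : F[X], B * aeval M₁ g * C = aeval S g * e := by
    intro g
    rw [hae]
    calc B * (C * aeval S g * B) * C = (B * C) * aeval S g * (B * C) := by
          simp only [Matrix.mul_assoc]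
      _ = aeval S g * e := by rw [hBC, ← hgcomm, mul_assoc, hee]
  have hM₁N : M₁ ^ N = 1 := by rw [hpow, hSN, Matrix.mul_one, hCB]
  have hirr : Irreducible (minpoly F M₁) := by
    by_contra hcon
    obtain ⟨g, hεε, hε0, hε1⟩ := poly_idem hh M₁ N hN hM₁N hcon
    have h3 : aeval S (g * g₀) * aeval S (g * g₀) = aeval S (g * g₀) := by
      rw [map_mul, ← hedef, ← hBaeC, hblockmul, hεε]
    rcases Hi (g * g₀) h3 with h4 | h4 | h4
    · apply hε0
      rw [map_mul, ← hedef, ← hBaeC] at h4
      rw [← hback (aeval M₁ g), h4, Matrix.mul_zero, Matrix.zero_mul]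
    · apply he1
      rw [map_mul, ← hedef] at h4
      have h5 : e' = 0 := by
        calc e' = (aeval S g * e) * e' := by rw [h4, one_mul]
          _ = 0 := by rw [mul_assoc, hee', mul_zero]
      rw [← hadd, h5, add_zero]
    · apply hε1
      rw [map_mul, ← hedef] at h4
      have h5 : e * cs σ (aeval S g * e) = 0 := by
        rw [cs_mul, hcse, ← mul_assoc, hee', zero_mul]
      rw [h4, mul_sub, mul_one, sub_eq_zero] at h5
      have h6 : e * (aeval S g * e) = aeval S g * e := by
        rw [← mul_assoc, ← hgcomm, mul_assoc, hee]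
      rw [h6, ← hBaeC] at h5
      rw [← hback (aeval M₁ g), ← h5, ← hBC, hCBCB]
  have hdetblock : ∀ Z : Matrix (Fin h) (Fin h) F, (B * Z * C + e').det = Z.det := by
    intro Z
    have := det_block B C hCB Z
    rwa [hBC] at this
  have hdetblock' : ∀ Z : Matrix (Fin h) (Fin h) F, (B' * Z * C' + e).det = Z.det := by
    intro Z
    have h1 := det_block B' C' hC'B' Z
    have h2 : 1 - e' = e := by rw [he'def]; abel
    rwa [hB'C', h2] at h1
  set M₁' : Matrix (Fin h) (Fin h) F := C * cs σ S * B with hM₁'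
  have hM₁'M₁ : M₁' * M₁ = 1 := by
    rw [hM₁', hM₁]
    calc C * cs σ S * B * (C * S * B) = C * cs σ S * ((B * C) * S) * B := by
          simp only [Matrix.mul_assoc]
      _ = C * (cs σ S * S) * e * B := by rw [hBC, ← hSe]; simp only [Matrix.mul_assoc]
      _ = 1 := by rw [hS, Matrix.mul_one, Matrix.mul_assoc, heB, hCB]
  set δ₁ := M₁.det with hδ₁
  have hδ' : M₁'.det * δ₁ = 1 := by rw [hδ₁, ← Matrix.det_mul, hM₁'M₁, Matrix.det_one]
  have hδ0 : δ₁ ≠ 0 := right_ne_zero_of_mul_eq_one hδ'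
  have hBM₁C : B * M₁ * C = S * e := by
    have := hBaeC X
    rwa [aeval_X, aeval_X] at this
  set M₂ : Matrix (Fin h) (Fin h) F := C' * S * B' with hM₂
  have hM₂cs : M₂ = cs σ M₁' := by
    rw [hM₁', cs_mul, cs_mul, cs_cs σ hσ2, hM₂, hB', hC', Matrix.mul_assoc]
  have hB'M₂C' : B' * M₂ * C' = S * e' := by
    rw [hM₂]
    calc B' * (C' * S * B') * C' = (B' * C') * S * (B' * C') := by
          simp only [Matrix.mul_assoc]
      _ = S * e' := by rw [hB'C', ← hSe', mul_assoc, he'e']
  have hSfac : S = (S * e + e') * (S * e' + e) := by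
    rw [add_mul, mul_add, mul_add]
    have t1 : S * e * (S * e') = 0 := by
      rw [mul_assoc, ← mul_assoc e, ← hSe, mul_assoc, hee', mul_zero, mul_zero]
    have t2 : S * e * e = S * e := by rw [mul_assoc, hee]
    have t3 : e' * (S * e') = S * e' := by rw [← mul_assoc, ← hSe', mul_assoc, he'e']
    rw [t1, t2, t3, he'e, zero_add, add_zero, ← mul_add, hadd, mul_one]
  have hσδ : σ δ₁ = δ₁ := by
    have h1 : S.det = δ₁ * σ M₁'.det := by
      conv_lhs => rw [hSfac]
      rw [Matrix.det_mul, ← hBM₁C, hdetblock, ← hB'M₂C', hdetblock', hM₂cs, cs_det]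
    rw [hdet] at h1
    have h2 : M₁'.det = δ₁⁻¹ := eq_inv_of_mul_eq_one_left hδ'
    rw [h2, map_inv₀] at h1
    have h3 : σ δ₁ ≠ 0 := (map_ne_zero σ).2 hδ0
    field_simp at h1
    exact h1
  have hfix : ∀ x : F, x ≠ 0 → σ x = x → x ^ (q - 1) = 1 := by
    intro x hx0 hx
    have h1 : x ^ q = x := by rw [← hσ, hx]
    have h2 : x ^ (q - 1) * x = 1 * x := by
      rw [← pow_succ, Nat.sub_add_cancel (by omega), h1, one_mul]
    exact mul_right_cancel₀ hx0 h2
  have hδq : δ₁ ^ (q - 1) = 1 := hfix δ₁ hδ0 hσδ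
  set f₁ := minpoly F M₁ with hf₁
  have : Fact (Irreducible f₁) := ⟨hirr⟩
  have hf₁z : aeval M₁ f₁ = 0 := minpoly.aeval F M₁
  have hf₁0 : f₁ ≠ 0 := hirr.ne_zero
  let K := AdjoinRoot f₁
  have hfinK : Finite K := finite_adjoinRoot f₁ hf₁0
  let φ : K →ₐ[F] Matrix (Fin h) (Fin h) F := phi f₁ M₁ hf₁z
  have hφinj : Function.Injective φ := phi_injective f₁ hh M₁ hf₁z
  set ρ : K := AdjoinRoot.root f₁ with hρdef
  have hφρ : φ ρ = M₁ := phi_root f₁ M₁ hf₁z
  obtain ⟨hdh, hdetpow⟩ := pow_Dn_eq_det f₁ M₁ hf₁z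
  rw [hF] at hdetpow
  have hDp : Dp q n = (q - 1) * Dn (q ^ 2) h := by
    rw [hn2]
    exact Dp_even q h (by omega)
  have hpowDp : ∀ y : K, ((φ y).det) ^ (q - 1) = 1 → y ^ Dp q n = 1 := by
    intro y hy
    rw [hDp, mul_comm, pow_mul, hdetpow, ← map_pow, hy, map_one]
  have hρDp : ρ ^ Dp q n = 1 := hpowDp ρ (by rw [hφρ]; exact hδq)
  have hcsS : Commute (cs σ S) S := by
    show cs σ S * S = S * cs σ S
    rw [hS, cs_mul_eq_one_comm σ hS]
  constructor
  · obtain ⟨t, ht⟩ := Np_mul q n
    have hβ : (ρ ^ Np q n) ^ Nat.gcd n (q + 1) = 1 := by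
      rw [← pow_mul, ht, pow_mul, hρDp, one_pow]
    obtain ⟨c, hc⟩ := mem_range_of_pow_gcd hF (by omega) (ρ ^ Np q n) hβ
    have hcg : c ^ Nat.gcd n (q + 1) = 1 := by
      apply (algebraMap F K).injective
      rw [map_pow, hc, hβ, map_one]
    have hcq : σ c * c = 1 := by
      obtain ⟨e2, he2⟩ := Nat.gcd_dvd_right n (q + 1)
      rw [hσ, ← pow_succ, he2, pow_mul, hcg, one_pow]
    have hM : M₁ ^ Np q n = c • (1 : Matrix (Fin h) (Fin h) F) := by
      rw [← hφρ, ← map_pow, ← hc, AlgHom.commutes, Algebra.algebraMap_eq_smul_one]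
    have hSe1 : S ^ Np q n * e = c • e := by
      have h1 : B * M₁ ^ Np q n * C = S ^ Np q n * e := by
        have := hBaeC (X ^ Np q n)
        rwa [map_pow, map_pow, aeval_X, aeval_X] at this
      rw [← h1, hM, Matrix.mul_smul, Matrix.mul_one, Matrix.smul_mul, hBC]
    have hSe2 : S ^ Np q n * e' = c • e' := by
      have h1 := congrArg (cs σ) hSe1
      rw [cs_mul, cs_smul, hcse, cs_pow] at h1
      have h2 : e' * (cs σ S) ^ Np q n * S ^ Np q n = e' := by
        rw [mul_assoc, ← hcsS.mul_pow, hS, one_pow, mul_one]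
      rw [h1, smul_mul_assoc] at h2
      have h3 : e' * S ^ Np q n = S ^ Np q n * e' := by
        have hc' : Commute S e' := hSe'
        exact ((hc'.pow_left (Np q n)).eq).symm
      rw [h3] at h2
      calc S ^ Np q n * e' = (c * σ c) • (S ^ Np q n * e') := by
            rw [mul_comm c, hcq, one_smul]
        _ = c • e' := by rw [mul_smul, h2]
    refine ⟨c, ?_⟩
    calc S ^ Np q n = S ^ Np q n * (e + e') := by rw [hadd, mul_one]
      _ = c • (1 : Matrix (Fin n) (Fin n) F) := by rw [mul_add, hSe1, hSe2, ← smul_add, hadd]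
  · intro hcyc
    obtain ⟨b, hb⟩ := hcyc
    have hcyc₁ : Cyc M₁ := by
      refine ⟨C *ᵥ b, fun v₁ => ?_⟩
      obtain ⟨g, hg⟩ := hb (B *ᵥ v₁)
      refine ⟨g, ?_⟩
      have h1 : v₁ = C *ᵥ (B *ᵥ v₁) := by rw [Matrix.mulVec_mulVec, hCB, Matrix.one_mulVec]
      have h2 : C * aeval S g * B * C = C * aeval S g := by
        rw [Matrix.mul_assoc, hBC, Matrix.mul_assoc, hgcomm, ← Matrix.mul_assoc, hCe]
      rw [hae, Matrix.mulVec_mulVec, h2, ← Matrix.mulVec_mulVec, ← hg]
      exact h1
    have hdeg : f₁.natDegree = h := natDegree_minpoly_of_cyc hh M₁ hcyc₁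
    have hcardK : Nat.card K = q ^ n := by
      have h1 := card_adjoinRoot f₁ hf₁0
      rw [hF, hdeg, ← pow_mul] at h1
      rw [h1, hn2]
    have hneven : Even n := ⟨h, by omega⟩
    have hDp1 := Dp_mul_even q n hneven
    have hDpdvd : Dp q n ∣ Nat.card K - 1 := by
      rw [hcardK, ← hDp1]
      exact dvd_mul_right _ _
    obtain ⟨κ, hκ⟩ := exists_orderOf (K := K) (Dp q n) hDpdvd
    have hDppos : 0 < Dp q n := by
      have h1 : 1 < q ^ n := Nat.one_lt_pow (by omega) (by omega)
      by_contra h0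
      have h2 : Dp q n = 0 := by omega
      rw [h2, zero_mul] at hDp1
      omega
    have hκDp : κ ^ Dp q n = 1 := by rw [← hκ]; exact pow_orderOf_eq_one κ
    have hκ0 : κ ≠ 0 := by
      intro h0
      rw [h0, zero_pow hDppos.ne'] at hκDp
      exact zero_ne_one hκDp
    set Z := φ κ with hZ
    set Z' := φ κ⁻¹ with hZ'
    have hZZ' : Z * Z' = 1 := by rw [hZ, hZ', ← map_mul, mul_inv_cancel₀ hκ0, map_one]
    have hZ'Z : Z' * Z = 1 := by rw [hZ, hZ', ← map_mul, inv_mul_cancel₀ hκ0, map_one]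
    set δ := Z.det with hδ
    have hδZ' : δ * Z'.det = 1 := by rw [hδ, ← Matrix.det_mul, hZZ', Matrix.det_one]
    have hδ0' : δ ≠ 0 := left_ne_zero_of_mul_eq_one hδZ'
    have hδq' : δ ^ (q - 1) = 1 := by
      apply (algebraMap F K).injective
      rw [map_pow, ← hdetpow, ← pow_mul, mul_comm, ← hDp, hκDp, map_one]
    have hσδ' : σ δ = δ := by
      rw [hσ]
      calc δ ^ q = δ ^ (q - 1) * δ := by rw [← pow_succ, Nat.sub_add_cancel (by omega)]
        _ = δ := by rw [hδq', one_mul]
    set k := B * Z * C with hk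
    set k' := B * Z' * C with hk'
    have hk'k : k' * k = e := by rw [hk, hk', hblockmul, hZ'Z, Matrix.mul_one, hBC]
    have hek : e * k = k := by rw [hk, ← Matrix.mul_assoc, ← Matrix.mul_assoc, heB]
    have hke : k * e = k := by rw [hk, Matrix.mul_assoc, hCe]
    have hek' : e * k' = k' := by rw [hk', ← Matrix.mul_assoc, ← Matrix.mul_assoc, heB]
    have hk'e : k' * e = k' := by rw [hk', Matrix.mul_assoc, hCe]
    have hcsk : cs σ k * e' = cs σ k := by
      have h1 : cs σ (e * k) = cs σ k * e' := by rw [cs_mul σ e k, hcse]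
      rw [← h1, hek]
    have he'csk' : e' * cs σ k' = cs σ k' := by
      have h1 : cs σ (k' * e) = e' * cs σ k' := by rw [cs_mul σ k' e, hcse]
      rw [← h1, hk'e]
    have hcsk' : cs σ k' * e' = cs σ k' := by
      have h1 : cs σ (e * k') = cs σ k' * e' := by rw [cs_mul σ e k', hcse]
      rw [← h1, hek']
    set t := k + cs σ k' with ht
    have htu : cs σ t * t = 1 := by
      rw [ht, cs_add, cs_cs σ hσ2, add_mul, mul_add, mul_add]
      have t1 : cs σ k * k = 0 := by
        calc cs σ k * k = (cs σ k * e') * (e * k) := by rw [hcsk, hek]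
          _ = 0 := by rw [mul_assoc, ← mul_assoc e', he'e, zero_mul, mul_zero]
      have t2 : k' * cs σ k' = 0 := by
        calc k' * cs σ k' = (k' * e) * (e' * cs σ k') := by rw [hk'e, he'csk']
          _ = 0 := by rw [mul_assoc, ← mul_assoc e, hee', zero_mul, mul_zero]
      have t3 : cs σ k * cs σ k' = e' := by rw [← cs_mul, hk'k, hcse]
      rw [t1, t2, t3, hk'k, zero_add, add_zero, add_comm, hadd]
    have htfac : t = (k + e') * (e + cs σ k') := by
      rw [add_mul, mul_add, mul_add]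
      have t1 : k * cs σ k' = 0 := by
        calc k * cs σ k' = (k * e) * (e' * cs σ k') := by rw [hke, he'csk']
          _ = 0 := by rw [mul_assoc, ← mul_assoc e, hee', zero_mul, mul_zero]
      rw [hke, t1, he'e, he'csk', add_zero, zero_add]
    have hdett : t.det = 1 := by
      have h1 : (k + e').det = δ := hdetblock Z
      have h2 : (e + cs σ k').det = σ Z'.det := by
        have h3 : e + cs σ k' = cs σ (k' + e') := by rw [cs_add, hcse', add_comm]
        rw [h3, cs_det, hdetblock Z']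
      rw [htfac, Matrix.det_mul, h1, h2]
      have h4 : Z'.det = δ⁻¹ := eq_inv_of_mul_eq_one_right hδZ'
      rw [h4, map_inv₀, hσδ', mul_inv_cancel₀ hδ0']
    refine ⟨t, htu, hdett, ?_⟩
    rintro j ⟨c, hc⟩
    have hte : t * e = k := by
      rw [ht, add_mul, hke]
      have h1 : cs σ k' * e = 0 := by rw [← hcsk', mul_assoc, he'e, mul_zero]
      rw [h1, add_zero]
    have htj : ∀ j : ℕ, t ^ j * e = B * φ (κ ^ j) * C := by
      intro j
      induction j with
      | zero => rw [pow_zero, one_mul, pow_zero, map_one, Matrix.mul_one, hBC]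
      | succ j ih =>
        calc t ^ (j + 1) * e = t ^ j * (t * e) := by rw [pow_succ, mul_assoc]
          _ = (t ^ j * e) * k := by rw [hte, mul_assoc, hek]
          _ = B * φ (κ ^ j) * C * (B * Z * C) := by rw [ih]
          _ = B * φ (κ ^ (j + 1)) * C := by rw [hblockmul, pow_succ, map_mul]
    have hκj : κ ^ j = algebraMap F K c := by
      apply hφinj
      have h1 := htj j
      rw [hc, smul_mul_assoc, one_mul] at h1
      rw [AlgHom.commutes, Algebra.algebraMap_eq_smul_one, ← hback (φ (κ ^ j)), ← h1, ← hBC,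
        Matrix.mul_smul, Matrix.smul_mul, hCBCB]
    have hcn : c ^ n = 1 := by
      have h1 := congrArg Matrix.det hc
      rw [Matrix.det_pow, hdett, one_pow, Matrix.det_smul, Matrix.det_one, mul_one,
        Fintype.card_fin] at h1
      exact h1.symm
    have hcq : c ^ (q + 1) = 1 := by
      have hcomm : Commute (cs σ t) t := by
        show cs σ t * t = t * cs σ t
        rw [htu, cs_mul_eq_one_comm σ htu]
      have h1 : cs σ (t ^ j) * t ^ j = 1 := by rw [cs_pow, ← hcomm.mul_pow, htu, one_pow]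
      rw [hc, cs_smul, cs_one, smul_mul_assoc, one_mul, smul_smul] at h1
      have h2 := congrFun (congrFun h1 ⟨0, hn⟩) ⟨0, hn⟩
      rw [Matrix.smul_apply, Matrix.one_apply_eq, smul_eq_mul, mul_one, hσ] at h2
      rw [pow_succ', ← h2, mul_comm]
    have hcg : c ^ Nat.gcd n (q + 1) = 1 := pow_gcd_eq_one.2 ⟨hcn, hcq⟩
    have h3 : κ ^ (j * Nat.gcd n (q + 1)) = 1 := by
      rw [pow_mul, hκj, ← map_pow, hcg, map_one]
    apply Np_dvd
    rw [← hκ]
    exact orderOf_dvd_of_pow_eq_one h3

end Cfsg.Agent.Lib.helper64.UTypeB
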