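import Mathlib
import Cfsg.Agent.Lib.helper64.SpOrtho
import Cfsg.Agent.Lib.helper64.UTypeB

set_option autoImplicit false
set_option linter.unusedSectionVars false

/-!
# Semisimple symplectic matrices of torus type (helper64)

`S` symplectic of size `2n`, semisimple, different from its adjoint, such that every idempotent
`e` of `F[S]` is `0`, `1` or satisfies `e* = 1 - e`, with minimal polynomial of degree `2n`:
then `S ^ (q^n + 1) = 1` (and there is a symplectic matrix of order `q^n + 1`) or
`S ^ (q^n - 1) = 1`.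
-/

namespace Cfsg.Agent.Lib.helper64.SpTorus

open Polynomial Matrix Cfsg.Agent.Lib.helper64.SpBasic Cfsg.Agent.Lib.helper64.UOrtho
  Cfsg.Agent.Lib.helper64.SpOrtho Cfsg.Agent.Lib.helper64.UIso Cfsg.Agent.Lib.helper64.UTypeB
  Cfsg.Agent.Lib.helper64.PSLAttach Cfsg.Agent.Lib.helper64.IsoPow

variable {F : Type*} [Field F] [Fintype F]

theorem torus_pow (p a n : ℕ) (hp : p.Prime) (ha : 1 ≤ a) (hF : Fintype.card F = p ^ a)
    (hn : 0 < n) (Ω Ω' : Matrix (Fin (n + n)) (Fin (n + n)) F) (hΩ : SkewInv Ω Ω')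
    (S : Matrix (Fin (n + n)) (Fin (n + n)) F) (hS : ad Ω Ω' S * S = 1) (M : ℕ)
    (hM : (M : F) ≠ 0) (hSM : S ^ M = 1) (hSne : ad Ω Ω' S ≠ S)
    (Hi : ∀ g : F[X], aeval S g * aeval S g = aeval S g →
      aeval S g = 0 ∨ aeval S g = 1 ∨ ad Ω Ω' (aeval S g) = 1 - aeval S g)
    (hδ : (minpoly F S).natDegree = n + n) :
    (S ^ (Fintype.card F ^ n + 1) = 1 ∧
      ∃ t : Matrix (Fin (n + n)) (Fin (n + n)) F, ad Ω Ω' t * t = 1 ∧
        ∀ k : ℕ, t ^ k = 1 → Fintype.card F ^ n + 1 ∣ k) ∨
    S ^ (Fintype.card F ^ n - 1) = 1 := by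
  classical
  have hnn : 0 < n + n := by omega
  have : Nonempty (Fin (n + n)) := ⟨⟨0, hnn⟩⟩
  have hchar : CharP F p := Cfsg.Agent.Lib.helper64.PSLSpec.charP_of_card hp ha hF
  obtain ⟨q, hq⟩ : ∃ q : ℕ, q = Fintype.card F := ⟨_, rfl⟩
  rw [← hq] at hF ⊢
  have hq1 : 1 ≤ q := by rw [hq]; exact Fintype.card_pos
  have : Fact p.Prime := ⟨hp⟩
  have hS' : S * ad Ω Ω' S = 1 := ad_mul_comm hS
  have hM0 : M ≠ 0 := by
    rintro rfl
    simp at hM
  by_cases hirr : Irreducible (minpoly F S)
  · left
    set f := minpoly F S with hfdef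
    have : Fact (Irreducible f) := ⟨hirr⟩
    have hf : aeval S f = 0 := minpoly.aeval F S
    have hf0 : f ≠ 0 := hirr.ne_zero
    let K := AdjoinRoot f
    have hfinK : Finite K := finite_adjoinRoot f hf0
    have hcharK : CharP K p := charP_of_injective_algebraMap (algebraMap F K).injective p
    let φ : K →ₐ[F] Matrix (Fin (n + n)) (Fin (n + n)) F := phi f S hf
    have hφinj : Function.Injective φ := phi_injective f hnn S hf
    set ρ : K := AdjoinRoot.root f with hρdef
    have hφρ : φ ρ = S := phi_root f S hf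
    have hcardK : Nat.card K = p ^ (2 * (a * n)) := by
      have h1 := card_adjoinRoot f hf0
      rw [hδ, ← hq, hF] at h1
      rw [h1, ← pow_mul]
      congr 1
      ring
    have hcardK' : Nat.card K = q ^ n * q ^ n := by
      have h1 := card_adjoinRoot f hf0
      rw [hδ, ← hq, pow_add] at h1
      exact h1
    have hρ0 : ρ ≠ 0 := by
      intro h
      rw [h, map_zero] at hφρ
      rw [← hφρ, mul_zero] at hS
      exact zero_ne_one hS
    have hφx : φ ρ⁻¹ = ad Ω Ω' S := by
      have h1 : φ ρ⁻¹ * S = 1 := by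
        rw [← hφρ, ← map_mul, inv_mul_cancel₀ hρ0, map_one]
      calc φ ρ⁻¹ = φ ρ⁻¹ * (S * ad Ω Ω' S) := by rw [hS', mul_one]
        _ = (φ ρ⁻¹ * S) * ad Ω Ω' S := by rw [mul_assoc]
        _ = ad Ω Ω' S := by rw [h1, one_mul]
    have hev : ∀ g : F[X], φ (aeval ρ⁻¹ g) = ad Ω Ω' (aeval S g) := by
      intro g
      rw [← Polynomial.aeval_algHom_apply, hφx, ad_aeval hΩ]
    have hlift : f.eval₂ (algebraMap F K) ρ⁻¹ = 0 := by
      apply hφinj
      rw [← Polynomial.aeval_def, hev, hf, ad_zero, map_zero]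
    let τ : K →+* K := AdjoinRoot.lift (algebraMap F K) ρ⁻¹ hlift
    have hτφ : ∀ y : K, φ (τ y) = ad Ω Ω' (φ y) := by
      intro y
      obtain ⟨g, rfl⟩ := exists_mk f y
      show φ (AdjoinRoot.lift (algebraMap F K) ρ⁻¹ hlift (AdjoinRoot.mk f g)) = _
      rw [AdjoinRoot.lift_mk, ← Polynomial.aeval_def, hev]
      rfl
    have hτ2 : ∀ y : K, τ (τ y) = y := by
      intro y
      apply hφinj
      rw [hτφ, hτφ, ad_ad hΩ]
    have hτne : τ ≠ RingHom.id K := by
      intro h
      apply hSne
      rw [← hφρ, ← hτφ, h]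
      rfl
    have hτpow : ∀ y : K, τ y = y ^ (q ^ n) := by
      intro y
      have h1 := invol_frob p (a * n) hcardK τ hτ2 hτne y
      rw [h1, hF, ← pow_mul]
    have hρU : ρ ^ (q ^ n + 1) = 1 := by
      apply hφinj
      rw [pow_succ, ← hτpow, map_mul, hτφ, hφρ, hS, map_one]
    refine ⟨by rw [← hφρ, ← map_pow, hρU, map_one], ?_⟩
    have hdvd : q ^ n + 1 ∣ Nat.card K - 1 := by
      rw [hcardK']
      have h2 : 1 ≤ q ^ n := Nat.one_le_pow _ _ hq1
      have h3 : q ^ n * q ^ n - 1 = (q ^ n + 1) * (q ^ n - 1) := by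
        obtain ⟨b, hb⟩ : ∃ b, q ^ n = b + 1 := ⟨q ^ n - 1, by omega⟩
        rw [hb]
        simp only [Nat.add_sub_cancel]
        have : (b + 1) * (b + 1) = (b + 1 + 1) * b + 1 := by ring
        omega
      rw [h3]
      exact dvd_mul_right _ _
    obtain ⟨κ, hκ⟩ := exists_orderOf (K := K) (q ^ n + 1) hdvd
    refine ⟨φ κ, ?_, ?_⟩
    · rw [← hτφ, ← map_mul, hτpow, ← pow_succ, ← hκ, pow_orderOf_eq_one, map_one]
    · intro k hk
      rw [← hκ]
      apply orderOf_dvd_of_pow_eq_one
      apply hφinj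
      rw [map_pow, hk, map_one]
  · right
    obtain ⟨g₀, hee, he0, he1⟩ := poly_idem hnn S M hM hSM hirr
    set e := aeval S g₀ with hedef
    have hade : ad Ω Ω' e = 1 - e := by
      rcases Hi g₀ hee with h | h | h
      · exact absurd h he0
      · exact absurd h he1
      · exact h
    obtain ⟨d, B, C, hCB, hBC⟩ := exists_factor e hee
    set B' : Matrix (Fin (n + n)) (Fin d) F := Ω' * Cᵀ with hB'
    set C' : Matrix (Fin d) (Fin (n + n)) F := Bᵀ * Ω with hC'
    have hC'B' : C' * B' = 1 := by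
      rw [hC', hB']
      calc Bᵀ * Ω * (Ω' * Cᵀ) = Bᵀ * (Ω * Ω') * Cᵀ := by simp only [Matrix.mul_assoc]
        _ = 1 := by
          rw [hΩ.mul_inv, Matrix.mul_one, ← Matrix.transpose_mul, hCB, Matrix.transpose_one]
    have hB'C' : B' * C' = 1 - e := by
      rw [← hade, hB', hC']
      unfold ad
      rw [← hBC, Matrix.transpose_mul]
      simp only [Matrix.mul_assoc]
    have heB : e * B = B := by rw [← hBC, Matrix.mul_assoc, hCB, Matrix.mul_one]
    have hCe : C * e = C := by rw [← hBC, ← Matrix.mul_assoc, hCB, Matrix.one_mul]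
    have he'B' : (1 - e) * B' = B' := by
      rw [← hB'C', Matrix.mul_assoc, hC'B', Matrix.mul_one]
    have hC'e' : C' * (1 - e) = C' := by
      rw [← hB'C', ← Matrix.mul_assoc, hC'B', Matrix.one_mul]
    have hee' : e * (1 - e) = 0 := by rw [mul_sub, mul_one, hee, sub_self]
    have he'e : (1 - e) * e = 0 := by rw [sub_mul, one_mul, hee, sub_self]
    have hCB' : C * B' = 0 := by
      rw [← hCe, ← he'B', Matrix.mul_assoc, ← Matrix.mul_assoc e, hee', Matrix.zero_mul,
        Matrix.mul_zero]
    have hC'B : C' * B = 0 := by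
      rw [← hC'e', ← heB, Matrix.mul_assoc, ← Matrix.mul_assoc (1 - e), he'e, Matrix.zero_mul,
        Matrix.mul_zero]
    have hsum : B * C + B' * C' = 1 := by
      rw [hBC, hB'C']
      abel
    have hdim : n + n = 2 * d := card_of_split B B' C C' hCB hC'B' hCB' hC'B hsum
    have hh : d = n := by omega
    subst hh
    have : Nonempty (Fin d) := ⟨⟨0, hn⟩⟩
    have hSe : S * e = e * S := by
      have := aeval_comm S X g₀
      rwa [aeval_X] at this
    have hye : ∀ g : F[X], aeval S g * e = e * aeval S g := fun g => aeval_comm S g g₀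
    set SA : Matrix (Fin d) (Fin d) F := C * S * B with hSA
    have haev : ∀ g : F[X], aeval SA g = C * aeval S g * B := by
      have hpow : ∀ k : ℕ, SA ^ k = C * S ^ k * B := by
        intro k
        induction k with
        | zero => rw [pow_zero, pow_zero, Matrix.mul_one, hCB]
        | succ k ih =>
          rw [pow_succ, ih, hSA, pow_succ]
          calc C * S ^ k * B * (C * S * B) = C * S ^ k * (B * C) * S * B := by
                simp only [Matrix.mul_assoc]
            _ = C * (S ^ k * S) * (e * B) := by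
                rw [hBC]
                simp only [Matrix.mul_assoc]
                rw [← Matrix.mul_assoc e S B, ← hSe]
                simp only [Matrix.mul_assoc]
            _ = C * (S ^ k * S) * B := by rw [heB]
      intro g
      induction g using Polynomial.induction_on' with
      | add g1 g2 h1 h2 => rw [map_add, map_add, h1, h2, Matrix.mul_add, Matrix.add_mul]
      | monomial k c =>
        rw [aeval_monomial, aeval_monomial, ← Algebra.smul_def, ← Algebra.smul_def, hpow,
          Matrix.mul_smul, Matrix.smul_mul]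
    have hSApow : ∀ k : ℕ, SA ^ k = C * S ^ k * B := by
      intro k
      have := haev (X ^ k)
      rwa [map_pow, map_pow, aeval_X, aeval_X] at this
    have hSAM : SA ^ M = 1 := by rw [hSApow, hSM, Matrix.mul_one, hCB]
    have hirrA : Irreducible (minpoly F SA) := by
      by_contra hred
      obtain ⟨g₁, h11, h10, h1one⟩ := poly_idem hn SA M hM hSAM hred
      set e₁ := aeval SA g₁ with he₁
      set ε₁ := aeval S (g₁ * g₀) with hε₁
      have hε₁' : ε₁ = B * e₁ * C := by
        rw [hε₁, he₁, haev, map_mul, ← hedef]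
        calc aeval S g₁ * e = (e * e) * aeval S g₁ := by rw [hee, hye]
          _ = e * (aeval S g₁ * e) := by rw [mul_assoc, hye]
          _ = B * (C * aeval S g₁ * B) * C := by
              rw [← hBC]
              simp only [Matrix.mul_assoc]
      have hCεB : C * ε₁ * B = e₁ := by
        rw [hε₁']
        calc C * (B * e₁ * C) * B = (C * B) * e₁ * (C * B) := by simp only [Matrix.mul_assoc]
          _ = e₁ := by rw [hCB, Matrix.one_mul, Matrix.mul_one]
      have hεε : ε₁ * ε₁ = ε₁ := by
        rw [hε₁']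
        calc B * e₁ * C * (B * e₁ * C) = B * (e₁ * (C * B) * e₁) * C := by
              simp only [Matrix.mul_assoc]
          _ = B * e₁ * C := by rw [hCB, Matrix.mul_one, h11]
      have hHi := Hi (g₁ * g₀) hεε
      rw [← hε₁] at hHi
      rcases hHi with h | h | h
      · apply h10
        rw [← hCεB, h, Matrix.mul_zero, Matrix.zero_mul]
      · apply h1one
        rw [← hCεB, h, Matrix.mul_one, hCB]
      · apply h1one
        have h1 : ε₁ * e = ε₁ := by
          rw [hε₁', ← hBC]
          calc B * e₁ * C * (B * C) = B * e₁ * (C * B) * C := by simp only [Matrix.mul_assoc]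
            _ = B * e₁ * C := by rw [hCB, Matrix.mul_one]
        have h2 : e * ε₁ = ε₁ := by
          rw [hε₁', ← Matrix.mul_assoc, ← Matrix.mul_assoc, heB]
        have h3 : ad Ω Ω' (ε₁ * e) = ad Ω Ω' ε₁ := by rw [h1]
        rw [ad_mul hΩ, hade, h] at h3
        have h4 : ε₁ = e := by
          have h5 : (1 - e) * (1 - ε₁) = 1 - e - ε₁ + e * ε₁ := by
            rw [mul_sub, sub_mul, sub_mul, one_mul, mul_one, one_mul]
            abel
          rw [h5, h2] at h3
          have h6 : 1 - e - ε₁ + ε₁ - (1 - ε₁) = 0 := sub_eq_zero.2 h3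
          have h7 : ε₁ - e = 1 - e - ε₁ + ε₁ - (1 - ε₁) := by abel
          exact sub_eq_zero.1 (h7.trans h6)
        rw [← hCεB, h4, ← hBC]
        calc C * (B * C) * B = (C * B) * (C * B) := by simp only [Matrix.mul_assoc]
          _ = 1 := by rw [hCB, Matrix.one_mul]
    -- the field F[SA]
    set fA := minpoly F SA with hfA
    have : Fact (Irreducible fA) := ⟨hirrA⟩
    have hfA0 : fA ≠ 0 := hirrA.ne_zero
    have hfAS : aeval SA fA = 0 := minpoly.aeval F SA
    have hfinKA : Finite (AdjoinRoot fA) := finite_adjoinRoot fA hfA0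
    have : Fintype (AdjoinRoot fA) := Fintype.ofFinite _
    set ρA := AdjoinRoot.root fA with hρA
    have hφρA : phi fA SA hfAS ρA = SA := phi_root fA SA hfAS
    have hρA0 : ρA ≠ 0 := by
      intro h0
      rw [h0, map_zero] at hφρA
      rw [← hφρA, zero_pow hM0] at hSAM
      exact zero_ne_one hSAM
    obtain ⟨hdvd, -⟩ := pow_Dn_eq_det fA SA hfAS
    have hcardA : Fintype.card (AdjoinRoot fA) = q ^ fA.natDegree := by
      rw [← Nat.card_eq_fintype_card, card_adjoinRoot fA hfA0, hq]
    have hρA1 : ρA ^ (q ^ fA.natDegree - 1) = 1 := by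
      rw [← hcardA]
      exact FiniteField.pow_card_sub_one_eq_one ρA hρA0
    have hρA2 : ρA ^ (q ^ d - 1) = 1 := by
      obtain ⟨m, hm⟩ := hdvd
      have h1 : q ^ fA.natDegree - 1 ∣ q ^ d - 1 := by
        have := Nat.sub_dvd_pow_sub_pow (q ^ fA.natDegree) 1 m
        rwa [one_pow, ← pow_mul, ← hm] at this
      obtain ⟨c, hc⟩ := h1
      rw [hc, pow_mul, hρA1, one_pow]
    have hSA1 : SA ^ (q ^ d - 1) = 1 := by
      rw [← hφρA, ← map_pow, hρA2, map_one]
    set k := q ^ d - 1 with hk
    have h1 : S ^ k * e = e := by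
      have hc : S ^ k * e = e * S ^ k := by
        have := aeval_comm S (X ^ k) g₀
        rwa [map_pow, aeval_X] at this
      calc S ^ k * e = (e * e) * S ^ k := by rw [hee, hc]
        _ = e * (S ^ k * e) := by rw [mul_assoc, hc]
        _ = B * (C * S ^ k * B) * C := by
            rw [← hBC]
            simp only [Matrix.mul_assoc]
        _ = e := by rw [← hSApow, hSA1, Matrix.mul_one, hBC]
    have h2 : (1 - e) * S ^ k = 1 - e := by
      have h3 : ad Ω Ω' (S ^ k * e) = ad Ω Ω' e := by rw [h1]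
      rw [ad_mul hΩ, hade, ad_pow hΩ] at h3
      have h4 : ad Ω Ω' S ^ k * S ^ k = 1 := by
        have := ad_pow_mul hΩ hS k
        rwa [ad_pow hΩ] at this
      calc (1 - e) * S ^ k = ((1 - e) * ad Ω Ω' S ^ k) * S ^ k := by rw [h3]
        _ = (1 - e) * (ad Ω Ω' S ^ k * S ^ k) := by rw [mul_assoc]
        _ = 1 - e := by rw [h4, mul_one]
    have hc : S ^ k * e = e * S ^ k := by
      have := aeval_comm S (X ^ k) g₀
      rwa [map_pow, aeval_X] at this
    calc S ^ k = e * S ^ k + (1 - e) * S ^ k := by rw [← add_mul, add_sub_cancel, one_mul]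
      _ = 1 := by rw [← hc, h1, h2, add_sub_cancel]

end Cfsg.Agent.Lib.helper64.SpTorus
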