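import Mathlib
import Cfsg.Agent.Lib.helper64.SpBasic
import Cfsg.Agent.Lib.helper64.SpOrtho
import Cfsg.Agent.Lib.helper64.SpNil
import Cfsg.Agent.Lib.helper64.SpTorus
import Cfsg.Agent.Lib.helper64.SpGlue
import Cfsg.Agent.Lib.helper64.SpExist

set_option autoImplicit false
set_option linter.unusedSectionVars false

/-!
# Elements of odd order of `PSp_{2n}(q)`, `q` odd (helper64)

`analysis`: an isometry `g` of odd order `o` of a symplectic space of dimension `2n` over a
field with `q` elements either gives an element of order divisible by `2 * o` of `PSp n F`, or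
`o` divides `q ^ n + 1` (and then `PSp n F` has an element of order divisible by
`(q ^ n + 1) / 2`), or `o` divides `q ^ n - 1`, or `g` is unipotent and `2 * n - 1` is a power
of the characteristic.
-/

namespace Cfsg.Agent.Lib.helper64.SpMain

open Polynomial Matrix Cfsg Cfsg.Agent.Lib.helper64.SpBasic Cfsg.Agent.Lib.helper64.SpOrtho
  Cfsg.Agent.Lib.helper64.SpNil Cfsg.Agent.Lib.helper64.SpTorus Cfsg.Agent.Lib.helper64.SpGlue
  Cfsg.Agent.Lib.helper64.SpExist Cfsg.Agent.Lib.helper64.UJordan Cfsg.Agent.Lib.helper44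

variable {F : Type*} [Field F]

/-- restriction of an isometry to the image of a self-adjoint idempotent commuting with it -/
theorem block {N w : ℕ} (Ω Ω' : Matrix (Fin N) (Fin N) F) (hΩ : SkewInv Ω Ω')
    (S : Matrix (Fin N) (Fin N) F) (hS : ad Ω Ω' S * S = 1)
    (Pi : Matrix (Fin N) (Fin N) F) (hPP : Pi * Pi = Pi) (hadP : ad Ω Ω' Pi = Pi)
    (hSP : Commute S Pi) (B : Matrix (Fin N) (Fin w) F) (C : Matrix (Fin w) (Fin N) F)
    (hCB : C * B = 1) (hBC : B * C = Pi) :
    SkewInv (Bᵀ * Ω * B) (C * Ω' * Cᵀ) ∧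
      (C * S * B)ᵀ * (Bᵀ * Ω * B) * (C * S * B) = Bᵀ * Ω * B ∧
      ∀ k : ℕ, (C * S * B) ^ k = C * S ^ k * B := by
  have hadP' : Ω' * Piᵀ * Ω = Pi := hadP
  have hPΩ : Piᵀ * Ω = Ω * Pi := by
    calc Piᵀ * Ω = (Ω * Ω') * Piᵀ * Ω := by rw [hΩ.mul_inv, Matrix.one_mul]
      _ = Ω * (Ω' * Piᵀ * Ω) := by simp only [Matrix.mul_assoc]
      _ = Ω * Pi := by rw [hadP']
  have hSΩ : Sᵀ * Ω * S = Ω := (isSp_iff hΩ S).1 hS
  have hPB : Pi * B = B := by rw [← hBC, Matrix.mul_assoc, hCB, Matrix.mul_one]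
  have hCP : C * Pi = C := by rw [← hBC, ← Matrix.mul_assoc, hCB, Matrix.one_mul]
  have hSP' : S * Pi = Pi * S := hSP
  have hPSB : Pi * (S * B) = S * B := by
    rw [← Matrix.mul_assoc, ← hSP', Matrix.mul_assoc, hPB]
  refine ⟨⟨?_, ?_, ?_⟩, ?_, ?_⟩
  · rw [Matrix.transpose_mul, Matrix.transpose_mul, Matrix.transpose_transpose, hΩ.skew]
    simp only [Matrix.mul_assoc, Matrix.neg_mul, Matrix.mul_neg]
  · calc Bᵀ * Ω * B * (C * Ω' * Cᵀ) = Bᵀ * (Ω * (B * C)) * Ω' * Cᵀ := by
          simp only [Matrix.mul_assoc]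
      _ = Bᵀ * Piᵀ * (Ω * Ω') * Cᵀ := by
          rw [hBC, ← hPΩ]
          simp only [Matrix.mul_assoc]
      _ = (C * Pi * B)ᵀ := by
          rw [hΩ.mul_inv, Matrix.mul_one, Matrix.transpose_mul, Matrix.transpose_mul]
          simp only [Matrix.mul_assoc]
      _ = 1 := by rw [hCP, hCB, Matrix.transpose_one]
  · calc C * Ω' * Cᵀ * (Bᵀ * Ω * B) = C * (Ω' * (B * C)ᵀ * Ω) * B := by
          rw [Matrix.transpose_mul]
          simp only [Matrix.mul_assoc]
      _ = C * Pi * B := by rw [hBC, hadP']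
      _ = 1 := by rw [hCP, hCB]
  · calc (C * S * B)ᵀ * (Bᵀ * Ω * B) * (C * S * B)
        = Bᵀ * Sᵀ * ((B * C)ᵀ * Ω) * ((B * C) * (S * B)) := by
          rw [Matrix.transpose_mul, Matrix.transpose_mul, Matrix.transpose_mul]
          simp only [Matrix.mul_assoc]
      _ = Bᵀ * Sᵀ * (Ω * Pi) * (S * B) := by rw [hBC, hPΩ, hPSB]
      _ = Bᵀ * Sᵀ * Ω * (Pi * (S * B)) := by simp only [Matrix.mul_assoc]
      _ = Bᵀ * (Sᵀ * Ω * S) * B := by
          rw [hPSB]
          simp only [Matrix.mul_assoc]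
      _ = Bᵀ * Ω * B := by rw [hSΩ]
  · intro k
    induction k with
    | zero => rw [pow_zero, pow_zero, Matrix.mul_one, hCB]
    | succ k ih =>
      rw [pow_succ, ih, pow_succ]
      calc C * S ^ k * B * (C * S * B) = C * S ^ k * ((B * C) * (S * B)) := by
            simp only [Matrix.mul_assoc]
        _ = C * S ^ k * (S * B) := by rw [hBC, hPSB]
        _ = C * (S ^ k * S) * B := by simp only [Matrix.mul_assoc]

theorem analysis [Fintype F] (p a n : ℕ) (hp : p.Prime) (ha : 1 ≤ a)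
    (hF : Fintype.card F = p ^ a) (hodd : Odd (Fintype.card F)) (hn : 2 ≤ n)
    (Ω Ω' : Matrix (Fin (n + n)) (Fin (n + n)) F) (hΩ : SkewInv Ω Ω')
    (g : Matrix (Fin (n + n)) (Fin (n + n)) F) (hg : ad Ω Ω' g * g = 1)
    (o : ℕ) (ho : Odd o) (hgo : g ^ o = 1) (hgmin : ∀ k : ℕ, g ^ k = 1 → o ∣ k) :
    (∃ x : PSp n F, 2 * o ∣ orderOf x) ∨
    (o ∣ Fintype.card F ^ n + 1 ∧ ∃ x : PSp n F, (Fintype.card F ^ n + 1) / 2 ∣ orderOf x) ∨
    o ∣ Fintype.card F ^ n - 1 ∨
    ((∃ j : ℕ, 2 * n - 1 = p ^ j) ∧ o ∣ p ^ Nat.clog p (n + n)) := by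
  classical
  have hn1 : 1 ≤ n := by omega
  have hN0 : 0 < n + n := by omega
  have : Nonempty (Fin (n + n)) := ⟨⟨0, hN0⟩⟩
  haveI : Fact p.Prime := ⟨hp⟩
  haveI hchar : CharP F p := Cfsg.Agent.Lib.helper64.PSLSpec.charP_of_card hp ha hF
  have hpodd : Odd p := by
    rw [hF] at hodd
    exact Odd.of_dvd_nat hodd (dvd_pow_self p (by omega))
  have hp2 : p ≠ 2 := by
    rintro rfl
    exact absurd hpodd (by decide)
  have h2 : (2 : F) ≠ 0 := by
    intro h
    have h1 : ((2 : ℕ) : F) = 0 := by exact_mod_cast h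
    rw [CharP.cast_eq_zero_iff F p] at h1
    exact hp2 ((Nat.prime_dvd_prime_iff_eq hp Nat.prime_two).1 h1)
  obtain ⟨q, hq⟩ : ∃ q : ℕ, q = Fintype.card F := ⟨_, rfl⟩
  rw [← hq]
  have hqodd : Odd q := by rw [hq]; exact hodd
  have ho0 : o ≠ 0 := by
    rintro rfl
    exact absurd ho (by decide)
  obtain ⟨P, hPdef⟩ : ∃ P : ℕ, P = p ^ o.factorization p := ⟨_, rfl⟩
  obtain ⟨M, hMdef⟩ : ∃ M : ℕ, M = o / p ^ o.factorization p := ⟨_, rfl⟩
  have hPM : P * M = o := by
    rw [hPdef, hMdef]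
    exact Nat.ordProj_mul_ordCompl_eq_self o p
  have hMp : ¬ p ∣ M := by
    rw [hMdef]
    exact Nat.not_dvd_ordCompl hp ho0
  have hcop : Nat.Coprime P M := by
    rw [hPdef, hMdef]
    exact Nat.Coprime.pow_left _ (Nat.coprime_ordCompl hp ho0)
  have hModd : Odd M := Odd.of_dvd_nat ho ⟨P, by rw [← hPM, mul_comm]⟩
  have hP0 : 0 < P := by
    rw [hPdef]
    exact pow_pos hp.pos _
  have hM0 : 0 < M := by
    rcases Nat.eq_zero_or_pos M with h | h
    · rw [h, mul_zero] at hPM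
      exact absurd hPM.symm ho0
    · exact h
  have hM : (M : F) ≠ 0 := by
    rw [Ne, CharP.cast_eq_zero_iff F p]
    exact hMp
  obtain ⟨S, hSdef⟩ : ∃ S : Matrix (Fin (n + n)) (Fin (n + n)) F, S = g ^ P := ⟨_, rfl⟩
  have hSM : S ^ M = 1 := by rw [hSdef, ← pow_mul, hPM, hgo]
  have hS : ad Ω Ω' S * S = 1 := by
    rw [hSdef]
    exact ad_pow_mul hΩ hg P
  have hSmin : ∀ k : ℕ, S ^ k = 1 → M ∣ k := by
    intro k hk
    rw [hSdef, ← pow_mul] at hk
    have := hgmin _ hk
    rw [← hPM] at this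
    exact Nat.dvd_of_mul_dvd_mul_left hP0 this
  -- the unipotent part
  have hUP : (g ^ M) ^ P = 1 := by rw [← pow_mul, mul_comm, hPM, hgo]
  have hpowsub : ∀ j : ℕ, (g ^ M - 1) ^ (p ^ j) = (g ^ M) ^ (p ^ j) - 1 := by
    intro j
    rw [sub_pow_char_pow_of_commute p j (Commute.one_right (g ^ M)), one_pow]
  have hnil : IsNilpotent (g ^ M - 1) := by
    refine ⟨P, ?_⟩
    rw [hPdef, hpowsub, ← hPdef, hUP, sub_self]
  have hUord : ∀ T k : ℕ, (g ^ M - 1) ^ k = 0 → k ≤ p ^ T → P ∣ p ^ T := by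
    intro T k hk hkT
    have h1 : (g ^ M - 1) ^ (p ^ T) = 0 := pow_eq_zero_of_le hkT hk
    rw [hpowsub, sub_eq_zero, ← pow_mul] at h1
    have := hgmin _ h1
    rw [← hPM, mul_comm P M] at this
    exact Nat.dvd_of_mul_dvd_mul_left hM0 this
  by_cases H : ∀ g₁ : F[X], aeval S g₁ * aeval S g₁ = aeval S g₁ →
      ad Ω Ω' (aeval S g₁) = aeval S g₁ → aeval S g₁ = 0 ∨ aeval S g₁ = 1
  swap
  · push Not at H
    obtain ⟨g₁, hee, hade, he0, he1⟩ := H
    left
    have hcomm : Commute g (aeval S g₁) := by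
      rw [hSdef]
      exact Cfsg.Agent.Lib.helper64.PSLAttach.commute_aeval_pow g P g₁
    exact good_of_idem n hn1 h2 Ω Ω' hΩ g hg o ho hgo hgmin _ hee hade he0 he1 hcomm
  have Hi := H_idem Ω Ω' hΩ S hS M hM hSM H
  have hnb : ∀ k : ℕ, n + n < (k + 1) * (minpoly F S).natDegree → (g ^ M - 1) ^ k = 0 := by
    subst hSdef
    intro k hk
    exact nil_bound hN0 Ω Ω' hΩ g hg P M hM hSM Hi hnil k hk
  obtain ⟨δ, hδdef⟩ : ∃ δ : ℕ, δ = (minpoly F S).natDegree := ⟨_, rfl⟩
  rw [← hδdef] at hnb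
  have hδ1 : 1 ≤ δ := by
    rw [hδdef]
    exact minpoly.natDegree_pos (Matrix.isIntegral S)
  have hδN : δ ≤ n + n := by
    rw [hδdef]
    exact natDegree_minpoly_le hN0 S
  by_cases hS1 : S = 1
  · -- the unipotent case
    have hM1 : M = 1 := by
      have h1 : S ^ 1 = 1 := by rw [pow_one, hS1]
      exact Nat.dvd_one.1 (hSmin 1 h1)
    have hoP : o = P := by rw [← hPM, hM1, mul_one]
    have hZ : (g ^ M - 1) ^ (n + n) = 0 := by
      apply hnb
      have := Nat.mul_le_mul_left (n + n + 1) hδ1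
      omega
    by_cases hj : ∃ j : ℕ, 2 * n - 1 = p ^ j
    · right; right; right
      refine ⟨hj, ?_⟩
      rw [hoP]
      exact hUord _ _ hZ (Nat.le_pow_clog hp.one_lt _)
    · left
      have hw : (2 : ℕ) + (n + n - 2) = n + n := by omega
      have hev : Even (n + n - 2) := ⟨n - 1, by omega⟩
      obtain ⟨R, hR1, hR2, hR3⟩ := exists_reg_unip (F := F) (n + n - 2) h2
      obtain ⟨hR4, hR5⟩ := unip_order p (by omega : 2 ≤ n + n - 2) R hR2 (hR3 _ (by omega))
      obtain ⟨T, hT⟩ : ∃ T : ℕ, T = Nat.clog p (n + n - 2) := ⟨_, rfl⟩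
      rw [← hT] at hR4 hR5
      have hTodd : Odd (p ^ T) := hpodd.pow
      have hle : n + n - 2 ≤ p ^ T := by
        rw [hT]
        exact Nat.le_pow_clog hp.one_lt _
      have hle' : n + n ≤ p ^ T := by
        by_contra hlt
        push Not at hlt
        obtain ⟨c, hc⟩ := hTodd
        obtain ⟨d, hd⟩ := hev
        have : 2 * n - 1 = p ^ T := by omega
        exact hj ⟨T, this⟩
      obtain ⟨x, hx⟩ := glue (F := F) n hn1 h2 hw (by omega) (by omega)
        (Hm 2 1) (-Hm 2 1) (skewInv_Hm 2 (by decide))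
        (Hm (n + n - 2) 1) (-Hm (n + n - 2) 1) (skewInv_Hm _ hev)
        1 (by rw [Matrix.transpose_one, Matrix.one_mul, Matrix.mul_one]) 1 (by decide) (pow_one 1)
        (fun k _ => one_dvd k)
        R hR1 (p ^ T) hTodd hR4 hR5
      refine ⟨x, dvd_trans ?_ hx⟩
      apply Nat.mul_dvd_mul_left
      rw [Nat.lcm_one_left, hoP]
      exact hUord T _ hZ hle'
  · -- `S ≠ 1`
    have hSne : ad Ω Ω' S ≠ S := by
      intro h
      rw [h] at hS
      apply hS1
      obtain ⟨c, hc⟩ := hModd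
      have h1 : S ^ M = S := by
        rw [hc, pow_succ, pow_mul, pow_two, hS, one_pow, one_mul]
      rw [← h1, hSM]
    have hδ2 : 2 ≤ δ := by
      by_contra hlt
      have hδ' : (minpoly F S).natDegree = 1 := by omega
      rw [minpoly.natDegree_eq_one_iff] at hδ'
      obtain ⟨c, hc⟩ := hδ'
      apply hSne
      rw [← hc, Algebra.algebraMap_eq_smul_one, ad_smul, ad_one hΩ]
    by_cases hδ : δ = n + n
    · -- the torus case
      have hU1 : g ^ M = 1 := by
        have := hnb 1 (by rw [hδ]; omega)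
        rw [pow_one] at this
        exact sub_eq_zero.1 this
      have hP1 : P = 1 := by
        have := hgmin _ hU1
        rw [← hPM] at this
        have h3 : P * M ∣ 1 * M := by rwa [one_mul]
        exact Nat.dvd_one.1 (Nat.dvd_of_mul_dvd_mul_right hM0 h3)
      have hoM : o = M := by rw [← hPM, hP1, one_mul]
      have hSo : ∀ k : ℕ, S ^ k = 1 → o ∣ k := by
        rw [hoM]
        exact hSmin
      have hδ' : (minpoly F S).natDegree = n + n := by
        rw [← hδdef]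
        exact hδ
      rcases torus_pow p a n hp ha hF (by omega) Ω Ω' hΩ S hS M hM hSM hSne Hi hδ' with
        ⟨h1, t, ht, htmin⟩ | h1
      · right; left
        rw [← hq] at h1 htmin
        refine ⟨hSo _ h1, ?_⟩
        have hqnodd : Odd (q ^ n) := hqodd.pow
        obtain ⟨c, hc⟩ := hqnodd
        have hdiv : (q ^ n + 1) / 2 = c + 1 := by omega
        rw [hdiv]
        apply transfer n hn1 (by rw [Fintype.card_fin]) h2 Ω Ω' hΩ t ((isSp_iff hΩ t).1 ht)
        intro k hk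
        have h3 : t ^ (2 * k) = 1 := by
          rw [mul_comm, pow_mul, pow_two]
          rcases hk with hk | hk
          · rw [hk, mul_one]
          · rw [hk, neg_mul_neg, mul_one]
        have h4 := htmin _ h3
        have h5 : q ^ n + 1 = 2 * (c + 1) := by omega
        rw [h5] at h4
        exact Nat.dvd_of_mul_dvd_mul_left (by norm_num) h4
      · right; right; left
        rw [← hq] at h1
        exact hSo _ h1
    · -- the mixed case
      have hδlt : δ < n + n := lt_of_le_of_ne hδN hδ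
      obtain ⟨Pi, hPP, hadP, hPi0, hSP, hfaith, hrank⟩ :=
        exists_proj_sp Ω Ω' hΩ S hS M hM hSM hSne H
      obtain ⟨w, B, C, hCB, hBC⟩ := Cfsg.Agent.Lib.helper64.UTypeB.exists_factor Pi hPP
      have hw0 : 0 < w := by
        rcases Nat.eq_zero_or_pos w with rfl | h
        · exfalso
          apply hPi0
          rw [← hBC]
          ext i j
          simp [Matrix.mul_apply]
        · exact h
      have hwδ : w ≤ δ := by
        have h1 : (1 : Matrix (Fin w) (Fin w) F).rank = w := by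
          rw [Matrix.rank_one, Fintype.card_fin]
        have h3 : (1 : Matrix (Fin w) (Fin w) F) = C * Pi * B := by
          rw [← hBC, ← Matrix.mul_assoc, hCB, Matrix.one_mul, hCB]
        rw [h3] at h1
        have h4 := Matrix.rank_mul_le_left (C * Pi) B
        have h5 := Matrix.rank_mul_le_right C Pi
        rw [hδdef]
        omega
      obtain ⟨hΓ, hs₁, hs₁pow⟩ := block Ω Ω' hΩ S hS Pi hPP hadP hSP B C hCB hBC
      have hweven : Even w := by
        have := even_card hΓ h2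
        rwa [Fintype.card_fin] at this
      obtain ⟨w', hw'⟩ : ∃ w' : ℕ, w + w' = n + n := ⟨n + n - w, by omega⟩
      have hw'even : Even w' := by
        obtain ⟨c, hc⟩ := hweven
        exact ⟨n - c, by omega⟩
      have hw'2 : 2 ≤ w' := by
        obtain ⟨c, hc⟩ := hw'even
        omega
      have hZ : (g ^ M - 1) ^ w' = 0 := by
        apply hnb
        obtain ⟨d, hd⟩ : ∃ d : ℕ, n + n = δ + d + 1 := ⟨n + n - δ - 1, by omega⟩
        obtain ⟨e, he⟩ : ∃ e : ℕ, δ = e + 2 := ⟨δ - 2, by omega⟩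
        have h3 : d + 1 ≤ w' := by omega
        have h4 : (d + 1 + 1) * δ ≤ (w' + 1) * δ := Nat.mul_le_mul_right _ (by omega)
        have h5 : n + n < (d + 1 + 1) * δ := by
          rw [hd, he]
          nlinarith [Nat.zero_le (d * e)]
        omega
      obtain ⟨T, hT⟩ : ∃ T : ℕ, T = Nat.clog p w' := ⟨_, rfl⟩
      have hPT : P ∣ p ^ T := hUord T w' hZ (by rw [hT]; exact Nat.le_pow_clog hp.one_lt _)
      obtain ⟨R, hR1, hR2, hR3⟩ := exists_reg_unip (F := F) w' h2
      obtain ⟨hR4, hR5⟩ := unip_order p hw'2 R hR2 (hR3 _ (by omega))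
      rw [← hT] at hR4 hR5
      have hs₁M : (C * S * B) ^ M = 1 := by rw [hs₁pow, hSM, Matrix.mul_one, hCB]
      have hs₁min : ∀ k : ℕ, (C * S * B) ^ k = 1 → M ∣ k := by
        intro k hk
        rw [hs₁pow] at hk
        apply hSmin
        have h1 : Pi * S ^ k * Pi = Pi := by
          calc Pi * S ^ k * Pi = B * (C * S ^ k * B) * C := by
                rw [← hBC]
                simp only [Matrix.mul_assoc]
            _ = Pi := by rw [hk, Matrix.mul_one, hBC]
        have hSkP : Commute (S ^ k) Pi := hSP.pow_left k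
        have h3 : S ^ k * Pi = Pi := by
          calc S ^ k * Pi = S ^ k * (Pi * Pi) := by rw [hPP]
            _ = Pi * S ^ k * Pi := by rw [← mul_assoc, hSkP.eq]
            _ = Pi := h1
        have h4 : aeval S (X ^ k - 1 : F[X]) * Pi = 0 := by
          rw [map_sub, map_pow, aeval_X, map_one, sub_mul, one_mul, h3, sub_self]
        have h5 := hfaith _ h4
        rw [map_sub, map_pow, aeval_X, map_one] at h5
        exact sub_eq_zero.1 h5
      left
      obtain ⟨x, hx⟩ := glue (F := F) n hn1 h2 hw' hw0 (by omega)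
        (Bᵀ * Ω * B) (C * Ω' * Cᵀ) hΓ
        (Hm w' 1) (-Hm w' 1) (skewInv_Hm _ hw'even)
        (C * S * B) hs₁ M hModd hs₁M hs₁min
        R hR1 (p ^ T) hpodd.pow hR4 hR5
      refine ⟨x, dvd_trans ?_ hx⟩
      apply Nat.mul_dvd_mul_left
      rw [← hPM]
      exact Nat.Coprime.mul_dvd_of_dvd_of_dvd hcop
        (dvd_trans hPT (Nat.dvd_lcm_right _ _)) (Nat.dvd_lcm_left _ _)

end Cfsg.Agent.Lib.helper64.SpMain
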