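import Mathlib

/-!
# Three primes across a normal chain (Gruenberg--Kegel type lemmas)

Shared library file of seat `helper64`.  Everything lives in `Cfsg.Agent.Lib.helper64`.

Main results:
* `prod_orbit_eq_one`, `pow_eq_one_of_fpf_pair`, `pow_eq_one_of_frobenius` : norm arguments for
  fixed-point-free actions on a commutative group.
* `exists_orderOf_of_pqr_aux` : abelian normal `p`-subgroup `T`, a `q`-subgroup `Q`, an element
  `y` of order `r` normalizing `Q` : there is an element of order `pq`, `pr` or `qr`.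
* `exists_orderOf_of_normal_pgroup`, `exists_orderOf_of_normal_chain`.
* `solvable_three_primes` : a finite solvable group whose order is divisible by all primes of
  a set `ρ` of at least three primes has an element of order `a * b` with `a ≠ b` in `ρ`.
-/

set_option autoImplicit false

namespace Cfsg.Agent.Lib.helper64

universe u

open Finset

open scoped commutatorElement

section Abstract

variable {A : Type*} [CommGroup A] {S : Type*} [Group S] (φ : S →* MulAut A)

/-- The norm of an element under a fixed-point-free automorphism of finite order is trivial. -/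
theorem prod_orbit_eq_one (c : S) (n : ℕ) (hc : c ^ n = 1)
    (hfix : ∀ t : A, φ c t = t → t = 1) (t : A) :
    ∏ j ∈ range n, φ (c ^ j) t = 1 := by
  apply hfix
  rw [map_prod]
  have h1 : ∀ j, φ c (φ (c ^ j) t) = φ (c ^ (j + 1)) t := by
    intro j
    rw [pow_succ', map_mul]; rfl
  simp_rw [h1]
  have h2 := Finset.prod_range_succ (fun j => φ (c ^ j) t) n
  have h3 := Finset.prod_range_succ' (fun j => φ (c ^ j) t) n
  rw [h3] at h2
  simp only [pow_zero, map_one, MulAut.one_apply, hc] at h2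
  exact mul_right_cancel h2

/-- Two commuting elements `a`, `b` of exponent `q` such that all `a ^ j` (`0 < j < q`) and all
`a ^ i * b` act fixed-point-freely: the group acted on has exponent `q`. -/
theorem pow_eq_one_of_fpf_pair (a b : S) (q : ℕ) (hq : 0 < q) (hab : Commute a b)
    (ha : a ^ q = 1) (hb : b ^ q = 1)
    (h1 : ∀ j, 0 < j → j < q → ∀ t : A, φ (a ^ j) t = t → t = 1)
    (h2 : ∀ i, i < q → ∀ t : A, φ (a ^ i * b) t = t → t = 1) (t : A) : t ^ q = 1 := by
  have key : ∏ i ∈ range q, ∏ j ∈ range q, φ ((a ^ i * b) ^ j) t = 1 := by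
    apply Finset.prod_eq_one
    intro i hi
    apply prod_orbit_eq_one φ (a ^ i * b) q _ (h2 i (mem_range.1 hi))
    rw [(hab.pow_left i).mul_pow, ← pow_mul, mul_comm i q, pow_mul, ha, one_pow, hb, one_mul]
  rw [Finset.prod_comm] at key
  rw [Finset.prod_eq_single 0] at key
  · simpa using key
  · intro j hj hj0
    have : ∀ i, φ ((a ^ i * b) ^ j) t = φ ((a ^ j) ^ i) (φ (b ^ j) t) := by
      intro i
      rw [(hab.pow_left i).mul_pow, map_mul, ← pow_mul, ← pow_mul, mul_comm i j]; rfl
    simp_rw [this]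
    apply prod_orbit_eq_one φ (a ^ j) q _ (h1 j (Nat.pos_of_ne_zero hj0) (mem_range.1 hj))
    rw [← pow_mul, mul_comm, pow_mul, ha, one_pow]
  · intro h; exact absurd (mem_range.2 hq) h

/-- Frobenius-type norm argument: `y` of exponent `r`, all conjugates `b ^ j * y * (b ^ j)⁻¹`
fixed-point-free, and `b ^ j * y ^ i * (b ^ j)⁻¹ = d ^ j * y ^ i` for a fixed-point-free `d`
with `d ^ q = 1` (for each `0 < i < r`): the group acted on has exponent `q`. -/
theorem pow_eq_one_of_frobenius (b y : S) (q r : ℕ) (hr : 0 < r) (hy : y ^ r = 1)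
    (h1 : ∀ j, ∀ t : A, φ (b ^ j * y * (b ^ j)⁻¹) t = t → t = 1)
    (h2 : ∀ i, 0 < i → i < r → ∃ d : S, d ^ q = 1 ∧ (∀ t : A, φ d t = t → t = 1) ∧
      ∀ j, b ^ j * y ^ i * (b ^ j)⁻¹ = d ^ j * y ^ i) (t : A) : t ^ q = 1 := by
  have key : ∏ j ∈ range q, ∏ i ∈ range r, φ ((b ^ j * y * (b ^ j)⁻¹) ^ i) t = 1 := by
    apply Finset.prod_eq_one
    intro j _
    apply prod_orbit_eq_one φ _ r _ (h1 j)
    rw [conj_pow, hy, mul_one, mul_inv_cancel]
  rw [Finset.prod_comm] at key
  rw [Finset.prod_eq_single 0] at key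
  · simpa using key
  · intro i hi hi0
    obtain ⟨d, hd, hdf, hdj⟩ := h2 i (Nat.pos_of_ne_zero hi0) (mem_range.1 hi)
    have : ∀ j, φ ((b ^ j * y * (b ^ j)⁻¹) ^ i) t = φ (d ^ j) (φ (y ^ i) t) := by
      intro j
      rw [conj_pow, hdj j, map_mul]; rfl
    simp_rw [this]
    exact prod_orbit_eq_one φ d q hd hdf _
  · intro h; exact absurd (mem_range.2 hr) h

end Abstract

/-- A power `a ^ j` with `0 < j < q` of an element of prime order `q` has order `q`. -/
theorem orderOf_pow_prime_of_lt {G : Type*} [Group G] {a : G} {q j : ℕ} (ha : orderOf a = q)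
    (hq : q.Prime) (hj0 : 0 < j) (hjq : j < q) : orderOf (a ^ j) = q := by
  have := Fact.mk hq
  apply orderOf_eq_prime
  · rw [← pow_mul, mul_comm, pow_mul, ← ha, pow_orderOf_eq_one, one_pow]
  · intro h'
    have := orderOf_dvd_of_pow_eq_one h'
    rw [ha] at this
    exact absurd (Nat.le_of_dvd hj0 this) (not_le.2 hjq)

/-- An element of prime order `s` commuting with a nontrivial `p`-element gives an element of
order `p * s`. -/
theorem exists_orderOf_mul_of_commute {G : Type*} [Group G] {p s : ℕ} (hp : p.Prime)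
    (hs : s.Prime) (hps : p ≠ s) (c t : G) (hc : orderOf c = s) (ht : ∃ k, orderOf t = p ^ k)
    (ht1 : t ≠ 1) (hct : Commute c t) : ∃ x : G, orderOf x = p * s := by
  obtain ⟨k, hk⟩ := ht
  have hk0 : k ≠ 0 := by
    rintro rfl
    rw [pow_zero, orderOf_eq_one_iff] at hk
    exact ht1 hk
  obtain ⟨k', rfl⟩ := Nat.exists_eq_succ_of_ne_zero hk0
  have h1 : orderOf (t ^ p ^ k') = p := by
    rw [orderOf_pow_of_dvd (pow_ne_zero _ hp.ne_zero)
      (by rw [hk]; exact pow_dvd_pow p (Nat.le_succ k')), hk, pow_succ,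
      Nat.mul_div_cancel_left _ (pow_pos hp.pos k')]
  refine ⟨t ^ p ^ k' * c, ?_⟩
  rw [(hct.symm.pow_left _).orderOf_mul_eq_mul_orderOf_of_coprime, h1, hc]
  rw [h1, hc]; exact (Nat.coprime_primes hp hs).2 hps

/-- **Core lemma.** `T` a nontrivial abelian normal `p`-subgroup, `Q` a nontrivial `q`-subgroup,
`y` an element of order `r` normalizing `Q` : there is an element of order `pq`, `pr` or `qr`. -/
theorem exists_orderOf_of_pqr_aux {G : Type*} [Group G] [Finite G] {p q r : ℕ} (hp : p.Prime)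
    (hq : q.Prime) (hr : r.Prime) (hpq : p ≠ q) (hpr : p ≠ r) (hqr : q ≠ r)
    (T : Subgroup G) [T.Normal] (hTc : ∀ a ∈ T, ∀ b ∈ T, a * b = b * a) (hTp : IsPGroup p T)
    (hT : T ≠ ⊥) (Q : Subgroup G) (hQq : IsPGroup q Q) (hQ : Q ≠ ⊥) (y : G)
    (hy : orderOf y = r) (hyQ : y ∈ Subgroup.normalizer (Q : Set G)) :
    (∃ x : G, orderOf x = p * q) ∨ (∃ x : G, orderOf x = p * r) ∨
      (∃ x : G, orderOf x = q * r) := by
  by_contra hcon
  push Not at hcon
  obtain ⟨hno1, hno2, hno3⟩ := hcon
  have hpF : Fact p.Prime := ⟨hp⟩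
  have hqF : Fact q.Prime := ⟨hq⟩
  let _ : CommGroup ↥T :=
    { (inferInstance : Group ↥T) with
      mul_comm := fun a b => Subtype.ext (hTc a a.2 b b.2) }
  let φ : G →* MulAut ↥T := MulAut.conjNormal
  have hfpf : ∀ c : G, (orderOf c = q ∨ orderOf c = r) → ∀ t : ↥T, φ c t = t → t = 1 := by
    intro c hc t ht
    by_contra ht1
    have hct : Commute c (t : G) := by
      have h := congrArg Subtype.val ht
      have h' : c * (t : G) * c⁻¹ = t := h
      exact mul_inv_eq_iff_eq_mul.1 h'
    have htk : ∃ k, orderOf (t : G) = p ^ k := by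
      obtain ⟨k, hk⟩ := (IsPGroup.iff_orderOf.1 hTp) t
      exact ⟨k, by rw [Subgroup.orderOf_coe]; exact hk⟩
    have ht1' : (t : G) ≠ 1 := fun h => ht1 (Subtype.ext h)
    rcases hc with hc | hc
    · obtain ⟨x, hx⟩ := exists_orderOf_mul_of_commute hp hq hpq c t hc htk ht1' hct
      exact hno1 x hx
    · obtain ⟨x, hx⟩ := exists_orderOf_mul_of_commute hp hr hpr c t hc htk ht1' hct
      exact hno2 x hx
  have hTq : ¬ ∀ t : ↥T, t ^ q = 1 := by
    intro h
    obtain ⟨t, ht⟩ := (Subgroup.ne_bot_iff_exists_ne_one).1 hT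
    obtain ⟨k, hk⟩ := (IsPGroup.iff_orderOf.1 hTp) t
    have hd : orderOf t ∣ q := orderOf_dvd_of_pow_eq_one (h t)
    rw [hk] at hd
    rcases (Nat.dvd_prime hq).1 hd with h1 | h1
    · rw [h1, orderOf_eq_one_iff] at hk
      exact ht hk
    · have hk0 : k ≠ 0 := by
        rintro rfl
        rw [pow_zero] at h1
        exact hq.one_lt.ne h1
      have hpq' : p ∣ q := by rw [← h1]; exact dvd_pow_self p hk0
      exact hpq ((Nat.prime_dvd_prime_iff_eq hp hq).1 hpq')
  -- an element of order `q` in the centre of `Q`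
  have hQnt : Nontrivial ↥Q := (Subgroup.nontrivial_iff_ne_bot Q).2 hQ
  have hZnt : Nontrivial (Subgroup.center ↥Q) := hQq.center_nontrivial
  have hZq : IsPGroup q (Subgroup.center ↥Q) := hQq.to_subgroup _
  obtain ⟨b₀, hb₀⟩ : ∃ b₀ : Subgroup.center ↥Q, orderOf b₀ = q := by
    obtain ⟨k, hk⟩ := IsPGroup.iff_card.1 hZq
    have hk0 : k ≠ 0 := by
      rintro rfl
      rw [pow_zero] at hk
      exact (Finite.one_lt_card_iff_nontrivial.2 hZnt).ne' hk
    exact exists_prime_orderOf_dvd_card' q (by rw [hk]; exact dvd_pow_self q hk0)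
  obtain ⟨b, hbdef⟩ : ∃ b : G, b = ((b₀ : ↥Q) : G) := ⟨_, rfl⟩
  have hbQ : b ∈ Q := by rw [hbdef]; exact (b₀ : ↥Q).2
  have hbord : orderOf b = q := by
    rw [hbdef, Subgroup.orderOf_coe, Subgroup.orderOf_coe]; exact hb₀
  have hbq : b ^ q = 1 := by rw [← hbord]; exact pow_orderOf_eq_one b
  have hbc : ∀ h ∈ Q, h * b = b * h := by
    intro h hh
    have h1 := (Subgroup.mem_center_iff.1 b₀.2) ⟨h, hh⟩
    have h2 := congrArg Subtype.val h1
    rw [hbdef]; exact h2
  -- central elements of order dividing `q` of `Q` are powers of `b`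
  have hB : ∀ a ∈ Q, (∀ h ∈ Q, h * a = a * h) → a ^ q = 1 → a ∈ Subgroup.zpowers b := by
    intro a haQ hac haq
    by_contra hab
    have ha1 : a ≠ 1 := fun h => hab (h ▸ Subgroup.one_mem _)
    have haord : orderOf a = q := orderOf_eq_prime haq ha1
    have hcomm : Commute a b := (hac b hbQ).symm
    apply hTq
    apply pow_eq_one_of_fpf_pair φ a b q hq.pos hcomm haq hbq
    · intro j hj0 hjq
      apply hfpf; left
      exact orderOf_pow_prime_of_lt haord hq hj0 hjq
    · intro i hiq
      apply hfpf; left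
      apply orderOf_eq_prime
      · rw [(hcomm.pow_left i).mul_pow, ← pow_mul, mul_comm i q, pow_mul, haq, one_pow, hbq,
          one_mul]
      · intro h1
        apply hab
        have hb' : b = (a ^ i)⁻¹ := eq_inv_of_mul_eq_one_right h1
        have hle : Subgroup.zpowers b ≤ Subgroup.zpowers a := by
          rw [Subgroup.zpowers_le, hb']
          exact Subgroup.inv_mem _ (Subgroup.pow_mem _ (Subgroup.mem_zpowers a) i)
        have heq : Subgroup.zpowers b = Subgroup.zpowers a :=
          Subgroup.eq_of_le_of_card_ge hle (by rw [Nat.card_zpowers, Nat.card_zpowers, haord, hbord])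
        rw [heq]; exact Subgroup.mem_zpowers a
  have hyi : ∀ i : ℕ, y ^ i * b * (y ^ i)⁻¹ ∈ Subgroup.zpowers b := by
    intro i
    have hyiN : y ^ i ∈ Subgroup.normalizer (Q : Set G) := pow_mem hyQ i
    apply hB
    · exact (Subgroup.mem_normalizer_iff.1 hyiN b).1 hbQ
    · intro h hh
      have h' : (y ^ i)⁻¹ * h * y ^ i ∈ Q := (Subgroup.mem_normalizer_iff''.1 hyiN h).1 hh
      have h2 := hbc _ h'
      calc h * (y ^ i * b * (y ^ i)⁻¹)
          = y ^ i * ((y ^ i)⁻¹ * h * y ^ i * b) * (y ^ i)⁻¹ := by group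
        _ = y ^ i * (b * ((y ^ i)⁻¹ * h * y ^ i)) * (y ^ i)⁻¹ := by rw [h2]
        _ = y ^ i * b * (y ^ i)⁻¹ * h := by group
    · rw [conj_pow, hbq, mul_one, mul_inv_cancel]
  apply hTq
  apply pow_eq_one_of_frobenius φ b y q r hr.pos (by rw [← hy]; exact pow_orderOf_eq_one y)
  · intro j
    apply hfpf; right
    rw [← hy]
    exact (MulAut.conj (b ^ j)).orderOf_eq y
  · intro i hi0 hir
    obtain ⟨e, hedef⟩ : ∃ e : G, e = y ^ i * b * (y ^ i)⁻¹ := ⟨_, rfl⟩
    have heb : Commute b e := by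
      obtain ⟨m, hm⟩ := Subgroup.mem_zpowers_iff.1 (hyi i)
      rw [hedef, ← hm]
      exact (Commute.refl b).zpow_right m
    have heq : e ^ q = 1 := by rw [hedef, conj_pow, hbq, mul_one, mul_inv_cancel]
    have hdq : (b * e⁻¹) ^ q = 1 := by
      rw [heb.inv_right.mul_pow, inv_pow, heq, hbq, inv_one, mul_one]
    refine ⟨b * e⁻¹, hdq, ?_, ?_⟩
    · apply hfpf; left
      apply orderOf_eq_prime hdq
      intro h
      have hbe : b = e := mul_inv_eq_one.1 h
      have hcomm : Commute b (y ^ i) := by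
        have : b * y ^ i = y ^ i * b := by
          calc b * y ^ i = e * y ^ i := by rw [← hbe]
            _ = y ^ i * b := by rw [hedef]; group
        exact this
      have hyiord : orderOf (y ^ i) = r := orderOf_pow_prime_of_lt hy hr hi0 hir
      apply hno3 (b * y ^ i)
      rw [hcomm.orderOf_mul_eq_mul_orderOf_of_coprime, hbord, hyiord]
      rw [hbord, hyiord]; exact (Nat.coprime_primes hq hr).2 hqr
    · intro j
      rw [heb.inv_right.mul_pow, inv_pow, hedef, conj_pow]; group

/-- `K` a nontrivial normal `p`-subgroup, `M` a normal subgroup with `q ∣ |M|` and `r ∣ |G : M|` :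
there is an element of order `pq`, `pr` or `qr`. -/
theorem exists_orderOf_of_normal_pgroup {G : Type*} [Group G] [Finite G] {p q r : ℕ}
    (hp : p.Prime) (hq : q.Prime) (hr : r.Prime) (hpq : p ≠ q) (hpr : p ≠ r) (hqr : q ≠ r)
    (K : Subgroup G) [K.Normal] (hKp : IsPGroup p K) (hK : K ≠ ⊥)
    (M : Subgroup G) [M.Normal] (hqM : q ∣ Nat.card M) (hrM : r ∣ M.index) :
    (∃ x : G, orderOf x = p * q) ∨ (∃ x : G, orderOf x = p * r) ∨
      (∃ x : G, orderOf x = q * r) := by
  have hpF : Fact p.Prime := ⟨hp⟩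
  have hqF : Fact q.Prime := ⟨hq⟩
  have hrF : Fact r.Prime := ⟨hr⟩
  obtain ⟨T, hTdef⟩ : ∃ T : Subgroup G, T = K ⊓ Subgroup.centralizer (K : Set G) := ⟨_, rfl⟩
  have hTn : T.Normal := by rw [hTdef]; infer_instance
  have hTc : ∀ a ∈ T, ∀ b ∈ T, a * b = b * a := by
    intro a ha b hb
    rw [hTdef] at ha hb
    exact (Subgroup.mem_centralizer_iff.1 hb.2 a ha.1)
  have hTp : IsPGroup p T := hKp.to_le (by rw [hTdef]; exact inf_le_left)
  have hT : T ≠ ⊥ := by
    have hKnt : Nontrivial ↥K := (Subgroup.nontrivial_iff_ne_bot K).2 hK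
    have hZ : Nontrivial (Subgroup.center ↥K) := hKp.center_nontrivial
    obtain ⟨z, hz⟩ := exists_ne (1 : Subgroup.center ↥K)
    intro hbot
    apply hz
    have hzT : ((z : ↥K) : G) ∈ T := by
      rw [hTdef]
      refine Subgroup.mem_inf.2 ⟨(z : ↥K).2, ?_⟩
      rw [Subgroup.mem_centralizer_iff]
      intro h hh
      have h1 := Subgroup.mem_center_iff.1 z.2 ⟨h, hh⟩
      exact congrArg Subtype.val h1
    rw [hbot, Subgroup.mem_bot] at hzT
    exact Subtype.ext (Subtype.ext hzT)
  obtain ⟨Q₀⟩ : Nonempty (Sylow q ↥M) := inferInstance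
  obtain ⟨Q, hQdef⟩ : ∃ Q : Subgroup G, Q = (Q₀ : Subgroup ↥M).map M.subtype := ⟨_, rfl⟩
  have hQq : IsPGroup q Q := by rw [hQdef]; exact Q₀.isPGroup'.map M.subtype
  have hQ : Q ≠ ⊥ := by
    have h1 := Q₀.ne_bot_of_dvd_card hqM
    rw [hQdef, Ne, Subgroup.map_eq_bot_iff_of_injective _ M.subtype_injective]
    exact h1
  have hfr : Subgroup.normalizer (Q : Set G) ⊔ M = ⊤ := by
    rw [hQdef]; exact Sylow.normalizer_sup_eq_top Q₀
  have hrN : r ∣ Nat.card ↥(Subgroup.normalizer (Q : Set G)) := by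
    have h1 : M.relIndex (Subgroup.normalizer (Q : Set G) ⊔ M)
        = M.relIndex (Subgroup.normalizer (Q : Set G)) := Subgroup.relIndex_sup_right _ _
    rw [hfr, Subgroup.relIndex_top_right] at h1
    rw [h1] at hrM
    exact hrM.trans (Subgroup.relIndex_dvd_card _ _)
  obtain ⟨y₀, hy₀⟩ := exists_prime_orderOf_dvd_card' r hrN
  exact exists_orderOf_of_pqr_aux hp hq hr hpq hpr hqr T hTc hTp hT Q hQq hQ (y₀ : G)
    (by rw [Subgroup.orderOf_coe]; exact hy₀) y₀.2

/-- Normal subgroups `K ≤ M` with `p ∣ |K|`, `q ∣ |M : K|`, `r ∣ |G : M|` :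
there is an element of order `pq`, `pr` or `qr`. -/
theorem exists_orderOf_of_normal_chain {G : Type*} [Group G] [Finite G] (K M : Subgroup G)
    [K.Normal] [M.Normal] (hKM : K ≤ M) {p q r : ℕ}
    (hp : p.Prime) (hq : q.Prime) (hr : r.Prime) (hpq : p ≠ q) (hpr : p ≠ r) (hqr : q ≠ r)
    (hpK : p ∣ Nat.card ↥K) (hqM : q ∣ K.relIndex M) (hrG : r ∣ M.index) :
    (∃ x : G, orderOf x = p * q) ∨ (∃ x : G, orderOf x = p * r) ∨
      (∃ x : G, orderOf x = q * r) := by
  have hpF : Fact p.Prime := ⟨hp⟩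
  obtain ⟨P⟩ : Nonempty (Sylow p ↥K) := inferInstance
  obtain ⟨P₀, hP₀def⟩ : ∃ P₀ : Subgroup G, P₀ = (P : Subgroup ↥K).map K.subtype := ⟨_, rfl⟩
  have hP₀p : IsPGroup p P₀ := by rw [hP₀def]; exact P.isPGroup'.map K.subtype
  have hP₀ : P₀ ≠ ⊥ := by
    have h1 := P.ne_bot_of_dvd_card hpK
    rw [hP₀def, Ne, Subgroup.map_eq_bot_iff_of_injective _ K.subtype_injective]
    exact h1
  have hfr : Subgroup.normalizer (P₀ : Set G) ⊔ K = ⊤ := by
    rw [hP₀def]; exact Sylow.normalizer_sup_eq_top P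
  obtain ⟨N₁, hN₁def⟩ : ∃ N₁ : Subgroup G, N₁ = Subgroup.normalizer (P₀ : Set G) := ⟨_, rfl⟩
  rw [← hN₁def] at hfr
  have hPN : P₀ ≤ N₁ := by rw [hN₁def]; exact Subgroup.le_normalizer
  have hK'n : (P₀.subgroupOf N₁).Normal := by rw [hN₁def]; infer_instance
  have hK'p : IsPGroup p (P₀.subgroupOf N₁) := hP₀p.comap_subtype
  have hK' : P₀.subgroupOf N₁ ≠ ⊥ := by
    intro h
    rw [Subgroup.subgroupOf_eq_bot] at h
    exact hP₀ (disjoint_self.1 (h.mono_right hPN))
  have hM'n : (M.subgroupOf N₁).Normal := inferInstance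
  -- `M = (M ⊓ N₁) ⊔ K`
  have hMeq : M = (M ⊓ N₁) ⊔ K := by
    apply le_antisymm
    · intro m hm
      have hmt : m ∈ N₁ ⊔ K := by rw [hfr]; exact Subgroup.mem_top m
      obtain ⟨n, hn, k, hk, hnk⟩ := Subgroup.mem_sup_of_normal_right.1 hmt
      rw [Subgroup.mem_sup_of_normal_right]
      refine ⟨n, ⟨?_, hn⟩, k, hk, hnk⟩
      have : n = m * k⁻¹ := by rw [← hnk]; group
      rw [this]
      exact M.mul_mem hm (M.inv_mem (hKM hk))
    · exact sup_le inf_le_left hKM
  have hqM' : q ∣ Nat.card ↥(M.subgroupOf N₁) := by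
    have h1 : K.relIndex ((M ⊓ N₁) ⊔ K) = K.relIndex (M ⊓ N₁) := Subgroup.relIndex_sup_right _ _
    rw [← hMeq] at h1
    rw [h1] at hqM
    have h2 : Nat.card ↥(M.subgroupOf N₁) = Nat.card ↥(M ⊓ N₁) := by
      rw [← Subgroup.inf_subgroupOf_right M N₁]
      exact Nat.card_congr (Subgroup.subgroupOfEquivOfLe (inf_le_right : M ⊓ N₁ ≤ N₁)).toEquiv
    rw [h2]
    exact hqM.trans (Subgroup.relIndex_dvd_card _ _)
  have hrM' : r ∣ (M.subgroupOf N₁).index := by
    have h1 : M.relIndex (N₁ ⊔ M) = M.relIndex N₁ := Subgroup.relIndex_sup_right _ _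
    have h2 : N₁ ⊔ M = ⊤ := by
      apply top_le_iff.1
      rw [← hfr]
      exact sup_le_sup_left hKM N₁
    rw [h2, Subgroup.relIndex_top_right] at h1
    rw [h1] at hrG
    exact hrG
  rcases exists_orderOf_of_normal_pgroup hp hq hr hpq hpr hqr (P₀.subgroupOf N₁) hK'p hK'
    (M.subgroupOf N₁) hqM' hrM' with ⟨x, hx⟩ | ⟨x, hx⟩ | ⟨x, hx⟩
  · left; exact ⟨(x : G), by rw [Subgroup.orderOf_coe]; exact hx⟩
  · right; left; exact ⟨(x : G), by rw [Subgroup.orderOf_coe]; exact hx⟩
  · right; right; exact ⟨(x : G), by rw [Subgroup.orderOf_coe]; exact hx⟩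

/-- A nontrivial finite solvable group has a nontrivial normal `t`-subgroup for some prime `t`
(the elements of order dividing `t` in the last nontrivial term of the derived series). -/
theorem solvable_exists_normal_pgroup {G : Type u} [Group G] [Finite G] (hG : Group.IsSolvable G)
    (hnt : Nontrivial G) :
    ∃ (t : ℕ) (N : Subgroup G), t.Prime ∧ N.Normal ∧ N ≠ ⊥ ∧ IsPGroup t N := by
  classical
  have hex : ∃ n, derivedSeries G n = ⊥ := hG.solvable
  have hk0 : derivedSeries G (Nat.find hex) = ⊥ := Nat.find_spec hex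
  have hk0pos : Nat.find hex ≠ 0 := by
    intro h0
    rw [h0, derivedSeries_zero] at hk0
    exact top_ne_bot hk0
  obtain ⟨j, hj⟩ := Nat.exists_eq_succ_of_ne_zero hk0pos
  have hAbot : derivedSeries G j ≠ ⊥ := Nat.find_min hex (by omega : j < Nat.find hex)
  have hAcomm : ⁅derivedSeries G j, derivedSeries G j⁆ = ⊥ := by
    rw [← derivedSeries_succ, ← Nat.succ_eq_add_one, ← hj]; exact hk0
  have hAn : (derivedSeries G j).Normal := derivedSeries_normal G j
  have hcomm : ∀ x ∈ derivedSeries G j, ∀ y ∈ derivedSeries G j, x * y = y * x := by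
    intro x hx y hy
    have : ⁅x, y⁆ ∈ ⁅derivedSeries G j, derivedSeries G j⁆ :=
      Subgroup.commutator_mem_commutator hx hy
    rw [hAcomm, Subgroup.mem_bot] at this
    exact commutatorElement_eq_one_iff_mul_comm.mp this
  have hcA : Nat.card (derivedSeries G j) ≠ 1 := by
    rw [Ne, Subgroup.card_eq_one]; exact hAbot
  obtain ⟨p, hp, hpA⟩ := Nat.exists_prime_and_dvd hcA
  have := Fact.mk hp
  obtain ⟨x, hx⟩ := exists_prime_orderOf_dvd_card' p hpA
  let N : Subgroup G :=
    { carrier := {y | y ∈ derivedSeries G j ∧ y ^ p = 1}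
      mul_mem' := by
        rintro a b ⟨ha, ha'⟩ ⟨hb, hb'⟩
        refine ⟨Subgroup.mul_mem _ ha hb, ?_⟩
        have hc : Commute a b := hcomm a ha b hb
        rw [hc.mul_pow, ha', hb', one_mul]
      one_mem' := ⟨Subgroup.one_mem _, one_pow _⟩
      inv_mem' := by
        rintro a ⟨ha, ha'⟩
        exact ⟨Subgroup.inv_mem _ ha, by rw [inv_pow, ha', inv_one]⟩ }
  refine ⟨p, N, hp, ?_, ?_, ?_⟩
  · constructor
    rintro n ⟨hn, hn'⟩ g
    refine ⟨hAn.conj_mem n hn g, ?_⟩
    rw [conj_pow, hn', mul_one, mul_inv_cancel]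
  · intro hbot
    have hxN : (x : G) ∈ N := by
      refine ⟨x.2, ?_⟩
      have : x ^ p = 1 := by rw [← hx]; exact pow_orderOf_eq_one x
      have := congrArg Subtype.val this
      simpa using this
    rw [hbot, Subgroup.mem_bot] at hxN
    have hx1 : x = 1 := Subtype.ext hxN
    rw [hx1, orderOf_one] at hx
    exact hp.one_lt.ne hx
  · intro g
    refine ⟨1, ?_⟩
    apply Subtype.ext
    rw [pow_one]
    have h2 : (g : G) ^ p = 1 := g.2.2
    simpa using h2

/-- Orders of elements lift along surjective homomorphisms from finite groups. -/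
theorem exists_orderOf_eq_of_surjective {G H : Type*} [Group G] [Group H] [Finite G]
    (f : G →* H) (hf : Function.Surjective f) (y : H) : ∃ x : G, orderOf x = orderOf y := by
  obtain ⟨x, rfl⟩ := hf y
  obtain ⟨m, hm⟩ := orderOf_map_dvd f x
  have hx0 : 0 < orderOf x := orderOf_pos x
  have hm0 : m ≠ 0 := by rintro rfl; rw [mul_zero] at hm; omega
  refine ⟨x ^ m, ?_⟩
  rw [orderOf_pow_of_dvd hm0 (Dvd.intro_left _ hm.symm), hm]
  exact Nat.mul_div_cancel _ (Nat.pos_of_ne_zero hm0)

/-- Induction form of `solvable_three_primes`. -/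
theorem solvable_three_primes_aux (n : ℕ) : ∀ (G : Type u) [Group G] [Finite G],
    Nat.card G = n → Group.IsSolvable G →
    ∀ ρ : Finset ℕ, (∀ a ∈ ρ, a.Prime ∧ a ∣ n) → 3 ≤ ρ.card →
    ∃ a ∈ ρ, ∃ b ∈ ρ, a ≠ b ∧ ∃ x : G, orderOf x = a * b := by
  induction n using Nat.strong_induction_on with
  | _ n ih =>
    intro G _ _ hcard hsolv ρ hρ hρ3
    have hn0 : 0 < n := by rw [← hcard]; exact Nat.card_pos
    obtain ⟨a₀, ha₀⟩ : ρ.Nonempty := Finset.card_pos.1 (by omega)
    have hnt : Nontrivial G := by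
      rw [← Finite.one_lt_card_iff_nontrivial, hcard]
      exact lt_of_lt_of_le (hρ a₀ ha₀).1.one_lt (Nat.le_of_dvd hn0 (hρ a₀ ha₀).2)
    obtain ⟨t, N, ht, hNn, hNbot, hNp⟩ := solvable_exists_normal_pgroup hsolv hnt
    have htF := Fact.mk ht
    obtain ⟨k, hk⟩ := IsPGroup.iff_card.1 hNp
    have hcardQ : Nat.card G = Nat.card (G ⧸ N) * Nat.card N :=
      Subgroup.card_eq_card_quotient_mul_card_subgroup N
    have hNcard1 : 1 < Nat.card N :=
      Finite.one_lt_card_iff_nontrivial.2 ((Subgroup.nontrivial_iff_ne_bot N).2 hNbot)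
    have hk0 : k ≠ 0 := by
      rintro rfl
      rw [pow_zero] at hk
      omega
    have hQlt : Nat.card (G ⧸ N) < n := by
      rw [← hcard, hcardQ]
      have : 0 < Nat.card (G ⧸ N) := Nat.card_pos
      nlinarith
    have hdvdQ : ∀ a ∈ ρ, a ≠ t → a ∣ Nat.card (G ⧸ N) := by
      intro a ha hat
      have h1 := (hρ a ha).2
      rw [← hcard, hcardQ, hk] at h1
      rcases ((hρ a ha).1.dvd_mul).1 h1 with h | h
      · exact h
      · exact absurd ((Nat.prime_dvd_prime_iff_eq (hρ a ha).1 ht).1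
          ((hρ a ha).1.dvd_of_dvd_pow h)) hat
    have hQsolv : Group.IsSolvable (G ⧸ N) := inferInstance
    have hmk : Function.Surjective (QuotientGroup.mk' N) := QuotientGroup.mk'_surjective N
    by_cases htρ : t ∈ ρ
    · have h2 : 1 < (ρ.erase t).card := by rw [Finset.card_erase_of_mem htρ]; omega
      obtain ⟨q, hq, r, hr, hqr⟩ := Finset.one_lt_card.1 h2
      rw [Finset.mem_erase] at hq hr
      obtain ⟨hqt, hqρ⟩ := hq
      obtain ⟨hrt, hrρ⟩ := hr
      have hqP := (hρ q hqρ).1
      have hrP := (hρ r hrρ).1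
      have hqQ := hdvdQ q hqρ hqt
      have hrQ := hdvdQ r hrρ hrt
      have hQnt : Nontrivial (G ⧸ N) := by
        rw [← Finite.one_lt_card_iff_nontrivial]
        exact lt_of_lt_of_le hqP.one_lt (Nat.le_of_dvd Nat.card_pos hqQ)
      have hDlt : commutator (G ⧸ N) < ⊤ := Group.IsSolvable.commutator_lt_top_of_nontrivial (G ⧸ N)
      obtain ⟨M, hMdef⟩ : ∃ M : Subgroup G,
          M = (commutator (G ⧸ N)).comap (QuotientGroup.mk' N) := ⟨_, rfl⟩
      have hMn : M.Normal := by rw [hMdef]; infer_instance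
      have hMidx : M.index = (commutator (G ⧸ N)).index := by
        rw [hMdef]; exact Subgroup.index_comap_of_surjective _ hmk
      have hDM : Nat.card (commutator (G ⧸ N)) ∣ Nat.card M := by
        have h3 : commutator (G ⧸ N) = M.map (QuotientGroup.mk' N) := by
          rw [hMdef, Subgroup.map_comap_eq_self_of_surjective hmk]
        rw [h3]; exact Subgroup.card_map_dvd _ _
      have hNM : N ≤ M := by
        rw [hMdef]; intro x hx
        rw [Subgroup.mem_comap]
        have h3 : QuotientGroup.mk' N x = 1 := (QuotientGroup.eq_one_iff x).2 hx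
        rw [h3]; exact Subgroup.one_mem _
      have htN : t ∣ Nat.card N := by rw [hk]; exact dvd_pow_self t hk0
      have hDidx : Nat.card (commutator (G ⧸ N)) * (commutator (G ⧸ N)).index
          = Nat.card (G ⧸ N) := Subgroup.card_mul_index _
      by_cases hqD : q ∣ Nat.card (commutator (G ⧸ N))
      · by_cases hrD : r ∣ Nat.card (commutator (G ⧸ N))
        · -- induction hypothesis on `M`
          have hMlt : Nat.card M < n := by
            have h3 : Nat.card M * M.index = Nat.card G := Subgroup.card_mul_index M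
            have h4 : M.index ≠ 1 := by
              rw [hMidx, Ne, Subgroup.index_eq_one]; exact hDlt.ne
            have h5 : M.index ≠ 0 := Subgroup.index_ne_zero_of_finite
            have h6 : 0 < Nat.card M := Nat.card_pos
            rw [← hcard, ← h3]
            have h7 : 2 ≤ M.index := by omega
            nlinarith
          have hsub : ∀ a ∈ ({t, q, r} : Finset ℕ), a ∈ ρ := by
            intro a ha
            simp only [Finset.mem_insert, Finset.mem_singleton] at ha
            rcases ha with rfl | rfl | rfl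
            · exact htρ
            · exact hqρ
            · exact hrρ
          obtain ⟨a, ha, b, hb, hab, x, hx⟩ := ih (Nat.card M) hMlt M rfl inferInstance
            ({t, q, r} : Finset ℕ) (by
              intro a ha
              refine ⟨(hρ a (hsub a ha)).1, ?_⟩
              simp only [Finset.mem_insert, Finset.mem_singleton] at ha
              rcases ha with rfl | rfl | rfl
              · exact htN.trans (Subgroup.card_dvd_of_le hNM)
              · exact hqD.trans hDM
              · exact hrD.trans hDM) (by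
              have h3 : ({t, q, r} : Finset ℕ).card = 3 := by
                rw [Finset.card_eq_three]
                exact ⟨t, q, r, Ne.symm hqt, Ne.symm hrt, hqr, rfl⟩
              omega)
          exact ⟨a, hsub a ha, b, hsub b hb, hab, (x : G), by rw [Subgroup.orderOf_coe]; exact hx⟩
        · have hrI : r ∣ M.index := by
            rw [hMidx]
            rw [← hDidx] at hrQ
            exact (hrP.dvd_mul.1 hrQ).resolve_left hrD
          rcases exists_orderOf_of_normal_pgroup ht hqP hrP (Ne.symm hqt) (Ne.symm hrt) hqr N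
            hNp hNbot M (hqD.trans hDM) hrI with h | h | h
          · exact ⟨t, htρ, q, hqρ, Ne.symm hqt, h⟩
          · exact ⟨t, htρ, r, hrρ, Ne.symm hrt, h⟩
          · exact ⟨q, hqρ, r, hrρ, hqr, h⟩
      · have hqI : q ∣ (commutator (G ⧸ N)).index := by
          rw [← hDidx] at hqQ
          exact (hqP.dvd_mul.1 hqQ).resolve_left hqD
        by_cases hrD : r ∣ Nat.card (commutator (G ⧸ N))
        · rcases exists_orderOf_of_normal_pgroup ht hrP hqP (Ne.symm hrt) (Ne.symm hqt)
            (Ne.symm hqr) N hNp hNbot M (hrD.trans hDM) (by rw [hMidx]; exact hqI) with h | h | h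
          · exact ⟨t, htρ, r, hrρ, Ne.symm hrt, h⟩
          · exact ⟨t, htρ, q, hqρ, Ne.symm hqt, h⟩
          · exact ⟨r, hrρ, q, hqρ, Ne.symm hqr, h⟩
        · have hrI : r ∣ (commutator (G ⧸ N)).index := by
            rw [← hDidx] at hrQ
            exact (hrP.dvd_mul.1 hrQ).resolve_left hrD
          have hqF := Fact.mk hqP
          have hrF := Fact.mk hrP
          have hqA : q ∣ Nat.card (Abelianization (G ⧸ N)) := hqI
          have hrA : r ∣ Nat.card (Abelianization (G ⧸ N)) := hrI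
          obtain ⟨u, hu⟩ := exists_prime_orderOf_dvd_card' q hqA
          obtain ⟨v, hv⟩ := exists_prime_orderOf_dvd_card' r hrA
          have huv : orderOf (u * v) = q * r := by
            rw [(Commute.all u v).orderOf_mul_eq_mul_orderOf_of_coprime, hu, hv]
            rw [hu, hv]; exact (Nat.coprime_primes hqP hrP).2 hqr
          obtain ⟨x, hx⟩ := exists_orderOf_eq_of_surjective
            ((QuotientGroup.mk' (commutator (G ⧸ N))).comp (QuotientGroup.mk' N))
            ((QuotientGroup.mk'_surjective (commutator (G ⧸ N))).comp hmk) (u * v)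
          exact ⟨q, hqρ, r, hrρ, hqr, x, hx.trans huv⟩
    · obtain ⟨a, ha, b, hb, hab, x, hx⟩ := ih (Nat.card (G ⧸ N)) hQlt (G ⧸ N) rfl hQsolv ρ
        (fun a ha => ⟨(hρ a ha).1, hdvdQ a ha (fun h => htρ (h ▸ ha))⟩) hρ3
      obtain ⟨x', hx'⟩ := exists_orderOf_eq_of_surjective (QuotientGroup.mk' N) hmk x
      exact ⟨a, ha, b, hb, hab, x', by rw [hx', hx]⟩

/-- A finite solvable group whose order is divisible by all primes of a set `ρ` of at least three
primes has an element of order `a * b` for some distinct `a`, `b` in `ρ`. -/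
theorem solvable_three_primes {G : Type u} [Group G] [Finite G] (hG : Group.IsSolvable G)
    (ρ : Finset ℕ) (hρ : ∀ a ∈ ρ, a.Prime ∧ a ∣ Nat.card G) (hρ3 : 3 ≤ ρ.card) :
    ∃ a ∈ ρ, ∃ b ∈ ρ, a ≠ b ∧ ∃ x : G, orderOf x = a * b :=
  solvable_three_primes_aux (Nat.card G) G rfl hG ρ hρ hρ3

end Cfsg.Agent.Lib.helper64
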