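import Mathlib
import Cfsg.Agent.Lib.helper99.PsuSpecB
import Cfsg.Agent.Lib.helper64.UBasic
import Cfsg.Agent.Lib.helper64.PSLAttach

set_option autoImplicit false

/-!
# `SU_n(q)` / `PSU_n(q)`: matrix bridge and attaching an element of order `r` (helper64)
-/

namespace Cfsg.Agent.Lib.helper64.UAttach

open Cfsg Matrix Cfsg.Agent.Lib.helper7 Cfsg.Agent.Lib.helper64.UBasic
  Cfsg.Agent.Lib.helper64.PSLAttach

variable {F : Type*} [Field F] [Fintype F] {n q : ℕ}

/-- the involution `x ↦ x ^ q` of a field with `q ^ 2` elements -/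
theorem exists_sigma (hF : Fintype.card F = q ^ 2) :
    ∃ σ : F →+* F, (∀ x, σ x = x ^ q) ∧ (∀ x, σ (σ x) = x) ∧ σ ≠ RingHom.id F := by
  classical
  obtain ⟨σ, hσ⟩ := exists_frobHom hF
  refine ⟨σ, hσ, ?_, ?_⟩
  · intro x
    rw [hσ, hσ, ← pow_mul, ← pow_two, ← hF, FiniteField.pow_card]
  · intro h
    obtain ⟨l, hl, hl1⟩ := exists_norm_one_sq_ne_one hF
    apply hl1
    have h2 : l ^ q = l := by
      rw [← hσ, h]
      rfl
    rw [h2] at hl
    exact eq_inv_of_mul_eq_one_left hl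

theorem two_le_q (hF : Fintype.card F = q ^ 2) : 2 ≤ q := two_le_of_card_sq hF

theorem isIsom_iff_cs (hF : Fintype.card F = q ^ 2) (σ : F →+* F) (hσ : ∀ x, σ x = x ^ q)
    (M : Matrix (Fin n) (Fin n) F) : IsIsom n q M ↔ cs σ M * M = 1 :=
  Cfsg.Agent.Lib.helper99.PsuSpec.isIsom_iff_cstar q (by have := two_le_q hF; omega) σ hσ M

theorem su_cs (hF : Fintype.card F = q ^ 2) (σ : F →+* F) (hσ : ∀ x, σ x = x ^ q)
    (g : SU n F q) : cs σ g.1.1 * g.1.1 = 1 :=
  (isIsom_iff_cs hF σ hσ _).1 ((mem_SU_iff n g.1).1 g.2)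

/-- an element of `SU_n(q)` from a unitary matrix of determinant one -/
def mkSU (hF : Fintype.card F = q ^ 2) (σ : F →+* F) (hσ : ∀ x, σ x = x ^ q)
    (M : Matrix (Fin n) (Fin n) F) (h1 : cs σ M * M = 1) (h2 : M.det = 1) : SU n F q :=
  ⟨⟨M, h2⟩, (mem_SU_iff n _).2 ((isIsom_iff_cs hF σ hσ M).2 h1)⟩

theorem mkSU_coe (hF : Fintype.card F = q ^ 2) (σ : F →+* F) (hσ : ∀ x, σ x = x ^ q)
    (M : Matrix (Fin n) (Fin n) F) (h1 : cs σ M * M = 1) (h2 : M.det = 1) :
    (mkSU hF σ hσ M h1 h2).1.1 = M := rfl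

omit [Fintype F] in
theorem coe_pow_su (g : SU n F q) (k : ℕ) : (g ^ k).1.1 = g.1.1 ^ k := by
  simp

omit [Fintype F] in
theorem coe_mul_su (g h : SU n F q) : (g * h).1.1 = g.1.1 * h.1.1 := by
  simp

theorem mem_center_iff_scalar (hF : Fintype.card F = q ^ 2) (hn : 0 < n) (g : SU n F q) :
    g ∈ Subgroup.center (SU n F q) ↔ ∃ c : F, g.1.1 = c • (1 : Matrix (Fin n) (Fin n) F) := by
  constructor
  · intro hz
    have hZ : ∀ M : Matrix (Fin n) (Fin n) F, IsIsom n q M → M.det = 1 →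
        g.1.1 * M = M * g.1.1 := by
      intro M hM hMdet
      have h := Subgroup.mem_center_iff.1 hz ((suEquiv n).symm ⟨M, hM, hMdet⟩)
      have h2 := congrArg (fun g : SU n F q => g.1.1) h
      exact h2.symm
    exact ⟨_, scalar_of_commute hF n _ hZ ⟨0, hn⟩⟩
  · rintro ⟨c, hc⟩
    rw [Subgroup.mem_center_iff]
    intro h
    apply Subtype.ext
    apply Subtype.ext
    change h.1.1 * g.1.1 = g.1.1 * h.1.1
    rw [hc, Matrix.mul_smul, Matrix.smul_mul, mul_one, one_mul]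

theorem psu_pow_eq_one_iff (hF : Fintype.card F = q ^ 2) (hn : 0 < n) (g : SU n F q) (k : ℕ) :
    (QuotientGroup.mk g : PSU n F q) ^ k = 1 ↔
      ∃ c : F, g.1.1 ^ k = c • (1 : Matrix (Fin n) (Fin n) F) := by
  rw [← QuotientGroup.mk_pow, QuotientGroup.eq_one_iff, mem_center_iff_scalar hF hn, coe_pow_su]

/-- the order of an element of `PSU_n(q)` is the order of its image in `PSL_n(q^2)` -/
theorem orderOf_psu (hF : Fintype.card F = q ^ 2) (hn : 0 < n) (g : SU n F q) :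
    orderOf (QuotientGroup.mk g : PSU n F q) =
      orderOf (QuotientGroup.mk g.1 : Matrix.ProjectiveSpecialLinearGroup (Fin n) F) := by
  rw [orderOf_eq_orderOf_iff]
  intro k
  rw [psu_pow_eq_one_iff hF hn, mk_pow_eq_one_iff]

/-- a non-scalar self-adjoint idempotent gives a unitary determinant-one matrix of projective
order `r` commuting with everything that commutes with the idempotent -/
theorem exists_rtorsion_u {r : ℕ} (hF : Fintype.card F = q ^ 2) (σ : F →+* F)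
    (hσ : ∀ x, σ x = x ^ q) (hr : r.Prime) (hrq : r ∣ q + 1)
    (hrn : ¬ r ∣ n) (Pi : Matrix (Fin n) (Fin n) F) (hidem : Pi * Pi = Pi) (h0 : Pi ≠ 0)
    (h1 : Pi ≠ 1) (hPi : cs σ Pi = Pi) :
    ∃ Z : Matrix (Fin n) (Fin n) F, Z.det = 1 ∧ cs σ Z * Z = 1 ∧
      (∀ B : Matrix (Fin n) (Fin n) F, Commute B Pi → Commute B Z) ∧ Z ^ r = 1 ∧
      (∀ k : ℕ, (∃ c : F, Z ^ k = c • (1 : Matrix (Fin n) (Fin n) F)) → r ∣ k) := by
  classical
  have hq2 := two_le_q hF
  have hcardU : Nat.card Fˣ = Fintype.card F - 1 := by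
    rw [Nat.card_eq_fintype_card, Fintype.card_units]
  have hrq' : r ∣ Fintype.card F - 1 := by
    rw [hF]
    have h2 : q ^ 2 - 1 = (q + 1) * (q - 1) := by
      obtain ⟨q', rfl⟩ : ∃ q', q = q' + 1 := ⟨q - 1, by omega⟩
      simp only [Nat.add_sub_cancel]
      have : (q' + 1) ^ 2 = (q' + 1 + 1) * q' + 1 := by ring
      omega
    rw [h2]
    exact dvd_mul_of_dvd_left hrq _
  have : Fact r.Prime := ⟨hr⟩
  obtain ⟨ζu, hζu⟩ := exists_prime_orderOf_dvd_card' r (G := Fˣ) (by rw [hcardU]; exact hrq')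
  set ζ : F := (ζu : F) with hζdef
  have hζr : ζ ^ r = 1 := by
    rw [hζdef, ← Units.val_pow_eq_pow_val, ← hζu, pow_orderOf_eq_one, Units.val_one]
  have hζk : ∀ k : ℕ, ζ ^ k = 1 → r ∣ k := by
    intro k hk
    rw [← hζu]
    apply orderOf_dvd_of_pow_eq_one
    apply Units.ext
    rw [Units.val_pow_eq_pow_val, Units.val_one]
    exact hk
  have hnorm : ∀ x : F, x ^ r = 1 → σ x * x = 1 := by
    intro x hx
    obtain ⟨e, he⟩ := hrq
    rw [hσ, ← pow_succ, he, pow_mul, hx, one_pow]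
  set T : Matrix (Fin n) (Fin n) F := 1 + (ζ - 1) • Pi with hTdef
  have hT : ∀ k : ℕ, T ^ k = 1 + (ζ ^ k - 1) • Pi := by
    intro k
    rw [hTdef, one_add_smul_pow _ hidem]
    congr 3
    ring
  have hTu : cs σ T * T = 1 := by
    rw [hTdef, cs_add, cs_one, cs_smul, hPi]
    simp only [mul_add, add_mul, one_mul, mul_one, smul_mul_assoc, mul_smul_comm, hidem]
    rw [smul_add, smul_smul, add_assoc, ← add_smul, ← add_smul]
    have h3 : σ (ζ - 1) + (ζ - 1 + (ζ - 1) * σ (ζ - 1)) = σ ζ * ζ - 1 := by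
      rw [map_sub, map_one]
      ring
    rw [h3, hnorm ζ hζr, sub_self, zero_smul, add_zero]
  set δ := T.det with hδdef
  have hδ : δ ^ r = 1 := by
    rw [hδdef, ← Matrix.det_pow, hT, hζr, sub_self, zero_smul, add_zero, Matrix.det_one]
  obtain ⟨t, ht⟩ : ∃ t : ℕ, r ∣ n * t + 1 := by
    have hcop : Nat.Coprime n r := ((Nat.Prime.coprime_iff_not_dvd hr).2 hrn).symm
    obtain ⟨m, -, hm⟩ := Nat.exists_mul_mod_eq_one_of_coprime hcop hr.one_lt
    refine ⟨m * (r - 1), ?_⟩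
    obtain ⟨e, he⟩ : ∃ e : ℕ, n * m = r * e + 1 := by
      refine ⟨n * m / r, ?_⟩
      have := Nat.div_add_mod (n * m) r
      omega
    have hr2 := hr.two_le
    obtain ⟨r', rfl⟩ : ∃ r', r = r' + 1 := ⟨r - 1, by omega⟩
    have h3 : n * (m * (r' + 1 - 1)) + 1 = (r' + 1) * (e * r' + 1) := by
      rw [← mul_assoc, he, Nat.add_sub_cancel]
      ring
    rw [h3]
    exact dvd_mul_right _ _
  set c := δ ^ t with hcdef
  have hcr : c ^ r = 1 := by rw [hcdef, ← pow_mul, mul_comm, pow_mul, hδ, one_pow]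
  have hcδ : c ^ n * δ = 1 := by
    obtain ⟨e, he⟩ := ht
    rw [hcdef, ← pow_mul, ← pow_succ, mul_comm t n, he, pow_mul, hδ, one_pow]
  have hc0 : c ≠ 0 := by
    rintro h
    rw [h, zero_pow hr.ne_zero] at hcr
    exact zero_ne_one hcr
  refine ⟨c • T, ?_, ?_, ?_, ?_, ?_⟩
  · rw [Matrix.det_smul, Fintype.card_fin]
    exact hcδ
  · rw [cs_smul, smul_mul_assoc, mul_smul_comm, smul_smul, hTu, hnorm c hcr, one_smul]
  · intro B hB
    exact ((Commute.one_right B).add_right (hB.smul_right _)).smul_right _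
  · rw [smul_pow, hcr, one_smul, hT, hζr, sub_self, zero_smul, add_zero]
  · rintro k ⟨d, hd⟩
    apply hζk
    by_contra hne
    rw [smul_pow, hT, smul_add, smul_smul] at hd
    have hne' : c ^ k * (ζ ^ k - 1) ≠ 0 :=
      mul_ne_zero (pow_ne_zero _ hc0) (sub_ne_zero.mpr hne)
    have hPi' : Pi = ((c ^ k * (ζ ^ k - 1))⁻¹ * (d - c ^ k)) • (1 : Matrix (Fin n) (Fin n) F) := by
      have h3 : (c ^ k * (ζ ^ k - 1)) • Pi = (d - c ^ k) • (1 : Matrix (Fin n) (Fin n) F) := by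
        rw [sub_smul, ← hd]
        abel
      rw [mul_smul, ← h3, inv_smul_smul₀ hne']
    rcases idem_not_scalar Pi hidem _ hPi' with h | h
    · exact h0 h
    · exact h1 h

/-- attaching an element of order `r` to an element of `PSU_n` whose lift commutes with a
non-scalar self-adjoint idempotent -/
theorem attach_u {r : ℕ} (hF : Fintype.card F = q ^ 2) (σ : F →+* F)
    (hσ : ∀ x, σ x = x ^ q) (hr : r.Prime) (hrq : r ∣ q + 1)
    (hrn : ¬ r ∣ n) (hn : 0 < n) (B : SU n F q) (Pi : Matrix (Fin n) (Fin n) F)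
    (hidem : Pi * Pi = Pi) (h0 : Pi ≠ 0) (h1 : Pi ≠ 1) (hPi : cs σ Pi = Pi)
    (hc : Commute B.1.1 Pi)
    (hx : ¬ r ∣ orderOf (QuotientGroup.mk B : PSU n F q)) :
    ∃ z : PSU n F q,
      orderOf ((QuotientGroup.mk B : PSU n F q) * z) =
        orderOf (QuotientGroup.mk B : PSU n F q) * r := by
  obtain ⟨Z, hdet, hZu, hcomm, hZr, hZk⟩ := exists_rtorsion_u hF σ hσ hr hrq hrn Pi hidem h0 h1 hPi
  let Zs : SU n F q := mkSU hF σ hσ Z hZu hdet
  have hZs : Zs.1.1 = Z := rfl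
  have hz1 : (QuotientGroup.mk Zs : PSU n F q) ^ r = 1 :=
    (psu_pow_eq_one_iff hF hn Zs r).2 ⟨1, by rw [one_smul, hZs]; exact hZr⟩
  have hz2 : orderOf (QuotientGroup.mk Zs : PSU n F q) = r := by
    have : Fact r.Prime := ⟨hr⟩
    apply orderOf_eq_prime hz1
    intro h
    have h2 : (QuotientGroup.mk Zs : PSU n F q) ^ 1 = 1 := by
      rw [pow_one, h]
    have h3 := hZk 1 ((psu_pow_eq_one_iff hF hn Zs 1).1 h2)
    exact hr.one_lt.ne' (Nat.dvd_one.1 h3)
  have hcomm' : Commute (QuotientGroup.mk B : PSU n F q) (QuotientGroup.mk Zs) := by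
    have h4 : B * Zs = Zs * B := by
      apply Subtype.ext
      apply Subtype.ext
      rw [coe_mul_su, coe_mul_su]
      exact (hcomm _ hc).eq
    show (QuotientGroup.mk B : PSU n F q) * QuotientGroup.mk Zs =
      QuotientGroup.mk Zs * QuotientGroup.mk B
    rw [← QuotientGroup.mk_mul, ← QuotientGroup.mk_mul, h4]
  refine ⟨QuotientGroup.mk Zs, ?_⟩
  have h5 := Commute.orderOf_mul_eq_mul_orderOf_of_coprime hcomm'
    (by rw [hz2]; exact ((Nat.Prime.coprime_iff_not_dvd hr).2 hx).symm)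
  rw [h5, hz2]

/-- an element of order `r` in `PSU_n(q)` -/
theorem exists_order_r_u {r : ℕ} (hF : Fintype.card F = q ^ 2) (hr : r.Prime) (hrq : r ∣ q + 1)
    (hrn : ¬ r ∣ n) (hn : 2 ≤ n) :
    ∃ z : PSU n F q, orderOf z = r := by
  classical
  obtain ⟨σ, hσ, hσ2, -⟩ := exists_sigma hF
  let Pi : Matrix (Fin n) (Fin n) F := Matrix.diagonal (fun i => if i.val = 0 then 1 else 0)
  have hidem : Pi * Pi = Pi := by
    simp only [Pi, Matrix.diagonal_mul_diagonal]
    congr 1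
    funext i
    split_ifs <;> simp
  have h0 : Pi ≠ 0 := by
    intro h
    have h2 := congrFun (congrFun h ⟨0, by omega⟩) ⟨0, by omega⟩
    simp [Pi] at h2
  have h1 : Pi ≠ 1 := by
    intro h
    have h2 := congrFun (congrFun h ⟨1, by omega⟩) ⟨1, by omega⟩
    simp [Pi] at h2
  have hPi : cs σ Pi = Pi := by
    ext i j
    rw [cs_apply]
    simp only [Pi, Matrix.diagonal_apply]
    by_cases hij : i = j
    · subst hij
      simp only [if_true]
      split_ifs <;> simp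
    · rw [if_neg hij, if_neg (fun h => hij h.symm), map_zero]
  have hone : (QuotientGroup.mk (1 : SU n F q) : PSU n F q) = 1 := rfl
  obtain ⟨z, hz⟩ := attach_u hF σ hσ hr hrq hrn (by omega) (1 : SU n F q) Pi hidem h0 h1 hPi
    (by
      have : (1 : SU n F q).1.1 = 1 := rfl
      rw [this]
      exact Commute.one_left _)
    (by rw [hone, orderOf_one]; exact fun h => hr.one_lt.ne' (Nat.dvd_one.1 h))
  rw [hone, one_mul, orderOf_one, one_mul] at hz
  exact ⟨z, hz⟩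

end Cfsg.Agent.Lib.helper64.UAttach
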