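import Mathlib
import Cfsg.Agent.Lib.helper64.UAttach
import Cfsg.Agent.Lib.helper64.UIso
import Cfsg.Agent.Lib.helper64.UJordan
import Cfsg.Agent.Lib.helper64.SpPG
import Cfsg.Agent.Lib.helper64.PGBlocks

set_option autoImplicit false
set_option linter.unusedSectionVars false

/-!
# Unitary matrices: conjugate-reciprocal factors and hyperbolic tori (helper64)

* `ureverse_dvd_minpoly`: the factors of the minimal polynomial of a unitary matrix of finite
  order are closed under `f ↦ (f.map σ).reverse`.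
* `not_dvd_ureverse`: an irreducible factor with roots of prime order `r` is not
  conjugate-self-reciprocal unless `r ∣ q ^ j + 1` for some odd `j`.
* `eq_one_of_fix`: a unitary matrix of prime order `r` with a non-trivial fixed vector is
  trivial when the irreducible factors are too big.
* `proj_unitary`: restricting a unitary matrix to the range of a self-adjoint idempotent.
* `exists_block_det`, `exists_hyp`: the torus `GL_m(q²)` inside `GU_{2m}(q)`.
-/

namespace Cfsg.Agent.Lib.helper64.UPG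

open Polynomial Matrix Cfsg Cfsg.Agent.Lib.helper64.UBasic Cfsg.Agent.Lib.helper64.PGBasic
  Cfsg.Agent.Lib.helper64.UIso Cfsg.Agent.Lib.helper64.IsoPow Cfsg.Agent.Lib.helper64.SpPG
  Cfsg.Agent.Lib.helper64.PGBlocks Cfsg.Agent.Lib.helper64.UJordan

variable {F : Type*} [Field F]

section closure

variable {ι : Type*} [Fintype ι] [DecidableEq ι]

/-- the minimal polynomial of a unitary matrix of finite order divides its conjugate
reciprocal -/
theorem minpoly_dvd_ureverse (σ : F →+* F) (Z : Matrix ι ι F) (hZ : cs σ Z * Z = 1) (M : ℕ)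
    (hM : 0 < M) (hZM : Z ^ M = 1) : minpoly F Z ∣ ((minpoly F Z).map σ).reverse := by
  classical
  set μ := minpoly F Z with hμ
  have hμZ : aeval Z μ = 0 := minpoly.aeval F Z
  have hinv : cs σ Z = Z ^ (M - 1) := by
    have h1 : Z * Z ^ (M - 1) = 1 := by rw [← pow_succ', Nat.sub_add_cancel hM, hZM]
    calc cs σ Z = cs σ Z * (Z * Z ^ (M - 1)) := by rw [h1, mul_one]
      _ = (cs σ Z * Z) * Z ^ (M - 1) := by rw [mul_assoc]
      _ = Z ^ (M - 1) := by rw [hZ, one_mul]
  have h1 : μ ∣ (μ.map σ).comp (X ^ (M - 1)) := by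
    apply minpoly.dvd
    rw [Polynomial.aeval_comp, map_pow, aeval_X, ← hinv, ← cs_aeval, hμZ, cs_zero]
  have hμM : μ ∣ X ^ M - 1 := minpoly.dvd F Z (by simp [hZM])
  set α := AdjoinRoot.root μ with hα
  have hαM : α ^ M = 1 := root_pow_eq_one_of_dvd μ M hμM
  have hαα : α ^ (M - 1) * α = 1 := by rw [← pow_succ, Nat.sub_add_cancel hM, hαM]
  let _ : Invertible (α ^ (M - 1)) := ⟨α, by rw [mul_comm]; exact hαα, hαα⟩
  have h3 := Polynomial.eval₂_reverse_mul_pow (algebraMap F (AdjoinRoot μ)) (α ^ (M - 1))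
    (μ.map σ)
  have h4 : eval₂ (algebraMap F (AdjoinRoot μ)) (α ^ (M - 1)) (μ.map σ) = 0 := by
    have h5 : AdjoinRoot.mk μ ((μ.map σ).comp (X ^ (M - 1))) = 0 := AdjoinRoot.mk_eq_zero.2 h1
    rw [← AdjoinRoot.aeval_eq, Polynomial.aeval_comp, map_pow, aeval_X] at h5
    exact h5
  rw [h4] at h3
  have h6 : eval₂ (algebraMap F (AdjoinRoot μ)) α (μ.map σ).reverse = 0 := by
    have h7 : eval₂ (algebraMap F (AdjoinRoot μ)) α (μ.map σ).reverse *
        (α ^ (M - 1)) ^ (μ.map σ).natDegree * α ^ (μ.map σ).natDegree = 0 := by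
      have : (⅟(α ^ (M - 1))) = α := rfl
      rw [this] at h3
      rw [h3, zero_mul]
    rw [mul_assoc, ← mul_pow, hαα, one_pow, mul_one] at h7
    exact h7
  apply AdjoinRoot.mk_eq_zero.1
  rw [← AdjoinRoot.aeval_eq]
  exact h6

/-- the factors of the minimal polynomial of a unitary matrix of finite order are closed under
taking conjugate reciprocals -/
theorem ureverse_dvd_minpoly (σ : F →+* F) (Z : Matrix ι ι F) (hZ : cs σ Z * Z = 1) (M : ℕ)
    (hM : 0 < M) (hZM : Z ^ M = 1) (f : F[X]) (hf : f ∣ minpoly F Z) :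
    (f.map σ).reverse ∣ minpoly F Z := by
  have h1 := minpoly_dvd_ureverse σ Z hZ M hM hZM
  have hμ0 : minpoly F Z ≠ 0 := (minpoly.monic (Matrix.isIntegral Z)).ne_zero
  have hμσ0 : (minpoly F Z).map σ ≠ 0 := by
    rw [Ne, Polynomial.map_eq_zero]
    exact hμ0
  have h2 : Associated (minpoly F Z) ((minpoly F Z).map σ).reverse :=
    associated_of_dvd_of_natDegree_le h1 (by rw [Ne, Polynomial.reverse_eq_zero]; exact hμσ0)
      ((Polynomial.reverse_natDegree_le _).trans (by rw [Polynomial.natDegree_map]))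
  obtain ⟨g, hg⟩ := hf
  have h3 : (f.map σ).reverse ∣ ((minpoly F Z).map σ).reverse := by
    rw [hg, Polynomial.map_mul, Polynomial.reverse_mul_of_domain]
    exact dvd_mul_right _ _
  exact h3.trans h2.symm.dvd

/-- restricting a unitary matrix to the range of a self-adjoint idempotent commuting with it -/
theorem proj_unitary (σ : F →+* F) (Y e : Matrix ι ι F) (hY : cs σ Y * Y = 1)
    (he : e * e = e) (hcs : cs σ e = e) (hcomm : Y * e = e * Y) (r : ℕ) (hYr : Y ^ r = 1) :
    cs σ (Y * e + (1 - e)) * (Y * e + (1 - e)) = 1 ∧ (Y * e + (1 - e)) ^ r = 1 := by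
  have hee' : e * (1 - e) = 0 := by rw [mul_sub, mul_one, he, sub_self]
  have he'e : (1 - e) * e = 0 := by rw [sub_mul, one_mul, he, sub_self]
  have he'e' : (1 - e) * (1 - e) = 1 - e := by
    rw [mul_sub, mul_one, he'e, sub_zero]
  have hcomm' : cs σ Y * e = e * cs σ Y := by
    have h1 := congrArg (cs σ) hcomm
    rw [cs_mul, cs_mul, hcs] at h1
    exact h1.symm
  constructor
  · rw [cs_add, cs_mul, cs_sub, cs_one, hcs, add_mul, mul_add, mul_add]
    have h1 : e * cs σ Y * (Y * e) = e := by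
      calc e * cs σ Y * (Y * e) = e * (cs σ Y * Y) * e := by simp only [mul_assoc]
        _ = e := by rw [hY, mul_one, he]
    have h2 : e * cs σ Y * (1 - e) = 0 := by
      rw [← hcomm', mul_assoc, hee', mul_zero]
    have h3 : (1 - e) * (Y * e) = 0 := by
      rw [hcomm, ← mul_assoc, he'e, zero_mul]
    rw [h1, h2, h3, he'e']
    abel
  · have hpow : ∀ j : ℕ, (Y * e + (1 - e)) ^ j = Y ^ j * e + (1 - e) := by
      intro j
      induction j with
      | zero => rw [pow_zero, pow_zero, one_mul]; abel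
      | succ j ih =>
        rw [pow_succ, ih, add_mul, mul_add, mul_add]
        have h1 : Y ^ j * e * (Y * e) = Y ^ (j + 1) * e := by
          calc Y ^ j * e * (Y * e) = Y ^ j * (e * Y) * e := by simp only [mul_assoc]
            _ = Y ^ j * (Y * e) * e := by rw [hcomm]
            _ = Y ^ (j + 1) * e := by rw [pow_succ]; simp only [mul_assoc]; rw [he]
        have h2 : Y ^ j * e * (1 - e) = 0 := by rw [mul_assoc, hee', mul_zero]
        have h3 : (1 - e) * (Y * e) = 0 := by
          rw [hcomm, ← mul_assoc, he'e, zero_mul]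
        rw [h1, h2, h3, he'e']
        abel
    rw [hpow, hYr, one_mul]
    abel

/-- a unitary matrix of prime order `r` with a non-trivial fixed space is trivial, when the
non-linear irreducible factors of `X ^ r - 1` are large and not conjugate-self-reciprocal -/
theorem eq_one_of_fix [Nonempty ι] (σ : F →+* F) (Z : Matrix ι ι F) (hZ : cs σ Z * Z = 1)
    (r : ℕ) (hr : r.Prime) (hrF : (r : F) ≠ 0) (hZr : Z ^ r = 1) (m : ℕ)
    (hcard : Fintype.card ι ≤ 2 * m)
    (hdeg : ∀ f : F[X], Irreducible f → f ∣ X ^ r - 1 → ¬ f ∣ X - 1 →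
      m ≤ f.natDegree ∧ ¬ f ∣ (f.map σ).reverse)
    (W : Matrix ι ι F) (hW : W ≠ 0) (hZW : (Z - 1) * W = 0) : Z = 1 := by
  classical
  by_contra hZ1
  obtain ⟨f, hf, hfμ, hfr, hf1⟩ := exists_factor_of_order Z r hrF hZr 1 (by rwa [pow_one])
  rw [pow_one] at hf1
  obtain ⟨hdegf, hnrev⟩ := hdeg f hf hfr hf1
  have hμ0 : minpoly F Z ≠ 0 := (minpoly.monic (Matrix.isIntegral Z)).ne_zero
  have hf'μ : (f.map σ).reverse ∣ minpoly F Z :=
    ureverse_dvd_minpoly σ Z hZ r hr.pos hZr f hfμ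
  have hcop : IsCoprime f (f.map σ).reverse := (hf.coprime_iff_not_dvd).2 hnrev
  have hfσr : f.map σ ∣ X ^ r - 1 := by
    have := Polynomial.map_dvd σ hfr
    simpa using this
  have hf'deg : (f.map σ).reverse.natDegree = f.natDegree := by
    rw [natDegree_reverse_of_dvd (f.map σ) r hr.pos hfσr, Polynomial.natDegree_map]
  have hX1 : (X - 1 : F[X]) = X - C 1 := by rw [map_one]
  have hirrX : Irreducible (X - 1 : F[X]) := by rw [hX1]; exact irreducible_X_sub_C 1
  have hX1deg : (X - 1 : F[X]).natDegree = 1 := by rw [hX1]; exact natDegree_X_sub_C 1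
  have hX10 : (X - 1 : F[X]) ≠ 0 := by rw [hX1]; exact X_sub_C_ne_zero 1
  have hXμ : (X - 1 : F[X]) ∣ minpoly F Z := by
    by_contra hnd
    have hc : IsCoprime (X - 1 : F[X]) (minpoly F Z) := (hirrX.coprime_iff_not_dvd).2 hnd
    obtain ⟨a, b, hab⟩ := hc
    have h1 := congrArg (aeval Z) hab
    rw [map_add, map_mul, map_mul, minpoly.aeval, mul_zero, add_zero, map_sub, aeval_X, map_one] at h1
    apply hW
    calc W = (aeval Z a * (Z - 1)) * W := by rw [h1, one_mul]
      _ = 0 := by rw [mul_assoc, hZW, mul_zero]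
  have hc1 : IsCoprime (X - 1 : F[X]) f := ((hf.coprime_iff_not_dvd).2 hf1).symm
  have hc2 : IsCoprime (X - 1 : F[X]) (f.map σ).reverse := by
    rw [hirrX.coprime_iff_not_dvd]
    intro h
    rw [hX1] at h
    have h2 : ((f.map σ).reverse).IsRoot 1 := Polynomial.dvd_iff_isRoot.1 h
    let _ : Invertible (1 : F) := invertibleOne
    have h3 : (f.map σ).IsRoot 1 :=
      (Polynomial.eval₂_reverse_eq_zero_iff (RingHom.id F) (1 : F) (f.map σ)).1
        (by rw [invOf_one]; exact h2)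
    have h4 : f.IsRoot 1 := by
      rw [Polynomial.IsRoot, Polynomial.eval_map] at h3
      have h5 := Polynomial.hom_eval₂ f (RingHom.id F) σ 1
      rw [RingHom.comp_id, map_one, h3] at h5
      exact (map_eq_zero σ).1 h5
    apply hf1
    have h5 : X - C (1 : F) ∣ f := Polynomial.dvd_iff_isRoot.2 h4
    have h6 := (irreducible_X_sub_C (1 : F)).dvd_symm hf h5
    rwa [map_one] at h6
  have hmul : (X - 1) * (f * (f.map σ).reverse) ∣ minpoly F Z :=
    (hc1.mul_right hc2).mul_dvd hXμ (hcop.mul_dvd hfμ hf'μ)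
  have h1 := Polynomial.natDegree_le_of_dvd hmul hμ0
  have hf'0 : (f.map σ).reverse ≠ 0 := ne_zero_of_dvd_ne_zero hμ0 hf'μ
  rw [Polynomial.natDegree_mul hX10 (mul_ne_zero hf.ne_zero hf'0),
    Polynomial.natDegree_mul hf.ne_zero hf'0, hX1deg, hf'deg] at h1
  have h2 := natDegree_minpoly_le_card Z
  omega

end closure

section finite

variable [Fintype F]

/-- an irreducible factor of `X ^ r - 1` other than `X - 1` is not conjugate-self-reciprocal,
unless `r ∣ q ^ j + 1` for some odd `j` -/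
theorem not_dvd_ureverse {q : ℕ} (hF : Fintype.card F = q ^ 2) (σ : F →+* F)
    (hσ : ∀ x, σ x = x ^ q) (hσ2 : ∀ x, σ (σ x) = x) (f : F[X]) (hf : Irreducible f) (r : ℕ)
    (hr : r.Prime) (hfr : f ∣ X ^ r - 1) (hf1 : ¬ f ∣ X - 1) (hrq : Nat.Coprime r q)
    (hodd : ∀ j : ℕ, Odd j → ¬ r ∣ q ^ j + 1) : ¬ f ∣ (f.map σ).reverse := by
  classical
  intro hrev
  obtain ⟨p, k, hp, hchar, hqp⟩ := Cfsg.Agent.Lib.helper7.exists_char_pow hF
  have : Fact p.Prime := ⟨hp⟩
  have : Fact (Irreducible f) := ⟨hf⟩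
  have : Fact r.Prime := ⟨hr⟩
  have hf0 : f ≠ 0 := hf.ne_zero
  have : Finite (AdjoinRoot f) := finite_adjoinRoot f hf0
  have hcharK : CharP (AdjoinRoot f) p :=
    charP_of_injective_algebraMap (algebraMap F (AdjoinRoot f)).injective p
  have : ExpChar (AdjoinRoot f) p := ExpChar.prime hp
  have hρr : (AdjoinRoot.root f) ^ r = 1 := root_pow_eq_one_of_dvd f r hfr
  have hρ1 : AdjoinRoot.root f ≠ 1 := by
    intro h
    apply hf1
    have := dvd_of_root_pow_eq_one f 1 (by rw [pow_one]; exact h)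
    rwa [pow_one] at this
  have hρ0 : AdjoinRoot.root f ≠ 0 := by
    intro h
    rw [h, zero_pow hr.ne_zero] at hρr
    exact zero_ne_one hρr
  have hord : orderOf (AdjoinRoot.root f) = r := orderOf_eq_prime hρr hρ1
  let _ : Invertible ((AdjoinRoot.root f)⁻¹) :=
    ⟨AdjoinRoot.root f, mul_inv_cancel₀ hρ0, inv_mul_cancel₀ hρ0⟩
  have h1 : eval₂ (algebraMap F (AdjoinRoot f)) (AdjoinRoot.root f) (f.map σ).reverse = 0 := by
    have h5 : AdjoinRoot.mk f (f.map σ).reverse = 0 := AdjoinRoot.mk_eq_zero.2 hrev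
    rw [← AdjoinRoot.aeval_eq] at h5
    exact h5
  have h2 : eval₂ (algebraMap F (AdjoinRoot f)) ((AdjoinRoot.root f)⁻¹) (f.map σ) = 0 := by
    have h3 := Polynomial.eval₂_reverse_mul_pow (algebraMap F (AdjoinRoot f))
      ((AdjoinRoot.root f)⁻¹) (f.map σ)
    have : (⅟((AdjoinRoot.root f)⁻¹)) = AdjoinRoot.root f := rfl
    rw [this, h1, zero_mul] at h3
    exact h3.symm
  rw [Polynomial.eval₂_map] at h2
  have h3 : eval₂ (algebraMap F (AdjoinRoot f)) (((AdjoinRoot.root f)⁻¹) ^ p ^ k) f = 0 := by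
    have h4 := congrArg (iterateFrobenius (AdjoinRoot f) p k) h2
    rw [Polynomial.hom_eval₂, map_zero, iterateFrobenius_def] at h4
    have h5 : (iterateFrobenius (AdjoinRoot f) p k).comp
        ((algebraMap F (AdjoinRoot f)).comp σ) = algebraMap F (AdjoinRoot f) := by
      apply RingHom.ext
      intro c
      simp only [RingHom.comp_apply]
      rw [iterateFrobenius_def, ← map_pow, ← hqp, ← hσ, hσ2]
    rw [h5] at h4
    exact h4
  let τ : AdjoinRoot f →ₐ[F] AdjoinRoot f :=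
    AdjoinRoot.liftAlgHom f (Algebra.ofId F (AdjoinRoot f)) (((AdjoinRoot.root f)⁻¹) ^ p ^ k) h3
  have hτ : τ (AdjoinRoot.root f) = ((AdjoinRoot.root f)⁻¹) ^ p ^ k :=
    AdjoinRoot.liftAlgHom_root f (Algebra.ofId F (AdjoinRoot f)) _ h3
  obtain ⟨⟨i, hi⟩, hiτ⟩ := (FiniteField.bijective_frobeniusAlgHom_pow F (AdjoinRoot f)).2 τ
  have h4 : (FiniteField.frobeniusAlgHom F (AdjoinRoot f) ^ i) (AdjoinRoot.root f) =
      (AdjoinRoot.root f) ^ (Fintype.card F ^ i) := by
    rw [AlgHom.coe_pow, FiniteField.coe_frobeniusAlgHom, pow_iterate]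
  have h5 : (AdjoinRoot.root f) ^ (Fintype.card F ^ i) = ((AdjoinRoot.root f)⁻¹) ^ p ^ k := by
    rw [← h4, ← hτ]
    exact congrArg (fun φ : AdjoinRoot f →ₐ[F] AdjoinRoot f => φ (AdjoinRoot.root f)) hiτ
  have h6 : (AdjoinRoot.root f) ^ (Fintype.card F ^ i + q) = 1 := by
    rw [pow_add, h5, ← hqp, ← mul_pow, inv_mul_cancel₀ hρ0, one_pow]
  have h7 : r ∣ (q ^ 2) ^ i + q := by
    rw [← hord, ← hF]
    exact orderOf_dvd_of_pow_eq_one h6
  rcases Nat.eq_zero_or_pos i with hi0 | hipos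
  · rw [hi0, pow_zero, add_comm] at h7
    exact hodd 1 odd_one (by rwa [pow_one])
  · have h8 : (q ^ 2) ^ i + q = q * (q ^ (2 * i - 1) + 1) := by
      rw [← pow_mul, mul_add, mul_one, ← pow_succ']
      congr 2
      omega
    rw [h8] at h7
    exact hodd (2 * i - 1) ⟨i - 1, by omega⟩ (hrq.dvd_of_dvd_mul_left h7)

/-- a matrix in `GL_d(F)` of exact order `E` with control of its determinant -/
theorem exists_block_det (p : ℕ) [Fact p.Prime] [CharP F p] (d : ℕ) (hd : 0 < d) (E : ℕ)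
    (hE : E ∣ Fintype.card F ^ d - 1) :
    ∃ A : Matrix (Fin d) (Fin d) F, A ^ E = 1 ∧ (∀ j : ℕ, A ^ j = 1 → E ∣ j) ∧
      ∀ e : ℕ, E ∣ Dn (Fintype.card F) d * e → A.det ^ e = 1 := by
  classical
  have : NeZero d := ⟨by omega⟩
  let L := FiniteField.Extension F p d
  have : Fintype L := Fintype.ofFinite L
  have hfr : Module.finrank F L = d := FiniteField.finrank_extension F p d
  have hcardL : Nat.card L = Fintype.card F ^ d := by
    have := FiniteField.natCard_extension F p d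
    rw [Nat.card_eq_fintype_card (α := F)] at this
    exact this
  let b : Module.Basis (Fin d) F L := Module.finBasisOfFinrankEq F L hfr
  have hinj : Function.Injective (Algebra.leftMulMatrix b) := Algebra.leftMulMatrix_injective b
  obtain ⟨x, hx⟩ := exists_orderOf (K := L) E (by rw [hcardL]; exact hE)
  refine ⟨Algebra.leftMulMatrix b x, ?_, ?_, ?_⟩
  · rw [← map_pow, ← hx, pow_orderOf_eq_one, map_one]
  · intro j hj
    rw [← hx]
    apply orderOf_dvd_of_pow_eq_one
    apply hinj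
    rw [map_pow, map_one]
    exact hj
  · intro e he
    have h1 : algebraMap F L (Algebra.norm F x) = x ^ Dn (Fintype.card F) d := by
      have := FiniteField.algebraMap_norm_eq_pow_sum F L x
      rw [Nat.card_eq_fintype_card, hfr] at this
      exact this
    rw [← Algebra.norm_eq_matrix_det b x]
    apply (algebraMap F L).injective
    rw [map_pow, h1, ← pow_mul, map_one]
    rw [← hx] at he
    exact orderOf_dvd_iff_pow_eq_one.1 he

end finite

/-- the hyperbolic torus: `A ↦ diag(A, A^{-*})` conjugated into the unitary group of the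
standard Hermitian form -/
theorem exists_hyp [Finite F] (σ : F →+* F) (hσ2 : ∀ x, σ (σ x) = x) (hσne : σ ≠ RingHom.id F)
    (m : ℕ) (A : Matrix (Fin m) (Fin m) F) (E : ℕ) (hE : 0 < E) (hAE : A ^ E = 1) :
    ∃ t : Matrix (Fin m ⊕ Fin m) (Fin m ⊕ Fin m) F, cs σ t * t = 1 ∧
      t.det = A.det * σ A.det ^ (E - 1) ∧
      ∀ (j : ℕ) (c : F), t ^ j = c • (1 : Matrix (Fin m ⊕ Fin m) (Fin m ⊕ Fin m) F) →
        A ^ j = c • (1 : Matrix (Fin m) (Fin m) F) := by
  classical
  obtain ⟨H, hHdef⟩ : ∃ H : Matrix (Fin m ⊕ Fin m) (Fin m ⊕ Fin m) F,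
      H = Matrix.fromBlocks 0 1 1 0 := ⟨_, rfl⟩
  have hH : cs σ H = H := by
    rw [hHdef, cs_fromBlocks, cs_zero, cs_one]
  have hHH : H * H = 1 := by
    rw [hHdef, Matrix.fromBlocks_multiply]
    simp [Matrix.fromBlocks_one]
  have hHu : IsUnit H := IsUnit.of_mul_eq_one _ hHH
  obtain ⟨C, hCu, hC⟩ :=
    Cfsg.Agent.Lib.helper48.exists_cstar_mul_self σ hσne hσ2 H hH hHu
  have hC' : cs σ C * C = H := hC
  obtain ⟨Ci, hCi⟩ := hCu.exists_right_inv
  have hCi' : Ci * C = 1 := mul_eq_one_comm.mp hCi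
  obtain ⟨A', hA'⟩ : ∃ A' : Matrix (Fin m) (Fin m) F, A' = cs σ (A ^ (E - 1)) := ⟨_, rfl⟩
  have hAA : A ^ (E - 1) * A = 1 := by rw [← pow_succ, Nat.sub_add_cancel hE, hAE]
  have hAA' : A * A ^ (E - 1) = 1 := by rw [← pow_succ', Nat.sub_add_cancel hE, hAE]
  have h1 : cs σ A * A' = 1 := by rw [hA', ← cs_mul, hAA, cs_one]
  have h2 : cs σ A' * A = 1 := by rw [hA', cs_cs σ hσ2, hAA]
  obtain ⟨T, hT⟩ : ∃ T : Matrix (Fin m ⊕ Fin m) (Fin m ⊕ Fin m) F,
      T = Matrix.fromBlocks A 0 0 A' := ⟨_, rfl⟩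
  have hTH : cs σ T * H * T = H := by
    rw [hT, hHdef, cs_fromBlocks, cs_zero, Matrix.fromBlocks_multiply,
      Matrix.fromBlocks_multiply]
    simp [h1, h2]
  have hpow : ∀ k : ℕ, (C * T * Ci) ^ k = C * T ^ k * Ci := by
    intro k
    induction k with
    | zero => rw [pow_zero, pow_zero, mul_one, hCi]
    | succ k ih =>
      rw [pow_succ, ih, pow_succ]
      calc C * T ^ k * Ci * (C * T * Ci)
          = C * T ^ k * (Ci * C) * T * Ci := by simp only [mul_assoc]
        _ = C * (T ^ k * T) * Ci := by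
          rw [hCi', mul_one]; simp only [mul_assoc]
  refine ⟨C * T * Ci, ?_, ?_, ?_⟩
  · have h3 : cs σ Ci * cs σ C = 1 := by rw [← cs_mul, hCi, cs_one]
    calc cs σ (C * T * Ci) * (C * T * Ci)
        = cs σ Ci * (cs σ T * (cs σ C * C) * T) * Ci := by
          rw [cs_mul, cs_mul]
          simp only [mul_assoc]
      _ = cs σ Ci * (cs σ C * C) * Ci := by rw [hC', hTH]
      _ = 1 := by
          rw [← mul_assoc, h3, one_mul, hCi]
  · rw [Matrix.det_conj_of_mul_eq_one hCi hCi', hT, Matrix.det_fromBlocks_zero₂₁, hA', cs_det,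
      Matrix.det_pow, map_pow]
  · intro j c hj
    rw [hpow] at hj
    have h3 : T ^ j = c • (1 : Matrix (Fin m ⊕ Fin m) (Fin m ⊕ Fin m) F) := by
      calc T ^ j = (Ci * C) * T ^ j * (Ci * C) := by rw [hCi', one_mul, mul_one]
        _ = Ci * (C * T ^ j * Ci) * C := by simp only [mul_assoc]
        _ = c • (1 : Matrix (Fin m ⊕ Fin m) (Fin m ⊕ Fin m) F) := by
          rw [hj, Matrix.mul_smul, Matrix.smul_mul, mul_one, hCi']
    rw [hT, Matrix.fromBlocks_diagonal_pow, fromBlocks_eq_smul_one] at h3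
    exact h3.1

end Cfsg.Agent.Lib.helper64.UPG
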