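import Mathlib
import Cfsg.Agent.Lib.helper64.UAttach
import Cfsg.Agent.Lib.helper64.UTypeB
import Cfsg.Agent.Lib.helper64.UJordan

set_option autoImplicit false

/-!
# Element orders of `PSU_n(q)`: the facts behind S2511 (helper64)
-/

namespace Cfsg.Agent.Lib.helper64.USpec

open Polynomial Cfsg Matrix Cfsg.Agent.Lib.helper64.UBasic Cfsg.Agent.Lib.helper64.UAttach
  Cfsg.Agent.Lib.helper64.UOrtho Cfsg.Agent.Lib.helper64.UArith Cfsg.Agent.Lib.helper64.UTypeA
  Cfsg.Agent.Lib.helper64.UTypeB Cfsg.Agent.Lib.helper64.UJordan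
  Cfsg.Agent.Lib.helper64.PSLAttach

variable {F : Type*} [Field F] [Fintype F] {n q p a r : ℕ}

section main

variable (hp : p.Prime) (ha : 1 ≤ a) (hq : q = p ^ a) (hF : Fintype.card F = q ^ 2)
  (hr : r.Prime) (hrq : r ∣ q + 1) (hrn : ¬ r ∣ n)

omit [Field F] in
include hq hF in
theorem card_pow : Fintype.card F = p ^ (2 * a) := by rw [hF, hq, ← pow_mul, mul_comm]

include hp ha hq hF hr hrq hrn in
/-- the trichotomy for an element `x` of `PSU_n(q)` of order prime to `r` -/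
theorem trichotomy (hn : 0 < n) (x : PSU n F q) (hx : ¬ r ∣ orderOf x) :
    (∃ x' : PSU n F q, orderOf x * r ∣ orderOf x') ∨
    ((orderOf x / p ^ (orderOf x).factorization p) ∣ Np q n ∧
      ((∃ x' : PSU n F q, (orderOf x / p ^ (orderOf x).factorization p) * r ∣ orderOf x') ∨
       (¬ p ∣ orderOf x ∧ ∃ τ : PSU n F q, Np q n ∣ orderOf τ))) := by
  classical
  obtain ⟨σ, hσ, hσ2, hσne⟩ := exists_sigma hF
  have hFp : Fintype.card F = p ^ (2 * a) := card_pow hq hF
  have ha2 : 1 ≤ 2 * a := by omega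
  have hq2 : 2 ≤ q := two_le_q hF
  obtain ⟨g, rfl⟩ := QuotientGroup.mk_surjective x
  have hord := orderOf_psu hF hn g
  rw [hord] at hx ⊢
  obtain ⟨hN, hSN, huP, hordS, hu1⟩ := Cfsg.Agent.Lib.helper64.PSLSpec.decomp hp ha2 hFp hn g.1
  set o := orderOf (QuotientGroup.mk g.1 : Matrix.ProjectiveSpecialLinearGroup (Fin n) F) with ho
  set P := p ^ o.factorization p with hP
  set M := o / p ^ o.factorization p with hM
  set N := M * (Fintype.card F - 1) with hNdef
  have hchar : CharP F p := Cfsg.Agent.Lib.helper64.PSLSpec.charP_of_card hp ha2 hFp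
  have : Fact p.Prime := ⟨hp⟩
  have : Nonempty (Fin n) := ⟨⟨0, hn⟩⟩
  set S : Matrix (Fin n) (Fin n) F := g.1.1 ^ P with hSdef
  have hScoe : (g ^ P).1.1 = S := coe_pow_su g P
  have hSu : cs σ S * S = 1 := by
    rw [← hScoe]
    exact su_cs hF σ hσ (g ^ P)
  have hSdet : S.det = 1 := by
    rw [← hScoe]
    exact (g ^ P).1.2
  have hSN' : S ^ N = 1 := hSN
  have hordS' : orderOf (QuotientGroup.mk (g ^ P) : PSU n F q) = M := by
    rw [orderOf_psu hF hn (g ^ P)]
    exact hordS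
  have hrM : ¬ r ∣ M := fun h => hx (dvd_trans h (Nat.div_dvd_of_dvd (Nat.ordProj_dvd o p)))
  by_cases hH : ∀ g₁ : F[X], aeval S g₁ * aeval S g₁ = aeval S g₁ →
      cs σ (aeval S g₁) = aeval S g₁ → aeval S g₁ = 0 ∨ aeval S g₁ = 1
  · right
    have hmain : (∃ c : F, S ^ Np q n = c • (1 : Matrix (Fin n) (Fin n) F)) ∧
        (Cyc S → ∃ t : Matrix (Fin n) (Fin n) F, cs σ t * t = 1 ∧ t.det = 1 ∧
          ∀ j : ℕ, (∃ c : F, t ^ j = c • (1 : Matrix (Fin n) (Fin n) F)) → Np q n ∣ j) := by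
      by_cases hirr : Irreducible (minpoly F S)
      · exact typeA hF p a hp ha hq σ hσ hσ2 hσne hn S hSu hSdet hirr
      · exact typeB hF hq2 σ hσ hσ2 hn S hSu hSdet N hN hSN'
          (H_idem σ hσ2 S hSu N hN hSN' hH) hirr
    obtain ⟨⟨c, hc⟩, htor⟩ := hmain
    have hMdvd : M ∣ Np q n := by
      rw [← hordS']
      apply orderOf_dvd_of_pow_eq_one
      rw [psu_pow_eq_one_iff hF hn]
      exact ⟨c, by rw [hScoe]; exact hc⟩
    refine ⟨hMdvd, ?_⟩
    obtain ⟨Pi, hPiPi, hPics, hPi0, hPicomm, hPi1⟩ :=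
      exists_proj hn σ hσ2 S hSu N hN hSN' hH
    by_cases h1 : Pi = 1
    · right
      have hcyc := hPi1 h1
      constructor
      · intro hpo
        apply hu1 hpo
        set u : Matrix (Fin n) (Fin n) F := g.1.1 ^ N with hu
        have hcomm : Commute u S := Commute.pow_pow_self _ N P
        obtain ⟨g₂, hg₂⟩ := cyc_centralizer S hcyc u hcomm
        have hnil : (u - 1) ^ P = 0 := by
          rw [hP, sub_pow_char_pow_of_commute p _ (Commute.one_right u), ← hP]
          have : u ^ P = 1 := huP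
          rw [this, one_pow, sub_self]
        have h2 : aeval S (g₂ - 1) = u - 1 := by rw [map_sub, map_one, ← hg₂]
        have h3 := reduced S N hN hSN' (g₂ - 1) P (pow_pos hp.pos _).ne'
          (by rw [h2]; exact hnil)
        rw [h2] at h3
        exact sub_eq_zero.1 h3
      · obtain ⟨t, htu, htdet, htord⟩ := htor hcyc
        refine ⟨QuotientGroup.mk (mkSU hF σ hσ t htu htdet), ?_⟩
        apply htord
        exact (psu_pow_eq_one_iff hF hn (mkSU hF σ hσ t htu htdet) _).1 (pow_orderOf_eq_one _)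
    · left
      obtain ⟨z, hz⟩ := attach_u hF σ hσ hr hrq hrn hn (g ^ P) Pi hPiPi hPi0 h1 hPics
        (by rw [hScoe]; exact hPicomm) (by rw [hordS']; exact hrM)
      exact ⟨_, by rw [hz, hordS']⟩
  · left
    push Not at hH
    obtain ⟨g₁, hee, hcse, he0, he1⟩ := hH
    obtain ⟨z, hz⟩ := attach_u hF σ hσ hr hrq hrn hn g (aeval S g₁) hee he0 he1 hcse
      (commute_aeval_pow g.1.1 P g₁) (by rw [hord]; exact hx)
    exact ⟨_, by rw [hz, hord]⟩

include hp ha hq hF in
/-- the `p`-part of every element order divides any power of `p` that is at least `n` -/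
theorem ordProj_dvd_pow_u (hn : 0 < n) (T : ℕ) (hT : n ≤ p ^ T) (x : PSU n F q) :
    p ^ (orderOf x).factorization p ∣ p ^ T := by
  obtain ⟨g, rfl⟩ := QuotientGroup.mk_surjective x
  rw [orderOf_psu hF hn g]
  exact Cfsg.Agent.Lib.helper64.PSLSpec.ordProj_dvd_pow hp (by omega : 1 ≤ 2 * a)
    (card_pow hq hF) hn T hT _

include hp ha hq hF hr hrq hrn in
/-- an element of order divisible by `r p^T` built from a unitary Jordan block of size
`n - 1` -/
theorem exists_w_u (hn : 3 ≤ n) (T : ℕ) (hT : n ≤ p ^ T) (hT' : p ^ (T - 1) < n - 1) :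
    ∃ w : PSU n F q, p ^ T * r ∣ orderOf w := by
  classical
  obtain ⟨σ, hσ, hσ2, hσne⟩ := exists_sigma hF
  have hFp : Fintype.card F = p ^ (2 * a) := card_pow hq hF
  have hchar : CharP F p :=
    Cfsg.Agent.Lib.helper64.PSLSpec.charP_of_card hp (by omega : 1 ≤ 2 * a) hFp
  have : Fact p.Prime := ⟨hp⟩
  have hn0 : 0 < n := by omega
  have : Nonempty (Fin n) := ⟨⟨0, hn0⟩⟩
  obtain ⟨U, Pi, hUu, hPiPi, hPics, hPi0, hPi1, hUP, hUn, hUn'⟩ :=
    exists_unip σ hσ2 hσne n (by omega)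
  have hUT : U ^ (p ^ T) = 1 := by
    have h1 : (U - 1) ^ (p ^ T) = 0 := pow_eq_zero_of_le (by omega) hUn
    rw [sub_pow_char_pow_of_commute p T (Commute.one_right U), one_pow, sub_eq_zero] at h1
    exact h1
  have hUT' : U ^ (p ^ (T - 1)) ≠ 1 := by
    intro h
    have h1 : (U - 1) ^ (p ^ (T - 1)) = 0 := by
      rw [sub_pow_char_pow_of_commute p (T - 1) (Commute.one_right U), one_pow, h, sub_self]
    exact hUn' (pow_eq_zero_of_le (by omega) h1)
  have hUdet : U.det = 1 := by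
    have h := congrArg Matrix.det hUT
    rw [Matrix.det_pow, Matrix.det_one] at h
    have h2 : (U.det - 1) ^ (p ^ T) = 0 := by rw [sub_pow_char_pow, h, one_pow, sub_self]
    exact sub_eq_zero.1 ((pow_eq_zero_iff (pow_pos hp.pos T).ne').1 h2)
  have hUord : ∀ k : ℕ, U ^ k = 1 → p ^ T ∣ k := by
    intro k hk
    have hdvd : orderOf U ∣ p ^ T := orderOf_dvd_of_pow_eq_one hUT
    obtain ⟨s, hs, hs'⟩ := (Nat.dvd_prime_pow hp).1 hdvd
    have hst : s = T := by
      by_contra hne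
      have hlt : s ≤ T - 1 := by omega
      have h1 : U ^ (p ^ (T - 1)) = 1 := by
        have h3 : orderOf U ∣ p ^ (T - 1) := by
          rw [hs']
          exact pow_dvd_pow p hlt
        exact orderOf_dvd_iff_pow_eq_one.1 h3
      exact hUT' h1
    rw [← hst, ← hs']
    exact orderOf_dvd_of_pow_eq_one hk
  obtain ⟨Z, hZdet, hZu, hZcomm, hZr, hZk⟩ :=
    exists_rtorsion_u hF σ hσ hr hrq hrn Pi hPiPi hPi0 hPi1 hPics
  have hZU : Commute Z U := (hZcomm U hUP).symm
  have hrp : r ≠ p := by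
    rintro rfl
    have h1 : r ∣ q := by
      rw [hq]
      exact dvd_pow_self r (by omega)
    have h2 : r ∣ 1 := (Nat.dvd_add_right h1).1 hrq
    exact hr.one_lt.ne' (Nat.dvd_one.1 h2)
  have hwu : cs σ (Z * U) * (Z * U) = 1 := by
    rw [cs_mul]
    calc cs σ U * cs σ Z * (Z * U) = cs σ U * (cs σ Z * Z) * U := by simp only [mul_assoc]
      _ = 1 := by rw [hZu, mul_one, hUu]
  have hwdet : (Z * U).det = 1 := by rw [Matrix.det_mul, hZdet, hUdet, one_mul]
  let w : SU n F q := mkSU hF σ hσ (Z * U) hwu hwdet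
  refine ⟨QuotientGroup.mk w, ?_⟩
  obtain ⟨c, hc⟩ := (psu_pow_eq_one_iff hF hn0 w _).1
    (pow_orderOf_eq_one (QuotientGroup.mk w : PSU n F q))
  set k := orderOf (QuotientGroup.mk w : PSU n F q) with hk
  have hc' : Z ^ k * U ^ k = c • (1 : Matrix (Fin n) (Fin n) F) := by
    rw [← hZU.mul_pow]
    exact hc
  have h1 : Z ^ (k * p ^ T) = c ^ (p ^ T) • (1 : Matrix (Fin n) (Fin n) F) := by
    have h2 := congrArg (fun X => X ^ (p ^ T)) hc'
    rw [(hZU.pow_pow k k).mul_pow, ← pow_mul, ← pow_mul, mul_comm k (p ^ T), pow_mul U, hUT,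
      one_pow, mul_one, _root_.smul_pow, one_pow] at h2
    rw [mul_comm]
    exact h2
  have hrk : r ∣ k := by
    have h2 := hZk _ ⟨_, h1⟩
    rcases (Nat.Prime.dvd_mul hr).1 h2 with h | h
    · exact h
    · exfalso
      exact hrp ((Nat.prime_dvd_prime_iff_eq hr hp).1 (hr.dvd_of_dvd_pow h))
  have hZk1 : Z ^ k = 1 := by
    obtain ⟨e', he'⟩ := hrk
    rw [he', pow_mul, hZr, one_pow]
  rw [hZk1, one_mul] at hc'
  have hcT : c ^ (p ^ T) = 1 := by
    have h2 := congrArg (fun X => X ^ (p ^ T)) hc'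
    rw [← pow_mul, mul_comm, pow_mul, hUT, one_pow, _root_.smul_pow, one_pow] at h2
    have h3 := congrFun (congrFun h2 ⟨0, by omega⟩) ⟨0, by omega⟩
    simpa using h3.symm
  have hc1 : c = 1 := by
    have h2 : (c - 1) ^ (p ^ T) = 0 := by rw [sub_pow_char_pow, hcT, one_pow, sub_self]
    exact sub_eq_zero.1 ((pow_eq_zero_iff (pow_pos hp.pos T).ne').1 h2)
  rw [hc1, one_smul] at hc'
  have hpk : p ^ T ∣ k := hUord k hc'
  exact Nat.Coprime.mul_dvd_of_dvd_of_dvd
    (Nat.Coprime.pow_left _ ((Nat.coprime_primes hp hr).2 (Ne.symm hrp))) hpk hrk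

include hp ha hq hF hr hrq hrn in
/-- if `n - 1` is not a power of `p`, some element has order divisible by `r` times the
`p`-part of every element order -/
theorem exists_big_u (hn : 2 ≤ n) (hnp : ¬ ∃ j : ℕ, n - 1 = p ^ j) :
    ∃ w : PSU n F q, ∀ x : PSU n F q, p ^ (orderOf x).factorization p * r ∣ orderOf w := by
  have hn3 : 3 ≤ n := by
    by_contra h
    have h2 : n = 2 := by omega
    exact hnp ⟨0, by rw [h2]; simp⟩
  have hT : n ≤ p ^ Nat.clog p n := Nat.le_pow_clog hp.one_lt n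
  have hT' : p ^ (Nat.clog p n - 1) < n - 1 := by
    have h1 := Nat.pow_pred_clog_lt_self hp.one_lt (x := n) (by omega)
    rw [Nat.pred_eq_sub_one] at h1
    have h2 : p ^ (Nat.clog p n - 1) ≠ n - 1 := fun h => hnp ⟨_, h.symm⟩
    omega
  obtain ⟨w, hw⟩ := exists_w_u hp ha hq hF hr hrq hrn hn3 _ hT hT'
  exact ⟨w, fun x => dvd_trans
    (Nat.mul_dvd_mul_right (ordProj_dvd_pow_u hp ha hq hF (by omega) _ hT x) r) hw⟩

end main

end Cfsg.Agent.Lib.helper64.USpec
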