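import Cfsg.Agent.Lib.helper81.WTDefs
import Cfsg.Agent.Lib.helper64.WTB1
import Cfsg.Agent.Lib.helper7.WTB4
import Cfsg.Agent.Lib.helper53.WTLA
import Cfsg.Agent.Lib.helper95.WTQF
import Cfsg.Agent.Lib.helper47.WTP1

/-!
# S4414 piece B, core form (helper64): `not_invariant` with the pieces A, IND, B3, CNT1 (not yet
landed when this was written) as hypotheses; B1, B4, LA, QF, P1 are imported.
-/

set_option autoImplicit false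

namespace Cfsg.Agent.Lib.helper81.WT

open scoped TensorProduct

universe u v w

/-- [B], core form: the conclusions of A, IND, B3, CNT1 (for the given `R`, `Y`, `T`) are
hypotheses. -/
theorem helper64_not_invariant_core {S : Type u} [Group S] [Finite S] {F : Type w} [Field F]
    [Finite F] [CharP F 2]
    {V : Type v} [AddCommGroup V] [Module F V]
    (R : Representation F S V) (Y : Subgroup S) [Y.Normal] [Fintype ↥Y]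
    (hYc : ∀ a b : ↥Y, a * b = b * a) [HasEnoughRootsOfUnity F (Monoid.exponent ↥Y)]
    (hodd : Odd (Fintype.card ↥Y))
    (h0 : ∑ y : ↥Y, R (y : S) = 0) (T : Subgroup S)
    (Q : Subgroup S) (q : ℕ) (hq : q.Prime) (hq2 : q ≠ 2) (hQ : Nat.card ↥Q = q) (hcomm : ⁅Y, Q⁆ = Y)
    (hA : ∃ (μ₀ : ↥Y →* Fˣ) (v₁ v₂ : V), v₁ ≠ 0 ∧ v₂ ≠ 0 ∧ v₁ ∈ fixT R T ∧ v₂ ∈ fixT R T ∧
      supp R Y v₁ ⊆ orb Y T μ₀ ∧ Disjoint (supp R Y v₂) (orb Y T μ₀))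
    (hIND : ∀ v₁ v₂ : V, v₁ ≠ 0 → v₂ ≠ 0 → Disjoint (supp R Y v₁) (supp R Y v₂) →
      ∀ a b : F, a • v₁ + b • v₂ = 0 → a = 0 ∧ b = 0)
    (hB3 : ∀ v₁ v₂ : V, v₁ ≠ 0 → v₂ ≠ 0 → Disjoint (supp R Y v₁) (supp R Y v₂) →
      ∀ (g : S) (a b : F), R g v₁ = a • v₁ + b • v₂ →
        cj Y g '' supp R Y v₁ = supp R Y v₁ ∨ cj Y g '' supp R Y v₁ = supp R Y v₂)
    (hCNT1 : ∀ μ : ↥Y →* Fˣ, ∃ c : ℕ, Nat.card ↥(orb Y T μ) = 2 ^ c)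
    (w₁ w₂ : V) (hspan : ∀ v ∈ fixT R T, v ∈ Submodule.span F {w₁, w₂}) :
    ∃ x ∈ Q, ∃ v ∈ fixT R T, R x v ∉ fixT R T := by
  by_contra hcon0
  have hcon : ∀ x ∈ Q, ∀ v ∈ fixT R T, R x v ∈ fixT R T := by
    intro x hx v hv
    by_contra h
    exact hcon0 ⟨x, hx, v, hv, h⟩
  obtain ⟨μ₀, v₁, v₂, hv₁0, hv₂0, hv₁, hv₂, hs₁, hd₂⟩ := hA
  have hsupp : supp R Y v₁ = orb Y T μ₀ := supp_eq_orb R Y hYc hodd T μ₀ v₁ hv₁0 hv₁ hs₁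
  have hd : Disjoint (supp R Y v₁) (supp R Y v₂) := by
    rw [hsupp]
    exact hd₂.symm
  have hind : ∀ a b : F, a • v₁ + b • v₂ = 0 → a = 0 ∧ b = 0 := fun a b h =>
    hIND v₁ v₂ hv₁0 hv₂0 hd a b h
  have hdich : ∀ g ∈ Q, cj Y g '' supp R Y v₁ = supp R Y v₁ ∨
      cj Y g '' supp R Y v₁ = supp R Y v₂ := by
    intro g hg
    have hfix : R g v₁ ∈ fixT R T := hcon g hg v₁ hv₁
    obtain ⟨a, b, hab⟩ := span_pair_of_indep v₁ v₂ w₁ w₂ (hspan v₁ hv₁) (hspan v₂ hv₂)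
      hind (R g v₁) (hspan _ hfix)
    exact hB3 v₁ v₂ hv₁0 hv₂0 hd g a b hab
  have hfree : ∀ x ∈ Q, x ≠ 1 → ∀ μ ∈ supp R Y v₁, cj Y x μ ≠ μ := by
    intro x hx hx1 μ hμ hfixμ
    have hμ1 : μ = 1 := cj_fixed_eq_one Y Q q hq hq2 hQ hcomm x hx hx1 μ hfixμ
    have hp : proj R Y (1 : ↥Y →* Fˣ) = 0 := proj_one R Y h0
    apply hμ
    rw [hμ1, hp]
    rfl
  obtain ⟨c, hc⟩ := hCNT1 μ₀
  have hne : (supp R Y v₁).Nonempty := by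
    rw [hsupp]
    exact ⟨μ₀, 1, T.one_mem, (cj_one Y μ₀).symm⟩
  rw [← hsupp] at hc
  exact no_dichotomy Y Q q hq hq2 hQ (supp R Y v₁) (supp R Y v₂) hne hd c hc hfree hdich

end Cfsg.Agent.Lib.helper81.WT
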