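import Cfsg.Agent.Lib.helper81.WTDefs
import Cfsg.Agent.Lib.helper64.WTBcore
import Cfsg.Agent.Lib.helper31.WTAcore
import Cfsg.Agent.Lib.helper50.WTW0
import Cfsg.Agent.Lib.helper89.WTW1
import Cfsg.Agent.Lib.helper58.WTSV
import Cfsg.Agent.Lib.helper50.WTIND
import Cfsg.Agent.Lib.helper17.WTB3
import Cfsg.Agent.Lib.helper49.WTCNT1

/-!
# S4414 piece B `not_invariant` (helper64) — exact statement of tools/S4414_Skel.lean.txt

Wrapper of `helper64_not_invariant_core` over the landed pieces A (in its core form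
`h31_exists_two_core` with W0, W1, SV), IND, B3, CNT1.
-/

set_option autoImplicit false

namespace Cfsg.Agent.Lib.helper81.WT

open scoped TensorProduct

universe u v w

/-- [B] if the fixed space is at most 2-dimensional it is not Q-invariant; uses A, IND, B1, B3, B4, LA, CNT1, QF, P1 -/
theorem not_invariant {S : Type u} [Group S] [Finite S] {F : Type w} [Field F] [Finite F] [CharP F 2]
    {V : Type v} [AddCommGroup V] [Module F V]
    (R : Representation F S V) (Y : Subgroup S) [Y.Normal] [Fintype ↥Y]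
    (hYc : ∀ a b : ↥Y, a * b = b * a) [HasEnoughRootsOfUnity F (Monoid.exponent ↥Y)]
    (hodd : Odd (Fintype.card ↥Y))
    [Finite V] [Nontrivial V] (h0 : ∑ y : ↥Y, R (y : S) = 0) (T : Subgroup S) (hT : IsPGroup 2 ↥T)
    (Q : Subgroup S) (q : ℕ) (hq : q.Prime) (hq2 : q ≠ 2) (hQ : Nat.card ↥Q = q) (hcomm : ⁅Y, Q⁆ = Y)
    (w₁ w₂ : V) (hspan : ∀ v ∈ fixT R T, v ∈ Submodule.span F {w₁, w₂}) :
    ∃ x ∈ Q, ∃ v ∈ fixT R T, R x v ∉ fixT R T := by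
  have hA : ∃ (μ₀ : ↥Y →* Fˣ) (v₁ v₂ : V), v₁ ≠ 0 ∧ v₂ ≠ 0 ∧ v₁ ∈ fixT R T ∧ v₂ ∈ fixT R T ∧
      supp R Y v₁ ⊆ orb Y T μ₀ ∧ Disjoint (supp R Y v₂) (orb Y T μ₀) :=
    h31_exists_two_core R Y T (weights_nonempty R Y hYc hodd)
      (fun μ₀ hμ₀ => weights_not_orbit R Y h0 T hT Q q hq hq2 hQ hcomm μ₀ hμ₀)
      (fun Θ hΘ μ₀ hμ₀ hμ₀' => exists_fixed_supp R Y hodd T hT Θ hΘ μ₀ hμ₀ hμ₀')
  exact helper64_not_invariant_core R Y hYc hodd h0 T Q q hq hq2 hQ hcomm hA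
    (fun v₁ v₂ h₁ h₂ hd a b h => indep_of_disjoint R Y hYc hodd v₁ v₂ h₁ h₂ hd a b h)
    (fun v₁ v₂ h₁ h₂ hd g a b hg => image_dichotomy R Y hYc hodd v₁ v₂ h₁ h₂ hd g a b hg)
    (fun μ => card_orb (F := F) Y T hT μ) w₁ w₂ hspan

end Cfsg.Agent.Lib.helper81.WT
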